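import Cfsg.Agent.Classification.FourGroup
import Cfsg.Prelude.Def_Involutions
import Mathlib

/-!
# Involutions and the coset action for a strongly embedded subgroup
-/

set_option autoImplicit false

namespace Cfsg.Agent.TwoFusionB

open Cfsg.Agent.Classification

variable {G : Type*} [Group G] {H : Subgroup G}

theorem smul_mk_eq_iff {a g : G} :
    a • (QuotientGroup.mk g : G ⧸ H) = QuotientGroup.mk g ↔ g⁻¹ * a * g ∈ H := by
  rw [MulAction.Quotient.smul_mk, eq_comm, QuotientGroup.eq, smul_eq_mul, mul_assoc]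

theorem smul_one_eq_iff {a : G} :
    a • (QuotientGroup.mk 1 : G ⧸ H) = QuotientGroup.mk 1 ↔ a ∈ H := by
  rw [smul_mk_eq_iff]; simp

theorem sq_eq_one_of_inv {a : G} (ha : orderOf a = 2) : a * a = 1 := by
  rw [← sq, ← ha, pow_orderOf_eq_one]

theorem inv_eq_of_inv {a : G} (ha : orderOf a = 2) : a⁻¹ = a :=
  inv_eq_of_mul_eq_one_right (sq_eq_one_of_inv ha)

theorem ne_one_of_inv {a : G} (ha : orderOf a = 2) : a ≠ 1 := by
  rintro rfl; simp at ha

theorem orderOf_conj_eq (g a : G) : orderOf (g * a * g⁻¹) = orderOf a :=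
  orderOf_injective (MulAut.conj g).toMonoidHom (MulAut.conj g).injective a

theorem even_card_of_mem_inv [Finite G] {K : Subgroup G} {a : G} (ha : orderOf a = 2)
    (haK : a ∈ K) : Even (Nat.card K) := by
  rw [even_iff_two_dvd, ← ha]
  exact orderOf_dvd_natCard (⟨a, haK⟩ : K) |> fun h => by rwa [Subgroup.orderOf_mk] at h

/-- An involution fixes at most one coset of a strongly embedded subgroup. -/
theorem fix_unique [Finite G] (hH : Cfsg.IsStronglyEmbedded H) {a : G} (ha : orderOf a = 2)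
    {x y : G ⧸ H} (hx : a • x = x) (hy : a • y = y) : x = y := by
  induction x using QuotientGroup.induction_on with
  | _ g =>
  induction y using QuotientGroup.induction_on with
  | _ k =>
  rw [smul_mk_eq_iff] at hx hy
  by_contra hne
  rw [QuotientGroup.eq] at hne
  have hodd := hH.2.2 (g⁻¹ * k) hne
  refine Nat.not_even_iff_odd.mpr hodd (even_card_of_mem_inv (a := g⁻¹ * a * g) ?_ ⟨hx, ?_⟩)
  · have := orderOf_conj_eq g⁻¹ a
    rw [inv_inv, ha] at this
    exact this
  · exact ⟨k⁻¹ * a * k, hy, by simp [mul_assoc]⟩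

theorem exists_inv_mem [Finite G] (hH : Cfsg.IsStronglyEmbedded H) :
    ∃ a ∈ H, orderOf a = 2 := by
  obtain ⟨a, ha⟩ := exists_prime_orderOf_dvd_card' (G := H) 2 (even_iff_two_dvd.mp hH.2.1)
  exact ⟨a, a.2, by rw [Subgroup.orderOf_coe, ha]⟩

/-- `H` contains a Sylow 2-subgroup. -/
theorem exists_sylow_le [Finite G] (hH : Cfsg.IsStronglyEmbedded H) :
    ∃ S : Sylow 2 G, (S : Subgroup G) ≤ H := by
  obtain ⟨P⟩ := (inferInstance : Nonempty (Sylow 2 H))
  set P' := (P : Subgroup H).map H.subtype with hP'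
  have hP'H : P' ≤ H := Subgroup.map_subtype_le _
  have hcard : Nat.card P' = Nat.card P :=
    Subgroup.card_map_of_injective (Subgroup.subtype_injective H)
  obtain ⟨a, haH, ha⟩ := exists_inv_mem hH
  have hPeven : Even (Nat.card P') := by
    rw [hcard, even_iff_two_dvd]
    exact P.dvd_card_of_dvd_card (even_iff_two_dvd.mp hH.2.1)
  obtain ⟨S, hS⟩ := (P.2.map H.subtype).exists_le_sylow
  refine ⟨S, ?_⟩
  suffices h : (S : Subgroup G) = P' from h ▸ hP'H
  by_contra hne
  have hlt : P'.subgroupOf (S : Subgroup G) < ⊤ := by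
    rw [lt_top_iff_ne_top, Ne, Subgroup.subgroupOf_eq_top]
    exact fun h => hne (le_antisymm h hS)
  have : Group.IsNilpotent (S : Subgroup G) := S.2.isNilpotent
  have hn := Group.normalizerCondition_of_isNilpotent _ hlt
  obtain ⟨s, hs, hsn⟩ := SetLike.exists_of_lt hn
  have hcj : cj (s : G) P' = P' := by
    apply cj_eq_of_mem_normalizer
    rw [Subgroup.mem_normalizer_iff]
    intro x
    constructor
    · intro hx
      exact (Subgroup.mem_normalizer_iff.mp hs ⟨x, hS hx⟩).mp hx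
    · intro hx
      have hxS : x ∈ (S : Subgroup G) := by
        have := mul_mem (mul_mem (inv_mem s.2) (hS hx)) s.2
        simpa [mul_assoc] using this
      exact (Subgroup.mem_normalizer_iff.mp hs ⟨x, hxS⟩).mpr hx
  have hsH : (s : G) ∈ H := by
    by_contra hsH
    refine Nat.not_even_iff_odd.mpr (hH.2.2 _ hsH) ?_
    exact hPeven.trans_dvd (Subgroup.card_dvd_of_le (le_inf hP'H (hcj ▸ cj_mono _ hP'H)))
  refine hsn ?_
  rw [Subgroup.mem_subgroupOf]
  -- inside `H` the subgroup generated by `P` and `s` is a 2-group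
  have hsP : (⟨s, hsH⟩ : H) ∈ Subgroup.normalizer ((P : Subgroup H) : Set H) := by
    apply mem_normalizer_of_cj_eq
    apply Subgroup.map_injective (Subgroup.subtype_injective H)
    rw [cj, Subgroup.map_map]
    conv_rhs => rw [← hP', ← hcj, cj, hP', Subgroup.map_map]
    rfl
  have hp : IsPGroup 2 (Subgroup.zpowers (⟨s, hsH⟩ : H)) := by
    intro z
    obtain ⟨z, hz'⟩ := z
    obtain ⟨i, rfl⟩ := Subgroup.mem_zpowers_iff.mp hz'
    obtain ⟨e, he⟩ := S.2 (s ^ i)
    exact ⟨e, Subtype.ext (Subtype.ext (by simpa using congrArg Subtype.val he))⟩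
  have := P.3 (hp.to_sup_of_normal_right' P.2 (Subgroup.zpowers_le.mpr hsP)) le_sup_right
  exact ⟨⟨s, hsH⟩, this ▸ Subgroup.mem_sup_left (Subgroup.mem_zpowers _), rfl⟩

/-- Every involution fixes some coset. -/
theorem exists_fix [Finite G] (hH : Cfsg.IsStronglyEmbedded H) {a : G} (ha : orderOf a = 2) :
    ∃ x : G ⧸ H, a • x = x := by
  obtain ⟨S, hS⟩ := exists_sylow_le hH
  have hp : IsPGroup 2 (Subgroup.zpowers a) :=
    IsPGroup.of_card (n := 1) (by rw [Nat.card_zpowers, ha, pow_one])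
  obtain ⟨h, hh⟩ := exists_le_cj_sylow S hp
  exact ⟨QuotientGroup.mk h,
    smul_mk_eq_iff.mpr (hS (mem_cj.mp (hh (Subgroup.mem_zpowers a))))⟩

/-- The product of two involutions with different fixed points has odd order. -/
theorem odd_orderOf_mul [Finite G] (hH : Cfsg.IsStronglyEmbedded H) {a b : G}
    (ha : orderOf a = 2) (hb : orderOf b = 2) {x y : G ⧸ H} (hx : a • x = x) (hy : b • y = y)
    (hxy : x ≠ y) : Odd (orderOf (a * b)) := by
  by_contra hcon
  rw [Nat.not_odd_iff_even] at hcon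
  obtain ⟨j, hj⟩ := hcon.two_dvd
  set r := a * b with hr
  set c := r ^ j with hc
  have hjpos : 0 < j := by
    have := orderOf_pos r
    omega
  have hc2 : orderOf c = 2 := by
    rw [hc, orderOf_pow' r hjpos.ne', hj, Nat.gcd_eq_right (dvd_mul_left j 2),
      Nat.mul_div_cancel _ hjpos]
  have hcinv : c⁻¹ = c := inv_eq_of_inv hc2
  have hra : a * r * a⁻¹ = r⁻¹ := by
    rw [hr, mul_inv_rev, inv_eq_of_inv ha, inv_eq_of_inv hb, ← mul_assoc a a b,
      sq_eq_one_of_inv ha, one_mul]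
  have hca : a * c = c * a := by
    have : a * c * a⁻¹ = c := by rw [hc, ← conj_pow, hra, inv_pow, ← hc, hcinv]
    rwa [mul_inv_eq_iff_eq_mul] at this
  have hrb : b * r * b⁻¹ = r⁻¹ := by
    rw [hr, mul_inv_rev, inv_eq_of_inv ha, inv_eq_of_inv hb, mul_assoc, mul_assoc,
      sq_eq_one_of_inv hb, mul_one]
  have hcb : b * c = c * b := by
    have : b * c * b⁻¹ = c := by rw [hc, ← conj_pow, hrb, inv_pow, ← hc, hcinv]
    rwa [mul_inv_eq_iff_eq_mul] at this
  have hcx : c • x = x := fix_unique hH ha (by rw [smul_smul, hca, ← smul_smul, hx]) hx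
  have hcy : c • y = y := fix_unique hH hb (by rw [smul_smul, hcb, ← smul_smul, hy]) hy
  exact hxy (fix_unique hH hc2 hcx hcy)

/-- Two involutions with different fixed points are conjugate by an involution. -/
theorem exists_swap_conj [Finite G] (hH : Cfsg.IsStronglyEmbedded H) {a b : G}
    (ha : orderOf a = 2) (hb : orderOf b = 2) {x y : G ⧸ H} (hx : a • x = x) (hy : b • y = y)
    (hxy : x ≠ y) : ∃ w : G, orderOf w = 2 ∧ w • x = y ∧ w * a * w = b := by
  obtain ⟨j, hj⟩ := odd_orderOf_mul hH ha hb hx hy hxy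
  set r := a * b with hr
  set w := r ^ j * a with hw
  have hra : a * r * a⁻¹ = r⁻¹ := by
    rw [hr, mul_inv_rev, inv_eq_of_inv ha, inv_eq_of_inv hb, ← mul_assoc a a b,
      sq_eq_one_of_inv ha, one_mul]
  have har : a * r ^ j * a = (r ^ j)⁻¹ := by
    have h1 : a * r ^ j * a⁻¹ = (r ^ j)⁻¹ := by rw [← conj_pow, hra, inv_pow]
    rwa [inv_eq_of_inv ha] at h1
  have hww : w * w = 1 := by
    rw [hw, show r ^ j * a * (r ^ j * a) = r ^ j * (a * r ^ j * a) by group, har, mul_inv_cancel]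
  have hwab : w * a * w = b := by
    have h1 : w * a * w = r ^ (2 * j) * a := by
      rw [hw, two_mul, pow_add, show r ^ j * a * a * (r ^ j * a) = r ^ j * (a * a) * (r ^ j * a)
        by group, sq_eq_one_of_inv ha, mul_one, mul_assoc]
    have h2 : r ^ (2 * j) = r⁻¹ := by
      apply eq_inv_of_mul_eq_one_left
      rw [← pow_succ, ← hj, pow_orderOf_eq_one]
    rw [h1, h2, hr, mul_inv_rev, mul_assoc, inv_mul_cancel, mul_one, inv_eq_of_inv hb]
  have hw1 : w ≠ 1 := by
    intro h
    apply hxy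
    rw [h, one_mul, mul_one] at hwab
    rw [← hwab] at hy
    exact fix_unique hH ha hx hy
  refine ⟨w, orderOf_eq_prime (p := 2) (by rw [sq, hww]) hw1, ?_, hwab⟩
  apply fix_unique hH hb ?_ hy
  rw [← hwab, smul_smul, mul_assoc, hww, mul_one, ← smul_smul, hx]

/-- The involutions fixing a given coset. -/
abbrev FixInv (H : Subgroup G) (x : G ⧸ H) : Type _ := {a : G // orderOf a = 2 ∧ a • x = x}

/-- The involutions sending `x` to `y`. -/
abbrev MoveInv (H : Subgroup G) (x y : G ⧸ H) : Type _ := {a : G // orderOf a = 2 ∧ a • x = y}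

theorem card_fixInv_eq (x y : G ⧸ H) : Nat.card (FixInv H x) = Nat.card (FixInv H y) := by
  obtain ⟨g, rfl⟩ := MulAction.exists_smul_eq G x y
  refine Nat.card_congr ((MulAut.conj g).toEquiv.subtypeEquiv fun a => ?_)
  simp [orderOf_conj_eq, mul_smul]

theorem card_fixInv_one : Nat.card (FixInv H (QuotientGroup.mk 1 : G ⧸ H)) =
    Nat.card {t : G // orderOf t = 2 ∧ t ∈ H} :=
  Nat.card_congr (Equiv.subtypeEquivRight fun a => by rw [smul_one_eq_iff])

theorem smul_swap {w : G} (hw : orderOf w = 2) {x y : G ⧸ H} (h : w • x = y) : w • y = x := by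
  rw [← h, smul_smul, sq_eq_one_of_inv hw, one_smul]

/-- Conjugation by an involution swapping `x` and `y`, as a map on pairs. -/
def swapPair (x y : G ⧸ H) (p : MoveInv H x y × FixInv H x) : FixInv H x × FixInv H y :=
  (p.2, ⟨p.1.1 * p.2.1 * p.1.1, by
    constructor
    · have h := orderOf_conj_eq p.1.1 p.2.1
      rw [inv_eq_of_inv p.1.2.1, p.2.2.1] at h
      exact h
    · rw [mul_smul, mul_smul, smul_swap p.1.2.1 p.1.2.2, p.2.2.2, p.1.2.2]⟩)

theorem swapPair_surjective [Finite G] (hH : Cfsg.IsStronglyEmbedded H) {x y : G ⧸ H}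
    (hxy : x ≠ y) : Function.Surjective (swapPair x y) := by
  rintro ⟨a, b⟩
  obtain ⟨w, hw, hwx, hwab⟩ := exists_swap_conj hH a.2.1 b.2.1 a.2.2 b.2.2 hxy
  exact ⟨(⟨w, hw, hwx⟩, a), Prod.ext rfl (Subtype.ext hwab)⟩

theorem fixInv_card_pos [Finite G] (hH : Cfsg.IsStronglyEmbedded H) (x : G ⧸ H) :
    0 < Nat.card (FixInv H x) := by
  rw [card_fixInv_eq x (QuotientGroup.mk 1)]
  obtain ⟨a, haH, ha⟩ := exists_inv_mem hH
  haveI : Nonempty (FixInv H (QuotientGroup.mk 1 : G ⧸ H)) := ⟨⟨a, ha, smul_one_eq_iff.mpr haH⟩⟩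
  exact Nat.card_pos

theorem card_fixInv_le_card_moveInv [Finite G] (hH : Cfsg.IsStronglyEmbedded H) {x y : G ⧸ H}
    (hxy : x ≠ y) : Nat.card (FixInv H x) ≤ Nat.card (MoveInv H x y) := by
  have h := Nat.card_le_card_of_surjective _ (swapPair_surjective hH hxy)
  rw [Nat.card_prod, Nat.card_prod, ← card_fixInv_eq x y] at h
  exact Nat.le_of_mul_le_mul_right h (fixInv_card_pos hH x)

theorem card_involutions [Finite G] (hH : Cfsg.IsStronglyEmbedded H) (x : G ⧸ H) :
    Nat.card {a : G // orderOf a = 2} = Nat.card (G ⧸ H) * Nat.card (FixInv H x) := by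
  classical
  haveI := Fintype.ofFinite (G ⧸ H)
  let e : (Σ z : G ⧸ H, FixInv H z) → {a : G // orderOf a = 2} := fun p => ⟨p.2.1, p.2.2.1⟩
  have he : Function.Bijective e := by
    constructor
    · rintro ⟨z, a, ha⟩ ⟨z', a', ha'⟩ h
      have h' : a = a' := congrArg Subtype.val h
      subst h'
      obtain rfl := fix_unique hH ha.1 ha.2 ha'.2
      rfl
    · rintro ⟨a, ha⟩
      obtain ⟨z, hz⟩ := exists_fix hH ha
      exact ⟨⟨z, a, ha, hz⟩, rfl⟩
  rw [← Nat.card_congr (Equiv.ofBijective e he), Nat.card_sigma]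
  simp only [fun z => card_fixInv_eq (H := H) z x, Finset.sum_const, Finset.card_univ,
    smul_eq_mul, Nat.card_eq_fintype_card (α := G ⧸ H)]

/-- For two cosets the number of involutions interchanging them is the number of involutions
fixing one of them. -/
theorem card_moveInv [Finite G] (hH : Cfsg.IsStronglyEmbedded H) {x y : G ⧸ H} (hxy : x ≠ y) :
    Nat.card (MoveInv H x y) = Nat.card (FixInv H x) := by
  classical
  haveI := Fintype.ofFinite (G ⧸ H)
  have htot : Nat.card {a : G // orderOf a = 2} = ∑ z : G ⧸ H, Nat.card (MoveInv H x z) := by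
    rw [← Nat.card_sigma]
    exact Nat.card_congr
      { toFun := fun a => ⟨a.1 • x, a.1, a.2, rfl⟩
        invFun := fun p => ⟨p.2.1, p.2.2.1⟩
        left_inv := fun a => rfl
        right_inv := by
          rintro ⟨z, a, ha, haz⟩
          subst haz
          rfl }
  have hle : ∀ z ∈ (Finset.univ : Finset (G ⧸ H)),
      Nat.card (FixInv H x) ≤ Nat.card (MoveInv H x z) := by
    intro z _
    by_cases h : x = z
    · exact h ▸ le_rfl
    · exact card_fixInv_le_card_moveInv hH h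
  refine ((Finset.sum_eq_sum_iff_of_le hle).mp ?_ y (Finset.mem_univ y)).symm
  rw [← htot, card_involutions hH x, Finset.sum_const, Finset.card_univ, smul_eq_mul,
    Nat.card_eq_fintype_card (α := G ⧸ H)]

theorem swapPair_injective [Finite G] (hH : Cfsg.IsStronglyEmbedded H) {x y : G ⧸ H}
    (hxy : x ≠ y) : Function.Injective (swapPair x y) := by
  refine ((swapPair_surjective hH hxy).bijective_of_nat_card_le ?_).1
  rw [Nat.card_prod, Nat.card_prod, card_moveInv hH hxy, ← card_fixInv_eq x y]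

/-- An involution fixing `x` separates the involutions interchanging `x` and `y`. -/
theorem swap_inj [Finite G] (hH : Cfsg.IsStronglyEmbedded H) {x y : G ⧸ H} (hxy : x ≠ y)
    {a w w' : G} (ha : orderOf a = 2) (hax : a • x = x) (hw : orderOf w = 2) (hwx : w • x = y)
    (hw' : orderOf w' = 2) (hw'x : w' • x = y) (h : w * a * w = w' * a * w') : w = w' := by
  have := swapPair_injective hH hxy (a₁ := (⟨w, hw, hwx⟩, ⟨a, ha, hax⟩))
    (a₂ := (⟨w', hw', hw'x⟩, ⟨a, ha, hax⟩)) (Prod.ext rfl (Subtype.ext h))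
  exact congrArg (fun p : MoveInv H x y × FixInv H x => p.1.1) this

theorem exists_moveInv [Finite G] (hH : Cfsg.IsStronglyEmbedded H) {x y : G ⧸ H} (hxy : x ≠ y) :
    ∃ w : G, orderOf w = 2 ∧ w • x = y := by
  have h := fixInv_card_pos hH x
  rw [← card_moveInv hH hxy] at h
  obtain ⟨⟨w, hw⟩⟩ := (Nat.card_pos_iff.mp h).1
  exact ⟨w, hw⟩

/-- The stabilizer of two cosets is transitive on the involutions fixing one of them. -/
theorem exists_conj_fix [Finite G] (hH : Cfsg.IsStronglyEmbedded H) {x y : G ⧸ H} (hxy : x ≠ y)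
    {b b' : G} (hb : orderOf b = 2) (hby : b • y = y) (hb' : orderOf b' = 2)
    (hb'y : b' • y = y) : ∃ d : G, d • x = x ∧ d • y = y ∧ d * b * d⁻¹ = b' := by
  obtain ⟨⟨a, ha, hax⟩⟩ := (Nat.card_pos_iff.mp (fixInv_card_pos hH x)).1
  obtain ⟨w, hw, hwx, hwab⟩ := exists_swap_conj hH ha hb hax hby hxy
  obtain ⟨w', hw', hw'x, hw'ab⟩ := exists_swap_conj hH ha hb' hax hb'y hxy
  refine ⟨w' * w, ?_, ?_, ?_⟩
  · rw [mul_smul, hwx, smul_swap hw' hw'x]
  · rw [mul_smul, smul_swap hw hwx, hw'x]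
  · rw [← hw'ab, ← hwab, mul_inv_rev, inv_eq_of_inv hw, inv_eq_of_inv hw',
      show w' * w * (w * a * w) * (w * w') = w' * (w * w) * a * (w * w) * w' by group,
      sq_eq_one_of_inv hw, mul_one, mul_one]

theorem exists_ne_coset (hH : Cfsg.IsStronglyEmbedded H) (x : G ⧸ H) : ∃ y : G ⧸ H, x ≠ y := by
  induction x using QuotientGroup.induction_on with
  | _ g =>
  obtain ⟨k, hk⟩ : ∃ k : G, k ∉ H := by
    by_contra h
    push Not at h
    exact hH.1 ((Subgroup.eq_top_iff' H).mpr h)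
  refine ⟨QuotientGroup.mk (g * k), ?_⟩
  rw [Ne, QuotientGroup.eq]
  simpa using hk

theorem isConj_involutions [Finite G] (hH : Cfsg.IsStronglyEmbedded H) {a b : G}
    (ha : orderOf a = 2) (hb : orderOf b = 2) : IsConj a b := by
  obtain ⟨x, hx⟩ := exists_fix hH ha
  obtain ⟨y, hy⟩ := exists_fix hH hb
  by_cases hxy : x = y
  · subst hxy
    obtain ⟨z, hz⟩ := exists_ne_coset hH x
    obtain ⟨d, -, -, hd⟩ := exists_conj_fix hH (Ne.symm hz) ha hx hb hy
    exact isConj_iff.mpr ⟨d, hd⟩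
  · obtain ⟨w, hw, -, hwab⟩ := exists_swap_conj hH ha hb hx hy hxy
    exact isConj_iff.mpr ⟨w, by rwa [inv_eq_of_inv hw]⟩

end Cfsg.Agent.TwoFusionB
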