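import Cfsg.Agent.TwoFusionB.TripleTransitive
import Cfsg.Agent.Lib.LinearGroup.Card
import Mathlib

/-!
# The field attached to a group with elementary abelian involution centralizers
-/

set_option autoImplicit false

namespace Cfsg.Agent.TwoFusionB

namespace ECHyp

variable {G : Type*} [Group G] [Finite G] {T : Sylow 2 G}

/-- Elements of `stab2 T y` are determined by the image of one further point. -/
theorem stab2_ext (h : ECHyp T) {y z : G ⧸ nT T} (hy : y ≠ pt T) (hz : z ≠ pt T) (hzy : z ≠ y)
    {c d : G} (hc : c ∈ stab2 T y) (hd : d ∈ stab2 T y) (e : c • z = d • z) : c = d := by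
  have := h.eq_one_of_mem_stab2 hy hz hzy (mul_mem (inv_mem hd) hc)
    (by rw [mul_smul, e, inv_smul_smul])
  exact (inv_mul_eq_one.mp this).symm

theorem smul_ne_pt (h : ECHyp T) {y : G ⧸ nT T} (hy : y ≠ pt T) {t : G}
    (ht : t ∈ (T : Subgroup G)) : t • y ≠ pt T := by
  have := h
  intro e
  exact hy (MulAction.injective t (e.trans (smul_one_eq_iff.mpr (Subgroup.le_normalizer ht)).symm))

theorem conj_mem_T (h : ECHyp T) {g t : G} (hg : g ∈ nT T) (ht : t ∈ (T : Subgroup G)) :
    g * t * g⁻¹ ∈ (T : Subgroup G) :=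
  let _ := h
  (Subgroup.mem_normalizer_iff.mp hg t).mp ht

theorem conj_smul (h : ECHyp T) {y : G ⧸ nT T} {d t : G} (hd : d ∈ stab2 T y) :
    (d * t * d⁻¹) • y = d • t • y := by
  have := h
  have hy' : d⁻¹ • y = y := inv_smul_eq_iff.mpr (mem_stab2.mp hd).2.symm
  rw [mul_smul, mul_smul, hy']

/-- The underlying type of the field model. -/
def Carrier (n : ℕ) : Type := Fin n

/-- `T` carries the structure of a field in which multiplication is given by conjugation by
elements of the stabilizer of two points. -/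
theorem exists_field (h : ECHyp T) {y z : G ⧸ nT T} (hy : y ≠ pt T) (hz : z ≠ pt T)
    (hzy : z ≠ y) : ∃ (F : Type) (_ : Field F) (_ : Fintype F) (ι : F → G),
      Function.Injective ι ∧ (∀ t, t ∈ (T : Subgroup G) ↔ ∃ a, ι a = t) ∧
      (∀ a b, ι (a + b) = ι a * ι b) ∧ ι 1 • y = z ∧
      (∀ a : F, a ≠ 0 → ∃ d ∈ stab2 T y, ∀ b, d * ι b * d⁻¹ = ι (a * b)) := by
  classical
  haveI hcomm := h.isMulCommutative
  obtain ⟨n, ⟨e₀⟩⟩ := Finite.exists_equiv_fin (T : Subgroup G)
  let e : (T : Subgroup G) ≃ Carrier n := e₀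
  letI : Fintype (Carrier n) := (inferInstance : Fintype (Fin n))
  letI : CommGroup (T : Subgroup G) :=
    { (inferInstance : Group (T : Subgroup G)) with
      mul_comm := fun a b => hcomm.is_comm.comm a b }
  let ee : Carrier n ≃ Additive (T : Subgroup G) := e.symm.trans Additive.ofMul
  letI addG : AddCommGroup (Carrier n) := ee.addCommGroup
  let ι : Carrier n → G := fun a => ((e.symm a : (T : Subgroup G)) : G)
  have hι : Function.Injective ι := Subtype.val_injective.comp e.symm.injective
  have hmem : ∀ a, ι a ∈ (T : Subgroup G) := fun a => (e.symm a).2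
  have hadd : ∀ a b : Carrier n, ι (a + b) = ι a * ι b := by
    intro a b
    show ((e.symm (e (e.symm a * e.symm b)) : (T : Subgroup G)) : G) = _
    rw [Equiv.symm_apply_apply]
    rfl
  have h0 : ι 0 = 1 := by
    show ((e.symm (e 1) : (T : Subgroup G)) : G) = 1
    rw [Equiv.symm_apply_apply]
    rfl
  obtain ⟨t₀, ht₀, ht₀z⟩ := h.exists_mem_smul hz hy
  let one : Carrier n := e ⟨t₀, ht₀⟩
  have hone : ι one = t₀ := by simp [ι, one]
  have hne : ∀ a : Carrier n, a ≠ 0 → ι a • y ≠ y := fun a ha hf =>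
    ha (hι ((h.eq_one_of_fix (hmem a) hy hf).trans h0.symm))
  have hdd : ∀ a : Carrier n, a ≠ 0 → ∃ d ∈ stab2 T y, d • z = ι a • y := fun a ha =>
    h.exists_stab2_smul hy hz hzy (h.smul_ne_pt hy (hmem a)) (hne a ha)
  choose! dd hddm hddz using hdd
  have hpre : ∀ (d : G), d ∈ stab2 T y → ∀ b, ∃ c, ι c = d * ι b * d⁻¹ := fun d hd b =>
    ⟨e ⟨_, h.conj_mem_T (stab2_le y hd) (hmem b)⟩, by simp [ι]⟩
  choose act hact using hpre
  let mu : Carrier n → Carrier n → Carrier n := fun a b =>
    if ha : a = 0 then 0 else act (dd a) (hddm a ha) b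
  have hmu : ∀ a, a ≠ 0 → ∀ b, ι (mu a b) = dd a * ι b * (dd a)⁻¹ := by
    intro a ha b
    simp only [mu, dif_neg ha]
    exact hact _ _ b
  have hmu0 : ∀ b, mu 0 b = 0 := fun b => by simp [mu]
  have hd1 : ∀ a, a ≠ 0 → dd a * t₀ * (dd a)⁻¹ = ι a := by
    intro a ha
    have hmemc : dd a * t₀ * (dd a)⁻¹ ∈ (T : Subgroup G) :=
      h.conj_mem_T (stab2_le y (hddm a ha)) ht₀
    refine (h.existsUnique_smul hy (h.smul_ne_pt hy (hmem a))).unique ⟨hmemc, ?_⟩ ⟨hmem a, rfl⟩
    rw [h.conj_smul (hddm a ha), ht₀z, hddz a ha]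
  have hmu1 : ∀ a, mu a one = a := by
    intro a
    by_cases ha : a = 0
    · subst ha; exact hmu0 _
    · apply hι
      rw [hmu a ha, hone, hd1 a ha]
  have hone0 : one ≠ 0 := by
    intro e0
    rw [e0, h0] at hone
    rw [← hone, one_smul] at ht₀z
    exact hzy ht₀z.symm
  have hmu_zero : ∀ a, mu a 0 = 0 := by
    intro a
    by_cases ha : a = 0
    · subst ha; exact hmu0 _
    · apply hι
      rw [hmu a ha, h0, mul_one, mul_inv_cancel]
  have hmu_ne : ∀ a b, a ≠ 0 → b ≠ 0 → mu a b ≠ 0 := by
    intro a b ha hb e0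
    have h2 := hmu a ha b
    rw [e0, h0, eq_comm, conj_eq_one_iff, ← h0] at h2
    exact hb (hι h2)
  have hddmul : ∀ a b, a ≠ 0 → b ≠ 0 → dd (mu a b) = dd a * dd b := by
    intro a b ha hb
    apply h.stab2_ext hy hz hzy (hddm _ (hmu_ne a b ha hb)) (mul_mem (hddm a ha) (hddm b hb))
    rw [hddz _ (hmu_ne a b ha hb), mul_smul, hddz b hb, hmu a ha b, h.conj_smul (hddm a ha)]
  have hcommu : ∀ a b, mu a b = mu b a := by
    intro a b
    by_cases ha : a = 0
    · subst ha; rw [hmu0, hmu_zero]
    by_cases hb : b = 0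
    · subst hb; rw [hmu0, hmu_zero]
    apply hι
    rw [← hd1 _ (hmu_ne a b ha hb), ← hd1 _ (hmu_ne b a hb ha), hddmul a b ha hb,
      hddmul b a hb ha, h.stab2_comm hy (hddm a ha) (hddm b hb)]
  have hassoc : ∀ a b c, mu (mu a b) c = mu a (mu b c) := by
    intro a b c
    by_cases ha : a = 0
    · subst ha; rw [hmu0, hmu0, hmu0]
    by_cases hb : b = 0
    · subst hb; rw [hmu_zero, hmu0, hmu_zero]
    apply hι
    rw [hmu _ (hmu_ne a b ha hb), hmu a ha, hmu b hb, hddmul a b ha hb, mul_inv_rev]
    group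
  have hdistrib : ∀ a b c, mu a (b + c) = mu a b + mu a c := by
    intro a b c
    by_cases ha : a = 0
    · subst ha; simp [hmu0]
    apply hι
    rw [hmu a ha, hadd, hadd, hmu a ha, hmu a ha]
    group
  have hinv : ∀ a, a ≠ 0 → ∃ b, mu a b = one := by
    intro a ha
    refine ⟨act (dd a)⁻¹ (inv_mem (hddm a ha)) one, hι ?_⟩
    rw [hmu a ha, hact, hone]
    group
  choose! iv hiv using hinv
  letI : Field (Carrier n) :=
    { addG with
      mul := mu
      one := one
      mul_assoc := hassoc
      one_mul := fun a => by show mu one a = a; rw [hcommu]; exact hmu1 a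
      mul_one := hmu1
      mul_comm := hcommu
      zero_mul := hmu0
      mul_zero := hmu_zero
      left_distrib := hdistrib
      right_distrib := fun a b c => by
        show mu (a + b) c = mu a c + mu b c
        rw [hcommu, hdistrib, hcommu a c, hcommu b c]
      inv := fun a => if a = 0 then 0 else iv a
      exists_pair_ne := ⟨one, 0, hone0⟩
      mul_inv_cancel := fun a ha => by
        show mu a (if a = 0 then 0 else iv a) = one
        rw [if_neg ha]; exact hiv a ha
      inv_zero := by simp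
      nnqsmul := _
      qsmul := _ }
  refine ⟨Carrier n, inferInstance, inferInstance, ι, hι, fun t => ⟨fun ht => ⟨e ⟨t, ht⟩, by simp [ι]⟩,
    fun ⟨a, ha⟩ => ha ▸ hmem a⟩, hadd, ?_, fun a ha => ⟨dd a, hddm a ha, fun b => (hmu a ha b).symm⟩⟩
  show ι one • y = z
  rw [hone, ht₀z]

end ECHyp

section SL

variable (F : Type*) [Field F] [DecidableEq F]

/-- The action of `SL₂` on the projective line. -/
def slPerm : Matrix.SpecialLinearGroup (Fin 2) F →* Equiv.Perm (OnePoint F) :=
  (MulAction.toPermHom (GL (Fin 2) F) (OnePoint F)).comp Matrix.SpecialLinearGroup.toGL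

variable {F}

theorem slPerm_some (A : Matrix.SpecialLinearGroup (Fin 2) F) (k : F) :
    slPerm F A (k : OnePoint F) = if A 1 0 * k + A 1 1 = 0 then OnePoint.infty
      else ((A 0 0 * k + A 0 1) / (A 1 0 * k + A 1 1) : F) :=
  OnePoint.smul_some_eq_ite

theorem slPerm_infty (A : Matrix.SpecialLinearGroup (Fin 2) F) :
    slPerm F A OnePoint.infty = if A 1 0 = 0 then OnePoint.infty
      else ((A 0 0 / A 1 0 : F) : OnePoint F) :=
  OnePoint.smul_infty_eq_ite _

/-- The element of `SL₂` with the given entries. -/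
def slMat (a b c d : F) (h : a * d - b * c = 1) : Matrix.SpecialLinearGroup (Fin 2) F :=
  ⟨!![a, b; c, d], by rw [Matrix.det_fin_two_of, h]⟩

theorem slPerm_slMat_some (a b c d : F) (h : a * d - b * c = 1) (k : F) :
    slPerm F (slMat a b c d h) (k : OnePoint F) = if c * k + d = 0 then OnePoint.infty
      else (((a * k + b) / (c * k + d) : F) : OnePoint F) :=
  slPerm_some _ k

theorem slPerm_slMat_infty (a b c d : F) (h : a * d - b * c = 1) :
    slPerm F (slMat a b c d h) OnePoint.infty = if c = 0 then OnePoint.infty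
      else ((a / c : F) : OnePoint F) :=
  slPerm_infty _

end SL

namespace ECHyp

variable {G : Type*} [Group G] [Finite G] {T : Sylow 2 G}

theorem exists_iso_PSL2 (h : ECHyp T) : ∃ (F : Type) (_ : Field F) (_ : Fintype F),
    Fintype.card F = Nat.card T ∧
      Nonempty (G ≃* Matrix.ProjectiveSpecialLinearGroup (Fin 2) F) := by
  classical
  have hse := h.stronglyEmbedded
  obtain ⟨y, hy⟩ := exists_ne_coset hse (pt T)
  replace hy := hy.symm
  obtain ⟨w, hw, hwy⟩ := exists_moveInv hse hy.symm
  obtain ⟨z, hwz⟩ := exists_fix hse hw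
  have hz : z ≠ pt T := fun e => hy (by rw [← hwy, ← e, hwz, e])
  have hzy : z ≠ y := fun e => hy (by
    have := smul_swap hw hwy
    rw [← e, hwz, e] at this
    exact this)
  obtain ⟨F, _, _, ι, hι, hmem, hadd, h1, hmul⟩ := h.exists_field hy hz hzy
  have hcard : Fintype.card F = Nat.card T := by
    rw [← Nat.card_eq_fintype_card]
    exact Nat.card_congr (Equiv.ofBijective (fun a => (⟨ι a, (hmem _).mpr ⟨a, rfl⟩⟩ :
      (T : Subgroup G))) ⟨fun a b e => hι (congrArg Subtype.val e), fun t => by
        obtain ⟨a, ha⟩ := (hmem _).mp t.2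
        exact ⟨a, Subtype.ext ha⟩⟩)
  refine ⟨F, inferInstance, inferInstance, hcard, ?_⟩
  have hιT : ∀ a, ι a ∈ (T : Subgroup G) := fun a => (hmem _).mpr ⟨a, rfl⟩
  have hι0 : ι 0 = 1 := by
    have := hadd 0 0
    rw [add_zero] at this
    exact left_eq_mul.mp this
  have htwo : (1 : F) + 1 = 0 := by
    apply hι
    rw [hadd, hι0, ← sq, h.sq_eq_one (hιT 1)]
  have hneg : -(1 : F) = 1 := neg_eq_of_add_eq_zero_left htwo
  have hn1 : (-1 : F) = 1 := hneg
  -- the bijection with the projective line
  let p : OnePoint F → G ⧸ nT T := fun x => x.elim (pt T) (fun a => ι a • y)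
  have hpbij : Function.Bijective p := by
    constructor
    · intro a b e
      cases a <;> cases b <;> simp only [p, OnePoint.elim_infty, OnePoint.elim_some] at e
      · rfl
      · exact absurd e.symm (h.smul_ne_pt hy (hιT _))
      · exact absurd e (h.smul_ne_pt hy (hιT _))
      · rename_i a b
        rw [hι ((h.existsUnique_smul hy (h.smul_ne_pt hy (hιT b))).unique ⟨hιT a, e⟩ ⟨hιT b, rfl⟩)]
    · intro x
      by_cases hx : x = pt T
      · exact ⟨OnePoint.infty, hx.symm⟩
      · obtain ⟨t, ⟨ht, htx⟩, -⟩ := h.existsUnique_smul hy hx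
        obtain ⟨a, rfl⟩ := (hmem t).mp ht
        exact ⟨(a : OnePoint F), htx⟩
  let ε : OnePoint F ≃ G ⧸ nT T := Equiv.ofBijective p hpbij
  let φ : G →* Equiv.Perm (OnePoint F) :=
    ε.symm.permCongrHom.toMonoidHom.comp (MulAction.toPermHom G (G ⧸ nT T))
  have hφ : ∀ g x, p (φ g x) = g • p x := by
    intro g x
    show ε (ε.symm (g • ε x)) = g • p x
    rw [Equiv.apply_symm_apply]
    rfl
  have hφinj : Function.Injective φ := by
    rw [injective_iff_map_eq_one]
    intro g hg
    have key : ∀ x, g • p x = p x := fun x => by rw [← hφ, hg]; rfl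
    apply h.eq_one_of_fix_three (x₁ := pt T) (x₂ := y) (x₃ := z) hy.symm hz.symm hzy.symm
    · exact key OnePoint.infty
    · have := key ((0 : F) : OnePoint F)
      simpa [p, hι0] using this
    · have := key ((1 : F) : OnePoint F)
      simpa [p, h1] using this
  have hmk : ∀ (g : G) (A : Matrix.SpecialLinearGroup (Fin 2) F),
      (∀ x, p (slPerm F A x) = g • p x) → φ g ∈ (slPerm F).range := by
    intro g A hA
    refine ⟨A, Equiv.ext fun x => hpbij.1 ?_⟩
    rw [hA, hφ]
  have hT' : ∀ c : F, φ (ι c) ∈ (slPerm F).range := by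
    intro c
    refine hmk _ (slMat 1 c 0 1 (by ring)) fun x => ?_
    cases x with
    | infty =>
      rw [slPerm_slMat_infty]
      simp only [if_true, p, OnePoint.elim_infty]
      exact (smul_one_eq_iff.mpr (Subgroup.le_normalizer (hιT c))).symm
    | coe a =>
      rw [slPerm_slMat_some]
      simp [p, ← mul_smul, ← hadd, add_comm a c]
  have hD' : ∀ d ∈ stab2 T y, φ d ∈ (slPerm F).range := by
    intro d hd
    obtain ⟨a, ha⟩ := (hmem _).mp (h.conj_mem_T (stab2_le y hd) (hιT 1))
    have ha0 : a ≠ 0 := by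
      rintro rfl
      rw [hι0, eq_comm, conj_eq_one_iff, ← hι0] at ha
      exact one_ne_zero (hι ha)
    obtain ⟨d', hd', hdb⟩ := hmul a ha0
    have hdd : d = d' := by
      apply h.stab2_ext hy hz hzy hd hd'
      rw [← h1, ← h.conj_smul hd, ← h.conj_smul hd', hdb, mul_one, ha]
    subst hdd
    obtain ⟨s, hs⟩ : ∃ s : F, s * s = a := by
      have hinj : Function.Injective (fun s : F => s * s) := by
        intro s t e
        have e2 : (s - t) * (s - t) = 0 := by
          have h2 : (2 : F) = 0 := by rw [← one_add_one_eq_two]; exact htwo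
          have e' : s * s = t * t := e
          linear_combination e' + (t * t - s * t) * h2
        exact sub_eq_zero.mp (mul_self_eq_zero.mp e2)
      exact (Finite.injective_iff_surjective.mp hinj) a
    have hs0 : s ≠ 0 := by rintro rfl; exact ha0 (by simpa using hs.symm)
    refine hmk _ (slMat s 0 0 s⁻¹ (by simp [hs0])) fun x => ?_
    cases x with
    | infty =>
      rw [slPerm_slMat_infty]
      simp [p, (mem_stab2.mp hd).1]
    | coe b =>
      rw [slPerm_slMat_some]
      simp only [p, OnePoint.elim_some]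
      simp [hs0, ← h.conj_smul hd, hdb, ← hs]
      ring_nf
  have hw' : φ w ∈ (slPerm F).range := by
    refine hmk _ (slMat 0 1 1 0 (by simp [hn1])) fun x => ?_
    cases x with
    | infty =>
      rw [slPerm_slMat_infty]
      simp [p, hwy, hι0]
    | coe a =>
      rw [slPerm_slMat_some]
      by_cases ha : a = 0
      · subst ha
        simp [p, hι0, smul_swap hw hwy]
      · obtain ⟨d, hd, hdb⟩ := hmul a ha
        obtain ⟨d', hd', hdb'⟩ := hmul a⁻¹ (inv_ne_zero ha)
        have hdz : d • z = ι a • y := by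
          rw [← h1, ← h.conj_smul hd, hdb, mul_one]
        have hd'z : d' • z = ι a⁻¹ • y := by
          rw [← h1, ← h.conj_smul hd', hdb', mul_one]
        have hdd' : d' = d⁻¹ := by
          apply h.stab2_ext hy hz hzy hd' (inv_mem hd)
          rw [eq_inv_smul_iff, hd'z, ← h.conj_smul hd, hdb, mul_inv_cancel₀ ha, h1]
        have hwd : w • (ι a • y) = ι a⁻¹ • y := by
          rw [← hdz, ← hd'z, hdd']
          have := h.inverts hy hw hwy hd
          rw [mul_inv_eq_iff_eq_mul] at this
          rw [smul_smul, this, mul_smul, hwz]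
        simp [p, ha, hwd]
  have hrange : φ.range ≤ (slPerm F).range := by
    rintro _ ⟨g, rfl⟩
    have hH : ∀ g ∈ nT T, φ g ∈ (slPerm F).range := by
      intro g hg
      obtain ⟨d, hd, t, ht, rfl⟩ := h.exists_mul_eq hy hg
      obtain ⟨c, rfl⟩ := (hmem t).mp ht
      rw [map_mul]
      exact mul_mem (hD' d hd) (hT' c)
    by_cases hg : g • pt T = pt T
    · exact hH g (smul_one_eq_iff.mp hg)
    · obtain ⟨t, ht, htg⟩ := h.exists_mem_smul hy hg
      obtain ⟨c, rfl⟩ := (hmem t).mp ht
      have hm : w * ι c * g ∈ nT T := smul_one_eq_iff.mp (by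
        rw [mul_smul, mul_smul, htg]
        exact smul_swap hw hwy)
      have := mul_mem (inv_mem (mul_mem hw' (hT' c))) (hH _ hm)
      simpa [map_mul, mul_assoc] using this
  -- orders
  have hq : Nat.card F = Nat.card T := by rw [Nat.card_eq_fintype_card, hcard]
  have hG : Nat.card G = Nat.card (Matrix.SpecialLinearGroup (Fin 2) F) := by
    rw [LinearGroup.card_SL_two, hq, ← Subgroup.card_mul_index (nT T), h.card_nT hy,
      Subgroup.index_eq_card, h.card_points, mul_assoc, ← one_pow 2, Nat.sq_sub_sq, one_pow, Nat.mul_comm (Nat.card T - 1)]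
  have e1 : Nat.card φ.range = Nat.card G :=
    (Nat.card_congr (MonoidHom.ofInjective hφinj).toEquiv).symm
  have e2 : Nat.card (slPerm F).range ≤ Nat.card (Matrix.SpecialLinearGroup (Fin 2) F) :=
    Nat.card_le_card_of_surjective _ (slPerm F).rangeRestrict_surjective
  have e3 : Nat.card φ.range ≤ Nat.card (slPerm F).range := Subgroup.card_le_of_le hrange
  have heq : φ.range = (slPerm F).range := Subgroup.eq_of_le_of_card_ge hrange (by omega)
  have hψinj : Function.Injective (slPerm F) := by
    have hb := (slPerm F).rangeRestrict_surjective.bijective_of_nat_card_le (by omega)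
    intro a b e
    exact hb.1 (Subtype.ext e)
  have hgcd : Subgroup.center (Matrix.SpecialLinearGroup (Fin 2) F) = ⊥ := by
    rw [eq_bot_iff]
    intro A hA
    rw [Subgroup.mem_bot]
    rw [Matrix.SpecialLinearGroup.mem_center_iff] at hA
    obtain ⟨r, hr, hA⟩ := hA
    have h2 : (2 : F) = 0 := by rw [← one_add_one_eq_two]; exact htwo
    rw [Fintype.card_fin] at hr
    have hr1 : r = 1 := by
      have : (r - 1) * (r - 1) = 0 := by linear_combination hr + (1 - r) * h2
      exact sub_eq_zero.mp (mul_self_eq_zero.mp this)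
    apply Subtype.ext
    rw [← hA, hr1]
    simp
  exact ⟨((MonoidHom.ofInjective hφinj).trans ((MulEquiv.subgroupCongr heq).trans
    (MonoidHom.ofInjective hψinj).symm)).trans
      ((QuotientGroup.quotientBot).symm.trans (QuotientGroup.quotientMulEquivOfEq hgcd.symm))⟩

end ECHyp

end Cfsg.Agent.TwoFusionB
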