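import Cfsg.Agent.TwoFusion36.QDFusion2
import Cfsg.Agent.TwoFusion36.WrFusion3
import Cfsg.Agent.Lib.Involution.IndexTwo
import Cfsg.Agent.InvChar.ZStarApps

/-!
# Core-free groups with one class of involutions (helper37)

If `O(H) = 1`, all involutions are conjugate and some two do not commute, then a minimal
normal subgroup is non-abelian simple and contains all involutions.
-/

set_option linter.unusedSectionVars false

namespace Cfsg.Agent.TwoFusionB

open Subgroup

variable {H : Type*} [Group H] [Finite H]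

theorem even_of_normal_ne_bot (hO : Cfsg.oddCore H = ⊥) {N : Subgroup H} (hN : N.Normal)
    (h1 : N ≠ ⊥) : 2 ∣ Nat.card N := by
  by_contra h
  exact h1 (eq_bot_iff.mpr (hO ▸
    InvChar.le_oddCore hN (Nat.not_even_iff_odd.mp fun he => h (even_iff_two_dvd.mp he))))

/-- `oddCore` of the quotient by `oddCore` is trivial. -/
theorem oddCore_quotient_eq_bot (G : Type*) [Group G] [Finite G] :
    Cfsg.oddCore (G ⧸ Cfsg.oddCore G) = ⊥ := by
  set O := Cfsg.oddCore G with hO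
  set N := Cfsg.oddCore (G ⧸ O) with hNdef
  have hsurj := QuotientGroup.mk'_surjective O
  haveI : N.Normal := Thompson.instPPrimeCoreNormal
  have hi : (N.comap (QuotientGroup.mk' O)).index = N.index :=
    Subgroup.index_comap_of_surjective N hsurj
  have h1 := (N.comap (QuotientGroup.mk' O)).card_mul_index
  have h2 := Subgroup.card_eq_card_quotient_mul_card_subgroup O
  have h3 := N.card_mul_index
  rw [hi, h2, ← h3] at h1
  have hpos : N.index ≠ 0 := Subgroup.index_ne_zero_of_finite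
  have h4 : Nat.card (N.comap (QuotientGroup.mk' O)) = Nat.card N * Nat.card O :=
    Nat.eq_of_mul_eq_mul_right (Nat.pos_of_ne_zero hpos) (h1.trans (by ring))
  have hle : N.comap (QuotientGroup.mk' O) ≤ O := InvChar.le_oddCore inferInstance
    (h4 ▸ (InvChar.odd_oddCore).mul InvChar.odd_oddCore)
  rw [eq_bot_iff]
  intro a ha
  obtain ⟨g, rfl⟩ := hsurj a
  exact Subgroup.mem_bot.mpr ((QuotientGroup.eq_one_iff g).mpr (hle ha))

theorem exists_simple_all_involutions (hO : Cfsg.oddCore H = ⊥) {u v : H} (hu : orderOf u = 2)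
    (hv : orderOf v = 2) (huv : ¬ Commute u v)
    (hone : ∀ a b : H, orderOf a = 2 → orderOf b = 2 → IsConj a b) :
    ∃ N : Subgroup H, N.Normal ∧ IsSimpleGroup N ∧ ¬ IsMulCommutative N ∧
      ∀ a : H, orderOf a = 2 → a ∈ N := by
  haveI : Fact (Nat.Prime 2) := ⟨Nat.prime_two⟩
  have hne : (⊤ : Subgroup H) ≠ ⊥ := fun h => by
    have : u = 1 := Subgroup.mem_bot.mp (h ▸ Subgroup.mem_top u)
    rw [this, orderOf_one] at hu
    omega
  obtain ⟨N, hN⟩ := exists_minimal_of_wellFoundedLT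
    (fun N : Subgroup H => N.Normal ∧ N ≠ ⊥) ⟨⊤, inferInstance, hne⟩
  haveI hNn : N.Normal := hN.prop.1
  obtain ⟨⟨a₀, ha₀⟩, ho⟩ := exists_prime_orderOf_dvd_card' (G := N) 2
    (even_of_normal_ne_bot hO hNn hN.prop.2)
  have hoa : orderOf a₀ = 2 := by rw [← ho, Subgroup.orderOf_mk]
  have hall : ∀ a : H, orderOf a = 2 → a ∈ N := by
    intro a ha
    obtain ⟨g, rfl⟩ := isConj_iff.mp (hone a₀ a hoa ha)
    exact hNn.conj_mem _ ha₀ g
  have huN := hall u hu
  have hvN := hall v hv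
  have hnab : ¬ IsMulCommutative N := fun h => huv
    (congrArg Subtype.val (h.is_comm.comm (⟨u, huN⟩ : N) ⟨v, hvN⟩))
  refine ⟨N, hNn, ?_, hnab, hall⟩
  haveI : Nontrivial N := by
    rw [Subgroup.nontrivial_iff_ne_bot]; exact hN.prop.2
  -- normal subgroups of `N`, as subgroups of `H`
  let P : Subgroup H → Prop := fun K => K ≤ N ∧ K ≠ ⊥ ∧ ∀ n ∈ N, ∀ k ∈ K, n * k * n⁻¹ ∈ K
  suffices hmin : ∀ K, Minimal P K → K = N by
    refine ⟨fun M hM => ?_⟩
    by_cases hbot : M = ⊥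
    · exact Or.inl hbot
    right
    have hPM : P (M.map N.subtype) := by
      refine ⟨Subgroup.map_subtype_le M, ?_, ?_⟩
      · rwa [Ne, Subgroup.map_eq_bot_iff_of_injective M N.subtype_injective]
      · rintro n hn _ ⟨m, hm, rfl⟩
        exact ⟨⟨n, hn⟩ * m * ⟨n, hn⟩⁻¹, hM.conj_mem m hm _, by simp⟩
    obtain ⟨K, hKle, hK⟩ := exists_minimal_le_of_wellFoundedLT P _ hPM
    refine eq_top_iff.mpr fun m _ => ?_
    obtain ⟨m', hm', h⟩ := hKle (show (m : H) ∈ K by rw [hmin K hK]; exact m.2)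
    exact Subtype.ext h ▸ hm'
  intro K hK
  obtain ⟨hKN, hKne, hKn⟩ := hK.prop
  -- conjugates of `K`
  let cj : H → Subgroup H := fun g => K.map (MulAut.conj g).toMonoidHom
  have hcjP : ∀ g, P (cj g) := by
    intro g
    refine ⟨?_, ?_, ?_⟩
    · rintro _ ⟨k, hk, rfl⟩
      exact hNn.conj_mem k (hKN hk) g
    · rwa [Ne, Subgroup.map_eq_bot_iff_of_injective K (MulAut.conj g).injective]
    · rintro n hn _ ⟨k, hk, rfl⟩
      refine ⟨g⁻¹ * n * g * k * (g⁻¹ * n * g)⁻¹, hKn _ ?_ k hk, ?_⟩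
      · simpa using hNn.conj_mem n hn g⁻¹
      · simp only [MulEquiv.coe_toMonoidHom, MulAut.conj_apply]; group
  have hdich : ∀ g, cj g = K ∨ ((K ⊓ cj g = ⊥) ∧ ∀ a ∈ K, ∀ b ∈ cj g, Commute a b) := by
    intro g
    by_cases h : K ⊓ cj g = ⊥
    · refine Or.inr ⟨h, fun a ha b hb => ?_⟩
      have h1 : a * b * a⁻¹ * b⁻¹ ∈ K := by
        have h1 := mul_mem ha (hKn b ((hcjP g).1 hb) a⁻¹ (inv_mem ha))
        simpa [mul_assoc] using h1
      have h2 : a * b * a⁻¹ * b⁻¹ ∈ cj g :=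
        mul_mem ((hcjP g).2.2 a (hKN ha) b hb) (inv_mem hb)
      have h3 : a * b * a⁻¹ * b⁻¹ = 1 := Subgroup.mem_bot.mp (h ▸ Subgroup.mem_inf.mpr ⟨h1, h2⟩)
      rw [mul_inv_eq_one, mul_inv_eq_iff_eq_mul] at h3
      exact h3
    · left
      have hI : P (K ⊓ cj g) := ⟨inf_le_left.trans hKN, h, fun n hn k hk =>
        ⟨hKn n hn k hk.1, (hcjP g).2.2 n hn k hk.2⟩⟩
      have hle : K ≤ cj g := le_trans (hK.le_of_le hI inf_le_left) inf_le_right
      refine (Subgroup.eq_of_le_of_card_ge hle ?_).symm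
      exact (Subgroup.card_map_of_injective (MulAut.conj g).injective).le
  by_cases hnorm : ∀ g, cj g = K
  · have hKnormal : K.Normal := ⟨fun k hk g => hnorm g ▸ ⟨k, hk, rfl⟩⟩
    exact le_antisymm hKN (hN.le_of_le ⟨hKnormal, hKne⟩ hKN)
  exfalso
  simp only [not_forall] at hnorm
  obtain ⟨g, hg⟩ := hnorm
  -- an involution of `K`
  obtain ⟨t, htK, ht⟩ : ∃ t ∈ K, orderOf t = 2 := by
    by_cases h2 : 2 ∣ Nat.card K
    · obtain ⟨⟨t, htK⟩, ht⟩ := exists_prime_orderOf_dvd_card' (G := K) 2 h2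
      exact ⟨t, htK, by rw [← ht, Subgroup.orderOf_mk]⟩
    · exfalso
      haveI : (K.subgroupOf N).Normal :=
        ⟨fun m hm n => hKn n n.2 m hm⟩
      have hodd : Odd (Nat.card (K.subgroupOf N)) := by
        rw [Nat.card_congr (Subgroup.subgroupOfEquivOfLe hKN).toEquiv]
        exact Nat.not_even_iff_odd.mp fun he => h2 (even_iff_two_dvd.mp he)
      have hle := InvChar.le_oddCore inferInstance hodd
      haveI : (Cfsg.oddCore N).Characteristic :=
        inferInstanceAs (Cfsg.pPrimeCore 2 N).Characteristic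
      have hbot : (Cfsg.oddCore N).map N.subtype = ⊥ := by
        rw [eq_bot_iff, ← hO]
        refine InvChar.le_oddCore inferInstance ?_
        rw [Subgroup.card_map_of_injective N.subtype_injective]
        exact InvChar.odd_oddCore
      refine hKne (eq_bot_iff.mpr fun k hk => ?_)
      exact hbot ▸ ⟨⟨k, hKN hk⟩, hle hk, rfl⟩
  have ht1 : t ≠ 1 := fun h => by rw [h, orderOf_one] at ht; omega
  obtain ⟨hint, hcomm⟩ := (hdich g).resolve_left hg
  set t' := g * t * g⁻¹ with ht'def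
  have ht'g : t' ∈ cj g := ⟨t, htK, rfl⟩
  have ht'K : t' ∉ K := fun h => ht1 (by
    have h1 : t' = 1 := Subgroup.mem_bot.mp (hint ▸ Subgroup.mem_inf.mpr ⟨h, ht'g⟩)
    rwa [ht'def, conj_eq_one_iff] at h1)
  have ht' : orderOf t' = 2 := ((MulAut.conj g).orderOf_eq t).trans ht
  have hprod : orderOf (t * t') = 2 := by
    refine orderOf_eq_prime ?_ ?_
    · rw [(hcomm t htK t' ht'g).mul_pow]
      rw [← ht, pow_orderOf_eq_one, ht, ← ht', pow_orderOf_eq_one, one_mul]
    · intro h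
      exact ht'K ((eq_inv_of_mul_eq_one_right h) ▸ inv_mem htK)
  obtain ⟨h, hh⟩ := isConj_iff.mp (hone t (t * t') ht hprod)
  have hmem : t * t' ∈ cj h := ⟨t, htK, hh⟩
  rcases hdich h with heq | ⟨-, hc'⟩
  · rw [heq] at hmem
    exact ht'K ((K.mul_mem_cancel_left htK).mp hmem)
  -- `t` is central in `K`, so `K` is abelian
  have htc : ∀ k ∈ K, Commute k t := fun k hk => by
    have h1 := (hc' k hk _ hmem).mul_right (hcomm k hk t' ht'g).inv_right
    rwa [mul_inv_cancel_right] at h1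
  have hZ : P (K ⊓ centralizer (K : Set H)) := by
    refine ⟨inf_le_left.trans hKN, ?_, ?_⟩
    · intro hb
      exact ht1 (Subgroup.mem_bot.mp (hb ▸ Subgroup.mem_inf.mpr
        ⟨htK, Subgroup.mem_centralizer_iff.mpr fun k hk => htc k hk⟩))
    · intro n hn k hk
      refine ⟨hKn n hn k hk.1, Subgroup.mem_centralizer_iff.mpr fun b hb => ?_⟩
      have hb' := hKn n⁻¹ (inv_mem hn) b hb
      have hc := Subgroup.mem_centralizer_iff.mp hk.2 _ hb'
      calc b * (n * k * n⁻¹) = n * ((n⁻¹ * b * n⁻¹⁻¹) * k) * n⁻¹ := by group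
        _ = n * (k * (n⁻¹ * b * n⁻¹⁻¹)) * n⁻¹ := by rw [hc]
        _ = _ := by group
  have hKab : ∀ a ∈ K, ∀ b ∈ K, Commute a b := fun a ha b hb =>
    Subgroup.mem_centralizer_iff.mp (hK.le_of_le hZ inf_le_left hb).2 a ha
  obtain ⟨a, rfl⟩ := isConj_iff.mp (hone t u ht hu)
  obtain ⟨b, rfl⟩ := isConj_iff.mp (hone t v ht hv)
  apply huv
  have hab : Commute t (a⁻¹ * b * t * (a⁻¹ * b)⁻¹) := by
    have hm : a⁻¹ * b * t * (a⁻¹ * b)⁻¹ ∈ cj (a⁻¹ * b) := ⟨t, htK, rfl⟩
    rcases hdich (a⁻¹ * b) with heq | ⟨-, hc⟩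
    · exact hKab t htK _ (heq ▸ hm)
    · exact hc t htK _ hm
  have := hab.map (MulAut.conj a).toMonoidHom
  convert this using 1 <;> simp [mul_assoc]

end Cfsg.Agent.TwoFusionB
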