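import Cfsg.Agent.TwoFusionB.Dihedral
import Mathlib.GroupTheory.Nilpotent

/-!
# Fusion of four-subgroups when a Sylow 2-subgroup is dihedral
-/

set_option autoImplicit false

namespace Cfsg.Agent.TwoFusionB

open DihedralGroup Cfsg.Agent.Classification

theorem exists_eq_two_pow {X : Type*} [Group X] [Finite X] (S : Sylow 2 X) {m : ℕ} (hm : 2 ≤ m)
    (eS : (S : Subgroup X) ≃* DihedralGroup m) : ∃ k : ℕ, m = 2 ^ (k + 1) := by
  obtain ⟨n, hn⟩ := S.2.exists_card_eq
  have h1 : 2 * m = 2 ^ n := by rw [← hn, Nat.card_congr eS.toEquiv, DihedralGroup.nat_card]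
  match n with
  | 0 => omega
  | 1 => omega
  | k + 2 => exact ⟨k, by rw [pow_succ'] at h1; omega⟩

section Embed

variable {X : Type*} [Group X] {S : Subgroup X} {k : ℕ}
  (eS : S ≃* DihedralGroup (2 ^ (k + 1)))

/-- The dihedral group as a subgroup of the ambient group. -/
def emb : DihedralGroup (2 ^ (k + 1)) →* X := S.subtype.comp eS.symm.toMonoidHom

theorem emb_injective : Function.Injective (emb eS) :=
  (Subgroup.subtype_injective S).comp eS.symm.injective

theorem emb_mem (d : DihedralGroup (2 ^ (k + 1))) : emb eS d ∈ S := (eS.symm d).2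

theorem range_emb : (emb eS).range = S := by
  ext x
  constructor
  · rintro ⟨d, rfl⟩; exact emb_mem eS d
  · intro hx; exact ⟨eS ⟨x, hx⟩, by simp [emb]⟩

theorem map_top_emb : (⊤ : Subgroup (DihedralGroup (2 ^ (k + 1)))).map (emb eS) = S := by
  rw [← MonoidHom.range_eq_map, range_emb]

theorem map_comap_emb {V : Subgroup X} (hV : V ≤ S) : (V.comap (emb eS)).map (emb eS) = V :=
  Subgroup.map_comap_eq_self (by rwa [range_emb])

theorem map_emb_le (P : Subgroup (DihedralGroup (2 ^ (k + 1)))) : P.map (emb eS) ≤ S := by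
  conv_rhs => rw [← range_emb eS]
  exact Subgroup.map_le_range _ _

theorem card_map_emb (P : Subgroup (DihedralGroup (2 ^ (k + 1)))) :
    Nat.card (P.map (emb eS)) = Nat.card P :=
  Subgroup.card_map_of_injective (emb_injective eS)

theorem cj_map_emb (d : DihedralGroup (2 ^ (k + 1))) (P : Subgroup (DihedralGroup (2 ^ (k + 1)))) :
    cj (emb eS d) (P.map (emb eS)) = (cj d P).map (emb eS) := by
  rw [cj, cj, Subgroup.map_map, Subgroup.map_map]
  congr 1
  ext x
  simp

theorem isKleinFour_comap_emb {V : Subgroup X} (hV : IsKleinFour V) (hVS : V ≤ S) :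
    IsKleinFour (V.comap (emb eS)) := by
  apply isKleinFour_of_mulEquiv ((V.comap (emb eS)).equivMapOfInjective _ (emb_injective eS)).symm
  rwa [map_comap_emb eS hVS]

/-- A four-subgroup inside `S` is the image of one of the standard four-subgroups. -/
theorem exists_eq_map_fourSub {V : Subgroup X} (hV : IsKleinFour V) (hVS : V ≤ S) :
    ∃ i, V = (fourSub i).map (emb eS) := by
  have hV' := isKleinFour_comap_emb eS hV hVS
  obtain ⟨i, hi⟩ := exists_sr_of_isKleinFour hV'
  exact ⟨i, by rw [← eq_fourSub_of_isKleinFour hV' hi, map_comap_emb eS hVS]⟩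

end Embed

section Fusion

variable {X : Type*} [Group X] [Finite X] (S : Sylow 2 X) {k : ℕ}
  (eS : (S : Subgroup X) ≃* DihedralGroup (2 ^ (k + 1)))

theorem isPGroup_dihedral : IsPGroup 2 (DihedralGroup (2 ^ (k + 1))) :=
  IsPGroup.of_card (n := k + 2) (by rw [DihedralGroup.nat_card, ← pow_succ'])

/-- A 2-subgroup normalizing a subgroup which contains a four-subgroup is at most twice as big. -/
theorem card_le_of_normalizes (P : Subgroup (DihedralGroup (2 ^ (k + 1))))
    {i : ZMod (2 ^ (k + 1))} (hi : fourSub i ≤ P) {R : Subgroup X} (hR : IsPGroup 2 R)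
    (hPR : P.map (emb eS) ≤ R)
    (hn : R ≤ Subgroup.normalizer (P.map (emb eS) : Set X)) :
    Nat.card R ≤ 2 * Nat.card P := by
  obtain ⟨h, hh⟩ := exists_le_cj_sylow S hR
  set R' : Subgroup X := cj h⁻¹ R with hR'
  set P' : Subgroup X := cj h⁻¹ (P.map (emb eS)) with hP'
  have hR'S : R' ≤ (S : Subgroup X) := cj_le_iff.mpr (by rw [inv_inv]; exact hh)
  have hP'R : P' ≤ R' := cj_mono _ hPR
  set P₀ := P'.comap (emb eS) with hP₀
  set R₀ := R'.comap (emb eS) with hR₀
  have hP₀m : P₀.map (emb eS) = P' := map_comap_emb eS (hP'R.trans hR'S)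
  have hR₀m : R₀.map (emb eS) = R' := map_comap_emb eS hR'S
  have hfour : IsKleinFour (cj h⁻¹ ((fourSub i).map (emb eS))) :=
    isKleinFour_cj _ (isKleinFour_map _ (emb_injective eS) (isKleinFour_fourSub i))
  have hle : cj h⁻¹ ((fourSub i).map (emb eS)) ≤ P' := cj_mono _ (Subgroup.map_mono hi)
  obtain ⟨j, hj⟩ := exists_eq_map_fourSub eS hfour (hle.trans (hP'R.trans hR'S))
  have hjP : sr j ∈ P₀ := by
    apply Subgroup.mem_comap.mpr
    apply hle
    rw [hj]
    exact ⟨_, mem_fourSub_self j, rfl⟩
  have hRN : R₀ ≤ Subgroup.normalizer (P₀ : Set _) := by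
    intro d hd
    obtain ⟨r, hr, hrd⟩ := Subgroup.mem_comap.mp hd
    apply mem_normalizer_of_cj_eq
    apply Subgroup.map_injective (emb_injective eS)
    rw [← cj_map_emb, hP₀m, hP', ← hrd]
    simp only [MulEquiv.coe_toMonoidHom, MulAut.conj_apply, inv_inv]
    rw [cj_mul, show h⁻¹ * r * h * h⁻¹ = h⁻¹ * r by group, ← cj_mul,
      cj_eq_of_mem_normalizer (hn hr)]
  have h1 := card_normalizer_le hjP
  have h2 := Subgroup.card_le_of_le hRN
  have h3 : Nat.card R₀ = Nat.card R := by rw [← card_map_emb eS, hR₀m, hR', card_cj]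
  have h4 : Nat.card P₀ = Nat.card P := by
    rw [← card_map_emb eS, hP₀m, hP', card_cj, card_map_emb]
  omega

theorem card_normalizer_eq {P : Subgroup (DihedralGroup (2 ^ (k + 1)))} (hP : P ≠ ⊤)
    {i : ZMod (2 ^ (k + 1))} (hi : sr i ∈ P) :
    Nat.card (Subgroup.normalizer (P : Set (DihedralGroup (2 ^ (k + 1))))) = 2 * Nat.card P := by
  have : Group.IsNilpotent (DihedralGroup (2 ^ (k + 1))) := isPGroup_dihedral.isNilpotent
  have hlt : P < Subgroup.normalizer (P : Set _) :=
    Group.normalizerCondition_of_isNilpotent P (lt_top_iff_ne_top.mpr hP)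
  obtain ⟨c, hc⟩ := Subgroup.card_dvd_of_le hlt.le
  have hle := card_normalizer_le hi
  have hne : Nat.card P ≠ Nat.card (Subgroup.normalizer (P : Set (DihedralGroup (2 ^ (k + 1))))) := fun e =>
    hlt.ne (Subgroup.eq_of_le_of_card_ge hlt.le (le_of_eq e.symm))
  have hpos : 0 < Nat.card (Subgroup.normalizer (P : Set (DihedralGroup (2 ^ (k + 1))))) :=
    Nat.card_pos
  have hPpos : 0 < Nat.card P := Nat.card_pos
  match c with
  | 0 => rw [hc, mul_zero] at hpos; exact absurd hpos (lt_irrefl 0)
  | 1 => rw [hc, mul_one] at hne; exact absurd rfl hne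
  | 2 => rw [hc, mul_comm]
  | c + 3 =>
    rw [hc] at hle
    nlinarith

/-- Four-subgroups inside `S` that are conjugate in `X` have reflections of the same parity. -/
theorem par_eq_of_conj : ∀ (n : ℕ) (P Q : Subgroup (DihedralGroup (2 ^ (k + 1))))
    (i j : ZMod (2 ^ (k + 1))), 2 ^ (k + 2) ≤ n + Nat.card P →
    P ≠ ⊤ → fourSub i ≤ P → fourSub j ≤ Q → (g : X) →
    cj g (P.map (emb eS)) = Q.map (emb eS) → par k i = par k j := by
  intro n
  induction n with
  | zero =>
    intro P Q i j hn hP _ _ g _
    exfalso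
    apply hP
    apply Subgroup.eq_top_of_le_card
    rw [DihedralGroup.nat_card, ← pow_succ']
    simpa using hn
  | succ n ih =>
    intro P Q i j hn hP hi hj g hg
    have hcard : Nat.card Q = Nat.card P := by
      rw [← card_map_emb eS Q, ← hg, card_cj, card_map_emb]
    have hQ : Q ≠ ⊤ := by
      intro e
      apply hP
      apply Subgroup.eq_top_of_card_eq
      rw [← hcard, e, Subgroup.card_top]
    have hiP := hi (mem_fourSub_self i)
    have hjQ := hj (mem_fourSub_self j)
    set P' := Subgroup.normalizer (P : Set (DihedralGroup (2 ^ (k + 1)))) with hP'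
    set Q' := Subgroup.normalizer (Q : Set (DihedralGroup (2 ^ (k + 1)))) with hQ'
    have hP'c : Nat.card P' = 2 * Nat.card P := card_normalizer_eq hP hiP
    have hQ'c : Nat.card Q' = 2 * Nat.card Q := card_normalizer_eq hQ hjQ
    set N := Subgroup.normalizer (Q.map (emb eS) : Set X) with hN
    have hQN : Q'.map (emb eS) ≤ N := by
      rintro _ ⟨d, hd, rfl⟩
      apply mem_normalizer_of_cj_eq
      rw [cj_map_emb, cj_eq_of_mem_normalizer hd]
    have hPN : cj g (P'.map (emb eS)) ≤ N := by
      rintro _ ⟨_, ⟨d, hd, rfl⟩, rfl⟩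
      apply mem_normalizer_of_cj_eq
      simp only [MulEquiv.coe_toMonoidHom, MulAut.conj_apply]
      rw [← hg, cj_mul, inv_mul_cancel_right, ← cj_mul, cj_map_emb, cj_eq_of_mem_normalizer hd]
    have hQp : IsPGroup 2 (Q'.map (emb eS)) := S.2.to_le (map_emb_le eS _)
    have hPp : IsPGroup 2 (cj g (P'.map (emb eS))) := (S.2.to_le (map_emb_le eS _)).map _
    obtain ⟨R₁, hR₁⟩ := (hQp.comap_subtype (K := N)).exists_le_sylow
    obtain ⟨R₂, hR₂⟩ := (hPp.comap_subtype (K := N)).exists_le_sylow
    have key : ∀ (R : Sylow 2 N) (A : Subgroup X), A ≤ N → A.comap N.subtype ≤ R →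
        Q.map (emb eS) ≤ A → Nat.card A = 2 * Nat.card Q →
        (R : Subgroup N).map N.subtype = A := by
      intro R A hAN hAR hQA hA
      have hle : A ≤ (R : Subgroup N).map N.subtype := fun a ha =>
        ⟨⟨a, hAN ha⟩, hAR ha, rfl⟩
      refine (Subgroup.eq_of_le_of_card_ge hle ?_).symm
      rw [hA]
      exact card_le_of_normalizes S eS Q hj (R.2.map _) (hQA.trans hle)
        (Subgroup.map_subtype_le _)
    have e1 := key R₁ _ hQN hR₁ (Subgroup.map_mono Subgroup.le_normalizer)
      (by rw [card_map_emb, hQ'c])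
    have e2 := key R₂ _ hPN hR₂ (by rw [← hg]; exact cj_mono _ (Subgroup.map_mono
      Subgroup.le_normalizer)) (by rw [card_cj, card_map_emb, hP'c, hcard])
    obtain ⟨c, hc⟩ := MulAction.exists_smul_eq N R₂ R₁
    have hcg : cj ((c : X) * g) (P'.map (emb eS)) = Q'.map (emb eS) := by
      rw [← cj_mul, ← e2, ← e1, ← hc, Sylow.coe_subgroup_smul, cj, Subgroup.map_map]
      rw [Subgroup.pointwise_smul_def]
      erw [Subgroup.map_map]
      rfl
    have hgQ : cj ((c : X) * g) (P.map (emb eS)) = Q.map (emb eS) := by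
      rw [← cj_mul, hg, cj_eq_of_mem_normalizer c.2]
    by_cases hP'top : P' = ⊤
    · -- `c * g` normalizes `S`, and permutes the maximal subgroups containing four-subgroups.
      by_contra hne
      have hPcard : 2 * Nat.card P = 2 ^ (k + 2) := by
        rw [← hP'c, hP'top, Subgroup.card_top, DihedralGroup.nat_card, ← pow_succ']
      have hQ'top : Q' = ⊤ := Subgroup.eq_top_of_card_eq _ (by
        rw [hQ'c, hcard, hPcard, DihedralGroup.nat_card, ← pow_succ'])
      rw [hP'top, hQ'top, map_top_emb] at hcg
      set e : X := (c : X) * g with he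
      have heN : e ∈ Subgroup.normalizer ((S : Subgroup X) : Set X) :=
        mem_normalizer_of_cj_eq hcg
      have hPne : P ≠ Q := by
        intro hPQ
        exact hP (eq_top_of_par_ne hiP (hPQ ▸ hjQ) hne)
      have himg : ∀ x : X, x ∈ Subgroup.normalizer ((S : Subgroup X) : Set X) →
          cj x (P.map (emb eS)) = P.map (emb eS) ∨ cj x (P.map (emb eS)) = Q.map (emb eS) := by
        intro x hx
        have hxP : cj x (P.map (emb eS)) ≤ (S : Subgroup X) :=
          (cj_mono x (map_emb_le eS P)).trans (cj_eq_of_mem_normalizer hx).le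
        set P₁ := (cj x (P.map (emb eS))).comap (emb eS) with hP₁
        have hP₁m : P₁.map (emb eS) = cj x (P.map (emb eS)) := map_comap_emb eS hxP
        have hP₁c : Nat.card P₁ = Nat.card P := by
          rw [← card_map_emb eS, hP₁m, card_cj, card_map_emb]
        have hV : IsKleinFour (cj x ((fourSub i).map (emb eS))) :=
          isKleinFour_cj _ (isKleinFour_map _ (emb_injective eS) (isKleinFour_fourSub i))
        have hVle : cj x ((fourSub i).map (emb eS)) ≤ cj x (P.map (emb eS)) :=
          cj_mono _ (Subgroup.map_mono hi)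
        obtain ⟨l, hl⟩ := exists_eq_map_fourSub eS hV (hVle.trans hxP)
        have hlP : sr l ∈ P₁ := by
          apply Subgroup.mem_comap.mpr
          apply hVle
          rw [hl]
          exact ⟨_, mem_fourSub_self l, rfl⟩
        have hfull : ∀ (T : Subgroup (DihedralGroup (2 ^ (k + 1)))) (a b : ZMod (2 ^ (k + 1))),
            T ≠ ⊤ → Nat.card T = Nat.card P → sr a ∈ T → par k a = par k b → sr b ∈ T := by
          intro T a b hT hTc ha hab
          obtain ⟨d, hd⟩ := exists_two_mul_of_par (x := a - b) (by rw [map_sub, hab, sub_self])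
          have hTn : T.Normal := by
            rw [← Subgroup.normalizer_eq_top_iff]
            apply Subgroup.eq_top_of_card_eq
            rw [card_normalizer_eq hT ha, hTc, hPcard, DihedralGroup.nat_card, ← pow_succ']
          have h5 := hTn.conj_mem _ ha (r d)
          rwa [sr_conj_r, ← hd, sub_sub_cancel] at h5
        have heq : ∀ (T U : Subgroup (DihedralGroup (2 ^ (k + 1)))) (a b : ZMod (2 ^ (k + 1))),
            T ≠ ⊤ → U ≠ ⊤ → Nat.card T = Nat.card P → Nat.card U = Nat.card P →
            sr a ∈ T → sr b ∈ U → par k a = par k b → T = U := by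
          intro T U a b hT hU hTc hUc ha hb hab
          apply Subgroup.eq_of_le_of_card_ge ?_ (by rw [hTc, hUc])
          intro y hy
          rcases y with y | y
          · have h6 : sr (a + y) ∈ T := by simpa using mul_mem ha hy
            have hay : par k (a + y) = par k a := by
              by_contra h7
              exact hT (eq_top_of_par_ne h6 ha h7)
            have h8 : sr (b + y) ∈ U := hfull U b (b + y) hU hUc hb (by
              rw [map_add] at hay ⊢
              rw [add_eq_left.mp hay, add_zero])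
            simpa using mul_mem hb h8
          · refine hfull U b y hU hUc hb ?_
            rw [← hab]
            by_contra h7
            exact hT (eq_top_of_par_ne ha hy h7)
        have hP₁top : P₁ ≠ ⊤ := fun e' => hP (Subgroup.eq_top_of_card_eq _ (by
          rw [← hP₁c, e', Subgroup.card_top]))
        have h2 : ∀ a : ZMod 2, a = par k i ∨ a = par k j := by
          revert hne
          generalize par k i = u
          generalize par k j = v
          revert u v
          decide
        rcases h2 (par k l) with h | h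
        · exact Or.inl (by rw [← hP₁m, heq P₁ P l i hP₁top hP hP₁c rfl hlP hiP h])
        · exact Or.inr (by rw [← hP₁m, heq P₁ Q l j hP₁top hQ hP₁c hcard hlP hjQ h])
      have hsq : cj (e * e) (P.map (emb eS)) = P.map (emb eS) := by
        rcases himg (e * e) (mul_mem heN heN) with h | h
        · exact h
        · exfalso
          rw [← cj_mul, hgQ, ← hgQ] at h
          apply hPne
          apply Subgroup.map_injective (emb_injective eS)
          have := congrArg (cj e⁻¹) h
          rw [cj_inv_cancel, cj_inv_cancel] at this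
          rw [hgQ] at this
          exact this.symm
      have heven : ∀ a : ℕ, cj (e ^ (2 * a)) (P.map (emb eS)) = P.map (emb eS) := by
        intro a
        induction a with
        | zero => simp
        | succ a iha =>
          rw [Nat.mul_succ, pow_add, pow_two, ← cj_mul, hsq, iha]
      obtain ⟨a, b, hb, hab⟩ := Nat.exists_eq_two_pow_mul_odd (orderOf_pos e).ne'
      have hodd : cj (e ^ b) (P.map (emb eS)) = Q.map (emb eS) := by
        obtain ⟨t, ht⟩ := hb
        rw [ht, pow_succ', ← cj_mul, heven t, hgQ]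
      have hpS : e ^ b ∈ (S : Subgroup X) := by
        have hp : IsPGroup 2 (Subgroup.zpowers (e ^ b)) := by
          obtain ⟨i', -, hi'⟩ := (Nat.dvd_prime_pow Nat.prime_two).mp
            (show orderOf (e ^ b) ∣ 2 ^ a from orderOf_dvd_of_pow_eq_one (by
              rw [← pow_mul, mul_comm, ← hab, pow_orderOf_eq_one]))
          exact IsPGroup.of_card (n := i') (by rw [Nat.card_zpowers, hi'])
        have hsup := S.3 (hp.to_sup_of_normal_right' S.2
          (Subgroup.zpowers_le.mpr (pow_mem heN b))) le_sup_right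
        rw [← hsup]
        exact Subgroup.mem_sup_left (Subgroup.mem_zpowers _)
      obtain ⟨d, hd⟩ : ∃ d, emb eS d = e ^ b := by
        rw [← MonoidHom.mem_range, range_emb]; exact hpS
      rw [← hd, cj_map_emb, cj_eq_of_mem_normalizer (by rw [← hP', hP'top]; trivial)] at hodd
      exact hPne (Subgroup.map_injective (emb_injective eS) hodd)
    · refine ih P' Q' i j ?_ hP'top (hi.trans Subgroup.le_normalizer)
        (hj.trans Subgroup.le_normalizer) ((c : X) * g) hcg
      have : 0 < Nat.card P := Nat.card_pos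
      omega

/-- Reflections of different parity give non-conjugate four-subgroups. -/
theorem par_eq_of_conj_fourSub (hk : 1 ≤ k) {i j : ZMod (2 ^ (k + 1))} {g : X}
    (hg : cj g ((fourSub i).map (emb eS)) = (fourSub j).map (emb eS)) : par k i = par k j := by
  refine par_eq_of_conj S eS (2 ^ (k + 2)) (fourSub i) (fourSub j) i j (Nat.le_add_right _ _) ?_
    le_rfl le_rfl g hg
  intro e
  have h := (isKleinFour_fourSub i).card_four
  rw [e, Subgroup.card_top, DihedralGroup.nat_card, ← pow_succ'] at h
  have h8 : 2 ^ 3 ≤ 2 ^ (k + 2) := Nat.pow_le_pow_right (by norm_num) (by omega)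
  have h' : 2 ^ (k + 2) = 4 := h
  omega

end Fusion

end Cfsg.Agent.TwoFusionB
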