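import Cfsg.Agent.TwoFusionB.DihedralSylow
import Cfsg.Agent.OddLocal43.Coprime
import Mathlib

/-!
# Elements of odd order acting on subgroups of dihedral 2-groups
-/

set_option autoImplicit false

namespace Cfsg.Agent.TwoFusionB

open DihedralGroup

variable {X : Type*} [Group X] [Finite X]

/-- An element of odd order normalising a cyclic 2-group centralises it. -/
theorem mem_centralizer_of_isCyclic_two {Q : Subgroup X} (hQ : IsPGroup 2 Q) [IsCyclic Q] {g : X}
    (hg : g ∈ Subgroup.normalizer (Q : Set X)) (hodd : Odd (orderOf g)) :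
    g ∈ Subgroup.centralizer (Q : Set X) := by
  haveI : Fact (Nat.Prime 2) := ⟨Nat.prime_two⟩
  let g' : Subgroup.normalizer (Q : Set X) := ⟨g, hg⟩
  set φ : MulAut Q := Subgroup.normalizerMonoidHom Q g' with hφ
  obtain ⟨n, hn⟩ := hQ.exists_card_eq
  have h1 : orderOf φ ∣ 2 ^ (n - 1) := by
    refine (orderOf_dvd_natCard φ).trans ?_
    rw [IsCyclic.card_mulAut, hn]
    rcases Nat.eq_zero_or_pos n with rfl | hn0
    · simp
    · rw [Nat.totient_prime_pow Nat.prime_two hn0]; simp
  have h2 : orderOf φ ∣ orderOf g := by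
    rw [← Subgroup.orderOf_mk g hg]
    exact orderOf_map_dvd _ g'
  have h3 : orderOf φ = 1 := by
    obtain ⟨j, -, hj⟩ := (Nat.dvd_prime_pow Nat.prime_two).1 h1
    rcases Nat.eq_zero_or_pos j with rfl | hj0
    · simpa using hj
    · have h4 : 2 ∣ orderOf g := (dvd_pow_self 2 hj0.ne').trans (hj ▸ h2)
      exact absurd (even_iff_two_dvd.2 h4) (Nat.not_even_iff_odd.2 hodd)
  rw [orderOf_eq_one_iff] at h3
  rw [Subgroup.mem_centralizer_iff]
  intro x hx
  have h5 : g * x * g⁻¹ = x := congrArg Subtype.val (DFunLike.congr_fun h3 (⟨x, hx⟩ : Q))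
  exact (mul_inv_eq_iff_eq_mul.1 h5).symm

variable {S : Subgroup X} {k : ℕ} (eS : S ≃* DihedralGroup (2 ^ (k + 1)))

omit [Finite X] in
theorem commute_r_iff {a : ZMod (2 ^ (k + 1))} (ha : 2 * a ≠ 0) {x : DihedralGroup (2 ^ (k + 1))} :
    x * r a = r a * x ↔ ∃ b, x = r b := by
  rcases x with b | b
  · simp [r_mul_r, add_comm]
  · simp only [sr_mul_r, r_mul_sr, sr.injEq, reduceCtorEq, exists_false, iff_false]
    intro h
    exact ha (by linear_combination h)

omit [Finite X] in
theorem exists_r_of_mul_self_ne {x : DihedralGroup (2 ^ (k + 1))} (hx : x * x ≠ 1) :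
    ∃ b, x = r b ∧ 2 * b ≠ 0 := by
  rcases x with b | b
  · refine ⟨b, rfl, fun h => hx ?_⟩
    rw [r_mul_r, ← two_mul, h]; rfl
  · exact absurd (sr_mul_self b) hx

include eS in
/-- An element of odd order normalising a subgroup, other than a four-group, of a dihedral
2-subgroup centralises it. -/
theorem mem_centralizer_of_dihedral {Q : Subgroup X} (hQS : Q ≤ S) (hQ : ¬ IsKleinFour Q) {g : X}
    (hg : g ∈ Subgroup.normalizer (Q : Set X)) (hodd : Odd (orderOf g)) :
    g ∈ Subgroup.centralizer (Q : Set X) := by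
  classical
  have hSp : IsPGroup 2 S := isPGroup_dihedral.of_equiv eS.symm
  have hQp : IsPGroup 2 Q := hSp.to_le hQS
  by_cases hbig : ∃ x ∈ Q, x * x ≠ 1
  · obtain ⟨x, hxQ, hx⟩ := hbig
    obtain ⟨d, rfl⟩ : x ∈ (emb eS).range := by rw [range_emb]; exact hQS hxQ
    have hd : d * d ≠ 1 := fun h => hx (by rw [← map_mul, h, map_one])
    obtain ⟨a, rfl, ha⟩ := exists_r_of_mul_self_ne hd
    set C := Q ⊓ Subgroup.centralizer ({emb eS (r a)} : Set X) with hC
    have hCmem : ∀ b : DihedralGroup (2 ^ (k + 1)), emb eS b ∈ Q →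
        (emb eS b ∈ C ↔ ∃ i, b = r i) := by
      intro b hb
      rw [← commute_r_iff ha, hC, Subgroup.mem_inf, Subgroup.mem_centralizer_singleton_iff,
        ← map_mul, ← map_mul, (emb_injective eS).eq_iff]
      exact and_iff_right hb
    have hCR : C ≤ (Subgroup.zpowers (r (1 : ZMod (2 ^ (k + 1))))).map (emb eS) := by
      intro y hy
      obtain ⟨b, rfl⟩ : y ∈ (emb eS).range := by rw [range_emb]; exact hQS hy.1
      obtain ⟨i, rfl⟩ := (hCmem b hy.1).1 hy
      exact ⟨r i, ⟨(i.val : ℤ), by simp⟩, rfl⟩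
    rw [MonoidHom.map_zpowers] at hCR
    haveI : IsCyclic C := Subgroup.isCyclic_of_le hCR
    have hmapQ : ∀ y ∈ Q, g * y * g⁻¹ ∈ Q := fun y hy => (Subgroup.mem_normalizer_iff.1 hg y).1 hy
    -- the image of `r a` is again a rotation
    have hga : ∀ y ∈ Q, y ∈ C → g * y * g⁻¹ ∈ C := by
      intro y hy hyC
      obtain ⟨e, he⟩ : g * emb eS (r a) * g⁻¹ ∈ (emb eS).range := by
        rw [range_emb]; exact hQS (hmapQ _ hxQ)
      have he2 : e * e ≠ 1 := by
        intro h
        refine hx ?_
        have h1 : (g * emb eS (r a) * g⁻¹) * (g * emb eS (r a) * g⁻¹) = 1 := by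
          rw [← he, ← map_mul, h, map_one]
        have h2 : g⁻¹ * ((g * emb eS (r a) * g⁻¹) * (g * emb eS (r a) * g⁻¹)) * g =
            emb eS (r a) * emb eS (r a) := by group
        rw [← h2, h1]; group
      obtain ⟨a', rfl, ha'⟩ := exists_r_of_mul_self_ne he2
      obtain ⟨b, hb⟩ : g * y * g⁻¹ ∈ (emb eS).range := by
        rw [range_emb]; exact hQS (hmapQ _ hy)
      have hcomm : b * r a' = r a' * b := by
        apply emb_injective eS
        rw [map_mul, map_mul, hb, he]
        have h3 := Subgroup.mem_centralizer_singleton_iff.1 hyC.2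
        calc g * y * g⁻¹ * (g * emb eS (r a) * g⁻¹) = g * (y * emb eS (r a)) * g⁻¹ := by group
          _ = g * (emb eS (r a) * y) * g⁻¹ := by rw [h3]
          _ = g * emb eS (r a) * g⁻¹ * (g * y * g⁻¹) := by group
      rw [← hb]
      exact (hCmem b (hb ▸ hmapQ _ hy)).2 ((commute_r_iff ha').1 hcomm)
    have hgC : g ∈ Subgroup.normalizer (C : Set X) := by
      rw [Subgroup.mem_normalizer_iff_map_conj_eq]
      refine Subgroup.eq_of_le_of_card_ge ?_
        (Subgroup.card_map_of_injective (MulAut.conj g).injective).ge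
      rintro _ ⟨y, hy, rfl⟩
      simpa using hga y hy.1 hy
    have hgcC := Subgroup.mem_centralizer_iff.1
      (mem_centralizer_of_isCyclic_two (hQp.to_le inf_le_left) hgC hodd)
    rw [Subgroup.mem_centralizer_iff]
    intro y hy
    by_cases hyC : y ∈ C
    · exact hgcC y hyC
    · -- both `y` and its conjugate are reflections
      obtain ⟨b, rfl⟩ : y ∈ (emb eS).range := by rw [range_emb]; exact hQS hy
      obtain ⟨b', hb'⟩ : g * emb eS b * g⁻¹ ∈ (emb eS).range := by
        rw [range_emb]; exact hQS (hmapQ _ hy)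
      have hb'Q : emb eS b' ∈ Q := hb' ▸ hmapQ _ hy
      have hb'C : emb eS b' ∉ C := fun h => hyC (by
        have h1 := (Subgroup.mem_normalizer_iff.1 hgC (emb eS b)).2 (hb' ▸ h)
        exact h1)
      rcases b with i | i
      · exact absurd ((hCmem _ hy).2 ⟨i, rfl⟩) hyC
      rcases b' with j | j
      · exact absurd ((hCmem _ hb'Q).2 ⟨j, rfl⟩) hb'C
      set c := emb eS (sr j) * (emb eS (sr i))⁻¹ with hc
      have hcC : c ∈ C := by
        have h : c = emb eS (r (i - j)) := by
          rw [hc, ← map_inv, ← map_mul, inv_sr, sr_mul_sr]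
        rw [h]
        exact (hCmem _ (h ▸ Q.mul_mem hb'Q (Q.inv_mem hy))).2 ⟨_, rfl⟩
      have hcop : (orderOf g).Coprime (orderOf c) := by
        obtain ⟨t, ht⟩ := IsPGroup.iff_orderOf.1 hQp ⟨c, hcC.1⟩
        rw [Subgroup.orderOf_mk] at ht
        rw [ht]
        exact Nat.Coprime.pow_right t (Nat.coprime_two_right.2 hodd)
      exact (OddLocal43.commute_of_stab (c := c) (h := emb eS (sr i))
        (hgcC c hcC).symm (by rw [hc, inv_mul_cancel_right, hb']) hcop).eq.symm
  · -- a subgroup without elements of order greater than two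
    push Not at hbig
    have hle : Nat.card Q ≤ 2 := by
      by_contra hlt
      push Not at hlt
      set Qd := Q.comap (emb eS) with hQd
      have hQeq : Qd.map (emb eS) = Q := map_comap_emb eS hQS
      have hsq : ∀ d ∈ Qd, d * d = 1 := fun d hd => emb_injective eS (by
        rw [map_mul, map_one]; exact hbig _ hd)
      obtain ⟨i, hi⟩ : ∃ i, sr i ∈ Qd := by
        by_contra hno
        push Not at hno
        have hsub : (Qd : Set (DihedralGroup (2 ^ (k + 1)))) ⊆ {1, r (half k)} := by
          intro d hd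
          rcases mul_self_eq_one_iff.1 (hsq d hd) with h | h | ⟨i, rfl⟩
          · exact Or.inl h
          · exact Or.inr h
          · exact absurd hd (hno i)
        have h1 := Set.ncard_le_ncard hsub (Set.toFinite _)
        have h2 : Nat.card Q = Set.ncard (Qd : Set (DihedralGroup (2 ^ (k + 1)))) := by
          rw [← hQeq, card_map_emb]; exact Nat.card_coe_set_eq _
        have h3 : ({1, r (half k)} : Set (DihedralGroup (2 ^ (k + 1)))).ncard ≤ 2 :=
          (Set.ncard_insert_le _ _).trans (by simp)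
        omega
      have hsub : Qd ≤ fourSub i := by
        intro d hd
        rw [mem_fourSub]
        have hab := hsq _ (Qd.mul_mem hd hi)
        have h1 : d⁻¹ = d := inv_eq_of_mul_eq_one_right (hsq d hd)
        have h2 := inv_eq_of_mul_eq_one_right hab
        rw [mul_inv_rev, h1, inv_sr] at h2
        exact h2.symm
      have hk4 : Nat.card (fourSub i) = 4 := (isKleinFour_fourSub i).card_four
      have hcardQ : Nat.card Qd = Nat.card Q := by rw [← card_map_emb eS, hQeq]
      have hdvd : Nat.card Qd ∣ 4 := hk4 ▸ Subgroup.card_dvd_of_le hsub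
      have h4 : Nat.card Qd ≤ 4 := Nat.le_of_dvd (by norm_num) hdvd
      have h5 : Nat.card Qd = 4 := by
        rcases Nat.lt_or_ge (Nat.card Qd) 4 with h | h
        · exfalso
          have h6 : Nat.card Qd = 3 := by omega
          rw [h6] at hdvd
          omega
        · omega
      have heq : Qd = fourSub i := Subgroup.eq_of_le_of_card_ge hsub (by omega)
      refine hQ ?_
      rw [← hQeq, heq]
      exact Cfsg.Agent.Classification.isKleinFour_of_mulEquiv
        ((fourSub i).equivMapOfInjective _ (emb_injective eS)) (isKleinFour_fourSub i)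
    have : IsCyclic Q := by
      have hpos : 0 < Nat.card Q := Nat.card_pos
      rcases Nat.lt_or_ge (Nat.card Q) 2 with h | h
      · haveI : Subsingleton Q := (Nat.card_eq_one_iff_unique.1 (by omega)).1
        exact isCyclic_of_subsingleton
      · exact isCyclic_of_prime_card (p := 2) (hp := ⟨Nat.prime_two⟩) (by omega)
    exact mem_centralizer_of_isCyclic_two hQp hg hodd

end Cfsg.Agent.TwoFusionB
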