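import Cfsg.Agent.AutPSU.Sylow
import Mathlib

/-!
# The Sylow 2-subgroup of `SU₃(2ⁿ)` under automorphisms whose square fixes the centre mod inner
-/

set_option autoImplicit false

namespace Cfsg.Agent.TwoFusionB

open Matrix Cfsg.Agent.Unitary Cfsg.Agent.AutPSU

/-- Coordinates: `φ` modulo the centre, `ι` on the centre, `ν` the norm of the basis vector. -/
structure HModel (S : Type*) [Group S] (F : Type*) [Field F] (q : ℕ) (φ : S → F) (ι : F → S)
    (ν : F) : Prop where
  φ_mul : ∀ a b, φ (a * b) = φ a + φ b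
  φ_surj : Function.Surjective φ
  φ_zero : ∀ a, φ a = 0 ↔ ∃ c, c ^ q = c ∧ a = ι c
  ι_mul : ∀ a b, a ^ q = a → b ^ q = b → ι (a + b) = ι a * ι b
  ι_inj : ∀ a b, a ^ q = a → b ^ q = b → ι a = ι b → a = b
  ι_cent : ∀ c, c ^ q = c → ι c ∈ Subgroup.center S
  sq : ∀ a, a * a = ι (ν * (φ a * φ a ^ q))
  comm : ∀ a b, a * b * a⁻¹ * b⁻¹ = ι (ν * (φ a * φ b ^ q + φ a ^ q * φ b))
  ν_fix : ν ^ q = ν
  ν_ne : ν ≠ 0

variable {F : Type*} [Field F] [Fintype F] {q : ℕ} (hF : Fintype.card F = q ^ 2)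

theorem HModel.center_eq [CharP F 2] {S : Type*} [Group S] {φ : S → F} {ι : F → S} {ν : F}
    (hM : HModel S F q φ ι ν) (hF : Fintype.card F = q ^ 2) {a : S} :
    a ∈ Subgroup.center S ↔ φ a = 0 := by
  constructor
  · intro ha
    by_contra hne
    obtain ⟨c, hc⟩ := exists_trace_eq hF (one_pow q : (1 : F) ^ q = 1)
    obtain ⟨b, hb⟩ := hM.φ_surj (c / (φ a ^ q))
    have h1 := hM.comm a b
    have hab : a * b * a⁻¹ * b⁻¹ = 1 := by
      rw [← Subgroup.mem_center_iff.mp ha b]; group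
    rw [hab, hb, div_pow, pow_q_pow_q hF, mul_div_cancel₀ _ hne,
      mul_div_cancel₀ _ (pow_ne_zero _ hne), add_comm, hc, mul_one] at h1
    have h0 : ι 0 = 1 := by
      have := hM.ι_mul 0 0 (zero_pow_q hF) (zero_pow_q hF)
      rw [add_zero] at this
      exact right_eq_mul.mp this
    exact hM.ν_ne (hM.ι_inj _ _ (zero_pow_q hF) hM.ν_fix (h0.trans h1)).symm
  · intro ha
    obtain ⟨c, hc, rfl⟩ := (hM.φ_zero a).1 ha
    exact hM.ι_cent c hc

include hF in
/-- An automorphism fixing the centre up to squares fixes it. -/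
theorem HModel.fix_center [CharP F 2] {S : Type*} [Group S] {φ : S → F} {ι : F → S} {ν : F}
    (hM : HModel S F q φ ι ν) (α : MulAut S) (s₀ : S) (hα : ∀ x, α (α x) = s₀ * x * s₀⁻¹) :
    ∀ z ∈ Subgroup.center S, α z = z := by
  classical
  have h2 : (2 : F) = 0 := CharP.ofNat_eq_zero F 2
  have hadd : ∀ a : F, a + a = 0 := fun a => by linear_combination a * h2
  -- the action modulo the centre
  have hφ1 : φ 1 = 0 := by
    have := hM.φ_mul 1 1
    rw [mul_one] at this
    linear_combination -this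
  have hφinv : ∀ a, φ a⁻¹ = φ a := fun a => by
    have := hM.φ_mul a a⁻¹
    rw [mul_inv_cancel, hφ1] at this
    linear_combination -this - hadd (φ a)
  have hαc : ∀ a, a ∈ Subgroup.center S → α a ∈ Subgroup.center S := fun a ha => by
    rw [Subgroup.mem_center_iff] at ha ⊢
    intro g
    obtain ⟨g, rfl⟩ := α.surjective g
    rw [← map_mul, ha, map_mul]
  have hwell : ∀ a b, φ a = φ b → φ (α a) = φ (α b) := by
    intro a b hab
    have h1 : φ (a⁻¹ * b) = 0 := by rw [hM.φ_mul, hφinv, hab, hadd]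
    have h3 := (hM.center_eq hF).1 (hαc _ ((hM.center_eq hF).2 h1))
    rw [map_mul, map_inv, hM.φ_mul, hφinv] at h3
    linear_combination h3 - hadd (φ (α b))
  let R : F → F := fun l => φ (α (Function.surjInv hM.φ_surj l))
  have hR : ∀ a, φ (α a) = R (φ a) := fun a =>
    hwell _ _ (Function.surjInv_eq hM.φ_surj (φ a)).symm
  have hRadd : ∀ l m, R (l + m) = R l + R m := by
    intro l m
    obtain ⟨a, rfl⟩ := hM.φ_surj l
    obtain ⟨b, rfl⟩ := hM.φ_surj m
    rw [← hM.φ_mul, ← hR, ← hR, ← hR, map_mul, hM.φ_mul]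
  have hRR : ∀ l, R (R l) = l := by
    intro l
    obtain ⟨a, rfl⟩ := hM.φ_surj l
    rw [← hR a, ← hR (α a), hα, hM.φ_mul, hM.φ_mul, hφinv]
    linear_combination hadd (φ s₀)
  -- the action on the centre
  have hA' : ∀ c : F, ∃ d : F, c ^ q = c → d ^ q = d ∧ α (ι c) = ι d := by
    intro c
    by_cases hc : c ^ q = c
    · obtain ⟨d, hd, hd'⟩ := (hM.φ_zero _).1 ((hM.center_eq hF).1 (hαc _ (hM.ι_cent c hc)))
      exact ⟨d, fun _ => ⟨hd, hd'⟩⟩
    · exact ⟨0, fun h => absurd h hc⟩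
  choose A hA using hA'
  have fixmul : ∀ {a b : F}, a ^ q = a → b ^ q = b → (a * b) ^ q = a * b := fun ha hb => by
    rw [mul_pow, ha, hb]
  have fixadd : ∀ {a b : F}, a ^ q = a → b ^ q = b → (a + b) ^ q = a + b := fun ha hb => by
    rw [add_pow_q hF, ha, hb]
  have hfixN : ∀ l : F, (ν * (l * l ^ q)) ^ q = ν * (l * l ^ q) := fun l => by
    rw [mul_pow, mul_pow, pow_q_pow_q hF, hM.ν_fix, mul_comm (l ^ q)]
  have hfixT : ∀ l m : F, (ν * (l * m ^ q + l ^ q * m)) ^ q = ν * (l * m ^ q + l ^ q * m) :=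
    fun l m => by
      rw [mul_pow, add_pow_q hF, mul_pow, mul_pow, pow_q_pow_q hF, pow_q_pow_q hF, hM.ν_fix]
      ring
  have hAN : ∀ l, A (ν * (l * l ^ q)) = ν * (R l * R l ^ q) := by
    intro l
    obtain ⟨a, rfl⟩ := hM.φ_surj l
    obtain ⟨h3, h4⟩ := hA _ (hfixN (φ a))
    rw [← hM.sq, map_mul, hM.sq, hR] at h4
    exact hM.ι_inj _ _ h3 (hfixN _) h4.symm
  have hAT : ∀ l m, A (ν * (l * m ^ q + l ^ q * m)) = ν * (R l * R m ^ q + R l ^ q * R m) := by
    intro l m
    obtain ⟨a, rfl⟩ := hM.φ_surj l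
    obtain ⟨b, rfl⟩ := hM.φ_surj m
    obtain ⟨h3, h4⟩ := hA _ (hfixT (φ a) (φ b))
    rw [← hM.comm, map_mul, map_mul, map_mul, map_inv, map_inv, hM.comm, hR, hR] at h4
    exact hM.ι_inj _ _ h3 (hfixT _ _) h4.symm
  have hAadd : ∀ c d, c ^ q = c → d ^ q = d → A (c + d) = A c + A d := by
    intro c d hc hd
    obtain ⟨h3, h4⟩ := hA _ (fixadd hc hd)
    obtain ⟨h5, h6⟩ := hA _ hc
    obtain ⟨h7, h8⟩ := hA _ hd
    rw [hM.ι_mul _ _ hc hd, map_mul, h6, h8, ← hM.ι_mul _ _ h5 h7] at h4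
    exact hM.ι_inj _ _ h3 (fixadd h5 h7) h4.symm
  suffices hAid : ∀ c, c ^ q = c → A c = c by
    intro z hz
    obtain ⟨c, hc, rfl⟩ := (hM.φ_zero z).1 ((hM.center_eq hF).1 hz)
    rw [(hA c hc).2, hAid c hc]
  -- square roots in the fixed field
  have hsqrt : ∀ c : F, c ^ q = c → ∃ a : F, a ^ q = a ∧ a * a = c := by
    intro c hc
    obtain ⟨a, ha⟩ : ∃ a : F, a * a = c := by
      obtain ⟨a, ha⟩ := surjective_frobenius F 2 c
      exact ⟨a, by rw [← ha, frobenius_def, pow_two]⟩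
    refine ⟨a, ?_, ha⟩
    have h4 : (a ^ q - a) ^ 2 = 0 := by
      have h5 : a ^ q * a ^ q = a * a := by rw [← mul_pow, ha, hc]
      linear_combination h5 + (a * a - a ^ q * a) * h2
    exact sub_eq_zero.1 (by simpa using h4)
  -- a fixed vector
  obtain ⟨u, hu0, hu⟩ : ∃ u : F, u ≠ 0 ∧ R u = u := by
    by_cases h : ∀ l, R l = l
    · exact ⟨1, one_ne_zero, h 1⟩
    · obtain ⟨l, hl⟩ := not_forall.1 h
      refine ⟨l + R l, fun e => hl ?_, by rw [hRadd, hRR, add_comm]⟩
      linear_combination e - hadd l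
  have huq : u ^ q ≠ 0 := pow_ne_zero _ hu0
  have hT0 : ∀ a : F, a ^ q = a → (u * (a * u) ^ q + u ^ q * (a * u)) = 0 := fun a ha => by
    rw [mul_pow, ha]
    linear_combination hadd (a * u * u ^ q)
  have hA0 : A 0 = 0 := by
    have := hAadd 0 0 (zero_pow_q hF) (zero_pow_q hF)
    rw [add_zero] at this
    linear_combination -this
  have hRlin : ∀ a : F, a ^ q = a → (R (a * u) / u) ^ q = R (a * u) / u := by
    intro a ha
    have h3 := hAT u (a * u)
    rw [hT0 a ha, mul_zero, hA0, hu] at h3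
    have h4 := (mul_eq_zero.1 h3.symm).resolve_left hM.ν_ne
    rw [div_pow, div_eq_div_iff huq hu0]
    linear_combination h4 - hadd (u ^ q * R (a * u))
  by_cases hall : ∀ w, R w = w → (u * w ^ q + u ^ q * w) = 0
  · -- every fixed vector lies on the line of `u`
    have hK : ∀ l, ∃ a : F, a ^ q = a ∧ l + R l = a * u := by
      intro l
      have hw : R (l + R l) = l + R l := by rw [hRadd, hRR, add_comm]
      refine ⟨(l + R l) / u, ?_, by field_simp⟩
      rw [div_pow, div_eq_div_iff huq hu0]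
      linear_combination hall _ hw - hadd (u ^ q * (l + R l))
    let ψ : F →+ F :=
      { toFun := fun l => l + R l
        map_zero' := by
          have := hRadd 0 0
          rw [add_zero] at this
          linear_combination -this
        map_add' := fun a b => by rw [hRadd]; ring }
    -- the line is fixed pointwise
    have hline : ∀ a : F, a ^ q = a → R (a * u) = a * u := by
      let L : AddSubgroup F :=
        { carrier := {x | ∃ a : F, a ^ q = a ∧ x = a * u}
          zero_mem' := ⟨0, zero_pow_q hF, by ring⟩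
          add_mem' := by
            rintro _ _ ⟨a, ha, rfl⟩ ⟨b, hb, rfl⟩
            exact ⟨a + b, fixadd ha hb, by ring⟩
          neg_mem' := by
            rintro _ ⟨a, ha, rfl⟩
            exact ⟨-a, by rw [neg_pow_q hF, ha], by ring⟩ }
      have hL : Nat.card L ≤ q := by
        refine le_trans (Nat.card_le_card_of_surjective
          (fun a : {x : F // x ^ q = x} => (⟨a.1 * u, a.1, a.2, rfl⟩ : L)) ?_) (card_fixed_le hF)
        rintro ⟨_, a, ha, rfl⟩
        exact ⟨⟨a, ha⟩, rfl⟩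
      have hker : ψ.ker ≤ L := by
        intro l hl
        have hl' : R l = l := by
          have h5 : l + R l = 0 := hl
          linear_combination h5 - hadd l
        refine ⟨l / u, ?_, by field_simp⟩
        rw [div_pow, div_eq_div_iff huq hu0]
        linear_combination hall l hl' - hadd (u ^ q * l)
      have hrange : ψ.range ≤ L := by
        rintro _ ⟨l, rfl⟩
        obtain ⟨a, ha, he⟩ := hK l
        exact ⟨a, ha, he⟩
      have hcard : Nat.card ψ.ker * Nat.card ψ.range = q * q := by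
        rw [← AddSubgroup.index_ker, AddSubgroup.card_mul_index, Nat.card_eq_fintype_card, hF,
          pow_two]
      have h1 := AddSubgroup.card_le_of_le hker
      have h3 := AddSubgroup.card_le_of_le hrange
      have hq := q_pos hF
      have heq : ψ.ker = L := AddSubgroup.eq_of_le_of_card_ge hker (by
        have hqk : q * q ≤ Nat.card ψ.ker * q :=
          hcard ▸ Nat.mul_le_mul_left _ (h3.trans hL)
        have := Nat.le_of_mul_le_mul_right hqk hq
        omega)
      intro a ha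
      have h5 : a * u ∈ ψ.ker := by rw [heq]; exact ⟨a, ha, rfl⟩
      have h6 : a * u + R (a * u) = 0 := h5
      linear_combination h6 - hadd (a * u)
    intro c hc
    have hnu : (ν * (u * u ^ q)) ^ q = ν * (u * u ^ q) := hfixN u
    obtain ⟨a, ha, haa⟩ := hsqrt (c / (ν * (u * u ^ q))) (by rw [div_pow, hc, hnu])
    have h3 := hAN (a * u)
    rw [hline a ha] at h3
    have h4 : ν * (a * u * (a * u) ^ q) = c := by
      rw [mul_pow, ha, show ν * (a * u * (a * u ^ q)) = (a * a) * (ν * (u * u ^ q)) by ring, haa,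
        div_mul_cancel₀ c (mul_ne_zero hM.ν_ne (mul_ne_zero hu0 huq))]
    rwa [h4] at h3
  -- two independent fixed vectors
  obtain ⟨w, hw, hT⟩ : ∃ w, R w = w ∧ (u * w ^ q + u ^ q * w) ≠ 0 := by
    simpa only [not_forall, exists_prop] using hall
  set t := ν * (u * w ^ q + u ^ q * w) with htdef
  have ht0 : t ≠ 0 := mul_ne_zero hM.ν_ne hT
  have htq : t ^ q = t := hfixT u w
  have hw0 : w ≠ 0 := fun e => hT (by rw [e, zero_pow_q hF]; ring)
  have hwlin : ∀ a : F, a ^ q = a → (R (a * w) / w) ^ q = R (a * w) / w := by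
    intro a ha
    have h3 := hAT w (a * w)
    have hT0' : (w * (a * w) ^ q + w ^ q * (a * w)) = 0 := by
      rw [mul_pow, ha]; linear_combination hadd (a * w * w ^ q)
    rw [hT0', mul_zero, hA0, hw] at h3
    have h4 := (mul_eq_zero.1 h3.symm).resolve_left hM.ν_ne
    rw [div_pow, div_eq_div_iff (pow_ne_zero _ hw0) hw0]
    linear_combination h4 - hadd (w ^ q * R (a * w))
  let σ : F → F := fun a => R (a * u) / u
  have hσfix : ∀ a, a ^ q = a → σ a ^ q = σ a := hRlin
  have hσu : ∀ a, R (a * u) = σ a * u := fun a => by simp only [σ]; field_simp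
  have hσ1 : σ 1 = 1 := by simp only [σ, one_mul, hu]; exact div_self hu0
  have hAσ : ∀ a b, a ^ q = a → b ^ q = b → A (a * b * t) = σ a * (R (b * w) / w) * t := by
    intro a b ha hb
    have h3 := hAT (a * u) (b * w)
    have e1 : ν * (a * u * (b * w) ^ q + (a * u) ^ q * (b * w)) = a * b * t := by
      rw [mul_pow, mul_pow, ha, hb, htdef]; ring
    have e3 : R (b * w) = R (b * w) / w * w := by field_simp
    rw [e1, hσu, e3, mul_pow, mul_pow, hσfix a ha, hwlin b hb] at h3
    rw [h3, htdef]; ring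
  have hσ' : ∀ b, b ^ q = b → R (b * w) / w = σ b := by
    intro b hb
    have h3 := hAσ 1 b (one_pow q) hb
    have h4 := hAσ b 1 hb (one_pow q)
    rw [one_mul, hσ1, one_mul] at h3
    rw [mul_one, one_mul, hw, div_self hw0, mul_one] at h4
    rw [h3] at h4
    exact mul_right_cancel₀ ht0 h4
  have hσmul : ∀ a b, a ^ q = a → b ^ q = b → σ (a * b) = σ a * σ b := by
    intro a b ha hb
    have h3 := hAσ (a * b) 1 (fixmul ha hb) (one_pow q)
    have h4 := hAσ a b ha hb
    rw [mul_one, one_mul, hw, div_self hw0, mul_one, h4, hσ' b hb] at h3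
    exact (mul_right_cancel₀ ht0 h3).symm
  have hσadd : ∀ a b, σ (a + b) = σ a + σ b := fun a b => by
    simp only [σ, add_mul, hRadd, add_div]
  have hσσ : ∀ a, σ (σ a) = a := fun a => by
    show R (σ a * u) / u = a
    rw [← hσu, hRR]; field_simp
  by_cases hid : ∀ a, a ^ q = a → σ a = a
  · intro c hc
    have h3 := hAσ (c / t) 1 (by rw [div_pow, hc, htq]) (one_pow q)
    rw [one_mul, hw, div_self hw0, mul_one, mul_one, hid _ (by rw [div_pow, hc, htq]),
      div_mul_cancel₀ c ht0] at h3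
    exact h3
  -- otherwise a vector of norm zero appears
  exfalso
  obtain ⟨e₀, he₀, hne⟩ : ∃ a, a ^ q = a ∧ σ a ≠ a := by
    simpa only [not_forall, exists_prop] using hid
  have hcfix : ∀ v, R v = v → σ (ν * (v * v ^ q) / t) = ν * (v * v ^ q) / t := by
    intro v hv
    have h3 := hAN v
    rw [hv] at h3
    have h4 := hAσ (ν * (v * v ^ q) / t) 1 (by rw [div_pow, hfixN, htq]) (one_pow q)
    rw [one_mul, hw, div_self hw0, mul_one, mul_one, div_mul_cancel₀ _ ht0, h3] at h4
    rw [eq_div_iff ht0]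
    exact h4.symm
  set c₁ := ν * (u * u ^ q) / t with hc₁
  set c₂ := ν * (w * w ^ q) / t with hc₂
  have hc1q : c₁ ^ q = c₁ := by rw [hc₁, div_pow, hfixN, htq]
  have hc2q : c₂ ^ q = c₂ := by rw [hc₂, div_pow, hfixN, htq]
  have hc10 : c₁ ≠ 0 := div_ne_zero (mul_ne_zero hM.ν_ne (mul_ne_zero hu0 huq)) ht0
  have hcσ : σ (c₁ * c₂) = c₁ * c₂ := by
    rw [hσmul _ _ hc1q hc2q, hcfix u hu, hcfix w hw]
  obtain ⟨e, he, hec⟩ : ∃ e, e ^ q = e ∧ e + σ e = c₁ * c₂ := by
    set s := e₀ + σ e₀ with hs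
    have hs0 : s ≠ 0 := fun h => hne (by rw [hs] at h; linear_combination h - hadd e₀)
    have hsq : s ^ q = s := fixadd he₀ (hσfix _ he₀)
    have hσs : σ s = s := by rw [hs, hσadd, hσσ, add_comm]
    have hcs : (c₁ * c₂ / s) ^ q = c₁ * c₂ / s := by rw [div_pow, fixmul hc1q hc2q, hsq]
    refine ⟨c₁ * c₂ / s * e₀, fixmul hcs he₀, ?_⟩
    have hσcs : σ (c₁ * c₂ / s) = c₁ * c₂ / s := by
      have h3 := hσmul (c₁ * c₂ / s) s hcs hsq
      rw [div_mul_cancel₀ _ hs0, hcσ, hσs] at h3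
      rw [eq_div_iff hs0]; exact h3.symm
    rw [hσmul _ _ hcs he₀, hσcs, ← mul_add, ← hs, div_mul_cancel₀ _ hs0]
  -- `d ↦ d² + d` has image of index two
  let K : AddSubgroup F :=
    { carrier := {x | x ^ q = x}
      zero_mem' := zero_pow_q hF
      add_mem' := fun ha hb => fixadd ha hb
      neg_mem' := fun {a} ha => by
        show (-a) ^ q = -a
        rw [neg_pow_q hF]
        exact congrArg Neg.neg ha }
  let ψ : K →+ K :=
    { toFun := fun d => ⟨d.1 * d.1 + d.1, fixadd (fixmul d.2 d.2) d.2⟩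
      map_zero' := Subtype.ext (by simp)
      map_add' := fun a b => Subtype.ext (by
        show (a.1 + b.1) * (a.1 + b.1) + (a.1 + b.1) = _ + _
        linear_combination a.1 * b.1 * h2) }
  have hψker : Nat.card ψ.ker ≤ 2 := by
    refine le_trans (Nat.card_le_card_of_injective
      (fun d : ψ.ker => decide ((d.1.1 : F) = 0)) ?_) (by simp)
    rintro ⟨⟨a, ha⟩, ha'⟩ ⟨⟨b, hb⟩, hb'⟩ hab
    have ha'' : a * a + a = 0 := congrArg Subtype.val ha'
    have hb'' : b * b + b = 0 := congrArg Subtype.val hb'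
    have key : ∀ {x : F}, x * x + x = 0 → x = 0 ∨ x = 1 := fun {x} hx => by
      rcases mul_eq_zero.1 (show x * (x + 1) = 0 by linear_combination hx) with h | h
      · exact Or.inl h
      · exact Or.inr (by linear_combination h - hadd (1 : F))
    simp only [decide_eq_decide] at hab
    apply Subtype.ext; apply Subtype.ext
    rcases key ha'' with rfl | rfl <;> rcases key hb'' with rfl | rfl <;> simp_all
  have hidx : ψ.range.index ≤ 2 := by
    have h3 := ψ.range.card_mul_index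
    have h4 : Nat.card ψ.ker * Nat.card ψ.range = Nat.card K := by
      rw [← AddSubgroup.index_ker, AddSubgroup.card_mul_index]
    have hpos : 0 < Nat.card ψ.range := Nat.card_pos
    nlinarith
  have hmem : (⟨c₁ * c₂, fixmul hc1q hc2q⟩ : K) ∈ ψ.range := by
    have hin : ∀ a : K, a ∈ ψ.range → (⟨σ a.1, hσfix _ a.2⟩ : K) ∈ ψ.range := by
      rintro ⟨a, ha⟩ ⟨⟨d, hd⟩, hda⟩
      have hda' : d * d + d = a := congrArg Subtype.val hda
      exact ⟨⟨σ d, hσfix d hd⟩, Subtype.ext (by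
        show σ d * σ d + σ d = σ a
        rw [← hda', hσadd, hσmul d d hd hd])⟩
    have hsum : (⟨c₁ * c₂, fixmul hc1q hc2q⟩ : K) = ⟨e, he⟩ + ⟨σ e, hσfix e he⟩ :=
      Subtype.ext hec.symm
    rw [hsum]
    by_cases heI : (⟨e, he⟩ : K) ∈ ψ.range
    · exact add_mem heI (hin _ heI)
    · have hσI : (⟨σ e, hσfix e he⟩ : K) ∉ ψ.range := fun h => heI (by
        have h3 := hin _ h
        simpa only [hσσ] using h3)
      have hidx2 : ψ.range.index = 2 := by
        have h0 : ψ.range.index ≠ 0 := AddSubgroup.index_ne_zero_of_finite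
        have h1 : ψ.range.index ≠ 1 := fun h1 => heI (by
          rw [AddSubgroup.index_eq_one.1 h1]; exact AddSubgroup.mem_top _)
        omega
      exact (AddSubgroup.add_mem_iff_of_index_two hidx2).2 (iff_of_false heI hσI)
  obtain ⟨⟨d, hd⟩, hd'⟩ := hmem
  have hd'' : d * d + d = c₁ * c₂ := congrArg Subtype.val hd'
  -- `v = x u + w` has norm zero
  set x := d / c₁ with hx
  have hxq : x ^ q = x := by rw [hx, div_pow, hc1q]; exact congrArg (· / c₁) hd
  have hN : ν * ((x * u + w) * (x * u + w) ^ q) = 0 := by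
    rw [add_pow_q hF, mul_pow, hxq]
    have e1 : c₁ * t = ν * (u * u ^ q) := div_mul_cancel₀ _ ht0
    have e2 : c₂ * t = ν * (w * w ^ q) := div_mul_cancel₀ _ ht0
    have e3 : x * c₁ = d := div_mul_cancel₀ _ hc10
    have key : c₁ * (ν * ((x * u + w) * (x * u ^ q + w ^ q))) =
        t * ((x * c₁) * (x * c₁) + (x * c₁) + c₁ * c₂) := by
      linear_combination (-(x * x * c₁)) * e1 - c₁ * e2 - x * c₁ * htdef
    rw [e3, hd'', hadd, mul_zero] at key
    exact (mul_eq_zero.1 key).resolve_left hc10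
  have hv : x * u + w = 0 := by
    rcases mul_eq_zero.1 hN with h | h
    · exact absurd h hM.ν_ne
    · rcases mul_eq_zero.1 h with h | h
      · exact h
      · exact pow_eq_zero_iff (by have := q_pos hF; omega) |>.1 h
  apply hT
  rw [show w = x * u by linear_combination hv - hadd (x * u)]
  exact hT0 x hxq

include hF in
theorem exists_hModel {n : ℕ} (hn : 1 ≤ n) (hq : q = 2 ^ n) :
    ∃ (P : Sylow 2 (Cfsg.SU 3 F q)) (φ : ↥(P : Subgroup (Cfsg.SU 3 F q)) → F)
      (ι : F → ↥(P : Subgroup (Cfsg.SU 3 F q))) (ν : F),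
      HModel ↥(P : Subgroup (Cfsg.SU 3 F q)) F q φ ι ν ∧ CharP F 2 := by
  classical
  haveI : Fact (Nat.Prime 2) := ⟨Nat.prime_two⟩
  haveI hchar : CharP F 2 := by
    obtain ⟨p, k, hp, hk, hc, hpk⟩ := exists_prime_pow hF
    have hp2 : p = 2 := by
      have h2 : p ∣ 2 ^ n := by rw [← hq, hpk]; exact dvd_pow_self p hk.ne'
      exact (Nat.prime_dvd_prime_iff_eq hp Nat.prime_two).1 (hp.dvd_of_dvd_pow h2)
    exact hp2 ▸ hc
  have h2F : (2 : F) = 0 := CharP.ofNat_eq_zero F 2
  have hadd : ∀ a : F, a + a = 0 := fun a => by linear_combination a * h2F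
  have hneg : ∀ a : F, -a = a := fun a => by linear_combination -(hadd a)
  obtain ⟨e, f, -, -, hee, hff, hef⟩ := exists_std_pair hF (show (0 : Fin 3) ≠ 1 by decide)
  have h : HPair q e f := ⟨hee, hff, hef⟩
  let π : (Fin 3 → F) →ₗ[F] F × F :=
    LinearMap.prod
      { toFun := fun w => herm q w e, map_add' := fun a b => herm_add_left a b e,
        map_smul' := fun c a => by simp [herm_smul_left] }
      { toFun := fun w => herm q w f, map_add' := fun a b => herm_add_left a b f,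
        map_smul' := fun c a => by simp [herm_smul_left] }
  have hπ : ∀ w, w ∈ LinearMap.ker π ↔ Orth2 q e f w := fun w => by
    simp [π, LinearMap.mem_ker, Prod.ext_iff, Orth2]
  have hW : Module.finrank F (LinearMap.ker π) = 1 := by
    have hsurj : Function.Surjective π := by
      rintro ⟨a, b⟩
      refine ⟨a • f + b • e, ?_⟩
      simp [π, herm_add_left, herm_smul_left, h.ef, h.ff, h.ee, h.fe hF]
    have h1 := LinearMap.finrank_range_add_finrank_ker π
    rw [LinearMap.range_eq_top.2 hsurj, finrank_top, Module.finrank_prod, Module.finrank_self,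
      Module.finrank_fin_fun] at h1
    omega
  haveI : Nontrivial (LinearMap.ker π) := Module.nontrivial_of_finrank_pos (R := F) (by omega)
  obtain ⟨z, hz0⟩ := exists_ne (0 : LinearMap.ker π)
  have hspan : ∀ w, Orth2 q e f w → ∃ c : F, c • (z : Fin 3 → F) = w := fun w hw => by
    obtain ⟨c, hc⟩ := (finrank_eq_one_iff_of_nonzero' z hz0).1 hW ⟨w, (hπ w).2 hw⟩
    exact ⟨c, congrArg Subtype.val hc⟩
  obtain ⟨z, hzk⟩ := z
  have hz : Orth2 q e f z := (hπ z).1 hzk
  have hzne : z ≠ 0 := fun e => hz0 (Subtype.ext e)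
  set ν := herm q z z with hν
  have hνfix : ν ^ q = ν := herm_self_fixed hF z
  have hνne : ν ≠ 0 := by
    intro h0
    refine hzne (eq_zero_of_herm hF fun x => ?_)
    obtain ⟨c, hc⟩ := hspan _ (orth2_prj hF h x)
    rw [eq_prj e f x, herm_add_right hF, herm_add_right hF, herm_smul_right hF, herm_smul_right hF,
      hz.1, hz.2, ← hc, herm_smul_right hF, ← hν, h0]
    ring
  -- the radical in `SU`
  let U : Subgroup (Cfsg.SU 3 F q) :=
    { carrier := {x | ∃ (w : Fin 3 → F) (hw : Orth2 q e f w) (b : F)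
        (hb : b + b ^ q = -herm q w w), x = Qel hF h.ee hw.1 hb}
      mul_mem' := by
        rintro _ _ ⟨w, hw, b, hb, rfl⟩ ⟨w', hw', b', hb', rfl⟩
        exact ⟨w + w', hw.add hw', _, Qel_add_cond hF hb hb',
          Qel_mul_Qel hF h.ee hw.1 hb hw'.1 hb' (Qel_add_cond hF hb hb')⟩
      one_mem' := by
        refine ⟨0, orth2_zero e f, 0, tv_cond (by rw [zero_pow_q hF, add_zero]), ?_⟩
        refine eq_of_smul_eq_SU fun x => ?_
        rw [one_smul, Qel_smul, herm_zero_right hF]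
        simp
      inv_mem' := by
        rintro _ ⟨w, hw, b, hb, rfl⟩
        refine ⟨-w, ⟨(Qel_inv_cond hF hw.1 hb).1, ?_⟩, _, (Qel_inv_cond hF hw.1 hb).2,
          Qel_inv hF h.ee hw.1 hb⟩
        rw [herm_neg_left, hw.2, neg_zero] }
  have hrep : ∀ g : U, ∃ (l b : F) (hb : b + b ^ q = -herm q (l • z) (l • z)),
      (g : Cfsg.SU 3 F q) = Qel hF h.ee (hz.smul' hF l).1 hb := by
    rintro ⟨g, w, hw, b, hb, rfl⟩
    obtain ⟨l, rfl⟩ := hspan w hw
    exact ⟨l, b, hb, rfl⟩
  choose φ β hβ hval using hrep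
  let mk : ∀ (l b : F), b + b ^ q = -herm q (l • z) (l • z) → U := fun l b hb =>
    ⟨Qel hF h.ee (hz.smul' hF l).1 hb, _, hz.smul' hF l, b, hb, rfl⟩
  have huniq : ∀ (g : U) (l b : F) (hb : b + b ^ q = -herm q (l • z) (l • z)),
      (g : Cfsg.SU 3 F q) = Qel hF h.ee (hz.smul' hF l).1 hb → φ g = l ∧ β g = b := by
    intro g l b hb hg
    obtain ⟨h1, h3⟩ := Qel_inj hF h (hz.smul' hF _) (hz.smul' hF _) ((hval g).symm.trans hg)
    exact ⟨smul_left_injective F hzne h1, h3⟩
  have htvc : ∀ {c : F}, c ^ q = c → c + c ^ q = -herm q ((0 : F) • z) ((0 : F) • z) := fun hc => by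
    rw [zero_smul, herm_zero_left, neg_zero, hc, hadd]
  let ι : F → U := fun c => if hc : c ^ q = c then mk 0 c (htvc hc) else 1
  have hιv : ∀ {c : F} (hc : c ^ q = c), (ι c : Cfsg.SU 3 F q) =
      Qel hF h.ee (hz.smul' hF 0).1 (htvc hc) := fun {c} hc => by simp only [ι, dif_pos hc, mk]
  have hext : ∀ a b : U, φ a = φ b → β a = β b → a = b := fun a b h1 h3 => Subtype.ext (by
    rw [hval a, hval b]
    exact Qel_congr hF h.ee _ _ _ _ (by rw [h1]) h3)
  have hmul : ∀ a b : U, φ (a * b) = φ a + φ b ∧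
      β (a * b) = β a + β b + φ b * φ a ^ q * ν := by
    intro a b
    have hc : (β a + β b - herm q (φ b • z) (φ a • z)) +
        (β a + β b - herm q (φ b • z) (φ a • z)) ^ q =
        -herm q ((φ a + φ b) • z) ((φ a + φ b) • z) := by
      rw [add_smul]; exact Qel_add_cond hF (hβ a) (hβ b)
    obtain ⟨h1, h3⟩ := huniq (a * b) (φ a + φ b) _ hc (by
      rw [Subgroup.coe_mul, hval a, hval b,
        Qel_mul_Qel hF h.ee (hz.smul' hF _).1 (hβ a) (hz.smul' hF _).1 (hβ b)
          (Qel_add_cond hF (hβ a) (hβ b))]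
      exact Qel_congr hF h.ee _ _ _ _ (add_smul _ _ _).symm rfl)
    refine ⟨h1, h3.trans ?_⟩
    rw [herm_smul_left, herm_smul_right hF, ← hν, sub_eq_add_neg, hneg]
    ring
  have hι : ∀ {c : F}, c ^ q = c → φ (ι c) = 0 ∧ β (ι c) = c := fun {c} hc =>
    huniq _ _ _ _ (hιv hc)
  have hbeq : ∀ a : U, β a + β a ^ q = ν * (φ a * φ a ^ q) := fun a => by
    rw [hβ a, herm_smul_left, herm_smul_right hF, hneg, ← hν]; ring
  have hfix : ∀ l : F, (ν * (l * l ^ q)) ^ q = ν * (l * l ^ q) := fun l => by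
    rw [mul_pow, mul_pow, pow_q_pow_q hF, hνfix, mul_comm (l ^ q)]
  have hfixT : ∀ l m : F, (ν * (l * m ^ q + l ^ q * m)) ^ q = ν * (l * m ^ q + l ^ q * m) :=
    fun l m => by
      rw [mul_pow, add_pow_q hF, mul_pow, mul_pow, pow_q_pow_q hF, pow_q_pow_q hF, hνfix]
      ring
  have hsurj : ∀ l : F, ∃ a : U, φ a = l := fun l => by
    obtain ⟨b, hb⟩ := exists_b hF (l • z)
    exact ⟨mk l b hb, (huniq _ l b hb rfl).1⟩
  have hM : HModel U F q φ ι ν := by
    refine ⟨fun a b => (hmul a b).1, hsurj, fun a => ⟨fun ha => ?_, ?_⟩,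
      fun a b ha hb => ?_, fun a b ha hb hab => ?_, fun c hc => ?_, fun a => ?_, fun a b => ?_,
      hνfix, hνne⟩
    · have hb0 : β a ^ q = β a := by
        have := hbeq a
        rw [ha, zero_mul, mul_zero] at this
        linear_combination this - hadd (β a)
      exact ⟨β a, hb0, hext _ _ (by rw [ha, (hι hb0).1]) (hι hb0).2.symm⟩
    · rintro ⟨c, hc, rfl⟩; exact (hι hc).1
    · have hab : (a + b) ^ q = a + b := by rw [add_pow_q hF, ha, hb]
      refine hext _ _ ?_ ?_
      · rw [(hmul _ _).1, (hι ha).1, (hι hb).1, (hι hab).1, add_zero]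
      · rw [(hmul _ _).2, (hι ha).2, (hι hb).2, (hι hab).2, (hι hb).1, zero_mul, zero_mul, add_zero]
    · rw [← (hι ha).2, hab, (hι hb).2]
    · refine Subgroup.mem_center_iff.2 fun g => hext _ _ ?_ ?_
      · rw [(hmul _ _).1, (hmul _ _).1, (hι hc).1, add_comm]
      · rw [(hmul _ _).2, (hmul _ _).2, (hι hc).1, zero_pow_q hF]; ring
    · refine hext _ _ ?_ ?_
      · rw [(hmul _ _).1, (hι (hfix _)).1, hadd]
      · rw [(hmul _ _).2, (hι (hfix _)).2, hadd, zero_add]; ring
    · have key : a * b = ι (ν * (φ a * φ b ^ q + φ a ^ q * φ b)) * (b * a) := by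
        refine hext _ _ ?_ ?_
        · rw [(hmul _ _).1, (hmul _ _).1, (hmul _ _).1, (hι (hfixT _ _)).1, zero_add, add_comm]
        · rw [(hmul _ _).2, (hmul _ _).2, (hmul _ _).2, (hι (hfixT _ _)).1, (hι (hfixT _ _)).2,
            zero_pow_q hF]
          linear_combination -(hadd (ν * φ a * φ b ^ q))
      rw [key]; group
  -- the radical is a Sylow subgroup
  have hcard : Nat.card U = q ^ 3 := by
    let D := Σ l : F, {b : F // b + b ^ q = -herm q (l • z) (l • z)}
    let ψ : D → U := fun d => mk d.1 d.2.1 d.2.2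
    have hψ : Function.Bijective ψ := by
      constructor
      · rintro ⟨l, b, hb⟩ ⟨l', b', hb'⟩ hd
        obtain ⟨h1, h3⟩ := huniq (ψ ⟨l, b, hb⟩) l b hb rfl
        obtain ⟨h4, h5⟩ := huniq (ψ ⟨l, b, hb⟩) l' b' hb' (congrArg Subtype.val hd)
        obtain rfl := h1.symm.trans h4
        obtain rfl := h3.symm.trans h5
        rfl
      · exact fun g => ⟨⟨φ g, β g, hβ g⟩, Subtype.ext (hval g).symm⟩
    have hfib : ∀ l : F, Nat.card {b : F // b + b ^ q = -herm q (l • z) (l • z)} = q := by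
      intro l
      obtain ⟨b₀, hb₀⟩ := exists_b hF (l • z)
      refine Eq.trans ?_ (card_trace_ker hF)
      refine Nat.card_congr ((Equiv.subRight b₀).subtypeEquiv fun b => ?_)
      show _ ↔ (b - b₀) + (b - b₀) ^ q = 0
      rw [sub_pow_q hF]
      constructor <;> intro hb
      · linear_combination hb - hb₀
      · linear_combination hb + hb₀
    rw [← Nat.card_eq_of_bijective ψ hψ]
    simp only [D, Nat.card_sigma, hfib, Finset.sum_const, Finset.card_univ, smul_eq_mul, hF]
    ring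
  have hSU : ∃ r : ℕ, Nat.card (Cfsg.SU 3 F q) = q ^ 3 * r ∧ ¬ 2 ∣ r := by
    have h1 := card_GU hF 3
    rw [← card_SU_mul hF (by norm_num : 1 ≤ 3)] at h1
    have h4 : (q + 1) * Nat.card (Cfsg.SU 3 F q) = (q + 1) * (q ^ 3 * ((q ^ 2 - 1) * (q ^ 3 + 1))) := by
      refine h1.trans ?_
      rw [Finset.prod_range_succ, Finset.prod_range_succ, Finset.prod_range_succ,
        Finset.prod_range_zero]
      norm_num
      ring
    refine ⟨_, Nat.eq_of_mul_eq_mul_left (Nat.succ_pos q) h4, ?_⟩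
    rw [Nat.prime_two.dvd_mul]
    have heven : 2 ∣ q := hq ▸ dvd_pow_self 2 (by omega)
    have h5 : 2 ∣ q ^ 2 := dvd_pow heven two_ne_zero
    have h6 : 2 ∣ q ^ 3 := dvd_pow heven three_ne_zero
    have h7 : 0 < q ^ 2 := pow_pos (q_pos hF) 2
    omega
  obtain ⟨r, hr, hr2⟩ := hSU
  have hr0 : r ≠ 0 := fun e => hr2 (e ▸ dvd_zero 2)
  refine ⟨Sylow.ofCard U ?_, φ, ι, ν, hM, hchar⟩
  rw [hcard, hr, Nat.factorization_mul (pow_ne_zero _ (q_pos hF).ne') hr0, Finsupp.add_apply,
    Nat.factorization_eq_zero_of_not_dvd hr2, add_zero, hq, ← pow_mul,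
    Nat.Prime.factorization_pow Nat.prime_two, Finsupp.single_eq_same]

end Cfsg.Agent.TwoFusionB
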