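import Cfsg.Prelude.Def_Transfer
import Mathlib

/-!
# Transfer into an abelian quotient under fusion control
-/

set_option autoImplicit false

namespace Cfsg.Agent.TwoFusionB

variable {G : Type*} [Group G] {H : Subgroup G} {A : Type*} [CommGroup A]

theorem transfer_eq_pow_of_control [H.FiniteIndex] (φ : H →* A) {g : G} (hg : g ∈ H)
    (key : ∀ (k : ℕ) (g₀ : G) (hk : g₀⁻¹ * g ^ k * g₀ ∈ H),
      φ ⟨g₀⁻¹ * g ^ k * g₀, hk⟩ = φ ⟨g, hg⟩ ^ k) :
    MonoidHom.transfer φ g = φ ⟨g, hg⟩ ^ H.index := by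
  classical
  let := H.fintypeQuotientOfFiniteIndex
  rw [MonoidHom.transfer_eq_prod_quotient_orbitRel_zpowers_quot,
    Subgroup.index_eq_sum_minimalPeriod H g, ← Finset.prod_pow_eq_pow_sum]
  exact Finset.prod_congr rfl fun q _ => key _ _ _

/-- A `p`-element killed by every transfer is trivial in the target `p`-group. -/
theorem map_eq_one_of_control [H.FiniteIndex] (φ : H →* A) {p : ℕ} (hp : p.Prime)
    (hidx : Nat.Coprime p H.index) {g : G} (hg : g ∈ H) (hgp : ∃ k : ℕ, orderOf g = p ^ k)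
    (key : ∀ (k : ℕ) (g₀ : G) (hk : g₀⁻¹ * g ^ k * g₀ ∈ H),
      φ ⟨g₀⁻¹ * g ^ k * g₀, hk⟩ = φ ⟨g, hg⟩ ^ k)
    (hker : MonoidHom.transfer φ g = 1) : φ ⟨g, hg⟩ = 1 := by
  have h2 := Nat.le_of_lt hp.one_lt
  rw [transfer_eq_pow_of_control φ hg key] at hker
  obtain ⟨k, hk⟩ := hgp
  have h1 : φ ⟨g, hg⟩ ^ (p ^ k) = 1 := by
    rw [← map_pow, ← φ.map_one]
    congr 1
    exact Subtype.ext (by simp [← hk, pow_orderOf_eq_one])
  rw [← orderOf_eq_one_iff]
  exact Nat.eq_one_of_dvd_coprimes (Nat.Coprime.pow_left k hidx)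
    (orderOf_dvd_of_pow_eq_one h1) (orderOf_dvd_of_pow_eq_one hker)

end Cfsg.Agent.TwoFusionB
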