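import Cfsg.Agent.TwoFusionB.ThreeInvol
import Cfsg.Agent.Lib.SuzukiTwo.Extension

/-!
# Uniqueness of the group of order 64 with three involutions and a transitive automorphism
-/

set_option autoImplicit false

namespace Cfsg.Agent.TwoFusionB

open Subgroup

/-- Order 64, class two, exponent four, three involutions moved by an element of order three. -/
structure Shape64 {T : Type*} [Group T] (ψ : MulAut T) : Prop where
  three : ThreeInvol T
  card : Nat.card T = 64
  sq : ∀ x : T, x * x * (x * x) = 1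
  comm : ∀ x y : T, x * y * x⁻¹ * y⁻¹ * (x * y * x⁻¹ * y⁻¹) = 1
  cube : ∀ x : T, ψ (ψ (ψ x)) = x
  fix : ∀ x : T, x * x = 1 → ψ x = x → x = 1

/-- Powers with exponent in `ZMod 2`. -/
def pw2 {Q : Type*} [Monoid Q] (x : Q) (a : ZMod 2) : Q := if a = 0 then 1 else x

theorem pw2_zero {Q : Type*} [Monoid Q] (x : Q) : pw2 x 0 = 1 := if_pos rfl

theorem pw2_one {Q : Type*} [Monoid Q] (x : Q) : pw2 x 1 = x := if_neg (by decide)

theorem zmod2_cases (a : ZMod 2) : a = 0 ∨ a = 1 := by revert a; decide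

theorem pw2_add {Q : Type*} [Monoid Q] {x : Q} (hx : x * x = 1) (a b : ZMod 2) :
    pw2 x (a + b) = pw2 x a * pw2 x b := by
  rcases zmod2_cases a with rfl | rfl <;> rcases zmod2_cases b with rfl | rfl <;>
    simp [pw2_zero, pw2_one, hx, show (1 + 1 : ZMod 2) = 0 by decide]

theorem map_pw2 {Q R : Type*} [Monoid Q] [Monoid R] (f : Q →* R) (x : Q) (a : ZMod 2) :
    f (pw2 x a) = pw2 (f x) a := by
  rcases zmod2_cases a with rfl | rfl <;> simp [pw2_zero, pw2_one]

/-- The squaring function of the group, in coordinates. -/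
def sq64 (v : (ZMod 2 × ZMod 2) × ZMod 2 × ZMod 2) : ZMod 2 × ZMod 2 :=
  (v.1.1 + v.2.1 + v.1.1 * v.2.2 + v.1.2 * v.2.1 + v.1.2 * v.2.2,
    v.1.2 + v.2.2 + v.1.1 * v.2.1 + v.1.2 * v.2.2)

theorem sq64_eq_zero : ∀ v, sq64 v = 0 → v = 0 := by decide

/-- The commutator map. -/
def cm {T : Type*} [Group T] (x y : T) : T := x * y * x⁻¹ * y⁻¹

namespace Shape64

variable {T : Type*} [Group T] {ψ : MulAut T} (h : Shape64 ψ)
include h

theorem cm_center (x y : T) : cm x y ∈ center T := h.three.cent _ (h.comm x y)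

theorem cm_comm (x y : T) : cm x y = cm y x := by
  rw [← ThreeInvol.inv_of_invol (x := cm y x) (h.comm y x)]
  simp only [cm]; group

theorem cm_mul (x y y' : T) : cm x (y * y') = cm x y * cm x y' := by
  calc cm x (y * y') = x * y * x⁻¹ * (cm x y' * y⁻¹) := by simp only [cm]; group
    _ = x * y * x⁻¹ * (y⁻¹ * cm x y') := by rw [mem_center_iff.1 (h.cm_center x y') y⁻¹]
    _ = _ := by simp only [cm]; group

theorem cm_mul_left (x x' y : T) : cm (x * x') y = cm x y * cm x' y := by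
  rw [h.cm_comm, h.cm_mul, h.cm_comm y, h.cm_comm y]

theorem mul_sq' (x y : T) : x * y * (x * y) = cm x y * (x * x * (y * y)) := by
  rw [h.cm_comm x y]
  exact ThreeInvol.mul_sq_of_comm_mem (by simp only [cm]; group)
    (mem_center_iff.1 (h.cm_center y x) x)

theorem psi_psi_of_invol {q : T} (hq : q * q = 1) : ψ (ψ q) = q * ψ q := by
  have h1 : ψ q * ψ q = 1 := by rw [← map_mul, hq, map_one]
  have h2 : ψ (ψ q) * ψ (ψ q) = 1 := by rw [← map_mul, h1, map_one]
  have hc : ∀ t, q * t = t * q := fun t => (mem_center_iff.1 (h.three.cent q hq) t).symm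
  have h3 : q * ψ q * ψ (ψ q) = 1 := by
    refine h.fix _ (h.three.invol_mul (h.three.invol_mul hq h1) h2) ?_
    rw [map_mul, map_mul, h.cube q, mul_assoc q, hc]
  rw [← ThreeInvol.inv_of_invol (h.three.invol_mul hq h1)]
  exact eq_inv_of_mul_eq_one_right h3

theorem inv_shape : Shape64 ψ⁻¹ := by
  refine ⟨h.three, h.card, h.sq, h.comm, fun x => ?_, fun x hx he => h.fix x hx ?_⟩
  · apply ψ.injective; apply ψ.injective; apply ψ.injective
    rw [h.cube x, MulAut.apply_inv_self, MulAut.apply_inv_self, MulAut.apply_inv_self]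
  · conv_lhs => rw [← he]
    exact MulAut.apply_inv_self T ψ x

theorem inv_apply_eq (x : T) : ψ⁻¹ x = ψ (ψ x) := by
  apply ψ.injective
  rw [MulAut.apply_inv_self, h.cube x]

theorem omega_normal : h.three.omega.Normal := ⟨fun x hx g => by
  have hc := mem_center_iff.1 (h.three.cent x hx) g
  have e : g * x * g⁻¹ = x := by rw [hc]; group
  rw [e]; exact hx⟩

variable [Finite T]

/-- A normalised basis. -/
theorem exists_basis : ∃ (χ : MulAut T) (u w : T), Shape64 χ ∧ u * u ≠ 1 ∧ w * w = u * u ∧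
    cm u w = χ (u * u) ∧ cm u (χ w) = u * u ∧ cm (χ u) w = u * u := by
  classical
  haveI := Fintype.ofFinite T
  haveI := h.omega_normal
  obtain ⟨u, hu⟩ : ∃ u : T, u * u ≠ 1 := by
    by_contra! hall
    have := h.three.card4
    rw [Nat.card_congr (Equiv.subtypeUnivEquiv hall), h.card] at this
    omega
  set z := u * u with hz
  have hz2 : z * z = 1 := h.sq u
  have hψz2 : ψ z * ψ z = 1 := by rw [← map_mul, hz2, map_one]
  have hψz1 : ψ z ≠ 1 := by rwa [Ne, EmbeddingLike.map_eq_one_iff]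
  have hne : z ≠ ψ z := fun e => hu (h.fix z hz2 e.symm)
  let ρ := QuotientGroup.mk' h.three.omega
  have hρ1 : ∀ x : T, ρ x = 1 ↔ x * x = 1 := fun x => QuotientGroup.eq_one_iff x
  have hρ2 : ∀ a : T, ρ a * ρ a = 1 := fun a => by rw [← map_mul, hρ1]; exact h.sq a
  have hρinv : ∀ a : T, (ρ a)⁻¹ = ρ a := fun a => inv_eq_of_mul_eq_one_right (hρ2 a)
  have hρc : ∀ a b : T, ρ a * ρ b = ρ b * ρ a := fun a b => by
    rw [← hρinv a, ← hρinv b, ← mul_inv_rev, ← map_mul, hρinv, map_mul, hρinv a, hρinv b]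
  have hρψ : ∀ {a b : T}, ρ a = ρ b → ρ (ψ a) = ρ (ψ b) := fun {a b} e => by
    have e' : (a⁻¹ * b) * (a⁻¹ * b) = 1 := QuotientGroup.eq.1 e
    refine QuotientGroup.eq.2 ?_
    show (ψ a)⁻¹ * ψ b * ((ψ a)⁻¹ * ψ b) = 1
    rw [← map_inv, ← map_mul, ← map_mul, e', map_one]
  have hsqρ : ∀ {a b : T}, ρ a = ρ b → a * a = b * b := fun {a b} e => by
    have e' : (a⁻¹ * b) * (a⁻¹ * b) = 1 := QuotientGroup.eq.1 e
    have hc : cm a (a⁻¹ * b) = 1 := by
      simp only [cm, mem_center_iff.1 (h.three.cent _ e') a]; group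
    rw [show b = a * (a⁻¹ * b) by group, h.mul_sq', hc, e', one_mul, mul_one]
  have hcmρ : ∀ (c : T) {a b : T}, ρ a = ρ b → cm c a = cm c b := fun c {a b} e => by
    have e' : (a⁻¹ * b) * (a⁻¹ * b) = 1 := QuotientGroup.eq.1 e
    have hc : cm c (a⁻¹ * b) = 1 := by
      simp only [cm, mem_center_iff.1 (h.three.cent _ e') c]; group
    rw [show b = a * (a⁻¹ * b) by group, h.cm_mul, hc, mul_one]
  have hρψψ : ∀ a : T, ρ (ψ (ψ a)) = ρ a * ρ (ψ a) := by
    intro a
    set t := a * ψ a * ψ (ψ a) with ht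
    have h1 : ρ (ψ t) = ρ t := by
      simp only [ht, map_mul, h.cube]
      rw [mul_assoc (ρ a), ← map_mul ρ (ψ a), hρc]
    have h3 : t * t = 1 := by
      refine h.fix _ (h.sq t) ?_
      rw [map_mul]; exact hsqρ h1
    have h4 := (hρ1 t).2 h3
    rw [ht, map_mul, map_mul] at h4
    rw [eq_inv_of_mul_eq_one_right h4, ← map_mul, hρinv]
  -- the coset of a second generator
  have hcardQ : Nat.card (T ⧸ h.three.omega) = 16 := by
    have h4 := Subgroup.card_eq_card_quotient_mul_card_subgroup h.three.omega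
    rw [h.card, h.three.card_omega] at h4
    omega
  obtain ⟨w₀, hw1, hwu, hwv, hwuv⟩ : ∃ w₀ : T, ρ w₀ ≠ 1 ∧ ρ w₀ ≠ ρ u ∧ ρ w₀ ≠ ρ (ψ u) ∧
      ρ w₀ ≠ ρ (ψ (ψ u)) := by
    by_contra hno
    have hle : (Finset.univ : Finset (T ⧸ h.three.omega)).card ≤
        ({1, ρ u, ρ (ψ u), ρ (ψ (ψ u))} : Finset (T ⧸ h.three.omega)).card := by
      refine Finset.card_le_card fun q _ => ?_
      obtain ⟨w, rfl⟩ := QuotientGroup.mk'_surjective _ q
      simp only [Finset.mem_insert, Finset.mem_singleton]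
      by_contra hq
      simp only [not_or] at hq
      exact hno ⟨w, hq.1, hq.2.1, hq.2.2.1, hq.2.2.2⟩
    rw [Finset.card_univ, ← Nat.card_eq_fintype_card, hcardQ] at hle
    exact absurd (hle.trans Finset.card_le_four) (by norm_num)
  -- rotate it
  obtain ⟨w, hwz, hw1, hwu, hwv, hwuv⟩ : ∃ w : T, w * w = z ∧ ρ w ≠ 1 ∧ ρ w ≠ ρ u ∧
      ρ w ≠ ρ (ψ u) ∧ ρ w ≠ ρ (ψ (ψ u)) := by
    have back : ∀ {a b : T}, ρ (ψ a) = ρ b → ρ a = ρ (ψ (ψ b)) := fun {a b} e => by
      have h1 := hρψ (hρψ e); rwa [h.cube] at h1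
    have back2 : ∀ {a b : T}, ρ (ψ (ψ a)) = ρ b → ρ a = ρ (ψ b) := fun {a b} e => by
      have h1 := hρψ e; rwa [h.cube] at h1
    have hb : ρ w₀ ≠ ρ (ψ (ψ (ψ u))) := by rwa [h.cube]
    have hb' : ρ w₀ ≠ ρ (ψ (ψ (ψ (ψ u)))) := by rwa [h.cube]
    have hone : ∀ {a : T}, ρ a = 1 → ρ a = ρ 1 := fun ha => ha.trans (map_one ρ).symm
    rcases h.three.eq_or hz2 hψz2 (h.sq w₀) hu hψz1 hne with e | e | e | e
    · exact absurd ((hρ1 w₀).2 e) hw1
    · exact ⟨w₀, e, hw1, hwu, hwv, hwuv⟩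
    · refine ⟨ψ (ψ w₀), ?_, fun e' => hw1 ?_, fun e' => hwv (back2 e'), fun e' => hwuv (back2 e'),
        fun e' => hb (back2 e')⟩
      · rw [← map_mul, ← map_mul, e, h.cube]
      · rw [back2 (hone e'), map_one ψ, map_one ρ]
    · refine ⟨ψ w₀, ?_, fun e' => hw1 ?_, fun e' => hwuv (back e'), fun e' => hb (back e'),
        fun e' => hb' (back e')⟩
      · rw [← map_mul, e, ← h.psi_psi_of_invol hz2, h.cube]
      · rw [back (hone e'), map_one ψ, map_one ψ, map_one ρ]
  set x := cm u w with hx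
  have hcψ : ∀ a b : T, ψ (cm a b) = cm (ψ a) (ψ b) := fun a b => by simp [cm]
  have hdiag : ∀ t : T, cm t (ψ t) = 1 := by
    intro t
    have h1 := hsqρ (a := t * ψ t) (b := ψ (ψ t)) (by rw [map_mul, hρψψ])
    rw [h.mul_sq', ← map_mul, ← map_mul, ← map_mul, h.psi_psi_of_invol (h.sq t)] at h1
    exact mul_eq_right.1 h1
  set y := cm u (ψ w) with hy
  have hy' : cm w (ψ u) = y := by
    have h1 := hdiag (u * w)
    rw [map_mul, h.cm_mul_left, h.cm_mul, h.cm_mul, hdiag u, hdiag w, one_mul, mul_one, ← hy] at h1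
    rw [eq_inv_of_mul_eq_one_right h1, ThreeInvol.inv_of_invol (x := y) (h.comm _ _)]
  have hyx : y = ψ (ψ x) := by
    have h1 : ψ (ψ y) = ψ x := by
      rw [h.psi_psi_of_invol (q := y) (h.comm _ _), hy, hcψ u (ψ w), hcmρ (ψ u) ((hρψψ w).trans (map_mul ρ _ _).symm),
        h.cm_mul, h.cm_comm (ψ u) w, hy', ← hy, ← hcψ, ← hx, ← mul_assoc,
        show y * y = 1 from h.comm u (ψ w), one_mul]
    have h5 := congrArg ψ h1
    rwa [h.cube] at h5
  have hq : u * w * (u * w) = x := by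
    rw [h.mul_sq', hwz, ← hz, hz2, mul_one]
  rcases h.three.eq_or hz2 hψz2 (h.comm u w) hu hψz1 hne with e | e | e | e <;>
    change cm u w = _ at e <;> rw [← hx] at e
  · exfalso
    rw [e] at hq
    have h1 := (hρ1 _).2 hq
    rw [map_mul] at h1
    exact hwu (by rw [eq_inv_of_mul_eq_one_right h1, hρinv])
  · exfalso
    have h1 : u * ψ w * (u * ψ w) = 1 := by
      rw [h.mul_sq', ← hy, hyx, e, ← hz, ← map_mul, hwz, h.psi_psi_of_invol hz2]
      exact h.three.invol_mul hz2 hψz2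
    have h5 := (hρ1 _).2 h1
    rw [map_mul] at h5
    have h6 : ρ (ψ w) = ρ u := by rw [eq_inv_of_mul_eq_one_right h5, hρinv]
    have h7 := hρψ (hρψ h6)
    rw [h.cube] at h7
    exact hwuv h7
  · refine ⟨ψ, u, w, h, hu, hwz, e, ?_, ?_⟩
    · rw [← hy, hyx, e, h.cube]
    · rw [h.cm_comm, hy', hyx, e, h.cube]
  · have hxy : x * y = z := by
      rw [hyx, e, ← h.psi_psi_of_invol hz2, h.cube, h.psi_psi_of_invol hz2, mul_assoc, hψz2, mul_one]
    refine ⟨ψ⁻¹, u, w, h.inv_shape, hu, hwz, ?_, ?_, ?_⟩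
    · rw [h.inv_apply_eq, h.psi_psi_of_invol hz2]; exact e
    · rw [h.inv_apply_eq, hcmρ u ((hρψψ w).trans (map_mul ρ _ _).symm), h.cm_mul, ← hx, ← hy, hxy]
    · rw [h.inv_apply_eq, h.cm_comm, hcmρ w ((hρψψ u).trans (map_mul ρ _ _).symm), h.cm_mul,
        h.cm_comm w u, ← hx, hy', hxy]

/-- Coordinates in which squaring is `sq64`. -/
theorem exists_coords : ∃ (c : T → (ZMod 2 × ZMod 2) × ZMod 2 × ZMod 2) (e : ZMod 2 × ZMod 2 → T),
    (∀ x y, c (x * y) = c x + c y) ∧ (∀ v, ∃ x, c x = v) ∧ (∀ x, c x = 0 ↔ ∃ w, e w = x) ∧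
      (∀ v w, e (v + w) = e v * e w) ∧ Function.Injective e ∧ (∀ w g, g * e w = e w * g) ∧
      ∀ x, x * x = e (sq64 (c x)) := by
  classical
  obtain ⟨χ, u, w, hχ, hu, hwz, huw, huv, hvw⟩ := h.exists_basis
  haveI := h.omega_normal
  haveI := Fintype.ofFinite T
  set z := u * u with hz
  have hz2 : z * z = 1 := h.sq u
  set z' := χ z with hz'
  have hz'2 : z' * z' = 1 := by rw [hz', ← map_mul, hz2, map_one]
  have hz'1 : z' ≠ 1 := by rwa [hz', Ne, EmbeddingLike.map_eq_one_iff]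
  have hne : z ≠ z' := fun e => hu (hχ.fix z hz2 e.symm)
  let e : ZMod 2 × ZMod 2 → T := fun v => pw2 z v.1 * pw2 z' v.2
  have he2 : ∀ v, e v * e v = 1 := by
    rintro ⟨a, b⟩
    rcases zmod2_cases a with rfl | rfl <;> rcases zmod2_cases b with rfl | rfl <;>
      simp only [e, pw2_zero, pw2_one, one_mul, mul_one, hz2, hz'2]
    exact h.three.invol_mul hz2 hz'2
  have hec : ∀ v g, g * e v = e v * g := fun v g =>
    mem_center_iff.1 (h.three.cent _ (he2 v)) g
  have hzc : ∀ (a : ZMod 2) (g : T), g * pw2 z a = pw2 z a * g := fun a g => by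
    simpa [e, pw2_zero] using hec (a, 0) g
  have headd : ∀ v w, e (v + w) = e v * e w := by
    intro v v'
    show pw2 z (v.1 + v'.1) * pw2 z' (v.2 + v'.2) = _
    rw [pw2_add hz2, pw2_add hz'2]
    calc pw2 z v.1 * pw2 z v'.1 * (pw2 z' v.2 * pw2 z' v'.2)
        = pw2 z v.1 * (pw2 z v'.1 * pw2 z' v.2) * pw2 z' v'.2 := by group
      _ = pw2 z v.1 * (pw2 z' v.2 * pw2 z v'.1) * pw2 z' v'.2 := by rw [hzc]
      _ = _ := by simp only [e]; group
  have he0 : ∀ v, e v = 1 → v = 0 := by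
    rintro ⟨a, b⟩ hv
    rcases zmod2_cases a with rfl | rfl <;> rcases zmod2_cases b with rfl | rfl <;>
      simp only [e, pw2_zero, pw2_one, one_mul, mul_one] at hv
    · rfl
    · exact absurd hv hz'1
    · exact absurd hv hu
    · exact absurd ((eq_inv_of_mul_eq_one_left hv).trans (ThreeInvol.inv_of_invol hz'2)) hne
  have heinj : Function.Injective e := fun v v' hvv => by
    have h1 : e (v + v') = 1 := by rw [headd, hvv]; exact he2 v'
    have h5 := he0 _ h1
    have h6 : ∀ p q : ZMod 2 × ZMod 2, p + q = 0 → p = q := by decide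
    exact h6 v v' h5
  have hez : z = e (1, 0) := by simp [e, pw2_zero, pw2_one]
  have hez' : z' = e (0, 1) := by simp [e, pw2_zero, pw2_one]
  let ρ := QuotientGroup.mk' h.three.omega
  have hρ1 : ∀ x : T, ρ x = 1 ↔ x * x = 1 := fun x => QuotientGroup.eq_one_iff x
  have hρ2 : ∀ a : T, ρ a * ρ a = 1 := fun a => by rw [← map_mul, hρ1]; exact h.sq a
  have hρc : ∀ a b : T ⧸ h.three.omega, a * b = b * a := fun a b => by
    obtain ⟨a, rfl⟩ := QuotientGroup.mk'_surjective _ a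
    obtain ⟨b, rfl⟩ := QuotientGroup.mk'_surjective _ b
    have hi : ∀ t : T, (ρ t)⁻¹ = ρ t := fun t => inv_eq_of_mul_eq_one_right (hρ2 t)
    show ρ a * ρ b = ρ b * ρ a
    rw [← hi a, ← hi b, ← mul_inv_rev, ← map_mul, hi, map_mul, hi a, hi b]
  let R : (ZMod 2 × ZMod 2) × ZMod 2 × ZMod 2 → T := fun v =>
    pw2 u v.1.1 * pw2 (χ u) v.1.2 * (pw2 w v.2.1 * pw2 (χ w) v.2.2)
  have hcm1 : ∀ x : T, cm x 1 = 1 ∧ cm 1 x = 1 := fun x => by simp [cm]
  have hcmp : ∀ (x y : T) (a b : ZMod 2), cm (pw2 x a) (pw2 y b) = pw2 (cm x y) (a * b) := by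
    intro x y a b
    rcases zmod2_cases a with rfl | rfl <;> rcases zmod2_cases b with rfl | rfl <;>
      simp [pw2_zero, pw2_one, (hcm1 x).1, (hcm1 y).2, hcm1]
  have hpair : ∀ (t : T), t * t = z → ∀ a b : ZMod 2,
      pw2 t a * pw2 (χ t) b * (pw2 t a * pw2 (χ t) b) = e (a, b) := by
    intro t ht a b
    have htt : χ t * χ t = z' := by rw [← map_mul, ht]
    have hd : cm t (χ t) = 1 := by
      have hρψψ : ∀ a : T, ρ (χ (χ a)) = ρ (a * χ a) := by
        intro a
        set s := a * χ a * χ (χ a) with hs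
        have h1 : χ s = s * (s⁻¹ * χ s) := by group
        have h3 : s * s = 1 := by
          refine hχ.fix _ (h.sq s) ?_
          have h4 : ρ (χ s) = ρ s := by
            simp only [hs, map_mul, hχ.cube]
            rw [hρc _ (ρ a), ← mul_assoc]
          have e' : (s⁻¹ * χ s) * (s⁻¹ * χ s) = 1 := QuotientGroup.eq.1 h4.symm
          have hc : cm s (s⁻¹ * χ s) = 1 := by
            simp only [cm, mem_center_iff.1 (h.three.cent _ e') s]; group
          rw [map_mul, h1, h.mul_sq', hc, e', one_mul, mul_one]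
        have h4 := (hρ1 s).2 h3
        rw [hs, map_mul] at h4
        rw [eq_inv_of_mul_eq_one_right h4, inv_eq_of_mul_eq_one_right (hρ2 _)]
      have e' : ((t * χ t)⁻¹ * χ (χ t)) * ((t * χ t)⁻¹ * χ (χ t)) = 1 :=
        QuotientGroup.eq.1 (hρψψ t).symm
      have hc : cm (t * χ t) ((t * χ t)⁻¹ * χ (χ t)) = 1 := by
        simp only [cm, mem_center_iff.1 (h.three.cent _ e') (t * χ t)]; group
      have h5 : χ (χ t) * χ (χ t) = t * χ t * (t * χ t) := by
        conv_lhs => rw [show χ (χ t) = t * χ t * ((t * χ t)⁻¹ * χ (χ t)) by group]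
        rw [h.mul_sq', hc, e', one_mul, mul_one]
      rw [h.mul_sq', ← map_mul, ← map_mul, hχ.psi_psi_of_invol (h.sq t)] at h5
      exact mul_eq_right.1 h5.symm
    rw [h.mul_sq', hcmp, hd]
    rcases zmod2_cases a with rfl | rfl <;> rcases zmod2_cases b with rfl | rfl <;>
      simp [e, pw2_zero, pw2_one, ht, htt]
  have hsqR : ∀ v, R v * R v = e (sq64 v) := by
    rintro ⟨⟨a, b⟩, c, d⟩
    show pw2 u a * pw2 (χ u) b * (pw2 w c * pw2 (χ w) d) *
      (pw2 u a * pw2 (χ u) b * (pw2 w c * pw2 (χ w) d)) = _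
    rw [h.mul_sq', hpair u rfl, hpair w hwz, h.cm_mul_left, h.cm_mul, h.cm_mul, hcmp, hcmp, hcmp,
      hcmp, huw, huv, hvw]
    have hlast : cm (χ u) (χ w) = z * z' := by
      have : cm (χ u) (χ w) = χ (cm u w) := by simp [cm]
      rw [this, huw]
      exact hχ.psi_psi_of_invol hz2
    have e1 : ∀ t, pw2 z t = e (t, 0) := fun t => by simp [e, pw2_zero]
    have e2 : ∀ t, pw2 z' t = e (0, t) := fun t => by simp [e, pw2_zero]
    have e3 : ∀ t, pw2 (z * z') t = e (t, t) := fun t => by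
      rcases zmod2_cases t with rfl | rfl <;> simp [e, pw2_zero, pw2_one]
    rw [hlast, e1, e1, e2, e3, ← headd, ← headd, ← headd, ← headd, ← headd]
    congr 1
    simp only [sq64, Prod.ext_iff, Prod.fst_add, Prod.snd_add]
    constructor <;> ring
  let κ : (ZMod 2 × ZMod 2) × ZMod 2 × ZMod 2 → T ⧸ h.three.omega := fun v => ρ (R v)
  have hκ : ∀ v, κ v = pw2 (ρ u) v.1.1 * pw2 (ρ (χ u)) v.1.2 *
      (pw2 (ρ w) v.2.1 * pw2 (ρ (χ w)) v.2.2) := fun v => by
    simp only [κ, R, map_mul, map_pw2]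
  have hκadd : ∀ v v', κ (v + v') = κ v * κ v' := by
    intro v v'
    letI : CommGroup (T ⧸ h.three.omega) := { (inferInstance : Group (T ⧸ h.three.omega)) with
      mul_comm := hρc }
    rw [hκ, hκ, hκ]
    simp only [Prod.fst_add, Prod.snd_add, pw2_add (hρ2 _)]
    ac_rfl
  have hκinj : Function.Injective κ := fun v v' hvv => by
    have h1 : κ (v + v') = 1 := by rw [hκadd, hvv]; exact hρ2 _
    have h5 : R (v + v') * R (v + v') = 1 := (hρ1 _).1 h1
    rw [hsqR] at h5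
    have h6 := sq64_eq_zero _ (he0 _ h5)
    have h7 : ∀ p q : (ZMod 2 × ZMod 2) × ZMod 2 × ZMod 2, p + q = 0 → p = q := by decide
    exact h7 v v' h6
  have hκbij : Function.Bijective κ := by
    refine hκinj.bijective_of_nat_card_le ?_
    have h4 := Subgroup.card_eq_card_quotient_mul_card_subgroup h.three.omega
    rw [h.card, h.three.card_omega] at h4
    simp [Nat.card_eq_fintype_card] at h4 ⊢
    omega
  let K := Equiv.ofBijective κ hκbij
  refine ⟨fun t => K.symm (ρ t), e, fun t t' => K.injective ?_, fun v => ⟨R v, ?_⟩, fun t => ?_,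
    headd, heinj, hec, fun t => ?_⟩
  · show K (K.symm _) = κ (_ + _)
    rw [Equiv.apply_symm_apply, hκadd, map_mul]
    exact (congrArg₂ (· * ·) (K.apply_symm_apply _) (K.apply_symm_apply _)).symm
  · exact K.symm_apply_apply v
  · have hκ0 : K 0 = 1 := by
      show κ 0 = 1
      simp [hκ, pw2_zero]
    rw [Equiv.symm_apply_eq, hκ0, hρ1]
    constructor
    · intro ht
      have hcard : Fintype.card (ZMod 2 × ZMod 2) = 4 := by simp
      have hsurj : Function.Bijective (fun v => (⟨e v, he2 v⟩ : {x : T // x * x = 1})) :=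
        Function.Injective.bijective_of_nat_card_le
          (fun v v' hvv => heinj (congrArg Subtype.val hvv))
          (by rw [h.three.card4, Nat.card_eq_fintype_card, hcard])
      obtain ⟨v, hv⟩ := hsurj.2 ⟨t, ht⟩
      exact ⟨v, congrArg Subtype.val hv⟩
    · rintro ⟨v, rfl⟩; exact he2 v
  · set v := K.symm (ρ t) with hv
    have h1 : ρ (R v) = ρ t := K.apply_symm_apply _
    have e' : ((R v)⁻¹ * t) * ((R v)⁻¹ * t) = 1 := QuotientGroup.eq.1 h1
    have hc : cm (R v) ((R v)⁻¹ * t) = 1 := by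
      simp only [cm, mem_center_iff.1 (h.three.cent _ e') (R v)]; group
    rw [← hsqR]
    conv_lhs => rw [show t = R v * ((R v)⁻¹ * t) by group]
    rw [h.mul_sq', hc, e', one_mul, mul_one]

omit h in
/-- Two such groups are isomorphic. -/
theorem nonempty_mulEquiv {A B : Type*} [Group A] [Finite A] [Group B] [Finite B] {α : MulAut A}
    {β : MulAut B} (ha : Shape64 α) (hb : Shape64 β) : Nonempty (A ≃* B) := by
  obtain ⟨c, e, h1, h2, h3, h4, h5, h6, h7⟩ := ha.exists_coords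
  obtain ⟨c', e', k1, k2, k3, k4, k5, k6, k7⟩ := hb.exists_coords
  exact Cfsg.Agent.SuzukiTwo.iso_of_same_squares c c' e e' h1 k1 h2 k2 h3 k3 h4 k4 h5 k5 h6 k6
    sq64 h7 k7

end Shape64

end Cfsg.Agent.TwoFusionB
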