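import Cfsg.Agent.TwoFusionB.MacWilliamsFrame

/-!
The four generator theorem: squares generate a subgroup of index at most sixteen.
-/

set_option autoImplicit false

namespace Cfsg.Agent.TwoFusionB.MW

open Subgroup

theorem sq_index {K : Type*} [Group K] [Finite K] {T : Subgroup K} {ε : Type*} [Finite ε]
    (hε : Nat.card ε ≤ 4) (φ : K → K → ε) (hφ : ∀ r x y, r * r = x * x → r * r = y * y →
      φ r x = φ r y → x = y) (hsq : ∀ k, k * k ∈ T) :
    T.index ≤ 4 ∧ (T.index = 4 → ∀ m ∈ T, ∃ k, k * k = m) := by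
  classical
  let S := {m : T // ∃ k : K, k * k = m}
  let r : S → K := fun s => s.2.choose
  have hr : ∀ s : S, r s * r s = s.1 := fun s => s.2.choose_spec
  let s : K → S := fun k => ⟨⟨k * k, hsq k⟩, k, rfl⟩
  have hf : Function.Injective fun k => (s k, φ (r (s k)) k) := by
    intro x y h
    obtain ⟨h1, h2⟩ := Prod.ext_iff.1 h
    dsimp only at h1 h2
    refine hφ (r (s x)) x y (hr (s x)) ?_ (h2.trans (by rw [h1]))
    exact (hr (s x)).trans (congrArg (fun z : S => ((z.1 : T) : K)) h1)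
  have h1 := Nat.card_le_card_of_injective _ hf
  rw [Nat.card_prod, ← T.card_mul_index] at h1
  have h2 : Nat.card S ≤ Nat.card T := Nat.card_le_card_of_injective _ Subtype.val_injective
  have h3 : Nat.card S * Nat.card ε ≤ Nat.card S * 4 := Nat.mul_le_mul_left _ hε
  refine ⟨Nat.le_of_mul_le_mul_left ((h1.trans h3).trans (Nat.mul_le_mul_right 4 h2))
    Nat.card_pos, fun h4 m hm => ?_⟩
  rw [h4] at h1
  by_contra hcon
  have h5 : Nat.card S < Nat.card T :=
    Finite.card_subtype_lt (p := fun m : T => ∃ k : K, k * k = m) (x := ⟨m, hm⟩) hcon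
  omega

theorem eq_of_add_zero : ∀ a b : W, a + b = 0 → a = b := by decide +kernel

theorem zmod_two : ∀ c : ZMod 2, c = 0 ∨ c = 1 := by decide +kernel

variable {P : Type*} [Group P] [Finite P]

/-- In a two-group, the centralizer of a normal group of exponent two and order at most four has
index at most two. -/
theorem centralizer_step (h2 : IsPGroup 2 P) {E : Subgroup P} (hEn : E.Normal)
    (hE4 : Nat.card E ≤ 4) {g k : P}
    (hg : g ∉ centralizer (E : Set P)) (hk : k ∉ centralizer (E : Set P)) :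
    g * k ∈ centralizer (E : Set P) := by
  haveI : Fact (Nat.Prime 2) := ⟨Nat.prime_two⟩
  have moves : ∀ g, g ∉ centralizer (E : Set P) → ∃ e ∈ E, g * e * g⁻¹ ≠ e := by
    intro g hg
    by_contra hcon
    push Not at hcon
    exact hg (mem_centralizer_iff.2 fun e he => (mul_inv_eq_iff_eq_mul.1 (hcon e he)).symm)
  obtain ⟨e₀, he₀, hge₀⟩ := moves g hg
  haveI := hEn
  haveI : Nontrivial E := ⟨⟨⟨e₀, he₀⟩, 1, fun h => hge₀ (by
    rw [Subtype.ext_iff] at h; rw [show e₀ = 1 from h]; group)⟩⟩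
  obtain ⟨z, hzE, hz1, hzc⟩ : ∃ z ∈ E, z ≠ 1 ∧ ∀ g, g * z * g⁻¹ = z := by
    obtain ⟨z, ⟨hz, hzC⟩, hz1⟩ := (bot_or_exists_ne_one _).resolve_left
      (PGroup.inf_center_ne_bot h2 (E.nontrivial_iff_ne_bot.1 inferInstance))
    exact ⟨z, hz, hz1, fun g => by rw [mem_center_iff.1 hzC g, mul_inv_cancel_right]⟩
  have hfix : ∀ g, ∀ e ∈ E, g * e * g⁻¹ ≠ e →
      g * e * g⁻¹ = z * e ∧ ∀ y ∈ E, y = 1 ∨ y = z ∨ y = e ∨ y = z * e := by
    intro g e he hge
    have he1 : e ≠ 1 := fun h => hge (by rw [h]; group)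
    have hez : e ≠ z := fun h => hge (by rw [h]; exact hzc g)
    have hze : z * e ≠ 1 := fun h => hge (by
      have h' : e = z⁻¹ := eq_inv_of_mul_eq_one_right h
      rw [h']
      calc g * z⁻¹ * g⁻¹ = (g * z * g⁻¹)⁻¹ := by group
        _ = z⁻¹ := by rw [hzc])
    have h4 : ({1, z, e, z * e} : Set P) = (E : Set P) := by
      refine Set.eq_of_subset_of_ncard_le ?_ ?_
      · intro y hy
        rcases hy with rfl | rfl | rfl | rfl
        exacts [one_mem E, hzE, he, mul_mem hzE he]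
      · rw [Set.ncard_insert_of_notMem, Set.ncard_insert_of_notMem, Set.ncard_pair]
        · rwa [← Nat.card_coe_set_eq]
        · exact fun h => hz1 (mul_eq_right.1 h.symm)
        · simp only [Set.mem_insert_iff, Set.mem_singleton_iff]
          exact fun h => h.elim (fun h => hez h.symm) fun h => he1 (mul_eq_left.1 h.symm)
        · simp only [Set.mem_insert_iff, Set.mem_singleton_iff]
          exact fun h => h.elim (fun h => hz1 h.symm) fun h => h.elim (fun h => he1 h.symm)
            fun h => hze h.symm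
    have hall : ∀ y ∈ E, y = 1 ∨ y = z ∨ y = e ∨ y = z * e := fun y hy => by
      have : y ∈ ({1, z, e, z * e} : Set P) := h4 ▸ hy
      simpa using this
    refine ⟨?_, hall⟩
    rcases hall _ (hEn.conj_mem e he g) with h | h | h | h
    · exact absurd (conj_eq_one_iff.1 h) he1
    · exact absurd ((MulAut.conj g).injective (show MulAut.conj g e = MulAut.conj g z from
        h.trans (hzc g).symm)) hez
    · exact absurd h hge
    · exact h
  obtain ⟨hg0, hall⟩ := hfix g e₀ he₀ hge₀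
  obtain ⟨e₁, he₁, hke₁⟩ := moves k hk
  have hk0 : k * e₀ * k⁻¹ = z * e₀ := by
    refine (hfix k e₀ he₀ fun h => hke₁ ?_).1
    rcases hall e₁ he₁ with rfl | rfl | rfl | rfl
    · group
    · exact hzc k
    · exact h
    · rw [show k * (z * e₀) * k⁻¹ = (k * z * k⁻¹) * (k * e₀ * k⁻¹) by group, hzc, h]
  have hzz : g * (z * e₀) * g⁻¹ = z * (z * e₀) := by
    rw [show g * (z * e₀) * g⁻¹ = (g * z * g⁻¹) * (g * e₀ * g⁻¹) by group, hzc, hg0]
  have hkey : g * k * e₀ * (g * k)⁻¹ = e₀ := by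
    rw [show g * k * e₀ * (g * k)⁻¹ = g * (k * e₀ * k⁻¹) * g⁻¹ by group, hk0, hzz]
    by_contra h
    rcases hall _ (mul_mem hzE (mul_mem hzE he₀)) with h' | h' | h' | h'
    · exact hge₀ (by
        have h'' : e₀ = z⁻¹ * z⁻¹ := by rw [← mul_one (z⁻¹ * z⁻¹), ← h']; group
        rw [h'']
        calc g * (z⁻¹ * z⁻¹) * g⁻¹ = (g * z * g⁻¹)⁻¹ * (g * z * g⁻¹)⁻¹ := by group
          _ = _ := by rw [hzc])
    · exact hge₀ (by
        have h'' : e₀ = z⁻¹ := by
          calc e₀ = z⁻¹ * z⁻¹ * (z * (z * e₀)) := by group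
            _ = _ := by rw [h']; group
        rw [h'']
        calc g * z⁻¹ * g⁻¹ = (g * z * g⁻¹)⁻¹ := by group
          _ = _ := by rw [hzc])
    · exact h h'
    · exact hz1 (mul_eq_right.1 (mul_left_cancel h'))
  refine mem_centralizer_iff.2 fun y hy => ((mul_inv_eq_iff_eq_mul.1 ?_)).symm
  rcases hall y hy with rfl | rfl | rfl | rfl
  · group
  · exact hzc _
  · exact hkey
  · rw [show g * k * (z * e₀) * (g * k)⁻¹ = (g * k * z * (g * k)⁻¹) * (g * k * e₀ * (g * k)⁻¹) by
      group, hzc, hkey]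

theorem index_le_two_of {G : Type*} [Group G] {D : Subgroup G}
    (h : ∀ g k, g ∉ D → k ∉ D → g * k ∈ D) : D.index ≤ 2 := by
  by_cases htop : D = ⊤
  · rw [htop, index_top]; omega
  · obtain ⟨a, -, ha⟩ := SetLike.exists_of_lt (lt_top_iff_ne_top.2 htop)
    refine le_of_eq (index_eq_two_iff.2 ⟨a, fun b => ?_⟩)
    by_cases hb : b ∈ D
    · exact .inr ⟨hb, fun hba => ha (by simpa using mul_mem (inv_mem hb) hba)⟩
    · exact .inl ⟨h b a hb ha, hb⟩

variable {A : Subgroup P} (hS : Setting A) {H N : Subgroup P}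

/-- The small case: the squares already cut `H` down to index four over the centralizer. -/
theorem small_case (hA : Nat.card A ≤ 8) {E : Subgroup P} (hEn : E.Normal)
    (hE4 : Nat.card E ≤ 4) (hE : ∀ a, a ∈ E ↔ a ∈ A ∧ a * a = 1) (hS : Setting A)
    (hsq : ∀ x ∈ H, x * x ∈ N) :
    ((centralizer (A : Set P)).subgroupOf H ⊔ N.subgroupOf H).index ≤ 4 := by
  classical
  haveI := hS.normal
  haveI : Fact (Nat.Prime 2) := ⟨Nat.prime_two⟩
  haveI := hEn
  set K := (centralizer (A : Set P)).subgroupOf H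
  set DH := (centralizer (E : Set P)).subgroupOf H
  set first := (K ⊔ N.subgroupOf H).index
  have hKD : K ≤ DH := fun x hx => mem_centralizer_iff.2 fun e he =>
    mem_centralizer_iff.1 hx e ((hE e).1 he).1
  have hidx : K.relIndex DH * DH.index = K.index := relIndex_mul_index hKD
  have hdvd : first ∣ K.index := index_dvd_of_le le_sup_left
  have hh : DH.index ≤ 2 := index_le_two_of fun g k hg hk =>
    centralizer_step hS.isTwo hEn hE4 (g := (g : P)) (k := (k : P)) hg hk
  obtain ⟨n, hn⟩ := IsPGroup.iff_card.1 (hS.isTwo.to_subgroup H)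
  have pw : ∀ d, d ∣ Nat.card H → ∃ i, d = 2 ^ i := fun d hd => by
    rw [hn, Nat.dvd_prime_pow Nat.prime_two] at hd
    obtain ⟨i, -, hi⟩ := hd
    exact ⟨i, hi⟩
  by_contra hcon
  obtain ⟨i, hi⟩ := pw first (index_dvd_card _)
  have h8 : 8 ≤ first := by
    have : 3 ≤ i := by
      by_contra h
      interval_cases i <;> omega
    rw [hi]
    show 2 ^ 3 ≤ 2 ^ i
    exact Nat.pow_le_pow_right (by norm_num) this
  by_cases hAE : ∀ a ∈ A, a * a = 1
  · have : DH ≤ K := fun x hx => mem_centralizer_iff.2 fun a ha =>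
      mem_centralizer_iff.1 hx a ((hE a).2 ⟨ha, hAE a ha⟩)
    rw [relIndex_eq_one.2 this, one_mul] at hidx
    have := Nat.le_of_dvd (Nat.pos_of_ne_zero K.index_ne_zero_of_finite) hdvd
    omega
  push Not at hAE
  obtain ⟨a, ha, ha2⟩ := hAE
  have hsq2 : ∀ b ∈ A, b * b * (b * b) = 1 := fun b hb => by rw [← four]; exact hS.pow4 b hb
  have hc : ∀ p ∈ A, ∀ q ∈ A, Commute p q := fun p hp q hq => hS.comm p hp q hq
  have hEA : ∀ e ∈ E, e ∈ A := fun e he => ((hE e).1 he).1
  have hAdec : ∀ b ∈ A, b * b = 1 ∨ b * b = a * a := by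
    intro b hb
    by_contra hne
    push Not at hne
    obtain ⟨hb1, hba⟩ := hne
    let r : Fin 3 → P := ![1, a, b]
    have hrA : ∀ i, r i ∈ A := fun i => by fin_cases i <;> simp [r, ha, hb]
    have hrsq : Function.Injective fun i => r i * r i := fun i j h => by
      fin_cases i <;> fin_cases j <;> simp_all [r]
    let f : Fin 3 × E → A := fun p => ⟨r p.1 * p.2, mul_mem (hrA p.1) (hEA _ p.2.2)⟩
    have hf : Function.Injective f := by
      rintro ⟨i, e⟩ ⟨j, e'⟩ h
      have h' : r i * e = r j * e' := congrArg Subtype.val h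
      have hs : ∀ (i : Fin 3) (e : E), r i * e * (r i * e) = r i * r i := fun i e => by
        rw [(hc _ (hEA _ e.2) _ (hrA i)).mul_mul_mul_comm, ((hE _).1 e.2).2, mul_one]
      obtain rfl : i = j := hrsq (by
        show r i * r i = r j * r j
        rw [← hs i e, ← hs j e', h'])
      rw [Subtype.ext (mul_left_cancel h')]
    have h1 := Nat.card_le_card_of_injective f hf
    let f' : Fin 3 → E := fun i => ⟨r i * r i,
      (hE _).2 ⟨mul_mem (hrA i) (hrA i), hsq2 _ (hrA i)⟩⟩
    have h2 := Nat.card_le_card_of_injective f' fun i j h => hrsq (congrArg Subtype.val h)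
    simp only [Nat.card_prod, Nat.card_fin] at h1 h2
    omega
  -- `x ↦ [x, a]` on the centralizer of `E`
  have hmem : ∀ d : DH, a⁻¹ * ((d : H) * a * ((d : H) : P)⁻¹) ∈ E := by
    intro d
    have hca := hS.normal.conj_mem a ha ((d : H) : P)
    refine (hE _).2 ⟨mul_mem (inv_mem ha) hca, ?_⟩
    rw [(hc _ hca _ (inv_mem ha)).mul_mul_mul_comm, ← mul_inv_rev,
      show ((d : H) : P) * a * ((d : H) : P)⁻¹ * (((d : H) : P) * a * ((d : H) : P)⁻¹) =
        ((d : H) : P) * (a * a) * ((d : H) : P)⁻¹ by group,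
      ← mem_centralizer_iff.1 (show ((d : H) : P) ∈ centralizer (E : Set P) from d.2) _ ((hE _).2 ⟨mul_mem ha ha, hsq2 a ha⟩),
      mul_inv_cancel_right, inv_mul_cancel]
  let φ : DH ⧸ K.subgroupOf DH → E := fun q => ⟨_, hmem q.out⟩
  have hφ : Function.Injective φ := by
    intro p q h
    rw [← p.out_eq, ← q.out_eq]
    apply QuotientGroup.eq.mpr
    rw [mem_subgroupOf]
    have h' := mul_left_cancel (congrArg (fun e : E => (e : P)) h)
    set x := ((p.out : H) : P)
    set y := ((q.out : H) : P)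
    have hxy : x⁻¹ * y * a = a * (x⁻¹ * y) := by
      calc x⁻¹ * y * a = x⁻¹ * (y * a * y⁻¹) * y := by group
        _ = x⁻¹ * (x * a * x⁻¹) * y := by rw [h']
        _ = a * (x⁻¹ * y) := by group
    have hxyD : x⁻¹ * y ∈ centralizer (E : Set P) := mul_mem (inv_mem p.out.2) q.out.2
    show x⁻¹ * y ∈ centralizer (A : Set P)
    refine mem_centralizer_iff.2 fun b hb => ?_
    rcases hAdec b hb with h1 | h1
    · exact mem_centralizer_iff.1 hxyD b ((hE b).2 ⟨hb, h1⟩)
    · have hbe : a⁻¹ * b ∈ E := (hE _).2 ⟨mul_mem (inv_mem ha) hb, by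
        rw [(hc _ hb _ (inv_mem ha)).mul_mul_mul_comm, ← mul_inv_rev, h1, inv_mul_cancel]⟩
      have he := mem_centralizer_iff.1 hxyD _ hbe
      calc b * (x⁻¹ * y) = a * ((a⁻¹ * b) * (x⁻¹ * y)) := by group
        _ = (x⁻¹ * y) * b := by rw [he, ← mul_assoc, ← hxy]; group
  have hv : K.relIndex DH ≤ Nat.card E := Nat.card_le_card_of_injective φ hφ
  have hle := Nat.le_of_dvd (Nat.pos_of_ne_zero K.index_ne_zero_of_finite) hdvd
  have hprod : K.relIndex DH * DH.index ≤ 8 := Nat.mul_le_mul (hv.trans hE4) hh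
  have hK8 : K.index = 8 ∧ first = 8 := by omega
  have hd2 : DH.index = 2 := by
    rcases Nat.lt_or_ge DH.index 2 with h | h
    · interval_cases hD : DH.index <;> omega
    · omega
  have hv4 : K.relIndex DH = 4 := by rw [hd2] at hidx; omega
  have hsur : Function.Surjective φ := (hφ.bijective_of_nat_card_le (by
    show Nat.card E ≤ K.relIndex DH
    omega)).2
  have hNK : N.subgroupOf H ≤ K := by
    refine le_trans (le_sup_right : N.subgroupOf H ≤ K ⊔ N.subgroupOf H) (relIndex_eq_one.1 ?_)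
    have h := relIndex_mul_index (le_sup_left : K ≤ K ⊔ N.subgroupOf H)
    change _ * first = _ at h
    rw [hK8.1, hK8.2] at h
    omega
  obtain ⟨s, -, hs⟩ := SetLike.exists_of_lt (lt_top_iff_ne_top.2
    (show DH ≠ ⊤ from fun h => by rw [h, index_top] at hd2; omega))
  refine hs (mem_subgroupOf.2 (mem_centralizer_iff.2 fun e he => ?_))
  have hmove : ∀ e ∈ E, ∃ t : DH, ((t : H) : P) * a * ((t : H) : P)⁻¹ = a * e := fun e he => by
    obtain ⟨q, hq⟩ := hsur ⟨e, he⟩
    refine ⟨q.out, ?_⟩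
    have hq' : a⁻¹ * (((q.out : H) : P) * a * ((q.out : H) : P)⁻¹) = e := congrArg Subtype.val hq
    rw [← hq', mul_inv_cancel_left]
  obtain ⟨t, ht⟩ := hmove e he
  set s' := (s : P)
  set t' := ((t : H) : P)
  have hk : s' * t' * s'⁻¹ * t'⁻¹ ∈ centralizer (A : Set P) := by
    have hm : (s * (t : H) * s⁻¹ * (t : H)⁻¹) ∈ N.subgroupOf H := by
      rw [mem_subgroupOf]
      push_cast
      exact commutator_mem_of_sq_mem hsq s.2 (t : H).2
    have := hNK hm
    rw [mem_subgroupOf] at this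
    simpa using this
  set k := s' * t' * s'⁻¹ * t'⁻¹ with hk'
  obtain ⟨e₀, he₀, hse⟩ : ∃ e₀ ∈ E, s'⁻¹ * a * s' = a * e₀ := by
    have hb : s'⁻¹ * a * s' ∈ A := by simpa using hS.normal.conj_mem a ha s'⁻¹
    have hb2 : (s'⁻¹ * a * s') * (s'⁻¹ * a * s') = a * a := by
      refine (hAdec _ hb).resolve_left fun h1 => ha2 ?_
      calc a * a = s' * ((s'⁻¹ * a * s') * (s'⁻¹ * a * s')) * s'⁻¹ := by group
        _ = 1 := by rw [h1]; group
    refine ⟨a⁻¹ * (s'⁻¹ * a * s'), (hE _).2 ⟨mul_mem (inv_mem ha) hb, ?_⟩, by group⟩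
    rw [(hc _ hb _ (inv_mem ha)).mul_mul_mul_comm, ← mul_inv_rev, hb2, inv_mul_cancel]
  have hte : t' * e₀ * t'⁻¹ = e₀ := by
    rw [← mem_centralizer_iff.1 (show t' ∈ centralizer (E : Set P) from t.2) e₀ he₀, mul_inv_cancel_right]
  have hka : k * (a * e) * k⁻¹ = a * e := by
    rw [← mem_centralizer_iff.1 hk _ (mul_mem ha (hEA e he)), mul_inv_cancel_right]
  have h1 : (k * t') * a * (k * t')⁻¹ = a * e := by
    rw [show k * t' * a * (k * t')⁻¹ = k * (t' * a * t'⁻¹) * k⁻¹ by group, ht, hka]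
  have h2 : (k * t') * a * (k * t')⁻¹ = a * (s' * e * s'⁻¹) := by
    calc (k * t') * a * (k * t')⁻¹ = s' * (t' * (s'⁻¹ * a * s') * t'⁻¹) * s'⁻¹ := by
          rw [hk']; group
      _ = s' * ((t' * a * t'⁻¹) * (t' * e₀ * t'⁻¹)) * s'⁻¹ := by rw [hse]; group
      _ = s' * ((a * e₀) * e) * s'⁻¹ := by
          rw [ht, hte, mul_assoc a, (hc e (hEA e he) e₀ (hEA e₀ he₀)).eq, ← mul_assoc a]
      _ = (s' * (s'⁻¹ * a * s') * s'⁻¹) * (s' * e * s'⁻¹) := by rw [hse]; group
      _ = a * (s' * e * s'⁻¹) := by group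
  exact (mul_inv_eq_iff_eq_mul.1 (mul_left_cancel (h2.symm.trans h1))).symm

include hS

/-- The coordinates exist when `A` has order larger than eight. -/
theorem exists_frame (hA : 8 < Nat.card A) {E : Subgroup P} (hEn : E.Normal)
    (hE4 : Nat.card E ≤ 4) (hE : ∀ a, a ∈ E ↔ a ∈ A ∧ a * a = 1) : Nonempty (Frame A) := by
  classical
  haveI : Fact (Nat.Prime 2) := ⟨Nat.prime_two⟩
  have hsqE : ∀ b : A, (b : P) * b ∈ E := fun b => (hE _).2
    ⟨mul_mem b.2 b.2, by rw [← four]; exact hS.pow4 b b.2⟩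
  let S := {e : E // ∃ b : A, (b : P) * b = e}
  let sq : A → S := fun b => ⟨⟨_, hsqE b⟩, b, rfl⟩
  let rt : S → A := fun e => e.2.choose
  have hrt : ∀ e : S, (rt e : P) * rt e = e.1 := fun e => e.2.choose_spec
  have hc : ∀ p ∈ A, ∀ q ∈ A, Commute p q := fun p hp q hq => hS.comm p hp q hq
  let f : A → S × E := fun b => (sq b, ⟨((rt (sq b) : A) : P)⁻¹ * b, (hE _).2
    ⟨mul_mem (inv_mem (rt _).2) b.2, by
      rw [(hc _ b.2 _ (inv_mem (rt _).2)).mul_mul_mul_comm, ← mul_inv_rev, hrt]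
      exact inv_mul_cancel _⟩⟩)
  have hf : Function.Injective f := by
    intro b c h
    obtain ⟨h1, h2⟩ := Prod.ext_iff.1 h
    have h2' : ((rt (sq b) : A) : P)⁻¹ * b = ((rt (sq c) : A) : P)⁻¹ * c :=
      congrArg Subtype.val h2
    rw [show sq b = sq c from h1] at h2'
    exact Subtype.ext (mul_left_cancel h2')
  have h1 := Nat.card_le_card_of_injective f hf
  have h2 : Nat.card S ≤ Nat.card E := Nat.card_le_card_of_injective _ Subtype.val_injective
  rw [Nat.card_prod] at h1
  have hE3 : 3 ≤ Nat.card E ∧ 3 ≤ Nat.card S := by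
    constructor <;> by_contra h <;> push Not at h <;> [have := Nat.mul_le_mul
      (show Nat.card S ≤ 2 by omega) (show Nat.card E ≤ 2 by omega);
      have := Nat.mul_le_mul (show Nat.card S ≤ 2 by omega) hE4] <;> omega
  have hall : ∀ e ∈ E, ∃ b : A, (b : P) * b = e := by
    intro e he
    by_contra hcon
    have h3 : Nat.card S < Nat.card E :=
      Finite.card_subtype_lt (p := fun e : E => ∃ b : A, (b : P) * b = e) (x := ⟨e, he⟩) hcon
    -- three squares form no subgroup: the product of two of them is the missing one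
    obtain ⟨n, hn⟩ := IsPGroup.iff_card.1 (hS.isTwo.to_subgroup E)
    have hn2 : n ≤ 2 := by
      by_contra hn2
      have := Nat.pow_le_pow_right (show 0 < 2 by norm_num) (show 3 ≤ n by omega)
      omega
    obtain ⟨m, hm⟩ := IsPGroup.iff_card.1 (hS.isTwo.to_subgroup A)
    have hm4 : 4 ≤ m := by
      by_contra hm4
      have := Nat.pow_le_pow_right (show 0 < 2 by norm_num) (show m ≤ 3 by omega)
      omega
    have h16 : 2 ^ 4 ≤ Nat.card A := hm ▸ Nat.pow_le_pow_right (by norm_num) hm4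
    have := Nat.mul_le_mul (show Nat.card S ≤ 3 by omega) hE4
    omega
  haveI := hEn
  have hEne : E ≠ ⊥ := fun h => by rw [h, card_bot] at hE3; omega
  obtain ⟨z, ⟨hzE, hzC⟩, hz1⟩ := (bot_or_exists_ne_one _).resolve_left
    (PGroup.inf_center_ne_bot hS.isTwo hEne)
  obtain ⟨e, he, he1, hez⟩ : ∃ e ∈ E, e ≠ 1 ∧ e ≠ z := by
    by_contra hcon
    push Not at hcon
    have : Nat.card E ≤ 2 := by
      calc Nat.card E = (E : Set P).ncard := (Nat.card_coe_set_eq _)
        _ ≤ ({1, z} : Set P).ncard := Set.ncard_le_ncard fun y hy => by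
            by_cases h : y = 1
            · exact .inl h
            · exact .inr (hcon y hy h)
        _ ≤ 2 := (Set.ncard_pair (Ne.symm hz1)).le
    omega
  have hz2 := ((hE z).1 hzE).2
  have he2 := ((hE e).1 he).2
  have hze : z * e = e * z := hc _ ((hE z).1 hzE).1 _ ((hE e).1 he).1
  let ι : W → P := fun w => (if w.1 = 1 then z else 1) * (if w.2 = 1 then e else 1)
  have hιE : ∀ w, ι w ∈ E := fun w => by
    refine mul_mem ?_ ?_ <;> split <;> first | assumption | exact one_mem E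
  have hι0 : ∀ v : W, ι v = 1 → v = 0 := by
    intro v hv
    rcases w_cases v with rfl | rfl | rfl | rfl
    · rfl
    · simp [ι] at hv; exact absurd hv hz1
    · simp [ι] at hv; exact absurd hv he1
    · simp [ι] at hv
      exact absurd (mul_left_cancel (hv.trans hz2.symm)) hez
  have hadd : ∀ v w, ι (v + w) = ι v * ι w := by
    intro v w
    have hx : ∀ (p : P), p * p = 1 → ∀ a b : ZMod 2,
        (if a + b = 1 then p else 1) = (if a = 1 then p else 1) * (if b = 1 then p else 1) := by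
      intro p hp a b
      rcases zmod_two a with rfl | rfl <;> rcases zmod_two b with rfl | rfl <;>
        simp [hp, show (1 : ZMod 2) + 1 = 0 from rfl]
    have hcm : Commute (if w.1 = 1 then z else 1) (if v.2 = 1 then e else 1) := by
      split <;> split <;> first | exact hze | exact Commute.one_left _ | exact Commute.one_right _
    show (if v.1 + w.1 = 1 then z else 1) * (if v.2 + w.2 = 1 then e else 1) = _
    rw [hx z hz2, hx e he2]
    exact hcm.mul_mul_mul_comm _ _
  have hinj : Function.Injective ι := fun v w h => by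
    have h1 : ι (v + w) = 1 := by
      rw [hadd, h, ((hE _).1 (hιE w)).2]
    exact eq_of_add_zero _ _ (hι0 _ h1)
  have hsur : ∀ y ∈ E, ∃ w, ι w = y := by
    intro y hy
    have hb := (Function.Injective.bijective_of_nat_card_le
      (f := fun w : W => (⟨ι w, hιE w⟩ : E)) (fun v w h => hinj (congrArg Subtype.val h)) (by
        simpa [W, Nat.card_prod, Nat.card_zmod] using hE4)).2 ⟨y, hy⟩
    obtain ⟨w, hw⟩ := hb
    exact ⟨w, congrArg Subtype.val hw⟩
  refine ⟨⟨ι, fun w => ((hall _ (hιE w)).choose : A), hadd, hinj, fun w => ((hE _).1 (hιE w)).1,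
    fun a ha h => hsur a ((hE a).2 ⟨ha, h⟩), fun w => (hall _ (hιE w)).choose.2,
    fun w => (hall _ (hιE w)).choose_spec, fun g => ?_⟩⟩
  have : ι (1, 0) = z := by simp [ι]
  rw [this, mem_center_iff.1 hzC g, mul_inv_cancel_right]

/-- The large case. -/
theorem large_case (F : Frame A) (hsq : ∀ x ∈ H, x * x ∈ N) :
    ((centralizer (A : Set P)).subgroupOf H ⊔ N.subgroupOf H).index ≤ 8 ∧
    (((centralizer (A : Set P)).subgroupOf H ⊔ N.subgroupOf H).index = 8 →
      ∃ u ∈ H, ∃ m : End2, F.Lift u m ∧ m ≠ 0 ∧ Good m ∧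
        ∀ g, g ∉ F.D → comp shear (comp m shear) = m) := by
  classical
  haveI := hS.normal
  set K := (centralizer (A : Set P)).subgroupOf H
  set DH := F.D.subgroupOf H
  set first := (K ⊔ N.subgroupOf H).index
  let U : Subgroup P → AddSubgroup End2 := fun Q =>
    { carrier := {m | ∃ x ∈ Q, F.Lift x m}
      zero_mem' := ⟨1, one_mem Q, F.lift_mem hS (one_mem A)⟩
      add_mem' := fun ⟨x, hx, hxm⟩ ⟨y, hy, hyn⟩ => ⟨x * y, mul_mem hx hy, F.lift_mul hxm hyn⟩
      neg_mem' := fun {m} hm => (end_neg m).symm ▸ hm }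
  have hKD : K ≤ DH := fun x hx =>
    F.mem_D_of_lift ((F.lift_zero_iff hS).2 hx)
  let f : DH →* Multiplicative End2 := MonoidHom.mk'
    (fun d => Multiplicative.ofAdd (F.exists_lift hS d.2).choose)
    (fun d d' => congrArg Multiplicative.ofAdd (F.lift_unique
      (F.exists_lift hS (d * d').2).choose_spec
      (F.lift_mul (F.exists_lift hS d.2).choose_spec (F.exists_lift hS d'.2).choose_spec)))
  have hker : f.ker = K.subgroupOf DH := by
    ext d
    rw [MonoidHom.mem_ker, mem_subgroupOf, mem_subgroupOf, ← F.lift_zero_iff hS]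
    refine ⟨fun h => ?_, fun h => congrArg Multiplicative.ofAdd
      (F.lift_unique (F.exists_lift hS d.2).choose_spec h)⟩
    have h' : (F.exists_lift hS d.2).choose = 0 := congrArg Multiplicative.toAdd h
    exact h' ▸ (F.exists_lift hS d.2).choose_spec
  have hv : K.relIndex DH = Nat.card (U H) := by
    show (K.subgroupOf DH).index = _
    rw [← hker, index_ker]
    refine Nat.card_congr (Multiplicative.toAdd.subtypeEquiv fun m => ⟨?_, ?_⟩)
    · rintro ⟨d, rfl⟩
      exact ⟨_, (d : H).2, (F.exists_lift hS d.2).choose_spec⟩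
    · rintro ⟨x, hx, hxm⟩
      have hxD : x ∈ F.D := F.mem_D_of_lift hxm
      exact ⟨⟨⟨x, hx⟩, hxD⟩, congrArg Multiplicative.ofAdd
        (F.lift_unique (F.exists_lift hS hxD).choose_spec hxm)⟩
  have hidx : K.relIndex DH * DH.index = K.index := relIndex_mul_index hKD
  rw [hv] at hidx
  have hdvd : first ∣ K.index := index_dvd_of_le le_sup_left
  have hh : DH.index ≤ 2 := index_le_two_of fun g k hg hk =>
    F.mul_mem_D hS (g := (g : P)) (k := (k : P)) hg hk
  obtain ⟨n, hn⟩ := IsPGroup.iff_card.1 (hS.isTwo.to_subgroup H)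
  obtain ⟨i, -, hi⟩ := (Nat.dvd_prime_pow Nat.prime_two).1
    (hn ▸ (K ⊔ N.subgroupOf H).index_dvd_card : first ∣ 2 ^ n)
  have hU16 : Nat.card End2 = 16 := by simp [End2, W, Nat.card_prod, Nat.card_zmod]
  -- the image is proper
  obtain ⟨m₀, hm₀⟩ := F.not_full hS
  have hU8 : ∀ Q, Nat.card (U Q) ≤ 8 := by
    intro Q
    have h1 := (U Q).card_mul_index
    rw [hU16] at h1
    have h2 : (U Q).index ≠ 1 := fun h => by
      obtain ⟨x, -, hx⟩ : m₀ ∈ U Q := by rw [AddSubgroup.index_eq_one.1 h]; trivial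
      exact hm₀ x hx
    have h3 : (U Q).index ≠ 0 := AddSubgroup.FiniteIndex.index_ne_zero
    have := Nat.mul_le_mul_left (Nat.card (U Q)) (show 2 ≤ (U Q).index by omega)
    omega
  obtain ⟨j, -, hj⟩ := (Nat.dvd_prime_pow Nat.prime_two).1
    (show Nat.card (U H) ∣ 2 ^ 4 from dvd_trans (U H).card_addSubgroup_dvd_card (by rw [hU16]; norm_num))
  have hle := Nat.le_of_dvd (Nat.pos_of_ne_zero K.index_ne_zero_of_finite) hdvd
  -- when the centralizer index is all of the bound, the image commutes with the outer part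
  have hcom : first = K.index → DH.index = 2 → ∀ m ∈ U H, comp shear m = comp m shear := by
    rintro hfK hd2 m ⟨x, hx, hxm⟩
    have hNK : N.subgroupOf H ≤ K := by
      refine le_trans (le_sup_right : N.subgroupOf H ≤ K ⊔ N.subgroupOf H) (relIndex_eq_one.1 ?_)
      have h := relIndex_mul_index (le_sup_left : K ≤ K ⊔ N.subgroupOf H)
      change _ * first = _ at h
      rw [hfK] at h
      exact (Nat.mul_eq_right K.index_ne_zero_of_finite).1 h
    obtain ⟨s, -, hs⟩ := SetLike.exists_of_lt (lt_top_iff_ne_top.2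
      (show DH ≠ ⊤ from fun h => by rw [h, index_top] at hd2; omega))
    have hm : (s * ⟨x, hx⟩ * s⁻¹ * (⟨x, hx⟩ : H)⁻¹) ∈ N.subgroupOf H := by
      rw [mem_subgroupOf]
      push_cast
      exact commutator_mem_of_sq_mem hsq s.2 hx
    have hk := hNK hm
    rw [mem_subgroupOf] at hk
    push_cast at hk
    have h1 := F.lift_mul (F.lift_conj hS hxm hs) (F.lift_inv hS hxm)
    have h2 := F.lift_unique h1 ((F.lift_zero_iff hS).2 hk)
    refine commutant_of_fix m ?_
    rw [← end_add_self m] at h2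
    exact add_right_cancel h2
  have hcard : (∀ m ∈ U H, comp shear m = comp m shear) → Nat.card (U H) ≤ 4 ∧
      (Nat.card (U H) = 4 → nil ∈ U H) := by
    intro h
    let T := Finset.univ.filter fun m : End2 => comp shear m = comp m shear
    have hsub : (U H : Set End2) ⊆ T := fun m hm => by simpa [T] using h m hm
    have h1 := Set.ncard_le_ncard hsub
    rw [Set.ncard_coe_finset, ← Nat.card_coe_set_eq] at h1
    refine ⟨h1.trans commutant_card, fun h4 => ?_⟩
    have h2 := Set.eq_of_subset_of_ncard_le hsub (by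
      rw [Set.ncard_coe_finset, ← Nat.card_coe_set_eq]
      exact commutant_card.trans h4.ge)
    show nil ∈ (U H : Set End2)
    rw [h2]
    simpa [T] using nil_facts.2.2
  have hv8 := hU8 H
  have hfirst : first ≤ 8 := by
    by_contra h
    have h16 : 4 ≤ i := by
      by_contra h'
      interval_cases i <;> omega
    have := Nat.pow_le_pow_right (show 0 < 2 by norm_num) h16
    have := Nat.mul_le_mul hv8 hh
    have hd2 : DH.index = 2 := by
      rcases Nat.lt_or_ge DH.index 2 with h' | h'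
      · interval_cases hD : DH.index <;> omega
      · omega
    rw [hd2] at hidx
    have := (hcard (hcom (by omega) hd2)).1
    omega
  refine ⟨hfirst, fun h8 => ?_⟩
  suffices ∃ m ∈ U H, m ≠ 0 ∧ Good m ∧ ∀ g, g ∉ F.D → comp shear (comp m shear) = m by
    obtain ⟨m, ⟨u, hu, hum⟩, h1, h2, h3⟩ := this
    exact ⟨u, hu, m, hum, h1, h2, h3⟩
  have hnil : nil ∈ U H → ∃ m ∈ U H, m ≠ 0 ∧ Good m ∧
      ∀ g, g ∉ F.D → comp shear (comp m shear) = m := fun h =>
    ⟨nil, h, nil_facts.1, nil_facts.2.1, fun _ _ => fix_of_commutant _ nil_facts.2.2⟩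
  by_cases hv' : 8 ≤ Nat.card (U H)
  · by_cases hD : ∀ g, g ∈ F.D
    · obtain ⟨m, hm, h1, h2⟩ := exists_good hv'
      exact ⟨m, hm, h1, h2, fun g hg => absurd (hD g) hg⟩
    · push Not at hD
      obtain ⟨g, hg⟩ := hD
      refine hnil (nil_mem_of_invariant hv' fun m hm => ?_)
      have heq : U H = U ⊤ := SetLike.coe_injective (Set.eq_of_subset_of_ncard_le
        (by rintro m ⟨x, _, hx⟩; exact ⟨x, mem_top x, hx⟩) (by
          rw [← Nat.card_coe_set_eq, ← Nat.card_coe_set_eq]
          exact (hU8 ⊤).trans hv'))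
      obtain ⟨x, -, hx⟩ := hm
      rw [heq]
      exact ⟨_, mem_top _, F.lift_conj hS hx hg⟩
  · have hj2 : j ≤ 2 := by
      by_contra h'
      have := Nat.pow_le_pow_right (show 0 < 2 by norm_num) (show 3 ≤ j by omega)
      omega
    have h4 : Nat.card (U H) = 4 ∧ DH.index = 2 := by
      interval_cases j <;> rcases Nat.lt_or_ge DH.index 2 with h' | h' <;>
        (try interval_cases hD : DH.index) <;> omega
    refine hnil ((hcard (hcom ?_ h4.2)).2 h4.1)
    rw [h4.1, h4.2] at hidx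
    omega

omit hS in
theorem rank_le_four (h2 : IsPGroup 2 P)
    (hsmall : ∀ X : Subgroup P, X.Normal → (∀ u ∈ X, ∀ v ∈ X, u * v = v * u) →
      (∀ u ∈ X, u * u = 1) → Nat.card X ≤ 4) : Cfsg.SectionalPRankLE 2 4 P := by
  classical
  haveI : Fact (Nat.Prime 2) := ⟨Nat.prime_two⟩
  obtain ⟨A, hS⟩ := exists_setting h2 hsmall
  haveI := hS.normal
  obtain ⟨E, hEn, hE4, hE⟩ := hS.exists_E
  obtain ⟨S⟩ := (inferInstance : Nonempty (Sylow 2 P))
  refine sectionalPRankLE_of_sqBound S 4 fun H _ N hsq => ?_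
  set K := (centralizer (A : Set P)).subgroupOf H
  set N' := N.subgroupOf H
  show N'.index ≤ 16
  haveI hN'n : N'.Normal := ⟨fun x hx g => by
    rw [mem_subgroupOf] at hx ⊢
    push_cast
    have h1 : (g : P) * x * (g : P)⁻¹ = ((g : P) * x * ((g : P) * x)) * (x : P)⁻¹ *
        ((g : P)⁻¹ * (g : P)⁻¹) := by group
    rw [h1]
    exact mul_mem (mul_mem (hsq _ (mul_mem g.2 x.2)) (inv_mem hx)) (hsq _ (inv_mem g.2))⟩
  have htot : N'.relIndex K * (K ⊔ N').index = N'.index := by
    rw [← relIndex_sup_right (H := K) (K := N')]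
    exact relIndex_mul_index le_sup_right
  have hsec : N'.relIndex K ≤ 4 ∧ (N'.relIndex K = 4 →
      ∀ m ∈ N'.subgroupOf K, ∃ k : K, k * k = m) := by
    refine sq_index (ε := E) hE4
      (fun r x => if h : ((r : H) : P)⁻¹ * (x : H) ∈ E then ⟨_, h⟩ else 1) ?_ fun k => ?_
    · intro r x y hx hy h
      have hmem : ∀ x : K, r * r = x * x → ((r : H) : P)⁻¹ * (x : H) ∈ E := fun x hx => by
        have h1 : (((r * r : K) : H) : P) = ((x * x : K) : H) := by rw [hx]
        have hrC : ((r : H) : P) ∈ centralizer (A : Set P) := r.2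
        have hxC : ((x : H) : P) ∈ centralizer (A : Set P) := x.2
        have h2 := hS.sq_inj hrC hxC (by simpa using h1)
        exact (hE _).2 ⟨hS.top _ (mul_mem (inv_mem hrC) hxC) (by rw [four, h2, one_mul]), h2⟩
      rw [dif_pos (hmem x hx), dif_pos (hmem y hy)] at h
      exact Subtype.ext (Subtype.ext (mul_left_cancel (congrArg Subtype.val h)))
    · rw [mem_subgroupOf, mem_subgroupOf]
      push_cast
      exact hsq _ (k : H).2
  rw [← htot]
  rcases le_or_gt (Nat.card A) 8 with hA | hA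
  · exact (Nat.mul_le_mul hsec.1 (small_case hA hEn hE4 hE hS hsq))
  obtain ⟨F⟩ := exists_frame hS hA hEn hE4 hE
  obtain ⟨h8, hex⟩ := large_case hS F hsq
  change (K ⊔ N').index ≤ 8 at h8
  change (K ⊔ N').index = 8 → _ at hex
  obtain ⟨n, hn⟩ := IsPGroup.iff_card.1 (h2.to_subgroup H)
  obtain ⟨i, -, hi⟩ := (Nat.dvd_prime_pow Nat.prime_two).1
    (hn ▸ (K ⊔ N').index_dvd_card : (K ⊔ N').index ∣ 2 ^ n)
  have hi3 : i ≤ 3 := by
    by_contra h'
    have := Nat.pow_le_pow_right (show 0 < 2 by norm_num) (show 4 ≤ i by omega)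
    omega
  rcases Nat.lt_or_ge (K ⊔ N').index 8 with hlt | hge
  · have : (K ⊔ N').index ≤ 4 := by interval_cases i <;> omega
    exact Nat.mul_le_mul hsec.1 this
  have h8' : (K ⊔ N').index = 8 := le_antisymm h8 hge
  obtain ⟨n', hn'⟩ := IsPGroup.iff_card.1 ((h2.to_subgroup H).to_subgroup K)
  obtain ⟨i', -, hi'⟩ := (Nat.dvd_prime_pow Nat.prime_two).1
    (hn' ▸ (N'.subgroupOf K).index_dvd_card : N'.relIndex K ∣ 2 ^ n')
  have hi2 : i' ≤ 2 := by
    by_contra h'
    have := Nat.pow_le_pow_right (show 0 < 2 by norm_num) (show 3 ≤ i' by omega)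
    omega
  suffices N'.relIndex K ≠ 4 by
    rw [h8']
    interval_cases i' <;> omega
  intro h4
  obtain ⟨u, hu, m, hum, hm0, hmg, hfix⟩ := hex h8'
  have huC : u * u ∈ centralizer (A : Set P) := F.sq_lift_zero hS hum
  obtain ⟨k, hk⟩ := hsec.2 h4 ⟨⟨u * u, mul_mem hu hu⟩, huC⟩ (by
    rw [mem_subgroupOf, mem_subgroupOf]; exact hsq u hu)
  have hk' : ((k : H) : P) * (k : H) = u * u :=
    congrArg (fun x : K => ((x : H) : P)) hk
  have hkC : ((k : H) : P) ∈ centralizer (A : Set P) := k.2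
  set c := ((k : H) : P)
  haveI : (centralizer (A : Set P)).Normal := inferInstance
  have hcu : u * c * u⁻¹ ∈ centralizer (A : Set P) :=
    (inferInstance : (centralizer (A : Set P)).Normal).conj_mem c hkC u
  obtain ⟨s, hs⟩ := F.mem_of_sq hS (mul_mem (inv_mem hkC) hcu) (hS.sq_inj hkC hcu (by
    rw [show u * c * u⁻¹ * (u * c * u⁻¹) = u * (c * c) * u⁻¹ by group, hk']; group))
  have hcc : u * c * u⁻¹ = c * F.ι s := by rw [← hs, mul_inv_cancel_left]
  have huc : u * c⁻¹ * (u * c⁻¹) = F.ι s := by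
    calc u * c⁻¹ * (u * c⁻¹) = (u * c * u⁻¹)⁻¹ * (u * u) * c⁻¹ := by group
      _ = (c * F.ι s)⁻¹ * (c * c) * c⁻¹ := by rw [hcc, hk']
      _ = (F.ι s)⁻¹ := by group
      _ = F.ι s := F.ι_inv s
  exact F.no_lift hS hm0 hmg hfix (by
    simpa using F.lift_mul hum ((F.lift_zero_iff hS).2 (inv_mem hkC))) huc

end Cfsg.Agent.TwoFusionB.MW
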