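import Cfsg.Prelude.Def_CaseTheorems
import Mathlib

/-!
# Recognising quasi-dihedral and wreathed Sylow 2-subgroups from generators
-/

set_option autoImplicit false

namespace Cfsg.Agent.TwoFusionB

variable {G : Type*} [Group G] [Finite G]

theorem natCard_sylow_two (P : Sylow 2 G) {N r : ℕ} (hc : Nat.card G = 2 ^ N * r) (hr : Odd r) :
    Nat.card P = 2 ^ N := by
  haveI : Fact (Nat.Prime 2) := ⟨Nat.prime_two⟩
  rw [P.card_eq_multiplicity, hc, Nat.factorization_mul (by positivity) hr.pos.ne',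
    Finsupp.add_apply, Nat.Prime.factorization_pow Nat.prime_two, Finsupp.single_eq_same,
    Nat.factorization_eq_zero_of_not_dvd (fun h => Nat.not_even_iff_odd.2 hr (even_iff_two_dvd.2 h)),
    add_zero]

theorem exists_orderOf_eq {A : Type*} [Group A] [Finite A] [IsCyclic A] {d : ℕ}
    (h : d ∣ Nat.card A) : ∃ a : A, orderOf a = d := by
  obtain ⟨g, hg⟩ := IsCyclic.exists_generator (α := A)
  obtain ⟨c, hc⟩ := h
  have hgc : orderOf g = Nat.card A := orderOf_eq_card_of_forall_mem_zpowers hg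
  have hc0 : c ≠ 0 := fun h0 => (Nat.card_pos (α := A)).ne' (by rw [hc, h0, mul_zero])
  refine ⟨g ^ c, ?_⟩
  rw [orderOf_pow_of_dvd hc0 (by rw [hgc, hc]; exact dvd_mul_left c d), hgc, hc,
    Nat.mul_div_cancel _ (Nat.pos_of_ne_zero hc0)]

theorem sup_zpowers_isPGroup {A : Subgroup G} {y : G} (hA : IsPGroup 2 A) (hy : orderOf y = 2)
    (hn : y ∈ Subgroup.normalizer (A : Set G)) : IsPGroup 2 ↥(A ⊔ Subgroup.zpowers y) :=
  hA.to_sup_of_normal_left' (IsPGroup.of_card (n := 1) (by rw [Nat.card_zpowers, hy, pow_one]))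
    (Subgroup.zpowers_le.2 hn)

/-- Elements generating a 2-group are carried into any Sylow 2-subgroup by an isomorphism. -/
theorem exists_hom_sylow {T : Subgroup G} (hT : IsPGroup 2 T) (P : Sylow 2 G) :
    ∃ f : T →* (P : Subgroup G), Function.Injective f := by
  haveI : Fact (Nat.Prime 2) := ⟨Nat.prime_two⟩
  obtain ⟨Q, hQ⟩ := hT.exists_le_sylow
  exact ⟨(Sylow.equiv Q P).toMonoidHom.comp (Subgroup.inclusion hQ),
    (Sylow.equiv Q P).injective.comp (Subgroup.inclusion_injective hQ)⟩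

theorem isQuasiDihedral_of_gens (P : Sylow 2 G) {n r : ℕ} (hn : 3 ≤ n)
    (hc : Nat.card G = 2 ^ (n + 1) * r) (hr : Odd r) {x y : G} (hx : orderOf x = 2 ^ n)
    (hy : orderOf y = 2) (hxy : y * x * y⁻¹ = x ^ (2 ^ (n - 1) - 1)) :
    Cfsg.IsQuasiDihedral (P : Subgroup G) := by
  have hyn : y ∈ Subgroup.normalizer ((Subgroup.zpowers x : Subgroup G) : Set G) := by
    rw [Subgroup.mem_normalizer_iff_map_conj_eq]
    refine Subgroup.eq_of_le_of_card_ge ?_
      (Subgroup.card_map_of_injective (MulAut.conj y).injective).ge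
    rw [MonoidHom.map_zpowers, Subgroup.zpowers_le]
    show y * x * y⁻¹ ∈ _
    exact hxy ▸ Subgroup.npow_mem_zpowers x _
  have hT := sup_zpowers_isPGroup (IsPGroup.of_card (n := n) (by rw [Nat.card_zpowers, hx])) hy hyn
  obtain ⟨f, hf⟩ := exists_hom_sylow hT P
  let X : ↥(Subgroup.zpowers x ⊔ Subgroup.zpowers y) :=
    ⟨x, Subgroup.mem_sup_left (Subgroup.mem_zpowers x)⟩
  let Y : ↥(Subgroup.zpowers x ⊔ Subgroup.zpowers y) :=
    ⟨y, Subgroup.mem_sup_right (Subgroup.mem_zpowers y)⟩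
  have hXY : Y * X * Y⁻¹ = X ^ (2 ^ (n - 1) - 1) := Subtype.ext hxy
  refine ⟨n, hn, natCard_sylow_two P hc hr, f X, f Y, ?_, ?_, ?_⟩
  · rw [orderOf_injective f hf, Subgroup.orderOf_mk, hx]
  · rw [orderOf_injective f hf, Subgroup.orderOf_mk, hy]
  · rw [← map_inv, ← map_mul, ← map_mul, hXY, map_pow]

theorem isWreathed_of_gens (P : Sylow 2 G) {n r : ℕ} (hn : 2 ≤ n)
    (hc : Nat.card G = 2 ^ (2 * n + 1) * r) (hr : Odd r) {x y z : G} (hx : orderOf x = 2 ^ n)
    (hcomm : x * y = y * x) (hdis : Subgroup.zpowers x ⊓ Subgroup.zpowers y = ⊥)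
    (hz : orderOf z = 2) (hzx : z * x * z⁻¹ = y) : Cfsg.IsWreathed (P : Subgroup G) := by
  set A := Subgroup.zpowers x ⊔ Subgroup.zpowers y with hA
  have hxp : IsPGroup 2 (Subgroup.zpowers x) := IsPGroup.of_card (n := n) (by rw [Nat.card_zpowers, hx])
  have hyo : orderOf y = 2 ^ n := by
    rw [← hzx, show z * x * z⁻¹ = MulAut.conj z x from rfl, MulEquiv.orderOf_eq, hx]
  have hyp : IsPGroup 2 (Subgroup.zpowers y) := IsPGroup.of_card (n := n) (by rw [Nat.card_zpowers, hyo])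
  have hAp : IsPGroup 2 A := hxp.to_sup_of_normal_left' hyp (Subgroup.zpowers_le.2 (by
    refine Subgroup.centralizer_le_normalizer _ ?_
    rw [Subgroup.mem_centralizer_iff]
    rintro _ ⟨i, rfl⟩
    exact (Commute.zpow_left hcomm i).eq))
  have hz2 : z * z = 1 := by have := pow_orderOf_eq_one z; rwa [hz, sq] at this
  have hzy : z * y * z⁻¹ = x := by
    rw [← hzx, inv_eq_of_mul_eq_one_right hz2]
    calc z * (z * x * z) * z = (z * z) * x * (z * z) := by group
      _ = x := by rw [hz2, one_mul, mul_one]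
  have hzn : z ∈ Subgroup.normalizer (A : Set G) := by
    rw [Subgroup.mem_normalizer_iff_map_conj_eq, hA, Subgroup.map_sup, MonoidHom.map_zpowers,
      MonoidHom.map_zpowers]
    show Subgroup.zpowers (z * x * z⁻¹) ⊔ Subgroup.zpowers (z * y * z⁻¹) = _
    rw [hzx, hzy, sup_comm]
  obtain ⟨f, hf⟩ := exists_hom_sylow (sup_zpowers_isPGroup hAp hz hzn) P
  let X : ↥(A ⊔ Subgroup.zpowers z) :=
    ⟨x, Subgroup.mem_sup_left (Subgroup.mem_sup_left (Subgroup.mem_zpowers x))⟩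
  let Y : ↥(A ⊔ Subgroup.zpowers z) :=
    ⟨y, Subgroup.mem_sup_left (Subgroup.mem_sup_right (Subgroup.mem_zpowers y))⟩
  let Z : ↥(A ⊔ Subgroup.zpowers z) := ⟨z, Subgroup.mem_sup_right (Subgroup.mem_zpowers z)⟩
  refine ⟨n, hn, natCard_sylow_two P hc hr, f X, f Y, f Z, ?_, ?_, ?_, ?_, ?_⟩
  · rw [orderOf_injective f hf, Subgroup.orderOf_mk, hx]
  · rw [← map_mul, ← map_mul, show X * Y = Y * X from Subtype.ext hcomm]
  · have hXY : Subgroup.zpowers X ⊓ Subgroup.zpowers Y = ⊥ := by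
      rw [Subgroup.eq_bot_iff_forall]
      rintro w ⟨⟨i, hi⟩, ⟨j, hj⟩⟩
      refine Subtype.ext ((Subgroup.eq_bot_iff_forall _).1 hdis _ ⟨⟨i, ?_⟩, ⟨j, ?_⟩⟩)
      · rw [← hi]; rfl
      · rw [← hj]; rfl
    rw [← MonoidHom.map_zpowers, ← MonoidHom.map_zpowers, ← Subgroup.map_inf _ _ f hf, hXY,
      Subgroup.map_bot]
  · rw [orderOf_injective f hf, Subgroup.orderOf_mk, hz]
  · rw [← map_inv, ← map_mul, ← map_mul, show Z * X * Z⁻¹ = Y from Subtype.ext hzx]

end Cfsg.Agent.TwoFusionB
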