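import Cfsg.Agent.TwoFusionB.StronglyEmbedded
import Cfsg.Agent.Lib.Coprime.SchurZassenhaus

/-!
# Groups in which the centralizer of every involution is an elementary abelian 2-group
-/

set_option autoImplicit false

namespace Cfsg.Agent.TwoFusionB

open Cfsg.Agent.Classification

/-- The standing hypothesis: noncyclic, non-normal Sylow 2-subgroup and elementary abelian
involution centralizers. -/
structure ECHyp {G : Type*} [Group G] (T : Sylow 2 G) : Prop where
  hnc : ¬ IsCyclic (T : Subgroup G)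
  hnn : ¬ (T : Subgroup G).Normal
  hC : ∀ t : G, orderOf t = 2 → IsMulCommutative (Subgroup.centralizer ({t} : Set G)) ∧
    ∀ c ∈ Subgroup.centralizer ({t} : Set G), c ^ 2 = 1

variable {G : Type*} [Group G] [Finite G] {T : Sylow 2 G}

/-- The normalizer of the Sylow subgroup. -/
abbrev nT (T : Sylow 2 G) : Subgroup G := Subgroup.normalizer ((T : Subgroup G) : Set G)

omit [Finite G] in
theorem mem_of_two_elt {x : G} (hx : x ∈ nT T) {k : ℕ} (h : x ^ 2 ^ k = 1) :
    x ∈ (T : Subgroup G) := by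
  obtain ⟨i, -, hi⟩ := (Nat.dvd_prime_pow Nat.prime_two).mp (orderOf_dvd_of_pow_eq_one h)
  have hp : IsPGroup 2 (Subgroup.zpowers x) := IsPGroup.of_card (n := i) (by rw [Nat.card_zpowers, hi])
  rw [← T.3 (hp.to_sup_of_normal_right' T.2 (Subgroup.zpowers_le.mpr hx)) le_sup_right]
  exact Subgroup.mem_sup_left (Subgroup.mem_zpowers x)

namespace ECHyp

theorem exists_central (h : ECHyp T) :
    ∃ z ∈ (T : Subgroup G), orderOf z = 2 ∧
      (T : Subgroup G) = Subgroup.centralizer ({z} : Set G) := by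
  haveI : Nontrivial (T : Subgroup G) := by
    rcases subsingleton_or_nontrivial (T : Subgroup G) with hs | hs
    · exact absurd isCyclic_of_subsingleton h.hnc
    · exact hs
  haveI := T.2.center_nontrivial
  have hd : 2 ∣ Nat.card (Subgroup.center (T : Subgroup G)) := by
    obtain ⟨n, hn⟩ := (T.2.to_subgroup (Subgroup.center (T : Subgroup G))).exists_card_eq
    rw [hn]
    apply dvd_pow_self
    rintro rfl
    exact (Finite.one_lt_card (α := Subgroup.center (T : Subgroup G))).ne' (by simpa using hn)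
  obtain ⟨z, hz⟩ := exists_prime_orderOf_dvd_card' 2 hd
  have hz2 : orderOf ((z : (T : Subgroup G)) : G) = 2 := by
    rw [Subgroup.orderOf_coe, Subgroup.orderOf_coe, hz]
  refine ⟨_, (z : (T : Subgroup G)).2, hz2, ?_⟩
  have hp : IsPGroup 2 (Subgroup.centralizer ({((z : (T : Subgroup G)) : G)} : Set G)) := fun c =>
    ⟨1, Subtype.ext (by simpa using (h.hC _ hz2).2 c c.2)⟩
  refine (T.3 hp ?_).symm
  intro s hs
  rw [Subgroup.mem_centralizer_singleton_iff]
  exact congrArg Subtype.val (Subgroup.mem_center_iff.mp z.2 ⟨s, hs⟩)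

theorem sq_eq_one (h : ECHyp T) {s : G} (hs : s ∈ (T : Subgroup G)) : s ^ 2 = 1 := by
  obtain ⟨z, -, hz, hTz⟩ := h.exists_central
  exact (h.hC z hz).2 s (hTz ▸ hs)

theorem comm (h : ECHyp T) {s t : G} (hs : s ∈ (T : Subgroup G)) (ht : t ∈ (T : Subgroup G)) :
    s * t = t * s := by
  obtain ⟨z, -, hz, hTz⟩ := h.exists_central
  have := (h.hC z hz).1
  exact congrArg Subtype.val
    (this.is_comm.comm (⟨s, hTz ▸ hs⟩ : Subgroup.centralizer ({z} : Set G)) ⟨t, hTz ▸ ht⟩)

theorem isMulCommutative (h : ECHyp T) : IsMulCommutative (T : Subgroup G) :=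
  ⟨⟨fun a b => Subtype.ext (h.comm a.2 b.2)⟩⟩

theorem orderOf_eq_two (h : ECHyp T) {s : G} (hs : s ∈ (T : Subgroup G)) (hs1 : s ≠ 1) :
    orderOf s = 2 :=
  orderOf_eq_prime (h.sq_eq_one hs) hs1

theorem centralizer_eq (h : ECHyp T) {s : G} (hs : s ∈ (T : Subgroup G)) (hs1 : s ≠ 1) :
    Subgroup.centralizer ({s} : Set G) = T := by
  have hp : IsPGroup 2 (Subgroup.centralizer ({s} : Set G)) := fun c =>
    ⟨1, Subtype.ext (by simpa using (h.hC _ (h.orderOf_eq_two hs hs1)).2 c c.2)⟩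
  refine T.3 hp ?_
  intro t ht
  exact Subgroup.mem_centralizer_singleton_iff.mpr (h.comm ht hs)

theorem mem_nT_of_conj_mem (h : ECHyp T) {s g : G} (hs : s ∈ (T : Subgroup G)) (hs1 : s ≠ 1)
    (hg : g * s * g⁻¹ ∈ (T : Subgroup G)) : g ∈ nT T := by
  have h1 : g * s * g⁻¹ ≠ 1 := by simpa [mul_inv_eq_one] using hs1
  apply mem_normalizer_of_cj_eq
  have h2 := h.centralizer_eq hs hs1
  have h3 := h.centralizer_eq hg h1
  ext c
  rw [mem_cj]
  conv_lhs => rw [← h2]
  conv_rhs => rw [← h3]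
  rw [Subgroup.mem_centralizer_singleton_iff, Subgroup.mem_centralizer_singleton_iff]
  constructor
  · intro e
    calc c * (g * s * g⁻¹) = g * (g⁻¹ * c * g * s) * g⁻¹ := by group
      _ = g * (s * (g⁻¹ * c * g)) * g⁻¹ := by rw [e]
      _ = g * s * g⁻¹ * c := by group
  · intro e
    calc g⁻¹ * c * g * s = g⁻¹ * (c * (g * s * g⁻¹)) * g := by group
      _ = g⁻¹ * (g * s * g⁻¹ * c) * g := by rw [e]
      _ = s * (g⁻¹ * c * g) := by group

theorem mem_of_inv (h : ECHyp T) {a : G} (ha : orderOf a = 2) (haH : a ∈ nT T) :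
    a ∈ (T : Subgroup G) :=
  let _ := h
  mem_of_two_elt haH (k := 1) (by rw [pow_one, ← ha, pow_orderOf_eq_one])

theorem stronglyEmbedded (h : ECHyp T) : Cfsg.IsStronglyEmbedded (nT T) := by
  obtain ⟨z, hzT, hz, -⟩ := h.exists_central
  refine ⟨fun e => h.hnn (Subgroup.normalizer_eq_top_iff.mp e),
    even_card_of_mem_inv hz (Subgroup.le_normalizer hzT), ?_⟩
  intro g hg
  by_contra hodd
  rw [Nat.not_odd_iff_even, even_iff_two_dvd] at hodd
  obtain ⟨x, hx⟩ := exists_prime_orderOf_dvd_card' 2 hodd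
  have ha : orderOf (x : G) = 2 := by rw [Subgroup.orderOf_coe, hx]
  obtain ⟨haH, b, hbH, hab⟩ := x.2
  set a : G := (x : G) with ha_def
  have hb : orderOf b = 2 := by
    rw [← ha, ← hab]
    exact (orderOf_conj_eq g b).symm
  have h1 : g * b * g⁻¹ = a := hab
  exact hg (h.mem_nT_of_conj_mem (h.mem_of_inv hb hbH) (ne_one_of_inv hb)
    (h1 ▸ h.mem_of_inv ha haH))

/-- The base point. -/
abbrev pt (T : Sylow 2 G) : G ⧸ nT T := QuotientGroup.mk 1

theorem card_inv_nT (h : ECHyp T) :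
    Nat.card (FixInv (nT T) (pt T)) = Nat.card T - 1 := by
  classical
  haveI := Fintype.ofFinite (T : Subgroup G)
  rw [card_fixInv_one]
  have e : {t : G // orderOf t = 2 ∧ t ∈ nT T} ≃ {t : (T : Subgroup G) // t ≠ 1} :=
    { toFun := fun t => ⟨⟨t.1, h.mem_of_inv t.2.1 t.2.2⟩, fun e =>
        ne_one_of_inv t.2.1 (congrArg Subtype.val e)⟩
      invFun := fun t => ⟨t.1.1, h.orderOf_eq_two t.1.2 (fun e => t.2 (Subtype.ext e)),
        Subgroup.le_normalizer t.1.2⟩
      left_inv := fun t => rfl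
      right_inv := fun t => rfl }
  rw [Nat.card_congr e, Nat.card_eq_fintype_card, Fintype.card_subtype_compl,
    Fintype.card_subtype_eq, ← Nat.card_eq_fintype_card]

/-- An element of `T` fixing a second point is trivial. -/
theorem eq_one_of_fix (h : ECHyp T) {t : G} (ht : t ∈ (T : Subgroup G)) {y : G ⧸ nT T}
    (hy : y ≠ pt T) (hty : t • y = y) : t = 1 := by
  by_contra ht1
  exact hy (fix_unique h.stronglyEmbedded (h.orderOf_eq_two ht ht1) hty
    (smul_one_eq_iff.mpr (Subgroup.le_normalizer ht)))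

/-- The stabilizer of the base point and of `y`. -/
def stab2 (T : Sylow 2 G) (y : G ⧸ nT T) : Subgroup G :=
  MulAction.stabilizer G (pt T) ⊓ MulAction.stabilizer G y

omit [Finite G] in
theorem mem_stab2 {y : G ⧸ nT T} {d : G} :
    d ∈ stab2 T y ↔ d • pt T = pt T ∧ d • y = y := Iff.rfl

omit [Finite G] in
theorem stab2_le (y : G ⧸ nT T) : stab2 T y ≤ nT T := fun _ hd => smul_one_eq_iff.mp hd.1

theorem two_le_card (h : ECHyp T) : 4 ≤ Nat.card T := by
  obtain ⟨n, hn⟩ := T.2.exists_card_eq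
  match n with
  | 0 =>
    have : Subsingleton (T : Subgroup G) :=
      (Nat.card_eq_one_iff_unique.mp (by rw [hn, pow_zero])).1
    exact absurd isCyclic_of_subsingleton h.hnc
  | 1 =>
    exact absurd (isCyclic_of_prime_card (p := 2) (by rw [hn, pow_one])) h.hnc
  | n + 2 =>
    rw [hn]
    calc 4 = 2 ^ 2 := rfl
      _ ≤ 2 ^ (n + 2) := Nat.pow_le_pow_right two_pos (Nat.le_add_left 2 n)

/-- A subgroup of `N_G(T)` meeting `T` trivially has order at most `|T| - 1`. -/
theorem card_le_of_disjoint (h : ECHyp T) {C : Subgroup G} (hC : C ≤ nT T)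
    (hCT : ∀ c ∈ C, c ∈ (T : Subgroup G) → c = 1) : Nat.card C ≤ Nat.card T - 1 := by
  obtain ⟨z, hzT, hz, hTz⟩ := h.exists_central
  rw [← h.card_inv_nT]
  let f : C → FixInv (nT T) (pt T) := fun c => ⟨c.1 * z * c.1⁻¹, by rw [orderOf_conj_eq, hz],
    smul_one_eq_iff.mpr (mul_mem (mul_mem (hC c.2) (Subgroup.le_normalizer hzT))
      (inv_mem (hC c.2)))⟩
  apply Nat.card_le_card_of_injective f
  intro c d e
  have e' : c.1 * z * c.1⁻¹ = d.1 * z * d.1⁻¹ := congrArg Subtype.val e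
  have : d.1⁻¹ * c.1 ∈ (T : Subgroup G) := by
    rw [hTz, Subgroup.mem_centralizer_singleton_iff]
    calc d.1⁻¹ * c.1 * z = d.1⁻¹ * (c.1 * z * c.1⁻¹) * c.1 := by group
      _ = d.1⁻¹ * (d.1 * z * d.1⁻¹) * c.1 := by rw [e']
      _ = z * (d.1⁻¹ * c.1) := by group
  exact Subtype.ext (inv_mul_eq_one.mp (hCT _ (mul_mem (inv_mem d.2) c.2) this)).symm

theorem stab2_inf (h : ECHyp T) {y : G ⧸ nT T} (hy : y ≠ pt T) :
    ∀ c ∈ stab2 T y, c ∈ (T : Subgroup G) → c = 1 :=
  fun _ hc hcT => h.eq_one_of_fix hcT hy hc.2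

theorem card_stab2 (h : ECHyp T) {y : G ⧸ nT T} (hy : y ≠ pt T) :
    Nat.card (stab2 T y) = Nat.card T - 1 := by
  refine le_antisymm (h.card_le_of_disjoint (stab2_le y) (h.stab2_inf hy)) ?_
  obtain ⟨z, hzT, hz, -⟩ := h.exists_central
  rw [← h.card_inv_nT]
  let f : stab2 T y → FixInv (nT T) (pt T) := fun c =>
    ⟨c.1 * z * c.1⁻¹, by rw [orderOf_conj_eq, hz],
      smul_one_eq_iff.mpr (mul_mem (mul_mem (stab2_le y c.2) (Subgroup.le_normalizer hzT))
        (inv_mem (stab2_le y c.2)))⟩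
  apply Nat.card_le_card_of_surjective f
  rintro ⟨b, hb, hb1⟩
  obtain ⟨d, hdy, hd1, hd⟩ := exists_conj_fix h.stronglyEmbedded hy hz
    (smul_one_eq_iff.mpr (Subgroup.le_normalizer hzT)) hb hb1
  exact ⟨⟨d, hd1, hdy⟩, Subtype.ext hd⟩

/-- `N_G(T) = D T`. -/
theorem exists_mul_eq (h : ECHyp T) {y : G ⧸ nT T} (hy : y ≠ pt T) {g : G} (hg : g ∈ nT T) :
    ∃ d ∈ stab2 T y, ∃ t ∈ (T : Subgroup G), d * t = g := by
  obtain ⟨z, hzT, hz, hTz⟩ := h.exists_central
  have hb : orderOf (g * z * g⁻¹) = 2 := by rw [orderOf_conj_eq, hz]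
  have hb1 : (g * z * g⁻¹) • pt T = pt T := smul_one_eq_iff.mpr
    (mul_mem (mul_mem hg (Subgroup.le_normalizer hzT)) (inv_mem hg))
  obtain ⟨d, hdy, hd1, hd⟩ := exists_conj_fix h.stronglyEmbedded hy hz
    (smul_one_eq_iff.mpr (Subgroup.le_normalizer hzT)) hb hb1
  refine ⟨d, ⟨hd1, hdy⟩, d⁻¹ * g, ?_, mul_inv_cancel_left d g⟩
  rw [hTz, Subgroup.mem_centralizer_singleton_iff]
  calc d⁻¹ * g * z = d⁻¹ * (g * z * g⁻¹) * g := by group
    _ = d⁻¹ * (d * z * d⁻¹) * g := by rw [hd]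
    _ = z * (d⁻¹ * g) := by group

theorem card_nT (h : ECHyp T) {y : G ⧸ nT T} (hy : y ≠ pt T) :
    Nat.card (nT T) = Nat.card T * (Nat.card T - 1) := by
  let f : stab2 T y × (T : Subgroup G) → nT T := fun p =>
    ⟨p.1.1 * p.2.1, mul_mem (stab2_le y p.1.2) (Subgroup.le_normalizer p.2.2)⟩
  have hf : Function.Bijective f := by
    constructor
    · rintro ⟨d, t⟩ ⟨d', t'⟩ e
      have e' : d.1 * t.1 = d'.1 * t'.1 := congrArg Subtype.val e
      have he : d'.1⁻¹ * d.1 = t'.1 * t.1⁻¹ := by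
        calc d'.1⁻¹ * d.1 = d'.1⁻¹ * (d.1 * t.1) * t.1⁻¹ := by group
          _ = d'.1⁻¹ * (d'.1 * t'.1) * t.1⁻¹ := by rw [e']
          _ = t'.1 * t.1⁻¹ := by group
      have h1 : d'.1⁻¹ * d.1 = 1 := h.stab2_inf hy _
        (mul_mem (inv_mem d'.2) d.2) (he ▸ mul_mem t'.2 (inv_mem t.2))
      have h2 : d = d' := Subtype.ext (inv_mul_eq_one.mp h1).symm
      subst h2
      exact Prod.ext rfl (Subtype.ext (mul_left_cancel e'))
    · rintro ⟨g, hg⟩
      obtain ⟨d, hd, t, ht, rfl⟩ := h.exists_mul_eq hy hg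
      exact ⟨(⟨d, hd⟩, ⟨t, ht⟩), rfl⟩
  rw [← Nat.card_congr (Equiv.ofBijective f hf), Nat.card_prod, h.card_stab2 hy, mul_comm]

theorem isComplement'_stab2 (h : ECHyp T) {y : G ⧸ nT T} (hy : y ≠ pt T) :
    Subgroup.IsComplement' ((stab2 T y).subgroupOf (nT T))
      ((T : Subgroup G).subgroupOf (nT T)) := by
  apply Subgroup.isComplement'_of_card_mul_and_disjoint
  · rw [Nat.card_congr (Subgroup.subgroupOfEquivOfLe (stab2_le y)).toEquiv,
      Nat.card_congr (Subgroup.subgroupOfEquivOfLe Subgroup.le_normalizer).toEquiv,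
      h.card_stab2 hy, h.card_nT hy, mul_comm]
  · rw [Subgroup.disjoint_def]
    intro x hx1 hx2
    exact Subtype.ext (h.stab2_inf hy _ hx1 hx2)

/-- An involution interchanging the base point and `y` inverts their stabilizer. -/
theorem inverts (h : ECHyp T) {y : G ⧸ nT T} (hy : y ≠ pt T) {w : G} (hw : orderOf w = 2)
    (hwy : w • pt T = y) {d : G} (hd : d ∈ stab2 T y) : w * d * w⁻¹ = d⁻¹ := by
  let f : MoveInv (nT T) (pt T) y → stab2 T y := fun v => ⟨v.1 * w,
    mem_stab2.mpr ⟨by rw [mul_smul, hwy, smul_swap v.2.1 v.2.2],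
      by rw [mul_smul, smul_swap hw hwy, v.2.2]⟩⟩
  have hinj : Function.Injective f := fun a b e =>
    Subtype.ext (mul_right_cancel (congrArg Subtype.val e))
  have hsurj := (hinj.bijective_of_nat_card_le (by
    rw [h.card_stab2 hy, card_moveInv h.stronglyEmbedded hy.symm, h.card_inv_nT])).2
  obtain ⟨v, hv⟩ := hsurj ⟨d, hd⟩
  have e : v.1 * w = d := congrArg Subtype.val hv
  rw [← e, mul_inv_rev, inv_eq_of_inv hw, inv_eq_of_inv v.2.1,
    show w * (v.1 * w) * w = w * v.1 * (w * w) by group, sq_eq_one_of_inv hw, mul_one]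

theorem stab2_comm (h : ECHyp T) {y : G ⧸ nT T} (hy : y ≠ pt T) {c d : G} (hc : c ∈ stab2 T y)
    (hd : d ∈ stab2 T y) : c * d = d * c := by
  obtain ⟨w, hw, hwy⟩ := exists_moveInv h.stronglyEmbedded hy.symm
  have h1 := h.inverts hy hw hwy (mul_mem hc hd)
  rw [← conj_mul, h.inverts hy hw hwy hc, h.inverts hy hw hwy hd] at h1
  apply inv_injective
  rw [← h1, mul_inv_rev d c]

theorem odd_card_stab2 (h : ECHyp T) {y : G ⧸ nT T} (hy : y ≠ pt T) :
    Odd (Nat.card (stab2 T y)) := by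
  rw [h.card_stab2 hy]
  obtain ⟨n, hn⟩ := T.2.exists_card_eq
  have h4 := h.two_le_card
  rw [hn] at h4 ⊢
  refine Nat.Even.sub_odd (by omega) (Nat.even_pow.mpr ⟨even_two, ?_⟩) odd_one
  rintro rfl
  norm_num at h4

theorem eq_one_of_commute_inv (h : ECHyp T) {y : G ⧸ nT T} (hy : y ≠ pt T) {d : G}
    (hd : d ∈ stab2 T y) {t : G} (ht : orderOf t = 2) (htd : t * d = d * t) : d = 1 := by
  have h2 : orderOf d ∣ 2 := orderOf_dvd_of_pow_eq_one
    ((h.hC t ht).2 d (Subgroup.mem_centralizer_singleton_iff.mpr htd.symm))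
  have hodd : Odd (orderOf d) := (h.odd_card_stab2 hy).of_dvd_nat
    (by have := orderOf_dvd_natCard (⟨d, hd⟩ : stab2 T y); rwa [Subgroup.orderOf_mk] at this)
  rcases (Nat.dvd_prime Nat.prime_two).mp h2 with h1 | h1
  · exact orderOf_eq_one_iff.mp h1
  · rw [h1] at hodd; exact absurd hodd (by decide)

theorem exists_ne_one_stab2 (h : ECHyp T) {y : G ⧸ nT T} (hy : y ≠ pt T) :
    ∃ j ∈ stab2 T y, j ≠ 1 := by
  by_contra hcon
  push Not at hcon
  have h1 : Nat.card (stab2 T y) = 1 := by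
    rw [Subgroup.card_eq_one, Subgroup.eq_bot_iff_forall]
    exact hcon
  have := h.two_le_card
  rw [h.card_stab2 hy] at h1
  omega

/-- An element of `N_G(T)` normalizing the stabilizer of two points lies in it. -/
theorem mem_stab2_of_normalizes (h : ECHyp T) {y : G ⧸ nT T} (hy : y ≠ pt T) {g : G}
    (hg : g ∈ nT T) (hgn : g ∈ Subgroup.normalizer (stab2 T y : Set G)) : g ∈ stab2 T y := by
  obtain ⟨d, hd, t, ht, rfl⟩ := h.exists_mul_eq hy hg
  by_cases ht1 : t = 1
  · rwa [ht1, mul_one]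
  exfalso
  have htn : t ∈ Subgroup.normalizer (stab2 T y : Set G) := by
    simpa using mul_mem (inv_mem (Subgroup.le_normalizer hd)) hgn
  obtain ⟨j, hj, hj1⟩ := h.exists_ne_one_stab2 hy
  have hcT : t * j * t⁻¹ * j⁻¹ ∈ (T : Subgroup G) := by
    rw [mul_assoc t j, mul_assoc t]
    exact mul_mem ht ((Subgroup.mem_normalizer_iff.mp (stab2_le y hj) t⁻¹).mp
      (inv_mem ht))
  have hcD : t * j * t⁻¹ * j⁻¹ ∈ stab2 T y :=
    mul_mem ((Subgroup.mem_normalizer_iff.mp htn j).mp hj) (inv_mem hj)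
  have hc := h.stab2_inf hy _ hcD hcT
  rw [mul_inv_eq_one, mul_inv_eq_iff_eq_mul] at hc
  exact hj1 (h.eq_one_of_commute_inv hy hj (h.orderOf_eq_two ht ht1) hc)

theorem stab2_eq_of_fix (h : ECHyp T) {y z : G ⧸ nT T} (hy : y ≠ pt T) (hz : z ≠ pt T)
    (hfix : ∀ d ∈ stab2 T y, d • z = z) : stab2 T z = stab2 T y :=
  (Subgroup.eq_of_le_of_card_ge (H := stab2 T y) (K := stab2 T z) (fun d hd => ⟨hd.1, hfix d hd⟩)
    (by rw [h.card_stab2 hy, h.card_stab2 hz])).symm

/-- The stabilizer of two points fixes no third point. -/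
theorem fix_stab2 (h : ECHyp T) {y z : G ⧸ nT T} (hy : y ≠ pt T)
    (hfix : ∀ d ∈ stab2 T y, d • z = z) : z = pt T ∨ z = y := by
  by_contra hcon
  push Not at hcon
  obtain ⟨hz, hzy⟩ := hcon
  obtain ⟨w₁, hw₁, hw₁y⟩ := exists_moveInv h.stronglyEmbedded hy.symm
  obtain ⟨w₂, hw₂, hw₂z⟩ := exists_moveInv h.stronglyEmbedded hz.symm
  have hDz := h.stab2_eq_of_fix hy hz hfix
  set g := w₂ * w₁ with hg
  have hgy : g • y = z := by rw [hg, mul_smul, smul_swap hw₁ hw₁y, hw₂z]
  have hgc : ∀ d ∈ stab2 T y, g * d * g⁻¹ = d := by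
    intro d hd
    rw [hg, mul_inv_rev, show w₂ * w₁ * d * (w₁⁻¹ * w₂⁻¹) = w₂ * (w₁ * d * w₁⁻¹) * w₂⁻¹ by group,
      h.inverts hy hw₁ hw₁y hd, h.inverts hz hw₂ hw₂z (hDz.symm ▸ inv_mem hd), inv_inv]
  have hgn : g ∈ Subgroup.normalizer (stab2 T y : Set G) := by
    apply mem_normalizer_of_cj_eq
    ext d
    rw [mem_cj]
    constructor
    · intro hd
      have := hgc _ hd
      rw [show g * (g⁻¹ * d * g) * g⁻¹ = d by group] at this
      rwa [← this] at hd
    · intro hd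
      have := hgc _ hd
      rw [mul_inv_eq_iff_eq_mul] at this
      rwa [mul_assoc, ← this, inv_mul_cancel_left]
  by_cases hgx : g • pt T = pt T
  · have := h.mem_stab2_of_normalizes hy (smul_one_eq_iff.mp hgx) hgn
    exact hzy (hgy.symm.trans this.2)
  · -- otherwise `g` would act on the stabilizer by inversion
    have hfix' : ∀ d ∈ stab2 T y, d • (g • pt T) = g • pt T := by
      intro d hd
      conv_lhs => rw [← hgc d hd, ← mul_smul, inv_mul_cancel_right, mul_smul, hd.1]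
    obtain ⟨w, hw, hwg⟩ := exists_moveInv h.stronglyEmbedded (Ne.symm hgx)
    have hDg := h.stab2_eq_of_fix hy hgx hfix'
    have hwn : w⁻¹ * g ∈ Subgroup.normalizer (stab2 T y : Set G) := by
      refine mul_mem (inv_mem ?_) hgn
      apply mem_normalizer_of_cj_eq
      ext d
      rw [mem_cj]
      constructor
      · intro hd
        have := h.inverts hgx hw hwg (hDg.symm ▸ hd)
        rw [show w * (w⁻¹ * d * w) * w⁻¹ = d by group] at this
        exact this ▸ inv_mem hd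
      · intro hd
        have := h.inverts hgx hw hwg (hDg.symm ▸ hd)
        rw [inv_eq_of_inv hw] at this ⊢
        exact this ▸ inv_mem hd
    have hwx : (w⁻¹ * g) • pt T = pt T := by
      rw [mul_smul, inv_eq_of_inv hw, smul_swap hw hwg]
    have hmem := h.mem_stab2_of_normalizes hy (smul_one_eq_iff.mp hwx) hwn
    obtain ⟨j, hj, hj1⟩ := h.exists_ne_one_stab2 hy
    have h1 : g * j * g⁻¹ = j⁻¹ := by
      rw [show g = w * (w⁻¹ * g) by group, mul_inv_rev,
        show w * (w⁻¹ * g) * j * ((w⁻¹ * g)⁻¹ * w⁻¹) = w * ((w⁻¹ * g) * j * (w⁻¹ * g)⁻¹) * w⁻¹ by group,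
        h.stab2_comm hy hmem hj, mul_inv_cancel_right]
      exact h.inverts hgx hw hwg (hDg.symm ▸ hj)
    rw [hgc j hj] at h1
    have h2 : j ^ 2 = 1 := by rw [sq]; exact mul_eq_one_iff_eq_inv.mpr h1
    exact hj1 (h.eq_one_of_commute_inv hy hj (orderOf_eq_prime h2 hj1) rfl)

theorem swap_normalizes (h : ECHyp T) {y : G ⧸ nT T} (hy : y ≠ pt T) {w : G}
    (hw : orderOf w = 2) (hwy : w • pt T = y) :
    w ∈ Subgroup.normalizer (stab2 T y : Set G) := by
  apply mem_normalizer_of_cj_eq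
  ext d
  rw [mem_cj]
  constructor
  · intro hd
    have := h.inverts hy hw hwy hd
    rw [show w * (w⁻¹ * d * w) * w⁻¹ = d by group] at this
    exact this ▸ inv_mem hd
  · intro hd
    have := h.inverts hy hw hwy hd
    rw [inv_eq_of_inv hw] at this ⊢
    exact this ▸ inv_mem hd

theorem normalizer_stab2 (h : ECHyp T) {y : G ⧸ nT T} (hy : y ≠ pt T) {w : G}
    (hw : orderOf w = 2) (hwy : w • pt T = y) :
    Subgroup.normalizer (stab2 T y : Set G) = stab2 T y ⊔ Subgroup.zpowers w := by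
  refine le_antisymm ?_ (sup_le Subgroup.le_normalizer
    (Subgroup.zpowers_le.mpr (h.swap_normalizes hy hw hwy)))
  intro g hg
  have hfix : ∀ d ∈ stab2 T y, d • (g • pt T) = g • pt T := by
    intro d hd
    have h1 := ((Subgroup.mem_normalizer_iff''.mp hg) d).mp hd
    conv_lhs => rw [smul_smul, show d * g = g * (g⁻¹ * d * g) by group, mul_smul, h1.1]
  rcases h.fix_stab2 hy hfix with h1 | h1
  · exact Subgroup.mem_sup_left (h.mem_stab2_of_normalizes hy (smul_one_eq_iff.mp h1) hg)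
  · have h2 : (w * g) • pt T = pt T := by rw [mul_smul, h1, smul_swap hw hwy]
    have h3 := h.mem_stab2_of_normalizes hy (smul_one_eq_iff.mp h2)
      (mul_mem (h.swap_normalizes hy hw hwy) hg)
    have h4 := mul_mem (Subgroup.mem_sup_right (S := stab2 T y) (Subgroup.mem_zpowers w))
      (Subgroup.mem_sup_left (T := Subgroup.zpowers w) h3)
    rwa [← mul_assoc, sq_eq_one_of_inv hw, one_mul] at h4

/-- `T` is transitive on the remaining points. -/
theorem exists_mem_smul (h : ECHyp T) {y z : G ⧸ nT T} (hy : y ≠ pt T) (hz : z ≠ pt T) :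
    ∃ t ∈ (T : Subgroup G), t • z = y := by
  have hcop : ∀ v : G ⧸ nT T, v ≠ pt T → (Nat.card (stab2 T v)).Coprime (Nat.card T) := by
    intro v hv
    obtain ⟨n, hn⟩ := T.2.exists_card_eq
    show (Nat.card (stab2 T v)).Coprime (Nat.card (T : Subgroup G))
    rw [hn]
    exact Nat.Coprime.pow_right n (Nat.coprime_two_right.mpr (h.odd_card_stab2 hv))
  have hle : stab2 T z ≤ (T : Subgroup G) ⊔ stab2 T y := by
    intro g hg
    obtain ⟨d, hd, t, ht, rfl⟩ := h.exists_mul_eq hy (stab2_le z hg)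
    exact mul_mem (Subgroup.mem_sup_right hd) (Subgroup.mem_sup_left ht)
  haveI := h.isMulCommutative
  obtain ⟨n, hn, hconj⟩ := Coprime.exists_conj_le_of_comm (T : Subgroup G) (stab2 T z) (stab2 T y)
    (stab2_le z) (stab2_le y) hle (hcop z hz) (hcop y hy)
  refine ⟨n, hn, ?_⟩
  have hn1 : n • pt T = pt T := smul_one_eq_iff.mpr (Subgroup.le_normalizer hn)
  have heq : cj n (stab2 T z) = stab2 T y :=
    Subgroup.eq_of_le_of_card_ge (by rintro _ ⟨d, hd, rfl⟩; exact hconj d hd)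
      (by rw [card_cj, h.card_stab2 hy, h.card_stab2 hz])
  have hfix : ∀ d ∈ stab2 T y, d • (n • z) = n • z := by
    intro d hd
    rw [← heq] at hd
    obtain ⟨e, he, rfl⟩ := hd
    simp only [MulEquiv.coe_toMonoidHom, MulAut.conj_apply, mul_smul, inv_smul_smul]
    rw [(show e • z = z from he.2)]
  rcases h.fix_stab2 hy hfix with h1 | h1
  · rw [← hn1] at h1
    exact absurd (MulAction.injective n h1) hz
  · exact h1

/-- An element fixing the base point and two further points is trivial. -/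
theorem eq_one_of_mem_stab2 (h : ECHyp T) {y z : G ⧸ nT T} (hy : y ≠ pt T) (hz : z ≠ pt T)
    (hzy : z ≠ y) {d : G} (hd : d ∈ stab2 T y) (hdz : d • z = z) : d = 1 := by
  by_contra hd1
  have hdz' : d ∈ stab2 T z := ⟨hd.1, hdz⟩
  set C := nT T ⊓ Subgroup.centralizer ({d} : Set G) with hC
  have hsub : ∀ v : G ⧸ nT T, v ≠ pt T → d ∈ stab2 T v → stab2 T v = C := by
    intro v hv hdv
    refine Subgroup.eq_of_le_of_card_ge (le_inf (stab2_le v) fun c hc =>
      Subgroup.mem_centralizer_singleton_iff.mpr (h.stab2_comm hv hc hdv)) ?_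
    rw [h.card_stab2 hv]
    refine h.card_le_of_disjoint inf_le_left ?_
    intro c hc hcT
    by_contra hc1
    exact hd1 (h.eq_one_of_commute_inv hy hd (h.orderOf_eq_two hcT hc1)
      (Subgroup.mem_centralizer_singleton_iff.mp hc.2))
  have heq : stab2 T z = stab2 T y := (hsub z hz hdz').trans (hsub y hy hd).symm
  rcases h.fix_stab2 hy (fun c hc => (heq.symm ▸ hc : c ∈ stab2 T z).2) with h1 | h1
  · exact hz h1
  · exact hzy h1

end ECHyp

end Cfsg.Agent.TwoFusionB
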