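import Cfsg.Agent.TwoFusionB.ElemCentralizer

/-!
# Sharp triple transitivity on the cosets of `N_G(T)`
-/

set_option autoImplicit false

namespace Cfsg.Agent.TwoFusionB

namespace ECHyp

variable {G : Type*} [Group G] [Finite G] {T : Sylow 2 G}

theorem existsUnique_smul (h : ECHyp T) {x y : G ⧸ nT T} (hx : x ≠ pt T) (hy : y ≠ pt T) :
    ∃! t : G, t ∈ T ∧ t • x = y := by
  obtain ⟨t, ht, htx⟩ := h.exists_mem_smul hy hx
  refine ⟨t, ⟨ht, htx⟩, ?_⟩
  rintro s ⟨hs, hsx⟩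
  have := h.eq_one_of_fix (t := t⁻¹ * s) (mul_mem (inv_mem ht) hs) hx
    (by rw [mul_smul, hsx, ← htx, inv_smul_smul])
  exact (inv_mul_eq_one.mp this).symm

/-- The bijection between `T` and the points other than the base point. -/
noncomputable def equivPoints (h : ECHyp T) {y : G ⧸ nT T} (hy : y ≠ pt T) :
    (T : Subgroup G) ≃ {x : G ⧸ nT T // x ≠ pt T} := by
  refine Equiv.ofBijective (fun t => ⟨(t : G) • y, fun e => hy ?_⟩) ⟨?_, ?_⟩
  · rw [← inv_smul_smul (t : G) y, e,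
      smul_one_eq_iff.mpr (inv_mem (Subgroup.le_normalizer t.2))]
  · intro t s e
    have e' : (t : G) • y = (s : G) • y := congrArg Subtype.val e
    apply Subtype.ext
    obtain ⟨u, -, huniq⟩ := h.existsUnique_smul hy
      (y := (s : G) • y) (fun e2 => hy (by
        rw [← inv_smul_smul (s : G) y, e2,
          smul_one_eq_iff.mpr (inv_mem (Subgroup.le_normalizer s.2))]))
    rw [huniq _ ⟨t.2, e'⟩, huniq _ ⟨s.2, rfl⟩]
  · rintro ⟨x, hx⟩
    obtain ⟨t, ⟨ht, htx⟩, -⟩ := h.existsUnique_smul hy hx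
    exact ⟨⟨t, ht⟩, Subtype.ext htx⟩

theorem card_points (h : ECHyp T) : Nat.card (G ⧸ nT T) = Nat.card T + 1 := by
  classical
  obtain ⟨y, hy⟩ := exists_ne_coset h.stronglyEmbedded (pt T)
  haveI := Fintype.ofFinite (G ⧸ nT T)
  have e := Nat.card_congr (h.equivPoints hy.symm)
  rw [Nat.card_eq_fintype_card (α := {x : G ⧸ nT T // x ≠ pt T}), Fintype.card_subtype_compl,
    Fintype.card_subtype_eq, ← Nat.card_eq_fintype_card] at e
  have : 0 < Nat.card (G ⧸ nT T) := Nat.card_pos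
  have e' : Nat.card T = Nat.card (G ⧸ nT T) - 1 := e
  omega

theorem exists_stab2_smul (h : ECHyp T) {y a b : G ⧸ nT T} (hy : y ≠ pt T) (ha : a ≠ pt T)
    (hay : a ≠ y) (hb : b ≠ pt T) (hby : b ≠ y) : ∃ d ∈ stab2 T y, d • a = b := by
  classical
  haveI := Fintype.ofFinite (G ⧸ nT T)
  let f : stab2 T y → {x : G ⧸ nT T // x ∉ ({pt T, y} : Finset (G ⧸ nT T))} := fun d =>
    ⟨(d : G) • a, by
      simp only [Finset.mem_insert, Finset.mem_singleton, not_or]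
      refine ⟨fun e => ha (MulAction.injective (d : G) (e.trans (mem_stab2.mp d.2).1.symm)),
        fun e => hay (MulAction.injective (d : G) (e.trans (mem_stab2.mp d.2).2.symm))⟩⟩
  have hinj : Function.Injective f := by
    intro c d e
    have e' : (c : G) • a = (d : G) • a := congrArg Subtype.val e
    have := h.eq_one_of_mem_stab2 hy ha hay (mul_mem (inv_mem d.2) c.2)
      (by rw [mul_smul, e', inv_smul_smul])
    exact Subtype.ext (inv_mul_eq_one.mp this).symm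
  have hcard : Nat.card {x : G ⧸ nT T // x ∉ ({pt T, y} : Finset (G ⧸ nT T))} ≤
      Nat.card (stab2 T y) := by
    rw [h.card_stab2 hy, Nat.card_eq_fintype_card, Fintype.card_subtype_compl,
      Fintype.card_coe, Finset.card_pair hy.symm, ← Nat.card_eq_fintype_card, h.card_points]
    omega
  obtain ⟨d, hd⟩ := (hinj.bijective_of_nat_card_le hcard).2 ⟨b, by simp [hb, hby]⟩
  exact ⟨d, d.2, congrArg Subtype.val hd⟩

theorem exists_smul_triple (h : ECHyp T) {x₁ x₂ x₃ y₁ y₂ y₃ : G ⧸ nT T}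
    (h12 : x₁ ≠ x₂) (h13 : x₁ ≠ x₃) (h23 : x₂ ≠ x₃)
    (k12 : y₁ ≠ y₂) (k13 : y₁ ≠ y₃) (k23 : y₂ ≠ y₃) :
    ∃ g : G, g • x₁ = y₁ ∧ g • x₂ = y₂ ∧ g • x₃ = y₃ := by
  obtain ⟨a, ha⟩ := MulAction.exists_smul_eq G x₁ (pt T)
  obtain ⟨b, hb⟩ := MulAction.exists_smul_eq G y₁ (pt T)
  have hne : ∀ (c : G) {u v : G ⧸ nT T}, u ≠ v → c • u ≠ c • v :=
    fun c _ _ huv e => huv (MulAction.injective c e)
  have ha2 : a • x₂ ≠ pt T := ha ▸ hne a h12.symm
  have ha3 : a • x₃ ≠ pt T := ha ▸ hne a h13.symm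
  have hb2 : b • y₂ ≠ pt T := hb ▸ hne b k12.symm
  have hb3 : b • y₃ ≠ pt T := hb ▸ hne b k13.symm
  obtain ⟨t, ht, htx⟩ := h.exists_mem_smul hb2 ha2
  have ht1 : t • pt T = pt T := smul_one_eq_iff.mpr (Subgroup.le_normalizer ht)
  obtain ⟨d, hd, hdx⟩ := h.exists_stab2_smul hb2 (a := t • a • x₃) (ht1 ▸ hne t ha3)
    (htx ▸ hne t (hne a h23.symm)) hb3 (hne b k23.symm)
  refine ⟨b⁻¹ * (d * (t * a)), ?_, ?_, ?_⟩ <;> rw [mul_smul, mul_smul, mul_smul, inv_smul_eq_iff]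
  · rw [ha, ht1, (mem_stab2.mp hd).1, hb]
  · rw [htx, (mem_stab2.mp hd).2]
  · exact hdx

theorem eq_one_of_fix_three (h : ECHyp T) {g : G} {x₁ x₂ x₃ : G ⧸ nT T}
    (h12 : x₁ ≠ x₂) (h13 : x₁ ≠ x₃) (h23 : x₂ ≠ x₃)
    (g1 : g • x₁ = x₁) (g2 : g • x₂ = x₂) (g3 : g • x₃ = x₃) : g = 1 := by
  obtain ⟨a, ha⟩ := MulAction.exists_smul_eq G x₁ (pt T)
  have key : ∀ x : G ⧸ nT T, g • x = x → (a * g * a⁻¹) • (a • x) = a • x := by
    intro x hx
    rw [mul_smul, inv_smul_smul, mul_smul, hx]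
  have ha2 : a • x₂ ≠ pt T := fun e => h12.symm (MulAction.injective a (e.trans ha.symm))
  have ha3 : a • x₃ ≠ pt T := fun e => h13.symm (MulAction.injective a (e.trans ha.symm))
  have := h.eq_one_of_mem_stab2 ha2 ha3 (fun e => h23.symm (MulAction.injective a e))
    (mem_stab2.mpr ⟨ha ▸ key x₁ g1, key x₂ g2⟩) (key x₃ g3)
  exact conj_eq_one_iff.mp this

theorem stab2_eq_inf (u : G) :
    stab2 T (QuotientGroup.mk u) = nT T ⊓ (nT T).map (MulAut.conj u).toMonoidHom := by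
  ext d
  rw [mem_stab2, Subgroup.mem_inf, smul_one_eq_iff, smul_mk_eq_iff]
  refine and_congr_right fun _ => ?_
  exact Classification.mem_cj.symm

theorem mk_ne_pt {u : G} (hu : u ∉ nT T) : (QuotientGroup.mk u : G ⧸ nT T) ≠ pt T := by
  rw [Ne, QuotientGroup.eq]
  simpa using hu

omit [Finite G] in
theorem smul_pt (u : G) : u • pt T = (QuotientGroup.mk u : G ⧸ nT T) := by
  rw [pt, MulAction.Quotient.smul_mk, smul_eq_mul, mul_one]

end ECHyp

end Cfsg.Agent.TwoFusionB
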