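import Cfsg.Agent.TwoFusionB.HaradaGeneric

/-!
Harada: a 2-group with a self-centralizing elementary abelian subgroup of order eight has sectional
rank at most four.
-/

set_option autoImplicit false

namespace Cfsg.Agent.TwoFusionB.Harada

open Subgroup

variable {S : Type*} [Group S] [Finite S]

theorem exists_eight (h2 : IsPGroup 2 S) {Y : Subgroup S} (hY : Y.Normal)
    (hc : ∀ u ∈ Y, ∀ v ∈ Y, u * v = v * u) (hsq : ∀ u ∈ Y, u * u = 1) (h4 : 4 < Nat.card Y) :
    ∃ X : Subgroup S, Eight X := by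
  haveI : Fact (Nat.Prime 2) := ⟨Nat.prime_two⟩
  haveI := hY
  have key : ∀ k ≤ 3, ∃ X : Subgroup S, X.Normal ∧ X ≤ Y ∧ Nat.card X = 2 ^ k := by
    intro k hk
    induction k with
    | zero => exact ⟨⊥, inferInstance, bot_le, card_bot⟩
    | succ k ih =>
      obtain ⟨X, hXn, hXY, hX⟩ := ih (by omega)
      haveI := hXn
      obtain ⟨x, hx, -, -, -, hn, hcard⟩ := PGroup.exists_normal_between h2 (A := X) (C := Y)
        fun hle => by
          have := card_le_of_le hle
          have : 2 ^ k ≤ 2 ^ 2 := Nat.pow_le_pow_right (by norm_num) (by omega)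
          omega
      exact ⟨_, hn, sup_le hXY (zpowers_le.2 hx), by rw [hcard, hX, ← pow_succ']⟩
  obtain ⟨X, hXn, hXY, hX⟩ := key 3 le_rfl
  exact ⟨X, h2, hXn, fun u hu v hv => hc u (hXY hu) v (hXY hv), fun u hu => hsq u (hXY hu), hX⟩

/-- An involution on a normal elementary group of order eight fixes at least four elements. -/
theorem four_le_fix {X : Subgroup S} (hX : Eight X) {a : S} (ha : a * a = 1) :
    4 ≤ Nat.card (fixX X a) := by
  have hcomm := hX.comm
  let f : X →* fixX X a := MonoidHom.mk' (fun x => ⟨(x : S) * (a * x * a⁻¹), by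
    have hx := hX.normal.conj_mem (x : S) x.2 a
    refine mem_fixX.2 ⟨mul_mem x.2 hx, ?_⟩
    calc a * ((x : S) * (a * x * a⁻¹)) * a⁻¹ = (a * x * a⁻¹) * ((a * a) * x * (a * a)⁻¹) := by group
      _ = _ := by rw [ha, hcomm x x.2 _ hx]; simp⟩) fun x y => Subtype.ext <| by
    show (x : S) * y * (a * ((x : S) * y) * a⁻¹) = (x * (a * x * a⁻¹)) * ((y : S) * (a * y * a⁻¹))
    rw [show a * ((x : S) * y) * a⁻¹ = (a * x * a⁻¹) * (a * y * a⁻¹) by group]
    exact (show Commute (y : S) (a * x * a⁻¹) from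
      hcomm y y.2 _ (hX.normal.conj_mem _ x.2 a)).mul_mul_mul_comm _ _
  have hker : Nat.card f.ker ≤ Nat.card (fixX X a) := Nat.card_le_card_of_injective
    (fun x : f.ker => (⟨((x : X) : S), mem_fixX.2 ⟨(x : X).2, by
      have h : ((x : X) : S) * (a * (x : X) * a⁻¹) = 1 := congrArg Subtype.val x.2
      rw [← inv_eq_of_mul_eq_one_right h, inv_eq_of_mul_eq_one_left (hX.sq _ (x : X).2)]⟩⟩ :
        fixX X a))
    fun x y h => Subtype.ext (Subtype.ext (congrArg Subtype.val h :))
  have h1 := f.ker.card_mul_index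
  rw [index_ker, hX.card] at h1
  have h2 : Nat.card f.range ≤ Nat.card (fixX X a) :=
    Nat.card_le_card_of_injective _ Subtype.val_injective
  by_contra h
  have h3 := Nat.mul_le_mul (show Nat.card f.ker ≤ 3 by omega) (show Nat.card f.range ≤ 3 by omega)
  have hdvd : Nat.card (fixX X a) ∣ 8 := hX.card ▸ card_dvd_of_le inf_le_left
  have hle : Nat.card (fixX X a) ≤ 3 := by omega
  have h4 : Nat.card (fixX X a) ≠ 3 := fun e => by rw [e] at hdvd; omega
  have := Nat.mul_le_mul (show Nat.card f.ker ≤ 2 by omega) (show Nat.card f.range ≤ 2 by omega)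
  omega

theorem card_fixX_eq {X : Subgroup S} (hX : Eight X) {a : S} (ha : a * a = 1)
    (haT : a ∉ centralizer (X : Set S)) : Nat.card (fixX X a) = 4 := by
  have h4 := four_le_fix hX ha
  have hdvd : Nat.card (fixX X a) ∣ 8 := hX.card ▸ card_dvd_of_le inf_le_left
  have hne : Nat.card (fixX X a) ≠ 8 := fun h => haT (mem_centralizer_of_fix fun x hx => by
    have heq : fixX X a = X := eq_of_le_of_card_ge inf_le_left (by rw [h, hX.card])
    exact (mem_fixX.1 (heq.symm ▸ hx : x ∈ fixX X a)).2)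
  have hle := Nat.le_of_dvd (by norm_num) hdvd
  obtain ⟨i, -, hi⟩ := (Nat.dvd_prime_pow Nat.prime_two).1 (show Nat.card (fixX X a) ∣ 2 ^ 3 from hdvd)
  have : i ≤ 3 := by
    by_contra hc
    have := Nat.pow_le_pow_right (show 0 < 2 by norm_num) (show 4 ≤ i by omega)
    omega
  interval_cases i <;> omega

theorem exists_cfg {X A : Subgroup S} (hX : Eight X) (hAc : ∀ u ∈ A, ∀ v ∈ A, u * v = v * u)
    (hA2 : ∀ u ∈ A, u * u = 1) (hA8 : Nat.card A = 8)
    (hC : centralizer (A : Set S) = A) (hT : ¬ centralizer (X : Set S) ≤ X) : ∃ a, Cfg X a := by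
  classical
  haveI : Fact (Nat.Prime 2) := ⟨Nat.prime_two⟩
  haveI := hX.normal
  set T := centralizer (X : Set S) with hTdef
  have hXT : X ≤ T := fun x hx => mem_centralizer_iff.2 fun y hy => hX.comm y hy x hx
  have hselfA : ∀ v, (∀ u ∈ A, v * u * v⁻¹ = u) → v ∈ A := fun v h =>
    hC ▸ mem_centralizer_of_fix h
  have hfixA : ∀ a ∈ A, ∀ u ∈ A, a * u * a⁻¹ = u := fun a ha u hu => by
    rw [hAc a ha u hu, mul_inv_cancel_right]
  have hAX : A ⊓ X ≠ X := fun h => by
    have hXA : X ≤ A := inf_eq_right.1 h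
    have heq : X = A := eq_of_le_of_card_ge hXA (by rw [hA8, hX.card])
    exact hT (by rw [hTdef, heq, hC])
  have hnotT : ∃ a ∈ A, a ∉ T := by
    by_contra hcon
    push Not at hcon
    refine hAX (inf_eq_right.2 fun x hx => hselfA x fun u hu => ?_)
    rw [mem_centralizer_iff.1 (hcon u hu) x hx, mul_inv_cancel_right]
  obtain ⟨z, hzc, hzX, hz1⟩ : ∃ z, (∀ g, g * z * g⁻¹ = z) ∧ z ∈ X ∧ z ≠ 1 := by
    have hne : X ≠ ⊥ := fun h => by
      have := hX.card
      rw [h, card_bot] at this
      omega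
    obtain ⟨z, ⟨hzX, hzC⟩, hz1⟩ := (bot_or_exists_ne_one _).resolve_left
      (PGroup.inf_center_ne_bot hX.isTwo hne)
    exact ⟨z, fun g => by rw [mem_center_iff.1 hzC g, mul_inv_cancel_right], hzX, hz1⟩
  have hzA : z ∈ A := hselfA z fun u _ => by
    rw [← mul_inv_eq_iff_eq_mul.1 (hzc u), mul_inv_cancel_right]
  by_cases h4 : 4 ≤ Nat.card ↥(A ⊓ X)
  · obtain ⟨a, ha, haT⟩ := hnotT
    have hf := card_fixX_eq hX (hA2 a ha) haT
    have hle : A ⊓ X ≤ fixX X a := fun x hx => mem_fixX.2 ⟨hx.2, hfixA a ha x hx.1⟩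
    have heq : A ⊓ X = fixX X a := eq_of_le_of_card_ge hle (by rw [hf]; exact h4)
    have hidx : ((A ⊓ X).subgroupOf A).index = 2 := by
      have h := ((A ⊓ X).subgroupOf A).card_mul_index
      rw [Nat.card_congr (subgroupOfEquivOfLe (inf_le_left : A ⊓ X ≤ A)).toEquiv, heq, hf, hA8] at h
      rw [heq]
      omega
    have haX : a ∉ A ⊓ X := fun h => haT (hXT h.2)
    have hdec : ∀ u ∈ A, u ∈ fixX X a ∨ u * a ∈ fixX X a := by
      intro u hu
      rw [← heq]
      by_cases h : u ∈ A ⊓ X
      · exact .inl h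
      · exact .inr (mem_subgroupOf.1
          ((mul_mem_iff_of_index_two hidx (a := ⟨u, hu⟩) (b := ⟨a, ha⟩)).2 (iff_of_false h haX)))
    have hinA : ∀ c, (∀ v ∈ fixX X a, c * v * c⁻¹ = v) → c * a * c⁻¹ = a → c ∈ A := by
      intro c hc hca
      refine hselfA c fun u hu => ?_
      rcases hdec u hu with h | h
      · exact hc u h
      · have h1 := hc _ h
        rw [show c * (u * a) * c⁻¹ = (c * u * c⁻¹) * (c * a * c⁻¹) by group, hca] at h1
        exact mul_right_cancel h1
    refine ⟨a, hX, hA2 a ha, haT, hf, fun v hv hva => ?_, fun c hc hca => hdec c (hinA c hc hca)⟩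
    have hvA : v ∈ A := hinA v (fun y hy => by
      rw [← mem_centralizer_iff.1 hv y (mem_fixX.1 hy).1, mul_inv_cancel_right]) (by
      rw [mul_inv_eq_iff_eq_mul.1 hva |>.symm, mul_inv_cancel_right])
    refine (hdec v hvA).resolve_right fun h => haT ?_
    simpa using mul_mem (inv_mem hv) (hXT (mem_fixX.1 h).1)
  push Not at h4
  have hAX2 : ∀ u ∈ A, u ∈ X → u = 1 ∨ u = z := by
    intro u hu huX
    by_contra hcon
    push Not at hcon
    have hcard : Nat.card ↥(A ⊓ X) ∣ 8 := hA8 ▸ card_dvd_of_le inf_le_left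
    have hsub : ({1, z, u} : Set S) ⊆ ((A ⊓ X : Subgroup S) : Set S) := by
      intro y hy
      rcases hy with rfl | rfl | rfl
      exacts [one_mem _, ⟨hzA, hzX⟩, ⟨hu, huX⟩]
    have hc := Set.ncard_le_ncard hsub
    rw [Set.ncard_insert_of_notMem (by simp [hz1.symm, hcon.1.symm]), Set.ncard_pair hcon.2.symm,
      ← Nat.card_coe_set_eq] at hc
    change 3 ≤ Nat.card ↥(A ⊓ X) at hc
    have h3 : Nat.card ↥(A ⊓ X) = 3 := by omega
    rw [h3] at hcard
    omega
  -- elements of `A` outside the centre act nontrivially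
  have hAT : ∀ u ∈ A, u ∈ T → u = 1 ∨ u = z := by
    intro u hu huT
    refine hAX2 u hu ?_
    by_contra huX
    obtain ⟨b, hb, hbT⟩ := hnotT
    have h4 := card_fixX_eq hX (hA2 b hb) hbT
    have hsub : ∀ y ∈ fixX X b, y ∈ A := by
      intro y hy
      have hyT := (hXT (mem_fixX.1 hy).1)
      have hcard : 8 ≤ Nat.card A := hA8.ge
      refine hselfA y fun w hw => ?_
      let f : Fin 8 → A := ![⟨1, one_mem A⟩, ⟨z, hzA⟩, ⟨u, hu⟩, ⟨z * u, mul_mem hzA hu⟩,
        ⟨b, hb⟩, ⟨z * b, mul_mem hzA hb⟩, ⟨u * b, mul_mem hu hb⟩, ⟨z * u * b, mul_mem (mul_mem hzA hu) hb⟩]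
      have hzT : z ∈ T := hXT hzX
      have hu1 : u ≠ 1 := fun h => huX (h ▸ one_mem X)
      have huz : u ≠ z := fun h => huX (h ▸ hzX)
      have hzu : z * u ≠ 1 := fun h => huX (by
        rw [eq_inv_of_mul_eq_one_right h]; exact inv_mem hzX)
      have hTb : ∀ p ∈ T, ∀ q ∈ T, p ≠ q * b := fun p hp q hq h => hbT (by
        have := mul_mem (inv_mem hq) hp
        rwa [h, inv_mul_cancel_left] at this)
      have hzu2 : z * u ∈ T := mul_mem hzT huT
      have hf : Function.Injective f := by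
        intro i j h
        have h' := congrArg Subtype.val h
        fin_cases i <;> fin_cases j <;> simp [f] at h' ⊢ <;>
          first
          | exact hz1 h'
          | exact hz1 h'.symm
          | exact hu1 h'
          | exact hu1 h'.symm
          | exact huz h'
          | exact huz h'.symm
          | exact hzu h'
          | exact hzu h'.symm
          | exact hTb 1 (one_mem T) 1 (one_mem T) (by simpa using h')
          | exact hbT (h' ▸ hzT)
          | exact hbT (h'.symm ▸ hzT)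
          | exact hbT (h' ▸ huT)
          | exact hbT (h'.symm ▸ huT)
          | exact hbT (h' ▸ hzu2)
          | exact hbT (h'.symm ▸ hzu2)
          | exact hbT (h' ▸ one_mem T)
          | exact hbT (h'.symm ▸ one_mem T)
          | exact hTb _ (one_mem T) _ hzT h'
          | exact hTb _ (one_mem T) _ hzT h'.symm
          | exact hTb _ (one_mem T) _ huT h'
          | exact hTb _ (one_mem T) _ huT h'.symm
          | exact hTb _ (one_mem T) _ hzu2 h'
          | exact hTb _ (one_mem T) _ hzu2 h'.symm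
          | exact hTb _ hzT _ hzT h'
          | exact hTb _ hzT _ hzT h'.symm
          | exact hTb _ hzT _ huT h'
          | exact hTb _ hzT _ huT h'.symm
          | exact hTb _ hzT _ hzu2 h'
          | exact hTb _ hzT _ hzu2 h'.symm
          | exact hTb _ huT _ hzT h'
          | exact hTb _ huT _ hzT h'.symm
          | exact hTb _ huT _ huT h'
          | exact hTb _ huT _ huT h'.symm
          | exact hTb _ huT _ hzu2 h'
          | exact hTb _ huT _ hzu2 h'.symm
          | exact hTb _ hzu2 _ hzT h'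
          | exact hTb _ hzu2 _ hzT h'.symm
          | exact hTb _ hzu2 _ huT h'
          | exact hTb _ hzu2 _ huT h'.symm
          | exact hTb _ hzu2 _ hzu2 h'
          | exact hTb _ hzu2 _ hzu2 h'.symm
      have hbij := hf.bijective_of_nat_card_le (by rw [hA8, Nat.card_fin])
      obtain ⟨i, hi⟩ := hbij.2 ⟨w, hw⟩
      have hw' : w = ((f i : A) : S) := (congrArg Subtype.val hi).symm
      have hyb : Commute y b := (mul_inv_eq_iff_eq_mul.1 (mem_fixX.1 hy).2).symm
      have hyz : Commute y z := hX.comm y (mem_fixX.1 hy).1 z hzX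
      have hyu : Commute y u := mem_centralizer_iff.1 huT y (mem_fixX.1 hy).1
      have hyw : Commute y w := by
        rw [hw']
        fin_cases i <;> simp only [f] <;>
          first
          | exact Commute.one_right y
          | exact hyz
          | exact hyu
          | exact hyb
          | exact hyz.mul_right hyu
          | exact hyz.mul_right hyb
          | exact hyu.mul_right hyb
          | exact (hyz.mul_right hyu).mul_right hyb
      rw [hyw.eq, mul_inv_cancel_right]
    have h5 : Nat.card (fixX X b) ≤ 2 := by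
      calc Nat.card (fixX X b) = (fixX X b : Set S).ncard := Nat.card_coe_set_eq _
        _ ≤ ({1, z} : Set S).ncard := Set.ncard_le_ncard fun y hy => by
            simpa using hAX2 y (hsub y hy) (mem_fixX.1 hy).1
        _ = 2 := Set.ncard_pair hz1.symm
    omega
  -- a normal plane and an element of `A` fixing it
  let Z : Subgroup S := (⊥ : Subgroup S) ⊔ zpowers z
  have hZ : ∀ v ∈ Z, v = 1 ∨ v = z := by
    intro v hv
    simp only [Z, bot_sup_eq] at hv
    obtain ⟨i, rfl⟩ := mem_zpowers_iff.1 hv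
    have hz2 := hX.sq z hzX
    obtain ⟨j, rfl⟩ | ⟨j, rfl⟩ := Int.even_or_odd i
    · exact .inl (by rw [zpow_add, ← (Commute.refl z).mul_zpow, hz2, one_zpow])
    · exact .inr (by
        rw [zpow_add, zpow_one, two_mul, zpow_add, ← (Commute.refl z).mul_zpow, hz2, one_zpow,
          one_mul])
  have hzZ : z ∈ Z := mem_sup_right (mem_zpowers z)
  haveI : Z.Normal := ⟨fun v hv g => by
    rcases hZ v hv with rfl | rfl
    · simp
    · rw [hzc g]; exact hzZ⟩
  obtain ⟨p, hp, hpZ, -, hpc, -, -⟩ := PGroup.exists_normal_between hX.isTwo (A := Z) (C := X)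
    fun hle => by
      have h1 : (X : Set S).ncard ≤ ({1, z} : Set S).ncard :=
        Set.ncard_le_ncard fun v hv => by simpa using hZ v (hle hv)
      rw [Set.ncard_pair hz1.symm, ← Nat.card_coe_set_eq] at h1
      have := hX.card
      change Nat.card X ≤ 2 at h1
      omega
  have hp1 : ∀ g, g * p * g⁻¹ = p ∨ g * p * g⁻¹ = z * p := by
    intro g
    rcases hZ _ (show g * p * g⁻¹ * p⁻¹ ∈ Z by simpa [commutatorElement_def] using hpc g) with h | h
    · exact .inl (mul_inv_eq_one.1 h)
    · exact .inr (mul_inv_eq_iff_eq_mul.1 h)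
  have hpA : p ∉ A := fun h => hpZ ((hAX2 p h hp).elim (fun e => e ▸ one_mem Z) fun e => e ▸ hzZ)
  obtain ⟨a, ha, hap⟩ : ∃ a ∈ A, a * p * a⁻¹ ≠ p := by
    by_contra hcon
    push Not at hcon
    exact hpA (hselfA p fun u hu => by
      rw [← mul_inv_eq_iff_eq_mul.1 (hcon u hu), mul_inv_cancel_right])
  have haT : a ∉ T := fun h => hap (by rw [← mem_centralizer_iff.1 h p hp, mul_inv_cancel_right])
  have hap' : a * p * a⁻¹ = z * p := (hp1 a).resolve_left hap
  obtain ⟨b, hb, hb1, hbz, hbp⟩ : ∃ b ∈ A, b ≠ 1 ∧ b ≠ z ∧ b * p * b⁻¹ = p := by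
    obtain ⟨u, hu, hu1, huz, hua, huza⟩ : ∃ u ∈ A, u ≠ 1 ∧ u ≠ z ∧ u ≠ a ∧ u ≠ z * a := by
      by_contra hcon
      push Not at hcon
      have h1 : (A : Set S).ncard ≤ ({1, z, a, z * a} : Set S).ncard := Set.ncard_le_ncard fun u hu => by
        by_cases e1 : u = 1
        · simp [e1]
        by_cases e2 : u = z
        · simp [e2]
        by_cases e3 : u = a
        · simp [e3]
        simp [hcon u hu e1 e2 e3]
      rw [← Nat.card_coe_set_eq] at h1
      change Nat.card A ≤ _ at h1
      have h2 : ({1, z, a, z * a} : Set S).ncard ≤ 4 := by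
        refine (Set.ncard_insert_le _ _).trans (Nat.succ_le_succ ?_)
        refine (Set.ncard_insert_le _ _).trans (Nat.succ_le_succ ?_)
        refine (Set.ncard_insert_le _ _).trans (Nat.succ_le_succ ?_)
        rw [Set.ncard_singleton]
      omega
    rcases hp1 u with h | h
    · exact ⟨u, hu, hu1, huz, h⟩
    · refine ⟨u * a, mul_mem hu ha, fun e => hua ?_, fun e => huza ?_, ?_⟩
      · rw [eq_inv_of_mul_eq_one_left e, inv_eq_of_mul_eq_one_left (hA2 a ha)]
      · rw [← e, mul_assoc, hA2 a ha, mul_one]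
      · rw [show u * a * p * (u * a)⁻¹ = u * (a * p * a⁻¹) * u⁻¹ by group, hap',
          show u * (z * p) * u⁻¹ = (u * z * u⁻¹) * (u * p * u⁻¹) by group, hzc, h, ← mul_assoc,
          hX.sq z hzX, one_mul]
  have hf := card_fixX_eq hX (hA2 a ha) haT
  have hzF : z ∈ fixX X a := mem_fixX.2 ⟨hzX, hzc a⟩
  have hpF : p ∉ fixX X a := fun h => hap (mem_fixX.1 h).2
  -- common fixed points
  have hab : ∀ v, a * v * a⁻¹ = v → b * v * b⁻¹ = v → v ∈ T → v = 1 ∨ v = z := by
    intro v hva hvb hvT
    refine hAT v (hselfA v fun w hw => ?_) hvT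
    let f : Fin 8 → A := ![⟨1, one_mem A⟩, ⟨z, hzA⟩, ⟨a, ha⟩, ⟨z * a, mul_mem hzA ha⟩,
      ⟨b, hb⟩, ⟨z * b, mul_mem hzA hb⟩, ⟨a * b, mul_mem ha hb⟩, ⟨z * a * b, mul_mem (mul_mem hzA ha) hb⟩]
    have hne : ∀ c d : S, c * p * c⁻¹ = p → d * p * d⁻¹ = z * p → c ≠ d := fun c d h1 h2 h => by
      rw [h, h2] at h1
      exact hz1 (mul_eq_right.1 h1)
    have f1 : (1 : S) * p * (1 : S)⁻¹ = p := by group
    have fz : z * p * z⁻¹ = p := by rw [hX.comm z hzX p hp, mul_inv_cancel_right]
    have fzb : z * b * p * (z * b)⁻¹ = p := by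
      rw [show z * b * p * (z * b)⁻¹ = z * (b * p * b⁻¹) * z⁻¹ by group, hbp, fz]
    have fza : z * a * p * (z * a)⁻¹ = z * p := by
      rw [show z * a * p * (z * a)⁻¹ = z * (a * p * a⁻¹) * z⁻¹ by group, hap',
        hX.comm z hzX (z * p) (mul_mem hzX hp), mul_inv_cancel_right]
    have fab : a * b * p * (a * b)⁻¹ = z * p := by
      rw [show a * b * p * (a * b)⁻¹ = a * (b * p * b⁻¹) * a⁻¹ by group, hbp, hap']
    have fzab : z * a * b * p * (z * a * b)⁻¹ = z * p := by
      rw [show z * a * b * p * (z * a * b)⁻¹ = (z * a) * (b * p * b⁻¹) * (z * a)⁻¹ by group, hbp, fza]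
    have hzb : z * b ≠ 1 := fun h => hbz (by
      rw [eq_inv_of_mul_eq_one_right h, inv_eq_of_mul_eq_one_left (hX.sq z hzX)])
    have hn1 : z * a * b ≠ a := fun h => hzb (by
      rw [show z * a * b = a * (z * b) by rw [hAc z hzA a ha, mul_assoc]] at h
      exact mul_eq_left.1 h)
    have hn2 : a * b ≠ z * a := fun h => hbz (by
      rw [hAc z hzA a ha] at h
      exact mul_left_cancel h)
    have hinj : Function.Injective f := by
      intro i j h
      have h' := congrArg Subtype.val h
      fin_cases i <;> fin_cases j <;> simp [f] at h' ⊢ <;>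
        first
        | exact hz1 h'
        | exact hz1 h'.symm
        | exact hb1 h'
        | exact hb1 h'.symm
        | exact hbz h'
        | exact hbz h'.symm
        | exact hzb h'
        | exact hzb h'.symm
        | exact hne _ _ f1 hap' h'
        | exact hne _ _ f1 hap' h'.symm
        | exact hne _ _ f1 fza h'
        | exact hne _ _ f1 fza h'.symm
        | exact hne _ _ f1 fab h'
        | exact hne _ _ f1 fab h'.symm
        | exact hne _ _ f1 fzab h'
        | exact hne _ _ f1 fzab h'.symm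
        | exact hne _ _ fz hap' h'
        | exact hne _ _ fz hap' h'.symm
        | exact hne _ _ fz fza h'
        | exact hne _ _ fz fza h'.symm
        | exact hne _ _ fz fab h'
        | exact hne _ _ fz fab h'.symm
        | exact hne _ _ fz fzab h'
        | exact hne _ _ fz fzab h'.symm
        | exact hne _ _ hbp hap' h'
        | exact hne _ _ hbp hap' h'.symm
        | exact hne _ _ hbp fza h'
        | exact hne _ _ hbp fza h'.symm
        | exact hne _ _ hbp fab h'
        | exact hne _ _ hbp fab h'.symm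
        | exact hne _ _ hbp fzab h'
        | exact hne _ _ hbp fzab h'.symm
        | exact hne _ _ fzb hap' h'
        | exact hne _ _ fzb hap' h'.symm
        | exact hne _ _ fzb fza h'
        | exact hne _ _ fzb fza h'.symm
        | exact hne _ _ fzb fab h'
        | exact hne _ _ fzb fab h'.symm
        | exact hne _ _ fzb fzab h'
        | exact hne _ _ fzb fzab h'.symm
        | exact hn1 h'
        | exact hn1 h'.symm
        | exact hn2 h'
        | exact hn2 h'.symm
    obtain ⟨i, hi⟩ := (hinj.bijective_of_nat_card_le (by rw [hA8, Nat.card_fin])).2 ⟨w, hw⟩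
    have hw' : w = ((f i : A) : S) := (congrArg Subtype.val hi).symm
    have hca : Commute v a := (mul_inv_eq_iff_eq_mul.1 hva).symm
    have hcb : Commute v b := (mul_inv_eq_iff_eq_mul.1 hvb).symm
    have hcz : Commute v z := mul_inv_eq_iff_eq_mul.1 (hzc v)
    have hcw : Commute v w := by
      rw [hw']
      fin_cases i <;> simp only [f] <;>
        first
        | exact Commute.one_right v
        | exact hcz
        | exact hca
        | exact hcb
        | exact hcz.mul_right hca
        | exact hcz.mul_right hcb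
        | exact hca.mul_right hcb
        | exact (hcz.mul_right hca).mul_right hcb
    rw [hcw.eq, mul_inv_cancel_right]
  have hfix : ∀ v ∈ T, a * v * a⁻¹ = v → v ∈ fixX X a := by
    by_contra hcon
    push Not at hcon
    obtain ⟨v₀, hv₀T, hv₀a, hv₀F⟩ := hcon
    set F := fixX X a with hFdef
    set U := T ⊓ centralizer ({a} : Set S) with hUdef
    have hUmem : ∀ v, v ∈ U ↔ v ∈ T ∧ a * v * a⁻¹ = v := fun v => by
      rw [hUdef, mem_inf, mem_centralizer_singleton_iff, mul_inv_eq_iff_eq_mul, eq_comm (a := a * v)]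
    have hbU : ∀ v ∈ U, b * v * b⁻¹ ∈ U := fun v hv => by
      refine (hUmem _).2 ⟨(inferInstance : T.Normal).conj_mem v ((hUmem v).1 hv).1 b, ?_⟩
      calc a * (b * v * b⁻¹) * a⁻¹ = (a * b) * v * (a * b)⁻¹ := by group
        _ = (b * a) * v * (b * a)⁻¹ := by rw [hAc a ha b hb]
        _ = b * (a * v * a⁻¹) * b⁻¹ := by group
        _ = _ := by rw [((hUmem v).1 hv).2]
    have hbF : ∀ v ∈ F, b * v * b⁻¹ ∈ F := fun v hv => by
      have h := hbU v ((hUmem v).2 ⟨hXT (mem_fixX.1 hv).1, (mem_fixX.1 hv).2⟩)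
      exact mem_fixX.2 ⟨hX.normal.conj_mem v (mem_fixX.1 hv).1 b, ((hUmem _).1 h).2⟩
    have hbinv : b⁻¹ = b := inv_eq_of_mul_eq_one_left (hA2 b hb)
    set W := U ⊔ zpowers b
    have hnorm : ∀ V : Subgroup S, (∀ v ∈ V, b * v * b⁻¹ ∈ V) →
        (∀ u ∈ U, ∀ v ∈ V, u * v * u⁻¹ ∈ V) → W ≤ normalizer (V : Set S) := by
      intro V h1 h3
      refine sup_le (fun u hu => mem_normalizer_iff.2 fun v => ⟨fun hv => h3 u hu v hv, fun hv => ?_⟩)
        (zpowers_le.2 (mem_normalizer_iff.2 fun v => ⟨fun hv => h1 v hv, fun hv => ?_⟩))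
      · have := h3 u⁻¹ (inv_mem hu) _ hv
        simpa [mul_assoc] using this
      · have := h1 _ hv
        rw [show b * (b * v * b⁻¹) * b⁻¹ = (b * b) * v * (b * b)⁻¹ by group, hA2 b hb] at this
        simpa using this
    have hFU : F ≤ U := fun v hv => (hUmem v).2 ⟨hXT (mem_fixX.1 hv).1, (mem_fixX.1 hv).2⟩
    haveI hn1 : (F.subgroupOf W).Normal := (normal_subgroupOf_iff_le_normalizer
      (hFU.trans le_sup_left)).2 (hnorm F hbF fun u hu v hv => by
        rw [← (show Commute v u from mem_centralizer_iff.1 ((hUmem u).1 hu).1 v (mem_fixX.1 hv).1).eq,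
          mul_inv_cancel_right]
        exact hv)
    haveI hn2 : (U.subgroupOf W).Normal := (normal_subgroupOf_iff_le_normalizer le_sup_left).2
      (hnorm U hbU fun u hu v hv => mul_mem (mul_mem hu hv) (inv_mem hu))
    obtain ⟨u, hu, huF, -, huc, -, -⟩ := PGroup.exists_normal_between (hX.isTwo.to_subgroup W)
      (A := F.subgroupOf W) (C := U.subgroupOf W) fun hle => hv₀F (by
        have h : (⟨v₀, mem_sup_left ((hUmem v₀).2 ⟨hv₀T, hv₀a⟩)⟩ : W) ∈ U.subgroupOf W :=
          (hUmem v₀).2 ⟨hv₀T, hv₀a⟩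
        exact hle h)
    rw [mem_subgroupOf] at hu huF
    have hq := huc ⟨b, mem_sup_right (mem_zpowers b)⟩
    rw [mem_subgroupOf] at hq
    simp only [commutatorElement_def, Subgroup.coe_mul, Subgroup.coe_inv] at hq
    set v := (u : S)
    set c := b * v * b⁻¹ * v⁻¹ with hcdef
    obtain ⟨hvT, hva⟩ := (hUmem v).1 hu
    have hcfix : b * c * b⁻¹ = c := by
      calc b * c * b⁻¹ = (b * b) * v * (b * b)⁻¹ * (b * v * b⁻¹)⁻¹ := by simp only [hcdef]; group
        _ = c⁻¹ := by rw [hA2 b hb]; simp only [hcdef]; group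
        _ = c := inv_eq_of_mul_eq_one_left (hX.sq c (mem_fixX.1 hq).1)
    rcases hab c (mem_fixX.1 hq).2 hcfix (hXT (mem_fixX.1 hq).1) with h | h
    · rcases hab v hva (mul_inv_eq_one.1 h) hvT with h' | h'
      · exact huF (h' ▸ one_mem F)
      · exact huF (h' ▸ hzF)
    · -- move `v` by an element of the plane
      obtain ⟨y, hy, hy1, hyz⟩ : ∃ y ∈ F, y ≠ 1 ∧ y ≠ z := by
        by_contra hno
        push Not at hno
        have h1 : (F : Set S).ncard ≤ ({1, z} : Set S).ncard := Set.ncard_le_ncard fun y hy => by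
          by_cases e : y = 1
          · simp [e]
          · simp [hno y hy e]
        rw [Set.ncard_pair hz1.symm, ← Nat.card_coe_set_eq] at h1
        change Nat.card F ≤ 2 at h1
        omega
      have hyX := (mem_fixX.1 hy).1
      set d := b * y * b⁻¹ * y⁻¹ with hddef
      have hdF : d ∈ F := mul_mem (hbF y hy) (inv_mem hy)
      have hdfix : b * d * b⁻¹ = d := by
        calc b * d * b⁻¹ = (b * b) * y * (b * b)⁻¹ * (b * y * b⁻¹)⁻¹ := by simp only [hddef]; group
          _ = d⁻¹ := by rw [hA2 b hb]; simp only [hddef]; group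
          _ = d := inv_eq_of_mul_eq_one_left (hX.sq d (mem_fixX.1 hdF).1)
      rcases hab d (mem_fixX.1 hdF).2 hdfix (hXT (mem_fixX.1 hdF).1) with h' | h'
      · exact (hab y (mem_fixX.1 hy).2 (mul_inv_eq_one.1 h') (hXT hyX)).elim hy1 hyz
      · have hbv : b * v * b⁻¹ = z * v := mul_inv_eq_iff_eq_mul.1 h
        have hby : b * y * b⁻¹ = z * y := mul_inv_eq_iff_eq_mul.1 h'
        have h1 : b * (v * y) * b⁻¹ = v * y := by
          rw [show b * (v * y) * b⁻¹ = (b * v * b⁻¹) * (b * y * b⁻¹) by group, hbv, hby,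
            (show Commute v z from (mem_centralizer_iff.1 hvT z hzX).symm).mul_mul_mul_comm,
            hX.sq z hzX, one_mul]
        have h2 : a * (v * y) * a⁻¹ = v * y := by
          rw [show a * (v * y) * a⁻¹ = (a * v * a⁻¹) * (a * y * a⁻¹) by group, hva,
            (mem_fixX.1 hy).2]
        have hvy : v * y ∈ F := by
          rcases hab _ h2 h1 (mul_mem hvT (hXT hyX)) with e | e <;> rw [e]
          exacts [one_mem F, hzF]
        exact huF (by simpa using mul_mem hvy (inv_mem hy))
  refine ⟨a, hX, hA2 a ha, haT, hf, hfix, fun c hc hca => ?_⟩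
  have hXdec : ∀ x ∈ X, x ∈ fixX X a ∨ x * p ∈ fixX X a := by
    intro x hx
    have hidx : ((fixX X a).subgroupOf X).index = 2 := by
      have h := ((fixX X a).subgroupOf X).card_mul_index
      have hle : fixX X a ≤ X := inf_le_left
      rw [Nat.card_congr (subgroupOfEquivOfLe hle).toEquiv, hf, hX.card] at h
      omega
    by_cases h : x ∈ fixX X a
    · exact .inl h
    · exact .inr (mem_subgroupOf.1
        ((mul_mem_iff_of_index_two hidx (a := ⟨x, hx⟩) (b := ⟨p, hp⟩)).2 (iff_of_false h hpF)))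
  have hcent : ∀ g, (∀ v ∈ fixX X a, g * v * g⁻¹ = v) → g * p * g⁻¹ = p → g ∈ T := by
    intro g hg hgp
    refine mem_centralizer_of_fix fun x hx => ?_
    rcases hXdec x hx with h | h
    · exact hg x h
    · have h1 := hg _ h
      rw [show g * (x * p) * g⁻¹ = (g * x * g⁻¹) * (g * p * g⁻¹) by group, hgp] at h1
      exact mul_right_cancel h1
  have hac : a * c * a⁻¹ = c := by
    have h1 := mul_inv_eq_iff_eq_mul.1 hca
    rw [← h1, mul_inv_cancel_right]
  rcases hp1 c with h | h
  · exact .inl (hfix c (hcent c hc h) hac)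
  · refine .inr (hfix _ (hcent _ (fun v hv => ?_) ?_) ?_)
    · rw [show c * a * v * (c * a)⁻¹ = c * (a * v * a⁻¹) * c⁻¹ by group, (mem_fixX.1 hv).2, hc v hv]
    · rw [show c * a * p * (c * a)⁻¹ = c * (a * p * a⁻¹) * c⁻¹ by group, hap',
        show c * (z * p) * c⁻¹ = (c * z * c⁻¹) * (c * p * c⁻¹) by group, hzc, h, ← mul_assoc,
        hX.sq z hzX, one_mul]
    · rw [show a * (c * a) * a⁻¹ = (a * c * a⁻¹) * a by group, hac]

/-- Harada's bound. -/
theorem rank_le_four (h2 : IsPGroup 2 S) {A : Subgroup S} (hAc : ∀ u ∈ A, ∀ v ∈ A, u * v = v * u)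
    (hA2 : ∀ u ∈ A, u * u = 1) (hA8 : Nat.card A = 8) (hC : centralizer (A : Set S) = A) :
    Cfsg.SectionalPRankLE 2 4 S := by
  classical
  haveI : Fact (Nat.Prime 2) := ⟨Nat.prime_two⟩
  by_cases hsmall : ∀ X : Subgroup S, X.Normal → (∀ u ∈ X, ∀ v ∈ X, u * v = v * u) →
      (∀ u ∈ X, u * u = 1) → Nat.card X ≤ 4
  · exact MW.rank_le_four h2 hsmall
  push Not at hsmall
  obtain ⟨Y, hYn, hYc, hY2, hY4⟩ := hsmall
  obtain ⟨X, hX⟩ := exists_eight h2 hYn hYc hY2 hY4
  obtain ⟨P⟩ := (inferInstance : Nonempty (Sylow 2 S))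
  refine sectionalPRankLE_of_sqBound P 4 fun H _ N hsq => ?_
  show N.relIndex H ≤ 16
  by_cases hT : centralizer (X : Set S) ≤ X
  · exact case_self hX hT hsq
  obtain ⟨a, hc⟩ := exists_cfg hX hAc hA2 hA8 hC hT
  obtain ⟨t, ht⟩ := hc.exists_top hT
  obtain ⟨e, f₀, D⟩ := hc.exists_data ht
  by_cases hz : t * t = 1
  · exact case_elementary D (by_contra fun h => (D.big h).1 hz) hz hsq
  by_cases hz₀ : t * t = f₀
  · exact case_central D (by_contra fun h => (D.big h).2 hz₀) hz₀ hsq
  exact case_generic D hz hz₀ hsq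

end Cfsg.Agent.TwoFusionB.Harada
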