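import Cfsg.Agent.TwoFusionB.HaradaMain
import Mathlib.GroupTheory.SpecificGroups.Quaternion

/-!
The central product of two quaternion groups, containing its centralizer.
-/

set_option autoImplicit false

namespace Cfsg.Agent.TwoFusionB.Harada

open Subgroup

variable {S : Type*} [Group S] [Finite S]

/-- What is used of an elementary subgroup of order eight of the central product. -/
structure Line (Q : Subgroup S) (A : Subgroup S) : Prop where
  le : A ≤ Q
  comm : ∀ u ∈ A, ∀ v ∈ A, u * v = v * u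
  sq : ∀ u ∈ A, u * u = 1
  card : Nat.card A = 8
  self : ∀ u ∈ Q, (∀ v ∈ A, u * v = v * u) → u ∈ A

/-- What is used of the central product. -/
structure Central (Q : Subgroup S) (z : S) : Prop where
  mem : z ∈ Q
  ne : z ≠ 1
  sq_z : z * z = 1
  central : ∀ u ∈ Q, u * z = z * u
  card : Nat.card Q = 32
  center : ∀ y ∈ Q, (∀ u ∈ Q, y * u = u * y) → y = 1 ∨ y = z
  comm : ∀ u ∈ Q, ∀ v ∈ Q, u * v * u⁻¹ = v ∨ u * v * u⁻¹ = z * v
  sq : ∀ u ∈ Q, u * u = 1 ∨ u * u = z
  cent : centralizer (Q : Set S) ≤ Q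

theorem eq_of_gt_half {U V : Subgroup S} (hVU : V ≤ U) (hU : Nat.card U = 32)
    (hV : 16 < Nat.card V) : V = U := by
  refine eq_of_le_of_card_ge hVU ?_
  have hd : Nat.card V ∣ 2 ^ 5 := by
    rw [show (2 : ℕ) ^ 5 = 32 by norm_num, ← hU]; exact card_dvd_of_le hVU
  obtain ⟨i, hi5, hi⟩ := (Nat.dvd_prime_pow Nat.prime_two).1 hd
  interval_cases i <;> omega

theorem line_self {Q : Subgroup S} {z : S} (hQ : Central Q z) (h2 : IsPGroup 2 S)
    {A : Subgroup S} (hA : Line Q A) {w : S} (hwQ : w ∈ Q) (hwA : w ∉ A)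
    (hw : ∀ g ∈ normalizer (Q : Set S), g * w * g⁻¹ = w ∨ g * w * g⁻¹ = z * w) :
    centralizer (A : Set S) = A := by
  classical
  haveI : Fact (Nat.Prime 2) := ⟨Nat.prime_two⟩
  refine le_antisymm (fun c₀ hc₀ => ?_) fun u hu => mem_centralizer_iff.2 fun v hv => hA.comm v hv u hu
  by_contra hc₀A
  have hzA : z ∈ A := hA.self z hQ.mem fun v hv => (hQ.central v (hA.le hv)).symm
  set NA := normalizer (A : Set S)
  have hAN : A ≤ NA := le_normalizer
  have hCN : centralizer (A : Set S) ≤ NA := fun c hc => mem_normalizer_iff.2 fun v => by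
    refine ⟨fun hv => ?_, fun hv => ?_⟩
    · rwa [← mem_centralizer_iff.1 hc v hv, mul_inv_cancel_right]
    · have h1 := mem_centralizer_iff.1 (inv_mem hc) _ hv
      have h2 : v = c * v * c⁻¹ := by
        calc v = c⁻¹ * (c * v * c⁻¹) * c⁻¹⁻¹ := by group
          _ = c * v * c⁻¹ := by rw [← h1, mul_inv_cancel_right]
      rwa [h2]
  haveI hn1 : (A.subgroupOf NA).Normal := (normal_subgroupOf_iff_le_normalizer hAN).2 le_rfl
  haveI hn2 : ((centralizer (A : Set S)).subgroupOf NA).Normal := ⟨fun u hu g => by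
    rw [mem_subgroupOf] at hu ⊢
    push_cast
    refine mem_centralizer_iff.2 fun v hv => ?_
    have hv' : (g : S)⁻¹ * v * (g : S) ∈ A := by
      have := (mem_normalizer_iff.1 (inv_mem g.2) v).1 hv
      simpa using this
    have h1 := mem_centralizer_iff.1 hu _ hv'
    calc v * ((g : S) * u * (g : S)⁻¹) = (g : S) * (((g : S)⁻¹ * v * (g : S)) * u) * (g : S)⁻¹ := by group
      _ = (g : S) * (u * ((g : S)⁻¹ * v * (g : S))) * (g : S)⁻¹ := by rw [h1]
      _ = _ := by group⟩
  obtain ⟨c', hc', hc'A, -, hcc, -, -⟩ := PGroup.exists_normal_between (h2.to_subgroup NA)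
    (A := A.subgroupOf NA) (C := (centralizer (A : Set S)).subgroupOf NA)
    (fun hle => hc₀A (hle (show (⟨c₀, hCN hc₀⟩ : NA) ∈ (centralizer (A : Set S)).subgroupOf NA from hc₀)))
  rw [mem_subgroupOf] at hc' hc'A
  set c := (c' : S)
  have hcA : ∀ v ∈ A, c * v * c⁻¹ = v := fun v hv => by
    rw [← mem_centralizer_iff.1 hc' v hv, mul_inv_cancel_right]
  have hcQ : c ∉ Q := fun h => hc'A (hA.self c h fun v hv => (mem_centralizer_iff.1 hc' v hv).symm)
  have hnormA : ∀ q ∈ Q, ∀ v ∈ A, q * v * q⁻¹ ∈ A := fun q hq v hv => by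
    rcases hQ.comm q hq v (hA.le hv) with h | h <;> rw [h]
    exacts [hv, mul_mem hzA hv]
  have hQN : Q ≤ NA := fun q hq => mem_normalizer_iff.2 fun v =>
    ⟨fun hv => hnormA q hq v hv, fun hv => by
      simpa [mul_assoc] using hnormA q⁻¹ (inv_mem hq) _ hv⟩
  have hconjQ : ∀ q ∈ Q, c * q * c⁻¹ ∈ Q := by
    intro q hq
    have h1 := hcc ⟨q, hQN hq⟩
    rw [mem_subgroupOf] at h1
    simp only [commutatorElement_def, Subgroup.coe_mul, Subgroup.coe_inv] at h1
    have h2 := mul_mem (inv_mem (hA.le h1)) hq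
    convert h2 using 1
    simp only [c]
    group
  have hcNQ : c ∈ normalizer (Q : Set S) := by
    have hle : Q.map (MulAut.conj c).toMonoidHom ≤ Q := by
      rintro _ ⟨q, hq, rfl⟩
      exact hconjQ q hq
    rw [mem_normalizer_iff_map_conj_eq]
    exact eq_of_le_of_card_ge hle (card_map_of_injective (MulAut.conj c).injective).ge
  have hcz : c * z * c⁻¹ = z := hcA z hzA
  -- the displacement of an element of `Q`
  have hn : ∀ y ∈ Q, y⁻¹ * (c * y * c⁻¹) ∈ A ∧
      Commute (y⁻¹ * (c * y * c⁻¹)) y ∧ Commute (y⁻¹ * (c * y * c⁻¹)) w := by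
    intro y hy
    set n := y⁻¹ * (c * y * c⁻¹) with hndef
    have hyc : c * y * c⁻¹ = y * n := by rw [hndef, mul_inv_cancel_left]
    have hnA : n ∈ A := by
      refine hA.self n (mul_mem (inv_mem hy) (hconjQ y hy)) fun v hv => ?_
      have h1 : c * (y * v * y⁻¹) * c⁻¹ = y * v * y⁻¹ := hcA _ (hnormA y hy v hv)
      have h2 : (y * n) * v * (y * n)⁻¹ = y * v * y⁻¹ := by
        rw [← hyc, ← h1]
        nth_rewrite 1 [← hcA v hv]
        group
      calc n * v = y⁻¹ * ((y * n) * v * (y * n)⁻¹) * y * n := by group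
        _ = y⁻¹ * (y * v * y⁻¹) * y * n := by rw [h2]
        _ = v * n := by group
    have hn2 := hA.sq n hnA
    refine ⟨hnA, ?_, ?_⟩
    · have hcy2 : c * (y * y) * c⁻¹ = y * y := by
        rcases hQ.sq y hy with h | h <;> rw [h]
        · group
        · exact hcz
      have h1 : (y * n) * (y * n) = y * y := by
        rw [← hyc, ← hcy2]; group
      show n * y = y * n
      calc n * y = y⁻¹ * ((y * n) * (y * n)) * n⁻¹ := by group
        _ = y * n := by
          rw [h1, inv_eq_of_mul_eq_one_left hn2]; group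
    · obtain ⟨ζ, hζc, hwc⟩ : ∃ ζ, (ζ = 1 ∨ ζ = z) ∧ c * w * c⁻¹ = ζ * w := by
        rcases hw c hcNQ with h | h
        · exact ⟨1, .inl rfl, by rw [h, one_mul]⟩
        · exact ⟨z, .inr rfl, h⟩
      have hζ : ∀ u ∈ Q, ζ * u = u * ζ := by
        rcases hζc with rfl | rfl
        · intro u _; rw [one_mul, mul_one]
        · exact fun u hu => (hQ.central u hu).symm
      have hfixed : c * (w * y * w⁻¹ * y⁻¹) * c⁻¹ = w * y * w⁻¹ * y⁻¹ := by
        rcases hQ.comm w hwQ y hy with h | h <;> rw [h]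
        · group
        · rw [mul_inv_cancel_right]; exact hcz
      have h2 : (ζ * w) * (y * n) * (ζ * w)⁻¹ * (y * n)⁻¹ = w * y * w⁻¹ * y⁻¹ := by
        rw [← hyc, ← hwc, ← hfixed]; group
      have hζy : ζ * (w * (y * n) * w⁻¹) * ζ⁻¹ = w * (y * n) * w⁻¹ := by
        rw [hζ _ (mul_mem (mul_mem hwQ (mul_mem hy (hA.le hnA))) (inv_mem hwQ)), mul_inv_cancel_right]
      rw [show (ζ * w) * (y * n) * (ζ * w)⁻¹ * (y * n)⁻¹ =
        (ζ * (w * (y * n) * w⁻¹) * ζ⁻¹) * (y * n)⁻¹ by group, hζy] at h2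
      show n * w = w * n
      calc n * w = (w * y * w⁻¹)⁻¹ * ((w * (y * n) * w⁻¹ * (y * n)⁻¹) * (y * n)) * w := by
            rw [h2]; group
        _ = w * n := by group
  set U := A ⊔ zpowers w
  have hUQ : U ≤ Q := sup_le hA.le (zpowers_le.2 hwQ)
  have hU16 : 16 ≤ Nat.card U := by
    have hd : Nat.card U ∣ 2 ^ 5 := by
      rw [show (2 : ℕ) ^ 5 = 32 by norm_num, ← hQ.card]; exact card_dvd_of_le hUQ
    obtain ⟨i, hi5, hi⟩ := (Nat.dvd_prime_pow Nat.prime_two).1 hd
    have hlt : 8 < Nat.card U := by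
      by_contra hle
      push Not at hle
      have heq : A = U := eq_of_le_of_card_ge le_sup_left (by rw [hA.card]; exact hle)
      exact hwA (heq ▸ mem_sup_right (mem_zpowers w))
    interval_cases i <;> omega
  have hall : ∀ V : Subgroup S, V ≤ Q → A ≤ V → w ∈ V → ∀ y ∈ V, y ∉ U → V = Q := by
    intro V hVQ hAV hwV y hy hyU
    refine eq_of_gt_half hVQ hQ.card (lt_of_le_of_lt hU16 ?_)
    have hle : U ≤ V := sup_le hAV (zpowers_le.2 hwV)
    rcases lt_or_eq_of_le (card_le_of_le hle) with h | h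
    · exact h
    · exact absurd ((eq_of_le_of_card_ge hle h.ge).symm ▸ hy) hyU
  have hout : ∀ y ∈ Q, y ∉ U → c * y * c⁻¹ = y ∨ c * y * c⁻¹ = y * z := by
    intro y hy hyU
    obtain ⟨hnA, hny, hnw⟩ := hn y hy
    set n := y⁻¹ * (c * y * c⁻¹) with hndef
    have hyc : c * y * c⁻¹ = y * n := by rw [hndef, mul_inv_cancel_left]
    have hV := hall (Q ⊓ centralizer ({n} : Set S)) inf_le_left
      (fun u hu => ⟨hA.le hu, mem_centralizer_singleton_iff.2 (hA.comm u hu n hnA)⟩)
      ⟨hwQ, mem_centralizer_singleton_iff.2 hnw.symm⟩ y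
      ⟨hy, mem_centralizer_singleton_iff.2 hny.symm⟩ hyU
    rcases hQ.center n (hA.le hnA) (fun u hu => (mem_centralizer_singleton_iff.1
      ((inf_eq_left.1 hV) hu)).symm) with h | h
    · exact .inl (by rw [hyc, h, mul_one])
    · exact .inr (by rw [hyc, h])
  obtain ⟨y₀, hy₀, hy₀U⟩ : ∃ y ∈ Q, y ∉ U := by
    by_contra hcon
    push Not at hcon
    -- `A` has index four in `Q`
    have hQU : U = Q := le_antisymm hUQ hcon
    have hAw : ∀ u ∈ U, u ∈ A ∨ u * w ∈ A := by
      intro u hu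
      let V : Subgroup S :=
        { carrier := {u | u ∈ Q ∧ (u ∈ A ∨ u * w ∈ A)}
          one_mem' := ⟨one_mem Q, .inl (one_mem A)⟩
          mul_mem' := by
            rintro u v ⟨hu, hu'⟩ ⟨hv, hv'⟩
            refine ⟨mul_mem hu hv, ?_⟩
            rcases hu' with hu' | hu' <;> rcases hv' with hv' | hv'
            · exact .inl (mul_mem hu' hv')
            · exact .inr (by rw [mul_assoc]; exact mul_mem hu' hv')
            · refine .inr ?_
              rw [show u * v * w = (u * w) * (w⁻¹ * v * w⁻¹⁻¹) by group]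
              exact mul_mem hu' (hnormA _ (inv_mem hwQ) v hv')
            · refine .inl ?_
              have hww : w * w ∈ A := by
                rcases hQ.sq w hwQ with h | h <;> rw [h]
                exacts [one_mem A, hzA]
              rw [show u * v = (u * w) * (w⁻¹ * (v * w) * w⁻¹⁻¹) * (w * w)⁻¹ by group]
              exact mul_mem (mul_mem hu' (hnormA _ (inv_mem hwQ) _ hv')) (inv_mem hww)
          inv_mem' := by
            rintro u ⟨hu, hu'⟩
            refine ⟨inv_mem hu, ?_⟩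
            rcases hu' with hu' | hu'
            · exact .inl (inv_mem hu')
            · refine .inr ?_
              have hww : w * w ∈ A := by
                rcases hQ.sq w hwQ with h | h <;> rw [h]
                exacts [one_mem A, hzA]
              rw [show u⁻¹ * w = (w * (u * w)⁻¹ * w⁻¹) * (w * w) by group]
              exact mul_mem (hnormA _ hwQ _ (inv_mem hu')) hww }
      have hwV : w ∈ V := ⟨hwQ, .inr (by
        rcases hQ.sq w hwQ with h | h <;> rw [h]
        exacts [one_mem A, hzA])⟩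
      exact ((sup_le (fun v hv => ⟨hA.le hv, .inl hv⟩) (zpowers_le.2 hwV) : U ≤ V) hu).2
    let f : A × Bool → S := fun p => if p.2 then (p.1 : S) * w⁻¹ else p.1
    have h1 : (Q : Set S) ⊆ Set.range f := fun u hu => by
      rcases hAw u (hQU.symm ▸ hu) with h | h
      · exact ⟨(⟨u, h⟩, false), rfl⟩
      · exact ⟨(⟨u * w, h⟩, true), by simp [f]⟩
    have h2 := Set.ncard_le_ncard h1
    rw [← Nat.card_coe_set_eq, ← Nat.card_coe_set_eq] at h2
    have h3 := h2.trans (Nat.card_le_card_of_surjective _ Set.rangeFactorization_surjective)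
    rw [Nat.card_prod, hA.card] at h3
    change Nat.card Q ≤ _ at h3
    rw [hQ.card] at h3
    simp at h3
  -- the action is realized inside `A`
  have hzc : ∀ u ∈ Q, ∀ v ∈ Q, u * v * u⁻¹ = v ∨ u * v * u⁻¹ = v * z := fun u hu v hv => by
    rw [hQ.central v hv]; exact hQ.comm u hu v hv
  let T := {p : S × S // (p.1 = w ∨ p.1 = w * z) ∧ (p.2 = y₀ ∨ p.2 = y₀ * z)}
  let g : A → T := fun u => ⟨((u : S) * w * (u : S)⁻¹, (u : S) * y₀ * (u : S)⁻¹),
    hzc u (hA.le u.2) w hwQ, hzc u (hA.le u.2) y₀ hy₀⟩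
  have hfib : ∀ u v : A, g u = g v → (v : S) = u ∨ (v : S) = u * z := by
    intro u v h
    have h1 : (u : S) * w * (u : S)⁻¹ = (v : S) * w * (v : S)⁻¹ := congrArg (fun p : T => p.1.1) h
    have h2 : (u : S) * y₀ * (u : S)⁻¹ = (v : S) * y₀ * (v : S)⁻¹ := congrArg (fun p : T => p.1.2) h
    set d := (u : S)⁻¹ * (v : S)
    have hdA : d ∈ A := mul_mem (inv_mem u.2) v.2
    have hd : ∀ q, (u : S) * q * (u : S)⁻¹ = (v : S) * q * (v : S)⁻¹ → q * d = d * q := fun q h => by
      calc q * d = (u : S)⁻¹ * ((u : S) * q * (u : S)⁻¹) * v := by simp only [d]; group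
        _ = d * q := by rw [h]; simp only [d]; group
    have hV := hall (Q ⊓ centralizer ({d} : Set S)) inf_le_left
      (fun a ha => ⟨hA.le ha, mem_centralizer_singleton_iff.2 (hA.comm a ha d hdA)⟩)
      ⟨hwQ, mem_centralizer_singleton_iff.2 (hd w h1)⟩ y₀
      ⟨hy₀, mem_centralizer_singleton_iff.2 (hd y₀ h2)⟩ hy₀U
    rcases hQ.center d (hA.le hdA) (fun q hq => (mem_centralizer_singleton_iff.1
      ((inf_eq_left.1 hV) hq)).symm) with h' | h'
    · exact .inl (inv_mul_eq_one.1 h').symm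
    · exact .inr (inv_mul_eq_iff_eq_mul.1 h')
  have hg : Function.Surjective g := by
    intro p
    by_contra hcon
    have hT : Nat.card T ≤ 4 := by
      refine (Nat.card_le_card_of_surjective (fun b : Bool × Bool => (⟨(if b.1 then w * z else w,
        if b.2 then y₀ * z else y₀), by cases b.1 <;> simp, by cases b.2 <;> simp⟩ : T)) ?_).trans
        (by simp [Nat.card_prod])
      rintro ⟨⟨p, q⟩, hp, hq⟩
      rcases hp with hp | hp <;> rcases hq with hq | hq
      · exact ⟨(false, false), Subtype.ext (Prod.ext hp.symm hq.symm)⟩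
      · exact ⟨(false, true), Subtype.ext (Prod.ext hp.symm hq.symm)⟩
      · exact ⟨(true, false), Subtype.ext (Prod.ext hp.symm hq.symm)⟩
      · exact ⟨(true, true), Subtype.ext (Prod.ext hp.symm hq.symm)⟩
    let R := {p : T // ∃ u, g u = p}
    have hR : Nat.card R < Nat.card T := Finite.card_subtype_lt (p := fun p : T => ∃ u, g u = p) (x := p) hcon
    let rt : R → A := fun p => p.2.choose
    let code : A → R × Bool := fun u => (⟨g u, u, rfl⟩, decide ((u : S) = rt ⟨g u, u, rfl⟩))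
    have hcode : Function.Injective code := by
      intro u v h
      obtain ⟨h1, h2⟩ := Prod.ext_iff.1 h
      have hgu : g u = g v := congrArg Subtype.val h1
      simp only [code] at h2
      have hr := hfib (rt ⟨g u, u, rfl⟩) u (⟨u, rfl⟩ : ∃ u', g u' = g u).choose_spec
      have hr' := hfib (rt ⟨g v, v, rfl⟩) v (⟨v, rfl⟩ : ∃ u', g u' = g v).choose_spec
      have hrt : rt ⟨g u, u, rfl⟩ = rt ⟨g v, v, rfl⟩ := congrArg rt (Subtype.ext hgu)
      rw [hrt] at hr h2
      have hb := decide_eq_decide.1 h2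
      refine Subtype.ext ?_
      rcases hr with e1 | e1 <;> rcases hr' with e2 | e2
      · rw [e1, e2]
      · rw [e1, hb.1 e1]
      · rw [e2, hb.2 e2]
      · rw [e1, e2]
    have h4 := Nat.card_le_card_of_injective code hcode
    rw [hA.card, Nat.card_prod] at h4
    have hb2 : Nat.card Bool = 2 := by simp
    rw [hb2] at h4
    omega
  have hp1 : c * w * c⁻¹ = w ∨ c * w * c⁻¹ = w * z := by
    rw [hQ.central w hwQ]; exact hw c hcNQ
  obtain ⟨u, hu⟩ := hg ⟨(c * w * c⁻¹, c * y₀ * c⁻¹), hp1, hout y₀ hy₀ hy₀U⟩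
  have h1 : (u : S) * w * (u : S)⁻¹ = c * w * c⁻¹ := congrArg (fun p : T => p.1.1) hu
  have h2 : (u : S) * y₀ * (u : S)⁻¹ = c * y₀ * c⁻¹ := congrArg (fun p : T => p.1.2) hu
  set d := (u : S)⁻¹ * c
  have hd : ∀ q, (u : S) * q * (u : S)⁻¹ = c * q * c⁻¹ → q * d = d * q := fun q h => by
    calc q * d = (u : S)⁻¹ * ((u : S) * q * (u : S)⁻¹) * c := by simp only [d]; group
      _ = d * q := by rw [h]; simp only [d]; group
  have hV := hall (Q ⊓ centralizer ({d} : Set S)) inf_le_left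
    (fun a ha => ⟨hA.le ha, mem_centralizer_singleton_iff.2 (hd a (by
      rw [hcA a ha, hA.comm _ u.2 a ha, mul_inv_cancel_right]))⟩)
    ⟨hwQ, mem_centralizer_singleton_iff.2 (hd w h1)⟩ y₀
    ⟨hy₀, mem_centralizer_singleton_iff.2 (hd y₀ h2)⟩ hy₀U
  refine hcQ ?_
  have hdQ : d ∈ Q := hQ.cent (mem_centralizer_iff.2 fun q hq =>
    mem_centralizer_singleton_iff.1 ((inf_eq_left.1 hV) hq))
  simpa [d] using mul_mem (hA.le u.2) hdQ

theorem rank_of_central {Q : Subgroup S} {z : S} (hQ : Central Q z) (h2 : IsPGroup 2 S)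
    {A₁ A₂ : Subgroup S} (h₁ : Line Q A₁) (h₂ : Line Q A₂)
    (h₁₂ : ∀ u ∈ A₁, u ∈ A₂ → u = 1 ∨ u = z) : Cfsg.SectionalPRankLE 2 4 S := by
  classical
  haveI : Fact (Nat.Prime 2) := ⟨Nat.prime_two⟩
  set NQ := normalizer (Q : Set S)
  have hzN : ∀ g ∈ NQ, g * z * g⁻¹ = z := by
    intro g hg
    have hgz : g * z * g⁻¹ ∈ Q := (mem_normalizer_iff.1 hg z).1 hQ.mem
    rcases hQ.center _ hgz (fun u hu => by
      have hu' : g⁻¹ * u * g ∈ Q := by simpa using (mem_normalizer_iff.1 (inv_mem hg) u).1 hu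
      calc g * z * g⁻¹ * u = g * (z * (g⁻¹ * u * g)) * g⁻¹ := by group
        _ = g * ((g⁻¹ * u * g) * z) * g⁻¹ := by rw [hQ.central _ hu']
        _ = u * (g * z * g⁻¹) := by group) with h | h
    · exact absurd (conj_eq_one_iff.1 h) hQ.ne
    · exact h
  let Z : Subgroup S :=
    { carrier := {1, z}
      one_mem' := .inl rfl
      mul_mem' := by
        intro u v hu hv
        rcases hu with hu | hu <;> rcases hv with hv | hv <;> rw [hu, hv]
        · exact .inl (one_mul 1)
        · exact .inr (one_mul z)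
        · exact .inr (mul_one z)
        · exact .inl hQ.sq_z
      inv_mem' := by
        intro u hu
        rcases hu with hu | hu <;> rw [hu]
        · exact .inl inv_one
        · exact .inr (inv_eq_of_mul_eq_one_left hQ.sq_z) }
  haveI hn1 : (Z.subgroupOf NQ).Normal := ⟨fun u hu g => by
    rw [mem_subgroupOf] at hu ⊢
    push_cast
    rcases hu with h | h
    · rw [h]; exact .inl (by group)
    · rw [show (u : S) = z from h]; exact .inr (hzN g g.2)⟩
  haveI hn2 : (Q.subgroupOf NQ).Normal := (normal_subgroupOf_iff_le_normalizer le_normalizer).2 le_rfl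
  obtain ⟨w', hw', hw'Z, -, hwc, -, -⟩ := PGroup.exists_normal_between (h2.to_subgroup NQ)
    (A := Z.subgroupOf NQ) (C := Q.subgroupOf NQ) fun hle => by
      have h1 : (Q : Set S).ncard ≤ ({1, z} : Set S).ncard := Set.ncard_le_ncard fun u hu => by
        have := hle (show (⟨u, le_normalizer hu⟩ : NQ) ∈ Q.subgroupOf NQ from hu)
        exact this
      rw [Set.ncard_pair hQ.ne.symm, ← Nat.card_coe_set_eq] at h1
      have := hQ.card
      change Nat.card Q ≤ 2 at h1
      omega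
  rw [mem_subgroupOf] at hw' hw'Z
  set w := (w' : S)
  have hw : ∀ g ∈ NQ, g * w * g⁻¹ = w ∨ g * w * g⁻¹ = z * w := by
    intro g hg
    have h1 := hwc ⟨g, hg⟩
    rw [mem_subgroupOf] at h1
    simp only [commutatorElement_def, Subgroup.coe_mul, Subgroup.coe_inv] at h1
    rcases h1 with h | h
    · exact .inl (mul_inv_eq_one.1 h)
    · exact .inr (mul_inv_eq_iff_eq_mul.1 h)
  by_cases h : w ∈ A₁
  · have hw2 : w ∉ A₂ := fun h' => hw'Z ((h₁₂ w h h').elim (fun e => .inl e) fun e => .inr e)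
    exact rank_le_four h2 h₂.comm h₂.sq h₂.card (line_self hQ h2 h₂ hw' hw2 hw)
  · exact rank_le_four h2 h₁.comm h₁.sq h₁.card (line_self hQ h2 h₁ hw' h hw)

/-! ### The central product of two quaternion groups -/

/-- The direct product covering the central product. -/
abbrev Q8Q8 : Type := QuaternionGroup 2 × QuaternionGroup 2

/-- The kernel of the covering map. -/
def InKer (u : Q8Q8) : Prop := u = 1 ∨ u = (QuaternionGroup.a 2, QuaternionGroup.a 2)

/-- An automorphism of order three modulo the centre. -/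
def rot : QuaternionGroup 2 → QuaternionGroup 2
  | .a i => if i = 0 then .a 0 else if i = 1 then .xa 0 else if i = 2 then .a 2 else .xa 2
  | .xa i => if i = 0 then .xa 3 else if i = 1 then .a 3 else if i = 2 then .xa 1 else .a 1

/-- The diagonal line. -/
def OnFirst (u : Q8Q8) : Prop := u.2 = u.1 ∨ u.2 = u.1 * QuaternionGroup.a 2

/-- The rotated line. -/
def OnSecond (u : Q8Q8) : Prop := u.2 = rot u.1 ∨ u.2 = rot u.1 * QuaternionGroup.a 2

/-- Representatives of a quaternion group modulo its centre. -/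
def rep : Fin 4 → QuaternionGroup 2 := ![.a 0, .a 1, .xa 0, .xa 1]

set_option synthInstance.maxSize 5000 in
theorem first_facts :
    OnFirst 1 ∧ (∀ u v, OnFirst u → OnFirst v → OnFirst (u * v)) ∧
    (∀ u, OnFirst u → OnFirst u⁻¹) ∧ (∀ u, OnFirst u → InKer (u * u)) ∧
    (∀ u v, OnFirst u → OnFirst v → InKer ((u * v)⁻¹ * (v * u))) ∧
    (∀ u, (∀ v, OnFirst v → InKer ((u * v)⁻¹ * (v * u))) → OnFirst u) := by
  unfold OnFirst InKer; decide +kernel

set_option synthInstance.maxSize 5000 in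
theorem second_facts :
    OnSecond 1 ∧ (∀ u v, OnSecond u → OnSecond v → OnSecond (u * v)) ∧
    (∀ u, OnSecond u → OnSecond u⁻¹) ∧ (∀ u, OnSecond u → InKer (u * u)) ∧
    (∀ u v, OnSecond u → OnSecond v → InKer ((u * v)⁻¹ * (v * u))) ∧
    (∀ u, (∀ v, OnSecond v → InKer ((u * v)⁻¹ * (v * u))) → OnSecond u) := by
  unfold OnSecond InKer; decide +kernel

set_option synthInstance.maxSize 5000 in
theorem meet_facts : ∀ u v, OnFirst u → OnSecond v → InKer (v⁻¹ * u) →
    InKer u ∨ InKer ((QuaternionGroup.a 2, 1)⁻¹ * u) := by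
  unfold OnFirst OnSecond InKer; decide +kernel

/-- The elements of the two lines, modulo the kernel. -/
def point (σ : QuaternionGroup 2 → QuaternionGroup 2) (p : Fin 4 × Bool) : Q8Q8 :=
  (rep p.1, σ (rep p.1) * if p.2 then QuaternionGroup.a 2 else 1)

set_option synthInstance.maxSize 5000 in
theorem first_count :
    (∀ p, OnFirst (point id p)) ∧
    (∀ p q, InKer ((point id p)⁻¹ * point id q) → p = q) ∧
    (∀ u, OnFirst u → ∃ p, InKer ((point id p)⁻¹ * u)) := by
  unfold OnFirst InKer; decide +kernel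

set_option synthInstance.maxSize 5000 in
theorem second_count :
    (∀ p, OnSecond (point rot p)) ∧
    (∀ p q, InKer ((point rot p)⁻¹ * point rot q) → p = q) ∧
    (∀ u, OnSecond u → ∃ p, InKer ((point rot p)⁻¹ * u)) := by
  unfold OnSecond InKer; decide +kernel

set_option synthInstance.maxSize 5000 in
theorem center_facts :
    (¬ InKer (QuaternionGroup.a 2, 1)) ∧
    (∀ u : Q8Q8, InKer (((QuaternionGroup.a 2, 1) * u)⁻¹ * (u * (QuaternionGroup.a 2, 1)))) ∧
    (InKer (((QuaternionGroup.a 2, 1) : Q8Q8) * (QuaternionGroup.a 2, 1))) ∧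
    (∀ u : Q8Q8, (∀ v, InKer ((u * v)⁻¹ * (v * u))) →
      InKer u ∨ InKer ((QuaternionGroup.a 2, 1)⁻¹ * u)) ∧
    (∀ u v : Q8Q8, InKer (v⁻¹ * (u * v * u⁻¹)) ∨
      InKer (((QuaternionGroup.a 2, 1) * v)⁻¹ * (u * v * u⁻¹))) ∧
    (∀ u : Q8Q8, InKer (u * u) ∨ InKer ((QuaternionGroup.a 2, 1)⁻¹ * (u * u))) := by
  unfold InKer; decide +kernel

set_option synthInstance.maxSize 5000 in
theorem q8_center : ∀ x : QuaternionGroup 2, (∀ y, x * y = y * x) → x = 1 ∨ x = QuaternionGroup.a 2 := by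
  decide +kernel

theorem rank_of_extraspecial (h2 : IsPGroup 2 S) (Q Q₁ Q₂ : Subgroup S)
    (e₁ : Q₁ ≃* QuaternionGroup 2) (e₂ : Q₂ ≃* QuaternionGroup 2)
    (hcomm : ∀ a ∈ Q₁, ∀ b ∈ Q₂, a * b = b * a) (hQ : Q₁ ⊔ Q₂ = Q) (hQ32 : Nat.card Q = 32)
    (hC : centralizer (Q : Set S) ≤ Q) : Cfsg.SectionalPRankLE 2 4 S := by
  classical
  let f : Q8Q8 →* S := MonoidHom.noncommCoprod (Q₁.subtype.comp e₁.symm.toMonoidHom)
    (Q₂.subtype.comp e₂.symm.toMonoidHom) fun x y => hcomm _ (e₁.symm x).2 _ (e₂.symm y).2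
  have hfap : ∀ u, f u = (e₁.symm u.1 : S) * (e₂.symm u.2 : S) := fun u => rfl
  have hrange : f.range = Q := by
    refine le_antisymm ?_ ?_
    · rintro _ ⟨u, rfl⟩
      rw [hfap, ← hQ]
      exact mul_mem (mem_sup_left (e₁.symm u.1).2) (mem_sup_right (e₂.symm u.2).2)
    · rw [← hQ]
      refine sup_le (fun x hx => ⟨(e₁ ⟨x, hx⟩, 1), ?_⟩) fun x hx => ⟨(1, e₂ ⟨x, hx⟩), ?_⟩
      · rw [hfap]; simp
      · rw [hfap]; simp
  have hker2 : Nat.card f.ker = 2 := by
    have h := f.ker.card_mul_index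
    rw [index_ker, hrange, hQ32] at h
    have h64 : Nat.card Q8Q8 = 64 := by simp [Q8Q8, Nat.card_prod, Nat.card_eq_fintype_card, QuaternionGroup.card]
    omega
  have hkeronly : ∀ u, f u = 1 → u = 1 ∨ u = (QuaternionGroup.a 2, QuaternionGroup.a 2) := by
    intro u hu
    rw [hfap] at hu
    have hcen : ∀ y, u.1 * y = y * u.1 := by
      intro y
      refine e₁.symm.injective (Subtype.ext ?_)
      simp only [map_mul, Subgroup.coe_mul]
      have hx : (e₁.symm u.1 : S) = ((e₂.symm u.2 : S))⁻¹ := eq_inv_of_mul_eq_one_left hu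
      rw [hx]
      exact (hcomm _ (e₁.symm y).2 _ (inv_mem (e₂.symm u.2).2)).symm
    have hcen2 : ∀ y, u.2 * y = y * u.2 := by
      intro y
      refine e₂.symm.injective (Subtype.ext ?_)
      simp only [map_mul, Subgroup.coe_mul]
      have hx : (e₂.symm u.2 : S) = ((e₁.symm u.1 : S))⁻¹ := eq_inv_of_mul_eq_one_right hu
      rw [hx]
      exact hcomm _ (inv_mem (e₁.symm u.1).2) _ (e₂.symm y).2
    obtain ⟨u₁, u₂⟩ := u
    rcases q8_center _ hcen with h1 | h1 <;> rcases q8_center _ hcen2 with h2 | h2 <;>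
      dsimp only at h1 h2 <;> subst h1 <;> subst h2
    · exact .inl rfl
    · exfalso
      simp only [map_one, Subgroup.coe_one, one_mul] at hu
      have h3 := congrArg e₂ (Subtype.ext hu : e₂.symm (QuaternionGroup.a 2) = 1)
      rw [MulEquiv.apply_symm_apply, map_one] at h3
      exact absurd h3 (by decide)
    · exfalso
      simp only [map_one, Subgroup.coe_one, mul_one] at hu
      have h3 := congrArg e₁ (Subtype.ext hu : e₁.symm (QuaternionGroup.a 2) = 1)
      rw [MulEquiv.apply_symm_apply, map_one] at h3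
      exact absurd h3 (by decide)
    · exact .inr rfl
  have hk : f (QuaternionGroup.a 2, QuaternionGroup.a 2) = 1 := by
    by_contra hne
    have hbot : f.ker = ⊥ := by
      rw [eq_bot_iff]
      intro u hu
      rcases hkeronly u hu with rfl | rfl
      · exact one_mem _
      · exact absurd hu hne
    rw [hbot, card_bot] at hker2
    omega
  have hiff : ∀ u v, f u = f v ↔ InKer (u⁻¹ * v) := by
    intro u v
    constructor
    · intro h
      exact hkeronly _ (by rw [map_mul, map_inv, h, inv_mul_cancel])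
    · intro h
      have h1 : f (u⁻¹ * v) = 1 := by
        rcases h with h | h <;> rw [h]
        exacts [map_one f, hk]
      rwa [map_mul, map_inv, inv_mul_eq_one] at h1
  have h1iff : ∀ u, InKer u → f u = 1 := fun u h => by
    rw [← map_one f]; exact ((hiff 1 u).2 (by rwa [inv_one, one_mul])).symm
  have hmem : ∀ q ∈ Q, ∃ u, f u = q := fun q hq => by rw [← hrange] at hq; exact hq
  have hfQ : ∀ u, f u ∈ Q := fun u => hrange ▸ ⟨u, rfl⟩
  obtain ⟨c1, c2, c3, c4, c5, c6⟩ := center_facts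
  set z₀ : Q8Q8 := (QuaternionGroup.a 2, 1)
  have hCen : Central Q (f z₀) := by
    refine ⟨hfQ _, fun h => c1 ?_, ?_, ?_, hQ32, ?_, ?_, ?_, hC⟩
    · rw [← map_one f] at h
      simpa using (hiff 1 z₀).1 h.symm
    · rw [← map_mul]; exact h1iff _ c3
    · intro q hq
      obtain ⟨u, rfl⟩ := hmem q hq
      rw [← map_mul, ← map_mul]
      exact ((hiff _ _).2 (c2 u)).symm
    · intro y hy hcy
      obtain ⟨u, rfl⟩ := hmem y hy
      rcases c4 u (fun v => (hiff _ _).1 (by rw [map_mul, map_mul]; exact hcy _ (hfQ v))) with h | h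
      · exact .inl (h1iff u h)
      · exact .inr ((hiff _ _).2 h).symm
    · intro p hp q hq
      obtain ⟨u, rfl⟩ := hmem p hp
      obtain ⟨v, rfl⟩ := hmem q hq
      rw [← map_inv, ← map_mul, ← map_mul]
      rcases c5 u v with h | h
      · exact .inl ((hiff _ _).2 h).symm
      · exact .inr (by rw [← map_mul]; exact ((hiff _ _).2 h).symm)
    · intro p hp
      obtain ⟨u, rfl⟩ := hmem p hp
      rw [← map_mul]
      rcases c6 u with h | h
      · exact .inl (h1iff _ h)
      · exact .inr ((hiff _ _).2 h).symm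
  have mk : ∀ (P : Q8Q8 → Prop) (σ : QuaternionGroup 2 → QuaternionGroup 2),
      (P 1 ∧ (∀ u v, P u → P v → P (u * v)) ∧ (∀ u, P u → P u⁻¹) ∧ (∀ u, P u → InKer (u * u)) ∧
        (∀ u v, P u → P v → InKer ((u * v)⁻¹ * (v * u))) ∧
        (∀ u, (∀ v, P v → InKer ((u * v)⁻¹ * (v * u))) → P u)) →
      ((∀ p, P (point σ p)) ∧ (∀ p q, InKer ((point σ p)⁻¹ * point σ q) → p = q) ∧
        (∀ u, P u → ∃ p, InKer ((point σ p)⁻¹ * u))) →
      ∃ A : Subgroup S, Line Q A ∧ ∀ y ∈ A, ∃ u, P u ∧ f u = y := by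
    intro P σ ⟨hp1, hpm, hpi, hps, hpc, hpx⟩ ⟨hq1, hq2, hq3⟩
    let P₀ : Subgroup Q8Q8 :=
      { carrier := {u | P u}, one_mem' := hp1, mul_mem' := fun hu hv => hpm _ _ hu hv,
        inv_mem' := fun hu => hpi _ hu }
    refine ⟨P₀.map f, ⟨?_, ?_, ?_, ?_, ?_⟩, fun y ⟨u, hu, h⟩ => ⟨u, hu, h⟩⟩
    · rintro _ ⟨u, -, rfl⟩; exact hfQ u
    · rintro _ ⟨u, hu, rfl⟩ _ ⟨v, hv, rfl⟩
      rw [← map_mul, ← map_mul]
      exact (hiff _ _).2 (hpc u v hu hv)
    · rintro _ ⟨u, hu, rfl⟩
      rw [← map_mul]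
      exact h1iff _ (hps u hu)
    · let g : Fin 4 × Bool → P₀.map f := fun p => ⟨f (point σ p), _, hq1 p, rfl⟩
      have hgb : Function.Bijective g := by
        refine ⟨fun p q h => hq2 p q ((hiff _ _).1 (congrArg Subtype.val h)), ?_⟩
        rintro ⟨_, u, hu, rfl⟩
        obtain ⟨p, hp⟩ := hq3 u hu
        exact ⟨p, Subtype.ext ((hiff _ _).2 hp)⟩
      rw [← Nat.card_congr (Equiv.ofBijective g hgb)]
      simp [Nat.card_prod]
    · intro y hy hcy
      obtain ⟨u, rfl⟩ := hmem y hy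
      exact ⟨u, hpx u (fun v hv => (hiff _ _).1 (by
        rw [map_mul, map_mul]; exact hcy _ ⟨v, hv, rfl⟩)), rfl⟩
  obtain ⟨A₁, hA₁, hm₁⟩ := mk OnFirst id first_facts first_count
  obtain ⟨A₂, hA₂, hm₂⟩ := mk OnSecond rot second_facts second_count
  refine rank_of_central hCen h2 hA₁ hA₂ fun y hy1 hy2 => ?_
  obtain ⟨u, hu, rfl⟩ := hm₁ y hy1
  obtain ⟨v, hv, hvu⟩ := hm₂ _ hy2
  rcases meet_facts u v hu hv ((hiff _ _).1 hvu) with h | h
  · exact .inl (h1iff u h)
  · exact .inr ((hiff _ _).2 h).symm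

end Cfsg.Agent.TwoFusionB.Harada
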