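import Cfsg.Agent.TwoFusionB.HaradaMain

/-!
The wreath product of a four-group with a group of order two, centralizing its centre.
-/

set_option autoImplicit false

namespace Cfsg.Agent.TwoFusionB.Harada

open Subgroup

variable {S : Type*} [Group S] [Finite S]

theorem rank_of_wreath (h2 : IsPGroup 2 S) (Q E : Subgroup S) (hEQ : E ≤ Q)
    (hEc : ∀ u ∈ E, ∀ v ∈ E, u * v = v * u) (hE2 : ∀ u ∈ E, u * u = 1) (hE16 : Nat.card E = 16)
    (hQ32 : Nat.card Q = 32) (s : S) (hsQ : s ∈ Q) (hsE : s ∉ E) (hs : s * s = 1)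
    (hfix : Nat.card ↥(E ⊓ centralizer ({s} : Set S)) = 4)
    (hC : centralizer (((center Q).map Q.subtype : Subgroup S) : Set S) = Q) :
    Cfsg.SectionalPRankLE 2 4 S := by
  set F := E ⊓ centralizer ({s} : Set S) with hFdef
  have hF : ∀ y, y ∈ F ↔ y ∈ E ∧ y * s = s * y := fun y => by
    rw [hFdef, mem_inf, mem_centralizer_singleton_iff]
  have hidx : (E.subgroupOf Q).index = 2 := by
    have h := (E.subgroupOf Q).card_mul_index
    rw [Nat.card_congr (subgroupOfEquivOfLe hEQ).toEquiv, hE16, hQ32] at h
    omega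
  have hdec : ∀ u ∈ Q, u ∈ E ∨ u * s ∈ E := fun u hu => by
    by_cases h : u ∈ E
    · exact .inl h
    · exact .inr (mem_subgroupOf.1
        ((mul_mem_iff_of_index_two hidx (a := ⟨u, hu⟩) (b := ⟨s, hsQ⟩)).2 (iff_of_false h hsE)))
  have hcomm : ∀ y ∈ F, ∀ u ∈ Q, y * u = u * y := by
    intro y hy u hu
    obtain ⟨hyE, hys⟩ := (hF y).1 hy
    rcases hdec u hu with h | h
    · exact hEc y hyE u h
    · have h1 : Commute y (u * s) := hEc y hyE _ h
      have h2 : Commute y s := hys
      have h3 := h1.mul_right h2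
      rw [mul_assoc, hs, mul_one] at h3
      exact h3.eq
  have hcen : (center Q).map Q.subtype ≤ F := by
    rintro _ ⟨x, hx, rfl⟩
    have hx' : ∀ u ∈ Q, u * (x : S) = (x : S) * u := fun u hu =>
      congrArg Subtype.val (mem_center_iff.1 hx ⟨u, hu⟩)
    rcases hdec x x.2 with h | h
    · exact (hF _).2 ⟨h, (hx' s hsQ).symm⟩
    · exfalso
      have hle : E ≤ F := fun e he => by
        refine (hF e).2 ⟨he, ?_⟩
        have h1 : Commute e ((x : S) * s) := hEc e he _ h
        have h2 : Commute e (x : S) := hx' e (hEQ he)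
        have h3 := h2.inv_right.mul_right h1
        rwa [inv_mul_cancel_left] at h3
      have := card_le_of_le hle
      omega
  let A : Subgroup S :=
    { carrier := {y | y ∈ F ∨ y * s ∈ F}
      one_mem' := .inl (one_mem F)
      mul_mem' := by
        rintro u v (hu | hu) (hv | hv)
        · exact .inl (mul_mem hu hv)
        · exact .inr (by rw [mul_assoc]; exact mul_mem hu hv)
        · refine .inr ?_
          rw [mul_assoc, hcomm v hv s hsQ, ← mul_assoc]
          exact mul_mem hu hv
        · refine .inl ?_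
          have h1 := ((hF _).1 hv).2
          have h : u * v = (u * s) * (v * s) := by
            calc u * v = u * ((v * s) * s) := by rw [mul_assoc v, hs, mul_one]
              _ = u * (s * (v * s)) := by rw [h1]
              _ = _ := by group
          rw [h]
          exact mul_mem hu hv
      inv_mem' := by
        rintro u (hu | hu)
        · exact .inl (inv_mem hu)
        · refine .inr ?_
          have h1 : Commute (u * s) s := ((hF _).1 hu).2
          have h : u⁻¹ * s = (u * s)⁻¹ := by
            calc u⁻¹ * s = s * (u * s)⁻¹ * s := by group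
              _ = (u * s)⁻¹ * (s * s) := by rw [← h1.inv_left.eq, mul_assoc]
              _ = _ := by rw [hs, mul_one]
          rw [h]
          exact inv_mem hu }
  have hAQ : ∀ y ∈ A, y ∈ Q := by
    rintro y (hy | hy)
    · exact hEQ ((hF y).1 hy).1
    · simpa using mul_mem (hEQ ((hF _).1 hy).1) (inv_mem hsQ)
  have hAs : ∀ y ∈ A, Commute y s := by
    rintro y (hy | hy)
    · exact ((hF y).1 hy).2
    · have h1 : Commute (y * s) s := ((hF _).1 hy).2
      have := h1.mul_left (Commute.refl s)
      rwa [mul_assoc, hs, mul_one] at this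
  have hAc : ∀ u ∈ A, ∀ v ∈ A, u * v = v * u := by
    rintro u hu v (hv | hv)
    · exact (hcomm v hv u (hAQ u hu)).symm
    · have h1 : Commute u (v * s) := (hcomm _ hv u (hAQ u hu)).symm
      have h2 := h1.mul_right (hAs u hu)
      rw [mul_assoc, hs, mul_one] at h2
      exact h2.eq
  have hA2 : ∀ u ∈ A, u * u = 1 := by
    intro u hu
    rcases hu with h | h
    · exact hE2 u ((hF u).1 h).1
    · have h1 := hE2 _ ((hF _).1 h).1
      rwa [(hAs u (.inr h)).symm.mul_mul_mul_comm, hs, mul_one] at h1
  have hA8 : Nat.card A = 8 := by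
    let g : F × Bool → A := fun p => if p.2 then
      ⟨(p.1 : S) * s, .inr (by rw [mul_assoc, hs, mul_one]; exact p.1.2)⟩ else ⟨p.1, .inl p.1.2⟩
    have hg : Function.Bijective g := by
      refine ⟨?_, ?_⟩
      · rintro ⟨x, b⟩ ⟨y, c⟩ h
        have hne : ∀ x y : F, (x : S) ≠ (y : S) * s := fun x y h => hsE (by
          have := mul_mem (inv_mem ((hF _).1 y.2).1) ((hF _).1 x.2).1
          rwa [h, inv_mul_cancel_left] at this)
        have h' := congrArg Subtype.val h
        cases b <;> cases c <;> simp [g] at h'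
        · rw [h']
        · exact absurd h' (hne x y)
        · exact absurd h'.symm (hne y x)
        · rw [h']
      · rintro ⟨y, hy | hy⟩
        · exact ⟨(⟨y, hy⟩, false), rfl⟩
        · exact ⟨(⟨y * s, hy⟩, true), Subtype.ext (by simp [g, mul_assoc, hs])⟩
    rw [← Nat.card_congr (Equiv.ofBijective g hg), Nat.card_prod, hfix]
    simp
  refine rank_le_four h2 hAc hA2 hA8 (le_antisymm (fun c hc => ?_) fun u hu =>
    mem_centralizer_iff.2 fun v hv => hAc v hv u hu)
  have hsA : s ∈ A := .inr (by rw [hs]; exact one_mem F)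
  have hcs : c * s = s * c := (mem_centralizer_iff.1 hc s hsA).symm
  have hcQ : c ∈ Q := by
    rw [← hC]
    exact mem_centralizer_iff.2 fun y hy => mem_centralizer_iff.1 hc y (.inl (hcen hy))
  rcases hdec c hcQ with h | h
  · exact .inl ((hF c).2 ⟨h, hcs⟩)
  · refine .inr ((hF _).2 ⟨h, ?_⟩)
    rw [← mul_assoc s c s, ← hcs]

end Cfsg.Agent.TwoFusionB.Harada
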