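import Cfsg.Agent.Classification.FourGroup
import Cfsg.Prelude.Def_CaseTheorems

/-!
# Klein four-subgroups of groups with a cyclic subgroup of index 2
-/

set_option autoImplicit false

namespace Cfsg.Agent.TwoFusionB

open Cfsg.Agent.Classification

variable {Q : Type*} [Group Q] [Finite Q]

theorem card_sq_eq_one_zpowers_le (x : Q) (B : Subgroup Q) (hB : B ≤ Subgroup.zpowers x)
    (h2 : ∀ z ∈ B, z ^ 2 = 1) : Nat.card B ≤ 2 := by
  have : IsCyclic B := isCyclic_of_injective _ (Subgroup.inclusion_injective hB)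
  obtain ⟨b, hb⟩ := IsCyclic.exists_generator (α := B)
  rw [← orderOf_eq_card_of_forall_mem_zpowers hb]
  exact Nat.le_of_dvd two_pos (orderOf_dvd_of_pow_eq_one (Subtype.ext (by simpa using h2 b b.2)))

/-- If `⟨x⟩` has index 2 and involutions outside centralize in `⟨x⟩` only square roots of 1, then
each four-subgroup is self-centralizing. -/
theorem centralizer_le_of_index_two (x : Q) (hidx : (Subgroup.zpowers x).index = 2)
    (hinv : ∀ s ∉ Subgroup.zpowers x, ∀ z ∈ Subgroup.zpowers x, s * z = z * s → z ^ 2 = 1)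
    {V : Subgroup Q} (hV : IsKleinFour V) : Subgroup.centralizer (V : Set Q) ≤ V := by
  have h4 : Nat.card V = 4 := hV.card_four
  obtain ⟨s, hsV, hsx⟩ : ∃ s ∈ V, s ∉ Subgroup.zpowers x := by
    by_contra h
    push Not at h
    have := card_sq_eq_one_zpowers_le x V h (fun z hz => isKleinFour_sq hV hz)
    omega
  set C := Subgroup.centralizer ({s} : Set Q)
  have hVC : V ≤ C := fun v hv =>
    Subgroup.mem_centralizer_singleton_iff.mpr (isKleinFour_comm hV hv hsV)
  have h1 : Nat.card (C ⊓ Subgroup.zpowers x : Subgroup Q) ≤ 2 :=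
    card_sq_eq_one_zpowers_le x _ inf_le_right
      (fun z hz => hinv s hsx z hz.2 (Subgroup.mem_centralizer_singleton_iff.mp hz.1).symm)
  have h2 : (C ⊓ Subgroup.zpowers x : Subgroup Q).relIndex C ≤ 2 := by
    rw [inf_comm, Subgroup.inf_relIndex_right]
    have : (Subgroup.zpowers x).Normal := Subgroup.normal_of_index_eq_two hidx
    exact (Nat.le_of_dvd (by omega) (Subgroup.relIndex_dvd_index_of_normal _ C)).trans hidx.le
  have h3 : Nat.card C ≤ 4 := by
    rw [← Subgroup.card_mul_index (((C ⊓ Subgroup.zpowers x : Subgroup Q)).subgroupOf C),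
      Nat.card_congr (Subgroup.subgroupOfEquivOfLe (inf_le_left : C ⊓ Subgroup.zpowers x ≤ C)).toEquiv]
    exact Nat.mul_le_mul h1 h2
  have hCV : V = C := Subgroup.eq_of_le_of_card_ge hVC (by omega)
  intro c hc
  rw [hCV]
  exact Subgroup.mem_centralizer_singleton_iff.mpr
    (Subgroup.mem_centralizer_iff.mp hc s hsV).symm

open DihedralGroup in
theorem centralizer_le_dihedral {m : ℕ} [NeZero m] {V : Subgroup (DihedralGroup m)}
    (hV : IsKleinFour V) : Subgroup.centralizer (V : Set (DihedralGroup m)) ≤ V := by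
  refine centralizer_le_of_index_two (r 1) ?_ ?_ hV
  · have := Subgroup.card_mul_index (Subgroup.zpowers (r 1 : DihedralGroup m))
    rw [Nat.card_zpowers, orderOf_r_one, DihedralGroup.nat_card, mul_comm 2] at this
    exact Nat.eq_of_mul_eq_mul_left (NeZero.pos m) this
  · intro s hs z hz hcomm
    obtain ⟨k, rfl⟩ := Subgroup.mem_zpowers_iff.mp hz
    rcases s with a | a
    · exact absurd (Subgroup.mem_zpowers_iff.mpr
        ⟨(a.val : ℤ), by simp [ZMod.natCast_zmod_val]⟩) hs
    · rw [r_one_zpow, sr_mul_r, r_mul_sr, sr.injEq] at hcomm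
      rw [r_one_zpow, sq, r_mul_r, one_def, r.injEq]
      linear_combination hcomm

theorem isKleinFour_of_map_equiv {R : Type*} [Group R] (e : Q ≃* R) {V : Subgroup Q}
    (hV : IsKleinFour V) : IsKleinFour (V.map e.toMonoidHom) :=
  isKleinFour_map _ e.injective hV

theorem centralizer_le_of_isQuasiDihedral (hQ : Cfsg.IsQuasiDihedral Q) {V : Subgroup Q}
    (hV : IsKleinFour V) : Subgroup.centralizer (V : Set Q) ≤ V := by
  obtain ⟨n, hn, hcard, x, y, hx, hy, hxy⟩ := hQ
  have hidx : (Subgroup.zpowers x).index = 2 := by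
    have := Subgroup.card_mul_index (Subgroup.zpowers x)
    rw [Nat.card_zpowers, hx, hcard, pow_succ] at this
    exact Nat.eq_of_mul_eq_mul_left (by positivity) this
  obtain ⟨c, hc⟩ : ∃ c, 2 ^ (n - 1) - 2 = 2 * c ∧ Odd c := by
    refine ⟨2 ^ (n - 2) - 1, ?_, ?_⟩
    · rw [show n - 1 = (n - 2) + 1 by omega, pow_succ']; omega
    · exact Nat.Even.sub_odd Nat.one_le_two_pow
        ((Nat.even_pow' (by omega)).mpr even_two) odd_one
  refine centralizer_le_of_index_two x hidx ?_ hV
  intro s hs z hz hcomm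
  have hyx : y ∉ Subgroup.zpowers x := by
    intro h
    obtain ⟨k, hk⟩ := Subgroup.mem_zpowers_iff.mp h
    have h1 : y * x * y⁻¹ = x := by
      rw [← hk, ((Commute.refl x).zpow_left k).eq, mul_inv_cancel_right]
    rw [h1] at hxy
    have h2 : x ^ (2 ^ (n - 1) - 2) = 1 := by
      have h3 : x * x ^ (2 ^ (n - 1) - 2) = x * 1 := by
        rw [mul_one, ← pow_succ']
        have : 2 ^ 2 ≤ 2 ^ (n - 1) := Nat.pow_le_pow_right (by norm_num) (by omega)
        rw [show 2 ^ (n - 1) - 2 + 1 = 2 ^ (n - 1) - 1 by omega]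
        exact hxy.symm
      exact mul_left_cancel h3
    have h4 := orderOf_dvd_of_pow_eq_one h2
    rw [hx, hc.1, show n = (n - 1) + 1 by omega, pow_succ'] at h4
    have h5 := Nat.dvd_of_mul_dvd_mul_left two_pos h4
    exact Nat.not_even_iff_odd.mpr hc.2
      (even_iff_two_dvd.mpr ((dvd_pow_self 2 (by omega)).trans h5))
  obtain ⟨k, hk⟩ := Subgroup.mem_zpowers_iff.mp hz
  -- `s` and `y` lie in the same coset of the cyclic subgroup
  have hsy : s * y⁻¹ ∈ Subgroup.zpowers x := by
    have := Subgroup.mul_mem_iff_of_index_two hidx (a := s) (b := y⁻¹)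
    rw [this, Subgroup.inv_mem_iff]
    simp [hs, hyx]
  obtain ⟨l, hl⟩ := Subgroup.mem_zpowers_iff.mp hsy
  have hse : s = x ^ l * y := by rw [hl, inv_mul_cancel_right]
  have hyz : y * z = z * y := by
    rw [hse, mul_assoc, ← mul_assoc z, ← hk, ← ((Commute.refl x).zpow_zpow l k).eq,
      mul_assoc] at hcomm
    rw [← hk]
    exact mul_left_cancel hcomm
  have h6 : z ^ (2 ^ (n - 1) - 2) = 1 := by
    have h7 : z = z ^ (2 ^ (n - 1) - 1) := by
      have h8 : y * z * y⁻¹ = z ^ (2 ^ (n - 1) - 1) := by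
        rw [← hk, ← conj_zpow, hxy, ← zpow_natCast, ← zpow_mul, ← zpow_natCast (x ^ k),
          ← zpow_mul, mul_comm]
      rwa [hyz, mul_inv_cancel_right] at h8
    have : 2 ^ 2 ≤ 2 ^ (n - 1) := Nat.pow_le_pow_right (by norm_num) (by omega)
    have h9 : z * z ^ (2 ^ (n - 1) - 2) = z * 1 := by
      rw [mul_one, ← pow_succ', show 2 ^ (n - 1) - 2 + 1 = 2 ^ (n - 1) - 1 by omega]
      exact h7.symm
    exact mul_left_cancel h9
  rw [hc.1, pow_mul] at h6
  apply orderOf_eq_one_iff.mp
  refine Nat.eq_one_of_dvd_coprimes (a := c) (b := 2 ^ n) (Nat.Coprime.pow_right n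
    (Nat.coprime_two_right.mpr hc.2)) (orderOf_dvd_of_pow_eq_one h6) ?_
  apply orderOf_dvd_of_pow_eq_one
  rw [← hk, ← hx, ← pow_mul, mul_comm 2, pow_mul, ← zpow_natCast (x ^ k), ← zpow_mul, mul_comm k,
    zpow_mul, zpow_natCast, pow_orderOf_eq_one, one_zpow, one_pow]

end Cfsg.Agent.TwoFusionB
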