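import Cfsg.Agent.TwoFusionB.HaradaRank
import Cfsg.Agent.TwoFusionB.CyclicIndexTwo
import Cfsg.Prelude.Def_TwoFusion
import Mathlib.GroupTheory.SpecificGroups.Dihedral

/-!
# Sectional rank when an involution centralizer has Sylow subgroup `D × B`
-/

set_option autoImplicit false

namespace Cfsg.Agent.TwoFusionB

open Cfsg.Agent.Classification

variable {G : Type*} [Group G] [Finite G]

theorem card_eq_two_le {A : Subgroup G} {x : G} (hA : A ≤ Subgroup.zpowers x)
    (h2 : ∀ a ∈ A, a * a = 1) : Nat.card A ≤ 2 :=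
  card_sq_eq_one_zpowers_le x A hA (fun a ha => by rw [sq]; exact h2 a ha)

/-- Subgroups of `D × B` with `D` cyclic-by-2 are four-generated. -/
theorem sqBound_cyclic_mul {T D B : Subgroup G} {x : G} (hxD : x ∈ D)
    (hidx : (Subgroup.zpowers x).relIndex D ≤ 2)
    (hprod : Cfsg.IsInternalDirectProduct D B T) (hB4 : Nat.card B = 4)
    (hBc : ∀ a ∈ B, ∀ c ∈ B, a * c = c * a) {P : Subgroup G} (hP : P ≤ T) : SqBound 4 P := by
  obtain ⟨hDT, hBT, hcomm, hDB, hsup⟩ := hprod
  have hxb : ∀ (i : ℤ), ∀ b ∈ B, x ^ i * b = b * x ^ i := fun i b hb =>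
    hcomm _ (zpow_mem hxD i) b hb
  let K : Subgroup G :=
    { carrier := {k | ∃ i : ℤ, ∃ b ∈ B, k = x ^ i * b}
      one_mem' := ⟨0, 1, one_mem _, by simp⟩
      mul_mem' := by
        rintro _ _ ⟨i, a, ha, rfl⟩ ⟨j, c, hc, rfl⟩
        refine ⟨i + j, a * c, mul_mem ha hc, ?_⟩
        rw [zpow_add, mul_assoc (x ^ i), ← mul_assoc a, ← hxb j a ha]
        group
      inv_mem' := by
        rintro _ ⟨i, a, ha, rfl⟩
        exact ⟨-i, a⁻¹, inv_mem ha, by rw [mul_inv_rev, zpow_neg, ← zpow_neg, hxb _ _ (inv_mem ha)]⟩ }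
  have hKc : ∀ a ∈ K, ∀ c ∈ K, a * c = c * a := by
    rintro _ ⟨i, a, ha, rfl⟩ _ ⟨j, c, hc, rfl⟩
    rw [mul_assoc, ← mul_assoc a, ← hxb j a ha, mul_assoc (x ^ j), ← mul_assoc (x ^ i), ← zpow_add,
      hBc a ha c hc, mul_assoc (x ^ j), ← mul_assoc c, ← hxb i c hc, mul_assoc (x ^ i),
      ← mul_assoc (x ^ j), ← zpow_add, add_comm]
  intro N hsq
  have hK2 : K.relIndex P ≤ 2 := by
    have h1 : K.relIndex P ≤ K.relIndex T :=
      Subgroup.relIndex_le_of_le_right hP Subgroup.index_ne_zero_of_finite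
    refine h1.trans (le_trans ?_ hidx)
    let g : D ⧸ (Subgroup.zpowers x).subgroupOf D → T ⧸ K.subgroupOf T :=
      Quotient.map' (fun d => ⟨(d : G), hDT d.2⟩) (by
        intro a c hac
        rw [QuotientGroup.leftRel_apply] at hac ⊢
        obtain ⟨i, hi⟩ := Subgroup.mem_zpowers_iff.mp hac
        exact ⟨i, 1, one_mem _, by rw [mul_one]; exact hi.symm⟩)
    refine Nat.card_le_card_of_surjective g ?_
    intro q
    induction q using QuotientGroup.induction_on with
    | _ t =>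
    obtain ⟨d, hd, b, hb, hdb⟩ : ∃ d ∈ D, ∃ b ∈ B, d * b = (t : G) := by
      have ht : (t : G) ∈ D ⊔ B := by rw [hsup]; exact t.2
      obtain ⟨d, hd, b, hb, e⟩ := Coprime.exists_mul_of_mem_sup (N := D) (H := B)
        (fun b hb => by
          rw [Subgroup.mem_normalizer_iff]
          intro d
          constructor
          · intro hd; rwa [← hcomm d hd b hb, mul_inv_cancel_right]
          · intro hd
            have := hcomm _ hd b hb
            have e : d = b * d * b⁻¹ := by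
              calc d = b⁻¹ * (b * d * b⁻¹ * b) := by group
                _ = b⁻¹ * (b * (b * d * b⁻¹)) := by rw [this]
                _ = b * d * b⁻¹ := by group
            rwa [e]) ht
      exact ⟨d, hd, b, hb, e.symm⟩
    refine ⟨QuotientGroup.mk ⟨d, hd⟩, ?_⟩
    apply QuotientGroup.eq.mpr
    refine ⟨0, b, hb, ?_⟩
    show d⁻¹ * (t : G) = x ^ (0 : ℤ) * b
    rw [← hdb, inv_mul_cancel_left, zpow_zero, one_mul]
  have h8 : N.relIndex (P ⊓ K) ≤ 8 := by
    refine (relIndex_le_of_comm (P := P ⊓ K) (fun a ha c hc => hKc a ha.2 c hc.2)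
      (fun y hy => hsq y hy.1)).trans ?_
    set Z : Subgroup G :=
      { carrier := {y | y ∈ Subgroup.zpowers x ∧ y * y = 1}
        one_mem' := ⟨one_mem _, one_mul 1⟩
        mul_mem' := by
          rintro a c ⟨ha, ha2⟩ ⟨hc, hc2⟩
          refine ⟨mul_mem ha hc, ?_⟩
          obtain ⟨i, rfl⟩ := ha
          obtain ⟨j, rfl⟩ := hc
          simp only [← zpow_add] at *
          rw [show i + j + (i + j) = (i + i) + (j + j) by ring, zpow_add, ha2, hc2, one_mul]
        inv_mem' := by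
          rintro a ⟨ha, ha2⟩
          exact ⟨inv_mem ha, by rw [← mul_inv_rev, ha2, inv_one]⟩ }
    have hZ : Nat.card Z ≤ 2 := card_eq_two_le (x := x) (fun y hy => hy.1) (fun y hy => hy.2)
    have hmem : ∀ y : {y : G // y ∈ P ⊓ K ∧ y * y = 1},
        ∃ p : Z × B, (p.1 : G) * p.2 = y := by
      rintro ⟨y, hy, hy2⟩
      obtain ⟨i, b, hb, rfl⟩ := hy.2
      have h1 : x ^ i * x ^ i = (b * b)⁻¹ := by
        apply eq_inv_of_mul_eq_one_left
        calc x ^ i * x ^ i * (b * b) = x ^ i * (x ^ i * b) * b := by group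
          _ = x ^ i * (b * x ^ i) * b := by rw [hxb i b hb]
          _ = x ^ i * b * (x ^ i * b) := by group
          _ = 1 := hy2
      have h2 : x ^ i * x ^ i = 1 := by
        rw [← Subgroup.mem_bot, ← hDB]
        exact Subgroup.mem_inf.mpr ⟨mul_mem (zpow_mem hxD i) (zpow_mem hxD i),
          h1 ▸ inv_mem (mul_mem hb hb)⟩
      exact ⟨(⟨x ^ i, Subgroup.mem_zpowers_iff.mpr ⟨i, rfl⟩, h2⟩, ⟨b, hb⟩), rfl⟩
    choose φ hφ using hmem
    refine (Nat.card_le_card_of_injective φ fun a c e => Subtype.ext ?_).trans ?_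
    · rw [← hφ a, ← hφ c, e]
    · rw [Nat.card_prod, hB4]; omega
  calc N.relIndex P ≤ (N ⊓ K).relIndex P :=
        Nat.le_of_dvd (Nat.pos_of_ne_zero Subgroup.index_ne_zero_of_finite)
          (Subgroup.relIndex_dvd_of_le_left P inf_le_left)
    _ = N.relIndex (P ⊓ K) * K.relIndex P := by
        rw [← Subgroup.inf_relIndex_right (N ⊓ K) P, ← Subgroup.relIndex_mul_relIndex (N ⊓ K ⊓ P)
          (P ⊓ K) P (le_inf inf_le_right (inf_le_left.trans inf_le_right)) inf_le_left,
          show N ⊓ K ⊓ P = N ⊓ (P ⊓ K) by rw [inf_assoc, inf_comm K], Subgroup.inf_relIndex_right,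
          inf_comm P K, Subgroup.inf_relIndex_right]
    _ ≤ 8 * 2 := Nat.mul_le_mul h8 hK2
    _ = 2 ^ 4 := rfl

/-- The main case: `D` nonabelian, cyclic-by-2. -/
theorem eq_sylow_of_nonabelian {S T D B : Subgroup G} (h : HRHyp S T B)
    (hprod : Cfsg.IsInternalDirectProduct D B T) (hBc : ∀ a ∈ B, ∀ c ∈ B, a * c = c * a)
    {x d : G} (hxD : x ∈ D) (hdD : d ∈ D) (hxd : x * d ≠ d * x)
    (hidx : (Subgroup.zpowers x).relIndex D ≤ 2) : T = S := by
  obtain ⟨hDT, hBT, hcomm, hDB, hsup⟩ := hprod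
  have hnorm : B ≤ Subgroup.normalizer (D : Set G) := by
    intro b hb
    rw [Subgroup.mem_normalizer_iff]
    intro e
    constructor
    · intro he; rwa [← hcomm e he b hb, mul_inv_cancel_right]
    · intro he
      have := hcomm _ he b hb
      have e' : e = b * e * b⁻¹ := by
        calc e = b⁻¹ * (b * e * b⁻¹ * b) := by group
          _ = b⁻¹ * (b * (b * e * b⁻¹)) := by rw [this]
          _ = b * e * b⁻¹ := by group
      rwa [e']
  have hBcT : ∀ b ∈ B, ∀ t ∈ T, b * t = t * b := by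
    intro b hb t ht
    rw [← hsup] at ht
    obtain ⟨e, he, c, hc, rfl⟩ := Coprime.exists_mul_of_mem_sup hnorm ht
    rw [← mul_assoc, ← hcomm e he b hb, mul_assoc, hBc b hb c hc, ← mul_assoc]
  let E : Subgroup G :=
    { carrier := {y | y ∈ T ∧ y * y = 1 ∧ ∀ t ∈ T, y * t = t * y}
      one_mem' := ⟨one_mem _, one_mul 1, fun t _ => by rw [one_mul, mul_one]⟩
      mul_mem' := by
        rintro a c ⟨ha, ha2, hac⟩ ⟨hc, hc2, hcc⟩
        refine ⟨mul_mem ha hc, ?_, fun t ht => ?_⟩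
        · rw [mul_assoc, ← mul_assoc c, hcc a ha, mul_assoc a c, hc2, mul_one, ha2]
        · rw [mul_assoc, hcc t ht, ← mul_assoc, hac t ht, mul_assoc]
      inv_mem' := by
        rintro a ⟨ha, ha2, hac⟩
        rw [inv_eq_of_mul_eq_one_right ha2]
        exact ⟨ha, ha2, hac⟩ }
  refine h.eq_of_small_center (E := E) (fun _ => Iff.rfl) hBcT ?_
  have hsmall : Nat.card (D ⊓ E : Subgroup G) ≤ 2 := by
    refine card_eq_two_le (x := x) (fun y hy => ?_) (fun y hy => hy.2.2.1)
    by_contra hyx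
    apply hxd
    have hy' : ∀ t ∈ T, y * t = t * y := hy.2.2.2
    have hidx2 : (Subgroup.zpowers x).relIndex D = 2 := by
      refine le_antisymm hidx ?_
      by_contra hlt
      have h1 : (Subgroup.zpowers x).relIndex D = 1 := by
        have : (Subgroup.zpowers x).relIndex D ≠ 0 := Subgroup.index_ne_zero_of_finite
        omega
      exact hyx (Subgroup.relIndex_eq_one.mp h1 hy.1)
    have hd' : d ∈ Subgroup.zpowers x ∨ y⁻¹ * d ∈ Subgroup.zpowers x := by
      by_cases hdx : d ∈ Subgroup.zpowers x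
      · exact Or.inl hdx
      · right
        have := Subgroup.mul_mem_iff_of_index_two
          (H := (Subgroup.zpowers x).subgroupOf D) hidx2 (a := (⟨y, hy.1⟩ : D)⁻¹) (b := ⟨d, hdD⟩)
        simp only [Subgroup.mem_subgroupOf, Subgroup.coe_mul, InvMemClass.coe_inv,
          inv_mem_iff] at this
        exact this.mpr (iff_of_false hyx hdx)
    rcases hd' with hd' | hd'
    · obtain ⟨i, rfl⟩ := Subgroup.mem_zpowers_iff.mp hd'
      exact ((Commute.refl x).zpow_right i).eq
    · obtain ⟨i, hi⟩ := Subgroup.mem_zpowers_iff.mp hd'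
      rw [show d = y * x ^ i by rw [hi, mul_inv_cancel_left], ← mul_assoc, ← hy' x (hDT hxD),
        mul_assoc, ((Commute.refl x).zpow_right i).eq, ← mul_assoc]
  have hmem : ∀ y : E, ∃ p : (D ⊓ E : Subgroup G) × B, (p.1 : G) * p.2 = y := by
    rintro ⟨y, hy⟩
    have hyT : y ∈ D ⊔ B := hsup.symm ▸ hy.1
    obtain ⟨e, he, b, hb, hye⟩ := Coprime.exists_mul_of_mem_sup hnorm hyT
    have hbE : b ∈ E := ⟨hBT hb, h.hBsq b hb, hBcT b hb⟩
    have heE : e ∈ E := by
      have := mul_mem (show y ∈ E from hy) (inv_mem hbE)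
      rwa [hye, mul_inv_cancel_right] at this
    exact ⟨(⟨e, he, heE⟩, ⟨b, hb⟩), hye.symm⟩
  choose φ hφ using hmem
  refine (Nat.card_le_card_of_injective φ fun a c e => Subtype.ext ?_).trans ?_
  · rw [← hφ a, ← hφ c, e]
  · rw [Nat.card_prod, h.hB4]; omega

end Cfsg.Agent.TwoFusionB
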