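import Mathlib

/-!
Degeneration of an additive subgroup of a ring along conjugation by `1 + t β` with `β * β = 0`:
the top coefficients of the polynomial curves in `(1 - tβ) S[t] (1 + tβ)`.
-/

set_option autoImplicit false
set_option linter.unusedSectionVars false

namespace Cfsg.Agent.TwoFusionB.QuadLimit

open Polynomial

variable {R : Type*} [Ring R] (β : R)

/-- Conjugation of a polynomial by `1 + β X`. -/
noncomputable def conjP (P : R[X]) : R[X] := (1 - C β * X) * P * (1 + C β * X)

theorem conjP_eq (P : R[X]) :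
    conjP β P = P + (P * C β - C β * P) * X - C β * P * C β * X * X := by
  have hc : ∀ A : R[X], X * A = A * X := fun A => Polynomial.X_mul
  unfold conjP
  have h1 : C β * X * P = C β * P * X := by rw [mul_assoc, hc P, ← mul_assoc]
  have h2 : P * (C β * X) = P * C β * X := by rw [mul_assoc]
  have h3 : C β * P * X * (C β * X) = C β * P * C β * X * X := by
    rw [mul_assoc (C β * P) X (C β * X), ← mul_assoc X (C β) X, hc (C β)]
    simp only [mul_assoc]
  rw [sub_mul, one_mul, mul_add, mul_one, sub_mul, h1, h2, h3, sub_mul]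
  abel

theorem conjP_add (P Q : R[X]) : conjP β (P + Q) = conjP β P + conjP β Q := by
  simp [conjP, mul_add, add_mul]
  abel

theorem conjP_neg (P : R[X]) : conjP β (-P) = -conjP β P := by simp [conjP]

theorem conjP_zero : conjP β 0 = 0 := by simp [conjP]

theorem conjP_mul_X_pow (P : R[X]) (k : ℕ) : conjP β (P * X ^ k) = conjP β P * X ^ k := by
  have h : X ^ k * (1 + C β * X) = (1 + C β * X) * X ^ k := Polynomial.X_pow_mul
  simp only [conjP, mul_assoc]
  rw [h]

theorem one_sub_mul_one_add (hβ : β * β = 0) : (1 - C β * X) * (1 + C β * X) = 1 := by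
  have : C β * X * (C β * X) = 0 := by
    rw [mul_assoc, ← mul_assoc X (C β) X, Polynomial.X_mul, ← mul_assoc, ← mul_assoc, ← C_mul, hβ]
    simp
  rw [sub_mul, one_mul, mul_add, mul_one, this]
  abel

theorem one_add_mul_one_sub (hβ : β * β = 0) : (1 + C β * X) * (1 - C β * X) = 1 := by
  have h := one_sub_mul_one_add (-β) (by simpa using hβ)
  simpa [sub_eq_add_neg] using h

theorem conjP_mul (hβ : β * β = 0) (P Q : R[X]) : conjP β P * conjP β Q = conjP β (P * Q) := by
  unfold conjP
  calc (1 - C β * X) * P * (1 + C β * X) * ((1 - C β * X) * Q * (1 + C β * X))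
      = (1 - C β * X) * P * ((1 + C β * X) * (1 - C β * X)) * Q * (1 + C β * X) := by
        simp only [mul_assoc]
    _ = _ := by rw [one_add_mul_one_sub β hβ, mul_one]; simp only [mul_assoc]

theorem conjP_conjP_neg (hβ : β * β = 0) (P : R[X]) : conjP β (conjP (-β) P) = P := by
  have h : (1 - C (-β) * X : R[X]) = 1 + C β * X := by simp
  have h' : (1 + C (-β) * X : R[X]) = 1 - C β * X := by simp [sub_eq_add_neg]
  unfold conjP
  rw [h, h']
  calc (1 - C β * X) * ((1 + C β * X) * P * (1 - C β * X)) * (1 + C β * X)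
      = ((1 - C β * X) * (1 + C β * X)) * P * ((1 - C β * X) * (1 + C β * X)) := by
        simp only [mul_assoc]
    _ = P := by rw [one_sub_mul_one_add β hβ]; simp

theorem conjP_injective (hβ : β * β = 0) : Function.Injective (conjP β) := by
  intro P Q h
  have h0 : ∀ A : R[X], conjP (-β) (conjP β A) = A := fun A => by
    have := conjP_conjP_neg (-β) (by simpa using hβ) A
    simpa using this
  rw [← h0 P, h, h0 Q]

/-- All coefficients lie in `S`. -/
def InS (S : AddSubgroup R) (P : R[X]) : Prop := ∀ n, P.coeff n ∈ S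

theorem InS.add {S : AddSubgroup R} {P Q : R[X]} (hP : InS S P) (hQ : InS S Q) : InS S (P + Q) :=
  fun n => by rw [coeff_add]; exact S.add_mem (hP n) (hQ n)

theorem InS.neg {S : AddSubgroup R} {P : R[X]} (hP : InS S P) : InS S (-P) :=
  fun n => by rw [coeff_neg]; exact S.neg_mem (hP n)

theorem InS.zero (S : AddSubgroup R) : InS S 0 := fun n => by rw [coeff_zero]; exact S.zero_mem

theorem InS.mul_X_pow {S : AddSubgroup R} {P : R[X]} (hP : InS S P) (k : ℕ) :
    InS S (P * X ^ k) := fun n => by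
  rw [coeff_mul_X_pow']
  split
  · exact hP _
  · exact S.zero_mem

theorem InS.C {S : AddSubgroup R} {s : R} (hs : s ∈ S) : InS S (Polynomial.C s) := fun n => by
  rw [coeff_C]; split
  · exact hs
  · exact S.zero_mem

/-- `w` is a top coefficient of a curve. -/
def IsTop (S : AddSubgroup R) (w : R) : Prop :=
  ∃ (d : ℕ) (P : R[X]), InS S P ∧ (∀ n, d < n → (conjP β P).coeff n = 0) ∧
    (conjP β P).coeff d = w

theorem IsTop.shift {S : AddSubgroup R} {d : ℕ} {P : R[X]} {w : R} (hP : InS S P)
    (h0 : ∀ n, d < n → (conjP β P).coeff n = 0) (hw : (conjP β P).coeff d = w) (k : ℕ) :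
    InS S (P * X ^ k) ∧ (∀ n, d + k < n → (conjP β (P * X ^ k)).coeff n = 0) ∧
      (conjP β (P * X ^ k)).coeff (d + k) = w := by
  refine ⟨hP.mul_X_pow k, fun n hn => ?_, ?_⟩
  · rw [conjP_mul_X_pow, coeff_mul_X_pow', if_pos (by omega)]
    exact h0 _ (by omega)
  · rw [conjP_mul_X_pow, coeff_mul_X_pow, hw]

/-- The degeneration of `S`. -/
def lim (S : AddSubgroup R) : AddSubgroup R where
  carrier := {w | IsTop β S w}
  zero_mem' := ⟨0, 0, InS.zero S, fun n _ => by simp [conjP_zero], by simp [conjP_zero]⟩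
  neg_mem' := fun {w} ⟨d, P, hP, h0, hw⟩ =>
    ⟨d, -P, hP.neg, fun n hn => by rw [conjP_neg, coeff_neg, h0 n hn, neg_zero],
      by rw [conjP_neg, coeff_neg, hw]⟩
  add_mem' := fun {v w} ⟨d, P, hP, h0, hv⟩ ⟨e, Q, hQ, k0, hw⟩ => by
    obtain ⟨a1, a2, a3⟩ := IsTop.shift β hP h0 hv e
    obtain ⟨b1, b2, b3⟩ := IsTop.shift β hQ k0 hw d
    refine ⟨d + e, _, a1.add b1, fun n hn => ?_, ?_⟩
    · rw [conjP_add, coeff_add, a2 n hn, b2 n (by omega), add_zero]
    · rw [conjP_add, coeff_add, a3]
      rw [add_comm e d] at b3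
      rw [b3]

theorem mem_lim {S : AddSubgroup R} {w : R} : w ∈ lim β S ↔ IsTop β S w := Iff.rfl

theorem lim_mono {S T : AddSubgroup R} (h : S ≤ T) : lim β S ≤ lim β T :=
  fun _ ⟨d, P, hP, h0, hw⟩ => ⟨d, P, fun n => h (hP n), h0, hw⟩

theorem lim_mul_eq_zero (hβ : β * β = 0) {S T : AddSubgroup R}
    (h : ∀ x ∈ S, ∀ y ∈ T, x * y = 0) {v w : R} (hv : v ∈ lim β S) (hw : w ∈ lim β T) :
    v * w = 0 := by
  obtain ⟨d, P, hP, h0, rfl⟩ := hv
  obtain ⟨e, Q, hQ, k0, rfl⟩ := hw
  have hPQ : P * Q = 0 := by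
    ext n
    rw [coeff_mul, coeff_zero]
    exact Finset.sum_eq_zero fun i _ => h _ (hP _) _ (hQ _)
  have hz : (conjP β P * conjP β Q).coeff (d + e) = 0 := by
    rw [conjP_mul β hβ, hPQ, conjP_zero, coeff_zero]
  rw [coeff_mul, Finset.sum_eq_single (d, e)] at hz
  · exact hz
  · intro i hi hne
    rw [Finset.HasAntidiagonal.mem_antidiagonal] at hi
    rcases lt_trichotomy i.1 d with h1 | h1 | h1
    · rw [k0 i.2 (by omega), mul_zero]
    · exact absurd (Prod.ext h1 (by omega)) hne
    · rw [h0 i.1 h1, zero_mul]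
  · intro hne
    exact absurd (by simp [Finset.HasAntidiagonal.mem_antidiagonal]) hne

/-- `S` is stable under the curve. -/
def Stable (S : AddSubgroup R) : Prop := ∀ x ∈ S, x * β - β * x ∈ S ∧ β * x * β ∈ S

theorem coeff_conjP_mem {S T : AddSubgroup R}
    (h : ∀ x ∈ S, x ∈ T ∧ x * β - β * x ∈ T ∧ β * x * β ∈ T) {P : R[X]} (hP : InS S P) :
    InS T (conjP β P) := by
  have hA : InS T (P * C β - C β * P) := fun n => by
    rw [coeff_sub, coeff_mul_C, coeff_C_mul]; exact (h _ (hP n)).2.1
  have hB : InS T (C β * P * C β) := fun n => by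
    rw [coeff_mul_C, coeff_C_mul]; exact (h _ (hP n)).2.2
  have h1 := ((InS.add (fun n => (h _ (hP n)).1) (hA.mul_X_pow 1)).add (hB.mul_X_pow 2).neg)
  rw [conjP_eq]
  intro n
  have := h1 n
  rwa [pow_one, pow_two, ← mul_assoc, ← sub_eq_add_neg] at this

theorem lim_le_of_stable {S : AddSubgroup R} (hS : Stable β S) : lim β S ≤ S := by
  rintro w ⟨d, P, hP, -, rfl⟩
  exact coeff_conjP_mem β (fun x hx => ⟨hx, hS x hx⟩) hP d

theorem lim_le {S T : AddSubgroup R}
    (h : ∀ x ∈ S, x ∈ T ∧ x * β - β * x ∈ T ∧ β * x * β ∈ T) : lim β S ≤ T := by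
  rintro w ⟨d, P, hP, -, rfl⟩
  exact coeff_conjP_mem β h hP d

/-- The degeneration is at least as large as the original. -/
theorem card_le_card_lim [Finite R] (hβ : β * β = 0) (S : AddSubgroup R) :
    Nat.card S ≤ Nat.card (lim β S) := by
  classical
  by_contra hlt
  push Not at hlt
  set s := Nat.card S with hs
  set l := Nat.card (lim β S) with hl
  have hl1 : 1 ≤ l := Nat.card_pos
  set N := l ^ 3 + 1 with hN
  let poly : (Fin N → S) →+ R[X] :=
    AddMonoidHom.mk' (fun f => ∑ i : Fin N, monomial (i : ℕ) ((f i : R))) (fun f g => by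
      simp [Finset.sum_add_distrib])
  have hpoly : ∀ f n, (poly f).coeff n = if hn : n < N then ((f ⟨n, hn⟩ : S) : R) else 0 := by
    intro f n
    show (∑ i : Fin N, monomial (i : ℕ) ((f i : R))).coeff n = _
    rw [finset_sum_coeff]
    split_ifs with hn
    · rw [Finset.sum_eq_single ⟨n, hn⟩]
      · simp [coeff_monomial]
      · intro b _ hb
        rw [coeff_monomial, if_neg]
        exact fun h => hb (Fin.ext h)
      · simp
    · refine Finset.sum_eq_zero fun b _ => ?_
      rw [coeff_monomial, if_neg]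
      omega
  have hin : ∀ f, InS S (poly f) := fun f n => by
    rw [hpoly]; split_ifs with hn
    · exact (f ⟨n, hn⟩).2
    · exact S.zero_mem
  let cp : (Fin N → S) →+ R[X] :=
    AddMonoidHom.mk' (fun f => conjP β (poly f)) (fun f g => by rw [map_add, conjP_add])
  have hcp : ∀ f, cp f = conjP β (poly f) := fun _ => rfl
  let K : ℕ → AddSubgroup (Fin N → S) := fun d =>
    { carrier := {f | ∀ n, d ≤ n → (cp f).coeff n = 0}
      zero_mem' := fun n _ => by rw [map_zero, coeff_zero]
      add_mem' := fun {f g} hf hg n hn => by rw [map_add, coeff_add, hf n hn, hg n hn, add_zero]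
      neg_mem' := fun {f} hf n hn => by rw [map_neg, coeff_neg, hf n hn, neg_zero] }
  have hK0 : K 0 = ⊥ := by
    refine le_antisymm (fun f hf => ?_) bot_le
    have h1 : cp f = 0 := Polynomial.ext fun n => by rw [hf n (Nat.zero_le n), coeff_zero]
    rw [hcp, ← conjP_zero β] at h1
    have h2 := conjP_injective β hβ h1
    rw [AddSubgroup.mem_bot]
    funext i
    have := hpoly f i
    rw [h2, coeff_zero, dif_pos i.isLt] at this
    exact Subtype.ext this.symm
  have hstep : ∀ d, Nat.card (K (d + 1)) ≤ Nat.card (K d) * l := by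
    intro d
    let φ : K (d + 1) →+ R :=
      AddMonoidHom.mk' (fun f => (cp f.1).coeff d) (fun f g => by
        simp only [AddSubgroup.coe_add, map_add, coeff_add])
    have hker : Nat.card φ.ker ≤ Nat.card (K d) := by
      refine Nat.card_le_card_of_injective (fun f => ⟨f.1.1, fun n hn => ?_⟩) ?_
      · rcases eq_or_lt_of_le hn with rfl | hn'
        · exact f.2
        · exact f.1.2 n hn'
      · intro a b hab
        exact Subtype.ext (Subtype.ext (congrArg (fun z : K d => (z : Fin N → S)) hab))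
    have hran : Nat.card φ.range ≤ l := by
      refine Nat.card_mono (Set.toFinite _) ?_
      rintro w ⟨f, rfl⟩
      exact ⟨d, poly f.1, hin _, fun n hn => f.2 n hn, rfl⟩
    rw [← φ.ker.card_mul_index, AddSubgroup.index_ker]
    exact Nat.mul_le_mul hker hran
  have hbound : ∀ d, Nat.card (K d) ≤ l ^ d := by
    intro d
    induction d with
    | zero => simp [hK0]
    | succ d ih => exact (hstep d).trans (by rw [pow_succ]; exact Nat.mul_le_mul_right _ ih)
  have htop : K (N + 2) = ⊤ := by
    refine top_le_iff.mp fun f _ n hn => ?_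
    rw [hcp, conjP_eq, coeff_sub, coeff_add]
    obtain ⟨m, rfl⟩ : ∃ m, n = m + 2 := ⟨n - 2, by omega⟩
    rw [coeff_mul_X, coeff_mul_X, coeff_mul_X, coeff_sub, coeff_mul_C, coeff_C_mul, coeff_mul_C,
      coeff_C_mul, hpoly, hpoly, hpoly, dif_neg (by omega), dif_neg (by omega), dif_neg (by omega)]
    simp
  have h1 : s ^ N ≤ l ^ (N + 2) := by
    have := hbound (N + 2)
    rw [htop, Nat.card_congr AddSubgroup.topEquiv.toEquiv, Nat.card_fun, Nat.card_fin] at this
    exact this
  have h2 : l ^ N + N * l ^ (N - 1) ≤ (l + 1) ^ N := by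
    have key : ∀ n, l ^ (n + 1) + (n + 1) * l ^ n ≤ (l + 1) ^ (n + 1) := by
      intro n
      induction n with
      | zero => simp
      | succ n ih =>
        have := Nat.mul_le_mul_right (l + 1) ih
        rw [← pow_succ] at this
        refine le_trans ?_ this
        ring_nf
        omega
    obtain ⟨n, hn⟩ : ∃ n, N = n + 1 := ⟨l ^ 3, rfl⟩
    rw [hn]; exact key n
  have h3 : l ^ (N + 2) < l ^ N + N * l ^ (N - 1) := by
    obtain ⟨n, hn⟩ : ∃ n, N = n + 1 := ⟨l ^ 3, rfl⟩
    have hn3 : n = l ^ 3 := by omega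
    rw [hn, Nat.add_sub_cancel, show n + 1 + 2 = n + 3 by omega, pow_add l n 3, ← hn3]
    have : 0 < l ^ n := by positivity
    rw [pow_succ]
    nlinarith [Nat.zero_le (l ^ n * l), mul_comm (l ^ n) n]
  have h4 : (l + 1) ^ N ≤ s ^ N := Nat.pow_le_pow_left hlt N
  omega

/-- The weight with respect to a filtration. -/
noncomputable def weight (F : ℕ → AddSubgroup R) (N : ℕ) (S : AddSubgroup R) : ℕ :=
  ∑ k ∈ Finset.range (N + 1), Nat.card ↥(S ⊓ F k)

/-- Degeneration of a non-stable subgroup strictly increases the weight. -/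
theorem weight_lt [Finite R] (hβ : β * β = 0) (F : ℕ → AddSubgroup R) (N : ℕ)
    (hanti : ∀ k, F (k + 1) ≤ F k) (hN : F N = ⊥)
    (hl : ∀ k, ∀ x ∈ F k, β * x ∈ F (k + 1)) (hr : ∀ k, ∀ x ∈ F k, x * β ∈ F (k + 1))
    {L : AddSubgroup R} (hL : L ≤ F 0) (hns : ¬ Stable β L) :
    weight F N L < weight F N (lim β L) := by
  have hle : ∀ k, lim β (L ⊓ F k) ≤ lim β L ⊓ F k := fun k =>
    le_inf (lim_mono β inf_le_left) ((lim_mono β inf_le_right).trans (lim_le_of_stable β
      fun x hx => ⟨hanti k ((F (k + 1)).sub_mem (hr k x hx) (hl k x hx)),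
        hanti k (hanti (k + 1) (hr (k + 1) _ (hl k x hx)))⟩))
  have hge : ∀ k, Nat.card ↥(L ⊓ F k) ≤ Nat.card ↥(lim β L ⊓ F k) := fun k =>
    (card_le_card_lim β hβ _).trans (AddSubgroup.card_le_of_le (hle k))
  refine lt_of_le_of_ne (Finset.sum_le_sum fun k _ => hge k) fun heq => hns ?_
  have heq' : ∀ k ≤ N, lim β L ⊓ F k = lim β (L ⊓ F k) := by
    intro k hk
    have h1 := (Finset.sum_eq_sum_iff_of_le (fun k _ => hge k)).mp heq k
      (Finset.mem_range.mpr (by omega))
    exact (AddSubgroup.eq_of_le_of_card_ge (hle k)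
      (h1 ▸ card_le_card_lim β hβ (L ⊓ F k))).symm
  have key : ∀ j ≤ N, Stable β (L ⊓ F (N - j)) := by
    intro j
    induction j with
    | zero =>
      intro _ x hx
      rw [Nat.sub_zero, hN, inf_bot_eq, AddSubgroup.mem_bot] at hx
      subst hx
      simp [AddSubgroup.zero_mem]
    | succ j ih =>
      intro hj x hx
      set k := N - (j + 1) with hk
      have hk1 : N - j = k + 1 := by omega
      have hS := ih (by omega)
      rw [hk1] at hS
      have hsub : L ⊓ F (k + 1) ≤ L ⊓ F k := inf_le_inf_left _ (hanti k)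
      have hback : ∀ y, y ∈ lim β (L ⊓ F k) → y ∈ F (k + 1) → y ∈ L ⊓ F (k + 1) := fun y h1 h2 => by
        have h3 : y ∈ lim β L ⊓ F (k + 1) := ⟨lim_mono β inf_le_left h1, h2⟩
        rw [heq' (k + 1) (by omega)] at h3
        exact lim_le_of_stable β hS h3
      have hD : x * β - β * x ∈ F (k + 1) := (F (k + 1)).sub_mem (hr k x hx.2) (hl k x hx.2)
      have hE : β * x * β ∈ F (k + 1) := hanti (k + 1) (hr (k + 1) _ (hl k x hx.2))
      have hc : conjP β (C x) = C x + C (x * β - β * x) * X + C (-(β * x * β)) * X ^ 2 := by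
        rw [conjP_eq, map_sub, map_neg, C_mul, C_mul, C_mul, C_mul, pow_two, neg_mul,
          ← mul_assoc _ X X, ← sub_eq_add_neg]
      have hEL : β * x * β ∈ L ⊓ F (k + 1) := by
        have h1 : -(β * x * β) ∈ lim β (L ⊓ F k) := by
          refine ⟨2, C x, InS.C hx, fun n hn => ?_, ?_⟩
          · rw [hc, coeff_add, coeff_add, coeff_C, coeff_C_mul_X, coeff_C_mul_X_pow,
              if_neg (by omega), if_neg (by omega), if_neg (by omega)]
            simp
          · rw [hc, coeff_add, coeff_add, coeff_C, coeff_C_mul_X, coeff_C_mul_X_pow]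
            simp
        exact neg_mem_iff.mp (hback _ h1 ((F (k + 1)).neg_mem hE))
      refine ⟨hsub (hback _ ?_ hD), hsub hEL⟩
      set e := β * x * β with he
      set Q : R[X] := C e * X ^ 2 with hQdef
      have hQin : InS (L ⊓ F (k + 1)) (conjP (-β) Q) :=
        coeff_conjP_mem (-β) (fun y hy => ⟨hy, by
          refine ⟨?_, ?_⟩
          · have := (L ⊓ F (k + 1)).neg_mem (hS y hy).1
            simpa [sub_eq_add_neg, add_comm] using this
          · simpa using (hS y hy).2⟩) ((InS.C hEL).mul_X_pow 2)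
      have hsum : conjP β (C x + conjP (-β) Q) = C x + C (x * β - β * x) * X := by
        rw [conjP_add, conjP_conjP_neg β hβ, hc, hQdef, add_assoc _ _ (C e * X ^ 2), ← add_mul,
          ← C_add, neg_add_cancel]
        simp
      refine ⟨1, C x + conjP (-β) Q, (InS.C hx).add fun n => hsub (hQin n), fun n hn => ?_, ?_⟩
      · rw [hsum, coeff_add, coeff_C, coeff_C_mul_X, if_neg (by omega), if_neg (by omega)]
        simp
      · rw [hsum, coeff_add, coeff_C, coeff_C_mul_X]
        simp
  intro x hx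
  have := key N le_rfl x ⟨hx, by rw [Nat.sub_self]; exact hL hx⟩
  exact ⟨this.1.1, this.2.1⟩

end Cfsg.Agent.TwoFusionB.QuadLimit
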