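import Mathlib
import Cfsg.Agent.TwoFusionB.QuadLimit

/-!
Quadratic offenders that are normal in their normal closure, for a `p`-group (`p` odd) acting
faithfully on an elementary abelian `p`-group.
-/

set_option autoImplicit false
set_option linter.unusedSectionVars false
set_option linter.unusedVariables false

namespace Cfsg.Agent.TwoFusionB.QuadOffender

open Cfsg.Agent.TwoFusionB

variable {p : ℕ} [hp : Fact p.Prime] {V : Type*} [AddCommGroup V] [Module (ZMod p) V] [Finite V]
  {H : Type*} [Group H] [Finite H]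

variable (ρ : H →* (Module.End (ZMod p) V))

omit [Finite H] in
theorem rho_inv_mul (a : H) : ρ a⁻¹ * ρ a = 1 := by rw [← map_mul, inv_mul_cancel, map_one]

omit [Finite H] in
theorem rho_mul_inv (a : H) : ρ a * ρ a⁻¹ = 1 := by rw [← map_mul, mul_inv_cancel, map_one]

/-- Quadratic action. -/
def Quad (A : Subgroup H) : Prop := ∀ a ∈ A, ∀ b ∈ A, (ρ a - 1) * (ρ b - 1) = 0

/-- The span of `ρ a - 1`. -/
def logOf (A : Subgroup H) : AddSubgroup (Module.End (ZMod p) V) := AddSubgroup.closure ((fun a => ρ a - 1) '' (A : Set H))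

variable {ρ}

theorem mem_logOf {A : Subgroup H} (hA : Quad ρ A) {x : (Module.End (ZMod p) V)} :
    x ∈ logOf ρ A ↔ ∃ a ∈ A, ρ a - 1 = x := by
  constructor
  · intro hx
    induction hx using AddSubgroup.closure_induction with
    | mem x hx => exact hx
    | zero => exact ⟨1, A.one_mem, by simp⟩
    | add x y _ _ hx hy =>
      obtain ⟨a, ha, rfl⟩ := hx
      obtain ⟨b, hb, rfl⟩ := hy
      refine ⟨a * b, A.mul_mem ha hb, ?_⟩
      have h := hA a ha b hb
      rw [map_mul]
      linear_combination (norm := noncomm_ring) h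
    | neg x _ hx =>
      obtain ⟨a, ha, rfl⟩ := hx
      refine ⟨a⁻¹, A.inv_mem ha, ?_⟩
      have h := hA a⁻¹ (A.inv_mem ha) a ha
      have h1 := rho_inv_mul ρ a
      linear_combination (norm := noncomm_ring) h1 - h
  · rintro ⟨a, ha, rfl⟩
    exact AddSubgroup.subset_closure ⟨a, ha, rfl⟩

theorem logOf_mul_logOf {A : Subgroup H} (hA : Quad ρ A) {x y : (Module.End (ZMod p) V)} (hx : x ∈ logOf ρ A)
    (hy : y ∈ logOf ρ A) : x * y = 0 := by
  obtain ⟨a, ha, rfl⟩ := (mem_logOf hA).mp hx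
  obtain ⟨b, hb, rfl⟩ := (mem_logOf hA).mp hy
  exact hA a ha b hb

theorem card_logOf (hρ : Function.Injective ρ) {A : Subgroup H} (hA : Quad ρ A) :
    Nat.card (logOf ρ A) = Nat.card A := by
  refine (Nat.card_congr (Equiv.ofBijective
    (fun a : A => (⟨ρ a - 1, (mem_logOf hA).mpr ⟨a, a.2, rfl⟩⟩ : logOf ρ A)) ⟨?_, ?_⟩)).symm
  · intro a b h
    exact Subtype.ext (hρ (sub_left_injective (congrArg Subtype.val h)))
  · rintro ⟨x, hx⟩
    obtain ⟨a, ha, rfl⟩ := (mem_logOf hA).mp hx
    exact ⟨⟨a, ha⟩, rfl⟩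

theorem comm_of_quad (hρ : Function.Injective ρ) {A : Subgroup H} (hA : Quad ρ A) {a b : H}
    (ha : a ∈ A) (hb : b ∈ A) : a * b = b * a := by
  apply hρ
  have h1 := hA a ha b hb
  have h2 := hA b hb a ha
  rw [map_mul, map_mul]
  linear_combination (norm := noncomm_ring) h1 - h2

theorem pow_eq_one_of_quad (hρ : Function.Injective ρ) {A : Subgroup H} (hA : Quad ρ A) {a : H}
    (ha : a ∈ A) : a ^ p = 1 := by
  apply hρ
  have h : ∀ n : ℕ, ρ a ^ n = 1 + (n : ZMod p) • (ρ a - 1) := by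
    intro n
    induction n with
    | zero => simp
    | succ n ih =>
      rw [pow_succ, ih, add_mul, one_mul, smul_mul_assoc]
      have h1 : (ρ a - 1) * ρ a = ρ a - 1 := by
        linear_combination (norm := noncomm_ring) hA a ha a ha
      rw [h1, Nat.cast_succ, add_smul, one_smul]
      abel
  rw [map_pow, map_one, h, ZMod.natCast_self, zero_smul, add_zero]

/-- The common kernel. -/
def kerSub (S : AddSubgroup (Module.End (ZMod p) V)) : Submodule (ZMod p) V := ⨅ x : S, LinearMap.ker (x : (Module.End (ZMod p) V))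

theorem mem_kerSub {S : AddSubgroup (Module.End (ZMod p) V)} {v : V} : v ∈ kerSub S ↔ ∀ x ∈ S, x v = 0 := by
  simp [kerSub]

theorem mem_kerSub_logOf {A : Subgroup H} {v : V} :
    v ∈ kerSub (logOf ρ A) ↔ ∀ a ∈ A, ρ a v = v := by
  rw [mem_kerSub]
  constructor
  · intro h a ha
    have := h (ρ a - 1) (AddSubgroup.subset_closure ⟨a, ha, rfl⟩)
    simpa [sub_eq_zero] using this
  · intro h x hx
    induction hx using AddSubgroup.closure_induction with
    | mem x hx => obtain ⟨a, ha, rfl⟩ := hx; simp [h a ha]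
    | zero => simp
    | add x y _ _ hx hy => simp [hx, hy]
    | neg x _ hx => simp [hx]

/-- The right annihilator. -/
def annR (S : AddSubgroup (Module.End (ZMod p) V)) : AddSubgroup (Module.End (ZMod p) V) where
  carrier := {c | ∀ x ∈ S, x * c = 0}
  zero_mem' := fun x _ => mul_zero x
  add_mem' := fun {a b} ha hb x hx => by rw [mul_add, ha x hx, hb x hx, add_zero]
  neg_mem' := fun {a} ha x hx => by rw [mul_neg, ha x hx, neg_zero]

theorem card_annR (S : AddSubgroup (Module.End (ZMod p) V)) :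
    Nat.card (annR S) = Nat.card (kerSub S) ^ Module.finrank (ZMod p) V := by
  have e : annR S ≃ (V →ₗ[ZMod p] kerSub S) :=
    { toFun := fun c => (c : (Module.End (ZMod p) V)).codRestrict _ fun v => mem_kerSub.mpr fun x hx =>
        LinearMap.congr_fun (c.2 x hx) v
      invFun := fun f => ⟨(kerSub S).subtype ∘ₗ f, fun x hx =>
        LinearMap.ext fun v => mem_kerSub.mp (f v).2 x hx⟩
      left_inv := fun c => rfl
      right_inv := fun f => rfl }
  rw [Nat.card_congr e, Module.natCard_eq_pow_finrank (K := ZMod p),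
    Module.natCard_eq_pow_finrank (K := ZMod p) (V := kerSub S), Module.finrank_linearMap,
    ← pow_mul, mul_comm]

theorem card_kerSub_le {S T : AddSubgroup (Module.End (ZMod p) V)} (h : Nat.card (annR S) ≤ Nat.card (annR T)) :
    Nat.card (kerSub S) ≤ Nat.card (kerSub T) := by
  rw [card_annR, card_annR] at h
  rcases Nat.eq_zero_or_pos (Module.finrank (ZMod p) V) with h0 | h0
  · haveI : Subsingleton V := Module.finrank_zero_iff.mp h0
    rw [Nat.card_of_subsingleton (0 : kerSub S), Nat.card_of_subsingleton (0 : kerSub T)]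
  · exact (Nat.pow_le_pow_iff_left h0.ne').mp h

variable (ρ)

theorem finite_end : Finite (Module.End (ZMod p) V) :=
  Finite.of_injective (fun f => (f : V → V)) DFunLike.coe_injective

/-- The measure. -/
noncomputable def qm (A : Subgroup H) : ℕ := Nat.card A * Nat.card (kerSub (logOf ρ A))

/-- The flag of iterated fixed points. -/
def flag : ℕ → Submodule (ZMod p) V
  | 0 => ⊥
  | k + 1 => ⨅ h : H, (flag k).comap (ρ h - 1)

variable {ρ}

theorem mem_flag_succ {k : ℕ} {v : V} : v ∈ flag ρ (k + 1) ↔ ∀ h : H, ρ h v - v ∈ flag ρ k := by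
  simp [flag]

theorem flag_le_succ : ∀ k, flag ρ k ≤ flag ρ (k + 1)
  | 0 => bot_le
  | k + 1 => fun _ hv => mem_flag_succ.mpr fun h => flag_le_succ k (mem_flag_succ.mp hv h)

theorem flag_mono {i j : ℕ} (h : i ≤ j) : flag ρ i ≤ flag ρ j :=
  monotone_nat_of_le_succ flag_le_succ h

theorem rho_mem_flag : ∀ {k : ℕ} {v : V}, v ∈ flag ρ k → ∀ g : H, ρ g v ∈ flag ρ k
  | 0, v, hv, g => by simp [flag] at hv ⊢; simp [hv]
  | k + 1, v, hv, g => by
    have h1 : ρ g v - v ∈ flag ρ (k + 1) := flag_le_succ k (mem_flag_succ.mp hv g)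
    simpa using (flag ρ (k + 1)).add_mem h1 hv

theorem exists_flag_top (hH : IsPGroup p H) : ∃ N, flag ρ N = ⊤ := by
  classical
  obtain ⟨N, hN⟩ := Finite.exists_max (fun U : Set.range (flag ρ) => Nat.card ↥(U : Submodule (ZMod p) V))
  obtain ⟨k, hk⟩ := N.2
  refine ⟨k, by_contra fun hne => ?_⟩
  have heq : flag ρ (k + 1) = flag ρ k := by
    have h1 := hN ⟨_, k + 1, rfl⟩
    rw [← hk] at h1
    exact SetLike.coe_injective (Set.eq_of_subset_of_ncard_le (flag_le_succ k)
      (by simpa [← Nat.card_coe_set_eq] using h1) (Set.toFinite _)).symm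
  set W := flag ρ k with hW
  have hinv : ∀ g : H, W ≤ W.comap (ρ g) := fun g v hv => rho_mem_flag hv g
  let act : MulAction H (V ⧸ W) :=
    { smul := fun g q => W.mapQ W (ρ g) (hinv g) q
      one_smul := fun q => by
        obtain ⟨v, rfl⟩ := Submodule.Quotient.mk_surjective W q
        show W.mapQ W (ρ 1) (hinv 1) _ = _
        simp
      mul_smul := fun g h q => by
        obtain ⟨v, rfl⟩ := Submodule.Quotient.mk_surjective W q
        show W.mapQ W (ρ (g * h)) (hinv _) _ = W.mapQ W (ρ g) (hinv _) (W.mapQ W (ρ h) (hinv _) _)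
        simp }
  have hdvd : p ∣ Nat.card (V ⧸ W) := by
    haveI : Nontrivial (V ⧸ W) := Submodule.Quotient.nontrivial_iff.mpr hne
    rw [Module.natCard_eq_pow_finrank (K := ZMod p), Nat.card_zmod]
    exact dvd_pow_self p (Module.finrank_pos).ne'
  haveI : Finite (V ⧸ W) := Finite.of_surjective _ (Submodule.Quotient.mk_surjective W)
  obtain ⟨q, hq, hq0⟩ := hH.exists_fixed_point_of_prime_dvd_card_of_fixed_point (V ⧸ W) hdvd
    (a := 0) (fun g => map_zero (W.mapQ W (ρ g) (hinv g)))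
  obtain ⟨v, rfl⟩ := Submodule.Quotient.mk_surjective W q
  have hv : v ∈ flag ρ (k + 1) := mem_flag_succ.mpr fun g => by
    rw [← Submodule.Quotient.eq W]
    exact hq g
  rw [heq] at hv
  exact hq0 ((Submodule.Quotient.mk_eq_zero W).mpr hv).symm

variable (ρ)

/-- The filtration of the endomorphism ring. -/
def filt (k : ℕ) : AddSubgroup (Module.End (ZMod p) V) where
  carrier := {x | ∀ i, ∀ v ∈ flag ρ i, x v ∈ flag ρ (i - k)}
  zero_mem' := fun i v _ => by simp
  add_mem' := fun {a b} ha hb i v hv => by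
    simpa using (flag ρ (i - k)).add_mem (ha i v hv) (hb i v hv)
  neg_mem' := fun {a} ha i v hv => by simpa using (flag ρ (i - k)).neg_mem (ha i v hv)

variable {ρ}

theorem filt_anti (k : ℕ) : filt ρ (k + 1) ≤ filt ρ k :=
  fun x hx i v hv => flag_mono (by omega) (hx i v hv)

theorem filt_bot {N : ℕ} (hN : flag ρ N = ⊤) : filt ρ N = ⊥ := by
  refine le_antisymm (fun x hx => ?_) bot_le
  rw [AddSubgroup.mem_bot]
  refine LinearMap.ext fun v => ?_
  have := hx N v (by rw [hN]; trivial)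
  simpa [flag] using this

theorem sub_one_lowers (g : H) {i : ℕ} {v : V} (hv : v ∈ flag ρ i) :
    (ρ g - 1) v ∈ flag ρ (i - 1) := by
  cases i with
  | zero => simp [flag] at hv ⊢; simp [hv]
  | succ i => simpa using mem_flag_succ.mp hv g

theorem filt_left (g : H) {k : ℕ} {x : (Module.End (ZMod p) V)} (hx : x ∈ filt ρ k) :
    (ρ g - 1) * x ∈ filt ρ (k + 1) := fun i v hv => by
  have := sub_one_lowers g (hx i v hv)
  rwa [Nat.sub_sub] at this

theorem filt_right (g : H) {k : ℕ} {x : (Module.End (ZMod p) V)} (hx : x ∈ filt ρ k) :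
    x * (ρ g - 1) ∈ filt ρ (k + 1) := fun i v hv => by
  have := hx (i - 1) _ (sub_one_lowers g hv)
  rwa [Nat.sub_sub, add_comm 1 k] at this

theorem filt_conj (g : H) {k : ℕ} {x : (Module.End (ZMod p) V)} (hx : x ∈ filt ρ k) :
    ρ g * x * ρ g⁻¹ ∈ filt ρ k := fun i v hv =>
  rho_mem_flag (hx i _ (rho_mem_flag hv g⁻¹)) g

theorem logOf_le_filt_zero (A : Subgroup H) : logOf ρ A ≤ filt ρ 0 := by
  refine (AddSubgroup.closure_le _).mpr ?_
  rintro _ ⟨a, -, rfl⟩ i v hv
  simpa using (flag ρ i).sub_mem (rho_mem_flag hv a) hv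

theorem smul_mem' (S : AddSubgroup (Module.End (ZMod p) V)) (c : ZMod p) {x : (Module.End (ZMod p) V)} (hx : x ∈ S) : c • x ∈ S :=
  (AddSubgroup.toZModSubmodule p S).smul_mem c hx

/-- Group elements from pairwise normalizing quadratic subgroups. -/
theorem comm_mem (hρ : Function.Injective ρ) {A B : Subgroup H} (hA : Quad ρ A) (hB : Quad ρ B)
    (hAB : A ≤ Subgroup.normalizer (B : Set H)) (hBA : B ≤ Subgroup.normalizer (A : Set H))
    {x y : (Module.End (ZMod p) V)} (hx : x ∈ logOf ρ A) (hy : y ∈ logOf ρ B) :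
    x * y - y * x ∈ logOf ρ A ∧ x * y - y * x ∈ logOf ρ B := by
  obtain ⟨a, ha, rfl⟩ := (mem_logOf hA).mp hx
  obtain ⟨b, hb, rfl⟩ := (mem_logOf hB).mp hy
  set c := a * b * a⁻¹ * b⁻¹ with hc
  have hcB : c ∈ B := B.mul_mem ((Subgroup.mem_normalizer_iff.mp (hAB ha) b).mp hb) (B.inv_mem hb)
  have hcA : c ∈ A := by
    rw [hc, show a * b * a⁻¹ * b⁻¹ = a * (b * a⁻¹ * b⁻¹) by group]
    exact A.mul_mem ha ((Subgroup.mem_normalizer_iff.mp (hBA hb) a⁻¹).mp (A.inv_mem ha))
  have hab : a * b = c * (b * a) := by rw [hc]; group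
  clear_value c
  have he := congrArg ρ hab
  rw [map_mul, map_mul, map_mul] at he
  have h1 := hB c hcB b hb
  have h2 := hA c hcA a ha
  have h3 : (ρ c - 1) * ρ b = ρ c - 1 := by linear_combination (norm := noncomm_ring) h1
  have h4 : (ρ c - 1) * ρ a = ρ c - 1 := by linear_combination (norm := noncomm_ring) h2
  have h5 : (ρ c - 1) * (ρ b * ρ a) = ρ c - 1 := by rw [← mul_assoc, h3, h4]
  have key : (ρ a - 1) * (ρ b - 1) - (ρ b - 1) * (ρ a - 1) = ρ c - 1 := by
    linear_combination (norm := noncomm_ring) he + h5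
  rw [key]
  exact ⟨(mem_logOf hA).mpr ⟨c, hcA, rfl⟩, (mem_logOf hB).mpr ⟨c, hcB, rfl⟩⟩

/-- Algebra: `1 + (x + y + z)` is attained. -/
theorem exists_rep (hρ : Function.Injective ρ) (hp2 : p ≠ 2) {A B C : Subgroup H}
    (hA : Quad ρ A) (hB : Quad ρ B) (hC : Quad ρ C)
    (hAB : A ≤ Subgroup.normalizer (B : Set H)) (hBA : B ≤ Subgroup.normalizer (A : Set H))
    (hAC : A ≤ Subgroup.normalizer (C : Set H)) (hCA : C ≤ Subgroup.normalizer (A : Set H))
    (hBC : B ≤ Subgroup.normalizer (C : Set H)) (hCB : C ≤ Subgroup.normalizer (B : Set H))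
    {x y z : (Module.End (ZMod p) V)} (hx : x ∈ logOf ρ A) (hy : y ∈ logOf ρ B) (hz : z ∈ logOf ρ C)
    (hw : (x + y + z) * (x + y + z) = 0) : ∃ g, ρ g - 1 = x + y + z := by
  have h2 : (2 : ZMod p) ≠ 0 := by
    intro h
    have : (p : ℕ) ∣ 2 := (CharP.cast_eq_zero_iff (ZMod p) p 2).mp (by exact_mod_cast h)
    exact hp2 ((Nat.prime_dvd_prime_iff_eq hp.out Nat.prime_two).mp this)
  set h : ZMod p := (2 : ZMod p)⁻¹ with hh
  have hhh : h + h = 1 := by rw [hh]; field_simp; ring
  obtain ⟨c0A, c0B⟩ := comm_mem hρ hA hB hAB hBA hx hy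
  obtain ⟨c1A, c1C⟩ := comm_mem hρ hA hC hAC hCA hx hz
  obtain ⟨c2B, c2C⟩ := comm_mem hρ hB hC hBC hCB hy hz
  set c0 := x * y - y * x with hc0
  set c1 := x * z - z * x with hc1
  set c2 := y * z - z * y with hc2
  have xx := logOf_mul_logOf hA hx hx
  have yy := logOf_mul_logOf hB hy hy
  have zz := logOf_mul_logOf hC hz hz
  have xyx : x * y * x = 0 := by
    have h0 := logOf_mul_logOf hA hx c0A
    rw [hc0] at h0
    linear_combination (norm := noncomm_ring) congrArg (· * y) xx - h0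
  have yxy : y * x * y = 0 := by
    have h0 := logOf_mul_logOf hB hy c0B
    rw [hc0] at h0
    linear_combination (norm := noncomm_ring) h0 + congrArg (· * x) yy
  set u := x + y with hu
  have uu : u * u = x * y + y * x := by
    rw [hu]; linear_combination (norm := noncomm_ring) xx + yy
  have uuu : u * u * u = 0 := by
    rw [uu, hu]
    linear_combination (norm := noncomm_ring) xyx + yxy + congrArg (x * ·) yy + congrArg (y * ·) xx
  -- `u z u` lies in all three
  have huz1 : u * u * z + u * z * u = 0 := by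
    have h0 := congrArg (u * ·) hw
    simp only [mul_zero] at h0
    have h1 := congrArg (u * ·) zz
    simp only [mul_zero] at h1
    linear_combination (norm := noncomm_ring) h0 - uuu - h1
  have huz2 : z * (u * u) + u * z * u = 0 := by
    have h0 := congrArg (· * u) hw
    simp only [zero_mul] at h0
    have h1 := congrArg (· * u) zz
    simp only [zero_mul] at h1
    linear_combination (norm := noncomm_ring) h0 - uuu - h1
  obtain ⟨dA, dB⟩ := comm_mem hρ hA hB hAB hBA hx c2B
  obtain ⟨-, dC⟩ := comm_mem hρ hA hC hAC hCA hx c2C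
  obtain ⟨eB, eA⟩ := comm_mem hρ hB hA hBA hAB hy c1A
  obtain ⟨-, eC⟩ := comm_mem hρ hB hC hBC hCB hy c1C
  have h4 : (4 : ZMod p) ≠ 0 := by
    rw [show (4 : ZMod p) = 2 * 2 by ring]
    exact mul_ne_zero h2 h2
  set q := u * z * u with hq
  have hsum : (x * c2 - c2 * x) + (y * c1 - c1 * y) = (-4 : ZMod p) • q := by
    have e1 := logOf_mul_logOf hA hx c1A
    have e2 := logOf_mul_logOf hA c1A hx
    have e3 := logOf_mul_logOf hB hy c2B
    have e4 := logOf_mul_logOf hB c2B hy
    have hneg : (-4 : ZMod p) • q = -(q + q + q + q) := by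
      rw [neg_smul, show (4 : ZMod p) = 1 + 1 + 1 + 1 by norm_num]
      simp [add_smul]
    have k1 : x * z * x = 0 := by
      rw [hc1] at e1
      linear_combination (norm := noncomm_ring) congrArg (· * z) xx - e1
    have k2 : y * z * y = 0 := by
      rw [hc2] at e3
      linear_combination (norm := noncomm_ring) congrArg (· * z) yy - e3
    have hq' : q = x * z * x + x * z * y + y * z * x + y * z * y := by
      rw [hq, hu]; noncomm_ring
    have f1 := huz1
    have f2 := huz2
    rw [uu, hq'] at f1 f2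
    rw [hneg, hc1, hc2, hq']
    linear_combination (norm := noncomm_ring) f1 + f2 + k1 + k1 + k2 + k2
  have hqmem : ∀ S : AddSubgroup (Module.End (ZMod p) V), (x * c2 - c2 * x) ∈ S → (y * c1 - c1 * y) ∈ S → q ∈ S := by
    intro S h1 h5
    have h6 := smul_mem' S (-4 : ZMod p)⁻¹ (S.add_mem h1 h5)
    rwa [hsum, smul_smul, inv_mul_cancel₀ (neg_ne_zero.mpr h4), one_smul] at h6
  have qA := hqmem _ dA eA
  have qB := hqmem _ dB eB
  have qC := hqmem _ dC eC
  -- representatives
  obtain ⟨ga, -, hga⟩ := (mem_logOf hA).mp hx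
  obtain ⟨gb, -, hgb⟩ := (mem_logOf hB).mp hy
  obtain ⟨gz, -, hgz⟩ := (mem_logOf hC).mp hz
  obtain ⟨gc, -, hgc⟩ := (mem_logOf hA).mp (smul_mem' _ (-h) c0A)
  obtain ⟨gd, -, hgd⟩ := (mem_logOf hC).mp (smul_mem' _ (-h) ((logOf ρ C).add_mem c1C c2C))
  obtain ⟨gq, -, hgq⟩ := (mem_logOf hA).mp (smul_mem' _ (-h) qA)
  rw [sub_eq_iff_eq_add'] at hga hgb hgz hgc hgd hgq
  refine ⟨ga * gb * gc * (gz * gd) * gq, ?_⟩
  have s1 : ρ (ga * gb * gc) = 1 + u + h • (u * u) := by
    have a1 := logOf_mul_logOf hA hx c0A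
    have a2 := logOf_mul_logOf hB hy c0B
    have a3 : x * y * c0 = 0 := by rw [mul_assoc, a2, mul_zero]
    rw [map_mul, map_mul, hga, hgb, hgc]
    have a4 : (1 + x) * (1 + y) * c0 = c0 := by
      linear_combination (norm := noncomm_ring) a1 + a2 + a3
    rw [mul_add, mul_one, mul_smul_comm, a4, uu, hu, hc0]
    have : (1 + x) * (1 + y) = 1 + x + y + (h + h) • (x * y) := by
      rw [hhh, one_smul]; noncomm_ring
    rw [this]
    module
  have hd : c1 + c2 = u * z - z * u := by rw [hu, hc1, hc2]; noncomm_ring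
  set d := (-h) • (c1 + c2) with hdd
  have zd : z * d = 0 := logOf_mul_logOf hC hz (smul_mem' _ (-h) ((logOf ρ C).add_mem c1C c2C))
  have hw' : u * u + u * z + z * u = 0 := by
    have : (x + y + z) = u + z := by rw [hu]
    rw [this] at hw
    linear_combination (norm := noncomm_ring) hw - zz
  have t1 : u * (u * z - z * u) = -(q + q) := by
    rw [hq] at huz1 ⊢
    linear_combination (norm := noncomm_ring) huz1
  have t2 : u * u * (u * z - z * u) = 0 := by
    rw [hq] at huz1
    have h0 := congrArg (u * ·) huz1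
    have h1 := congrArg (· * z) uuu
    simp only [mul_zero, zero_mul] at h0 h1
    linear_combination (norm := noncomm_ring) h1 + h1 - h0
  have t3 : u * u * z = -q := by linear_combination (norm := noncomm_ring) huz1
  have s2 : ρ (ga * gb * gc * (gz * gd)) = 1 + u + z + h • q := by
    have hd' : d = (-h) • (u * z - z * u) := by rw [hdd, hd]
    have hzd : (1 + z) * (1 + d) = 1 + z + d := by
      linear_combination (norm := noncomm_ring) zd
    rw [map_mul, s1, map_mul, hgz, hgd, hzd]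
    simp only [mul_add, add_mul, mul_one, one_mul, smul_mul_assoc, mul_smul_comm, smul_add, smul_smul,
      hd', t1, t2, t3, smul_zero]
    have h10 : h • (u * u + u * z + z * u) = 0 := by rw [hw', smul_zero]
    have h11 : u * z = (h + h) • (u * z) := by rw [hhh, one_smul]
    linear_combination (norm := module) h10 + h11
  have hwq : (x + y + z) * q = 0 := by
    rw [add_mul, add_mul, logOf_mul_logOf hA hx qA, logOf_mul_logOf hB hy qB,
      logOf_mul_logOf hC hz qC]
    simp
  have qq : q * q = 0 := logOf_mul_logOf hA qA qA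
  rw [map_mul, s2, hgq]
  have : u + z = x + y + z := by rw [hu]
  have hwq' : (u + z) * q = 0 := this ▸ hwq
  rw [← this]
  simp only [mul_add, add_mul, mul_one, one_mul, smul_mul_assoc, mul_smul_comm, neg_smul, smul_neg,
    mul_neg, qq, smul_zero]
  rw [add_mul] at hwq'
  linear_combination (norm := module) -h • hwq'

theorem conj_logOf (g : H) (A : Subgroup H) {x : (Module.End (ZMod p) V)} (hx : x ∈ logOf ρ A) :
    ρ g * x * ρ g⁻¹ ∈ logOf ρ (A.map (MulAut.conj g).toMonoidHom) := by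
  induction hx using AddSubgroup.closure_induction with
  | mem x hx =>
    obtain ⟨a, ha, rfl⟩ := hx
    refine AddSubgroup.subset_closure ⟨g * a * g⁻¹, Subgroup.mem_map_of_mem _ ha, ?_⟩
    simp only [map_mul]
    linear_combination (norm := noncomm_ring) rho_mul_inv ρ g
  | zero => simp
  | add x y _ _ hx hy => rw [mul_add, add_mul]; exact AddSubgroup.add_mem _ hx hy
  | neg x _ hx => rw [mul_neg, neg_mul]; exact AddSubgroup.neg_mem _ hx

theorem quad_conj (g : H) {A : Subgroup H} (hA : Quad ρ A) :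
    Quad ρ (A.map (MulAut.conj g).toMonoidHom) := by
  rintro _ ⟨a, ha, rfl⟩ _ ⟨b, hb, rfl⟩
  simp only [MulEquiv.coe_toMonoidHom, MulAut.conj_apply, map_mul]
  have h := congrArg (fun t => ρ g * t * ρ g⁻¹) (hA a ha b hb)
  simp only [mul_zero, zero_mul] at h
  have h1 : ∀ t : (Module.End (ZMod p) V), t * (ρ g⁻¹ * ρ g) = t := fun t => by rw [rho_inv_mul, mul_one]
  have h2 : ρ g * ρ a * ρ g⁻¹ - 1 = ρ g * (ρ a - 1) * ρ g⁻¹ := by
    linear_combination (norm := noncomm_ring) rho_mul_inv ρ g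
  have h3 : ρ g * ρ b * ρ g⁻¹ - 1 = ρ g * (ρ b - 1) * ρ g⁻¹ := by
    linear_combination (norm := noncomm_ring) rho_mul_inv ρ g
  rw [h2, h3]
  calc ρ g * (ρ a - 1) * ρ g⁻¹ * (ρ g * (ρ b - 1) * ρ g⁻¹)
      = ρ g * (ρ a - 1) * (ρ g⁻¹ * ρ g) * (ρ b - 1) * ρ g⁻¹ := by simp only [mul_assoc]
    _ = 0 := by rw [h1]; simpa [mul_assoc] using h

variable (ρ)

/-- An optimal quadratic subgroup. -/
def Best (N : ℕ) (A : Subgroup H) : Prop :=
  A ≠ ⊥ ∧ Quad ρ A ∧ (∀ B : Subgroup H, B ≠ ⊥ → Quad ρ B → qm ρ B ≤ qm ρ A) ∧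
    ∀ B : Subgroup H, B ≠ ⊥ → Quad ρ B → qm ρ B = qm ρ A →
      QuadLimit.weight (filt ρ) N (logOf ρ B) ≤ QuadLimit.weight (filt ρ) N (logOf ρ A)

variable {ρ}

theorem map_conj_ne_bot (g : H) {A : Subgroup H} (hA : A ≠ ⊥) :
    A.map (MulAut.conj g).toMonoidHom ≠ ⊥ :=
  fun h => hA ((Subgroup.map_eq_bot_iff_of_injective _ (MulAut.conj g).injective).mp h)

theorem best_conj {N : ℕ} (g : H) {A : Subgroup H} (hA : Best ρ N A) :
    Best ρ N (A.map (MulAut.conj g).toMonoidHom) := by
  obtain ⟨h1, h2, h3, h4⟩ := hA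
  set A' := A.map (MulAut.conj g).toMonoidHom with hA'
  have hc : Nat.card A' = Nat.card A :=
    Subgroup.card_map_of_injective (MulAut.conj g).injective
  have hk : Nat.card (kerSub (logOf ρ A)) ≤ Nat.card (kerSub (logOf ρ A')) := by
    refine Nat.card_le_card_of_injective (fun v => ⟨ρ g v.1, mem_kerSub_logOf.mpr ?_⟩) ?_
    · rintro _ ⟨a, ha, rfl⟩
      simp only [MulEquiv.coe_toMonoidHom, MulAut.conj_apply]
      show (ρ (g * a * g⁻¹) * ρ g) v.1 = ρ g v.1
      rw [← map_mul, show g * a * g⁻¹ * g = g * a by group, map_mul]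
      exact congrArg (ρ g) (mem_kerSub_logOf.mp v.2 a ha)
    · intro v w h
      have h' := congrArg (fun t : kerSub (logOf ρ A') => ρ g⁻¹ (t : V)) h
      simp only [← Module.End.mul_apply, rho_inv_mul] at h'
      exact Subtype.ext h'
  have hq : qm ρ A' = qm ρ A := le_antisymm (h3 _ (map_conj_ne_bot g h1) (quad_conj g h2))
    (by unfold qm; rw [hc]; exact Nat.mul_le_mul_left _ hk)
  haveI := finite_end (p := p) (V := V)
  refine ⟨map_conj_ne_bot g h1, quad_conj g h2, fun B hB1 hB2 => hq ▸ h3 B hB1 hB2,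
    fun B hB1 hB2 hB3 => (h4 B hB1 hB2 (hB3.trans hq)).trans (Finset.sum_le_sum fun k _ => ?_)⟩
  refine Nat.card_le_card_of_injective
    (fun x => ⟨ρ g * x.1 * ρ g⁻¹, conj_logOf g A x.2.1, filt_conj g x.2.2⟩) ?_
  intro x y h
  have h' := congrArg (fun t : ↥(logOf ρ A' ⊓ filt ρ k) => ρ g⁻¹ * (t : (Module.End (ZMod p) V)) * ρ g) h
  have e : ∀ t : (Module.End (ZMod p) V), ρ g⁻¹ * (ρ g * t * ρ g⁻¹) * ρ g = t := fun t => by
    calc ρ g⁻¹ * (ρ g * t * ρ g⁻¹) * ρ g = (ρ g⁻¹ * ρ g) * t * (ρ g⁻¹ * ρ g) := by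
          simp only [mul_assoc]
      _ = t := by rw [rho_inv_mul, one_mul, mul_one]
  simp only [e] at h'
  exact Subtype.ext h'

/-- Best subgroups normalize each other. -/
theorem best_normalize (hρ : Function.Injective ρ) (hp2 : p ≠ 2) (hH : IsPGroup p H) {N : ℕ}
    (hN : flag ρ N = ⊤) : ∀ (n : ℕ) (A B : Subgroup H), Nat.card ↥(A ⊔ B) ≤ n →
      Best ρ N A → Best ρ N B → B ≤ Subgroup.normalizer (A : Set H) := by
  intro n
  induction n using Nat.strong_induction_on with
  | _ n ih => ?_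
  intro A B hn hA hB
  by_cases hBA : B ≤ A
  · exact hBA.trans Subgroup.le_normalizer
  set T := A ⊔ B with hT
  have hAne : A.subgroupOf T ≠ ⊤ := fun h =>
    hBA (le_trans le_sup_right (Subgroup.subgroupOf_eq_top.mp h))
  obtain ⟨M0, hM0, hAM0⟩ := (eq_top_or_exists_le_coatom (A.subgroupOf T)).resolve_left hAne
  haveI : Group.IsNilpotent ↥T := (hH.to_subgroup T).isNilpotent
  have hM0n : M0.Normal :=
    Subgroup.NormalizerCondition.normal_of_coatom M0 Group.normalizerCondition_of_isNilpotent hM0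
  set M := M0.map T.subtype with hM
  have hMlt : Nat.card M < Nat.card T := by
    rw [hM, Subgroup.card_map_of_injective T.subtype_injective]
    refine lt_of_le_of_ne (Subgroup.card_le_card_group _) fun h => hM0.1 ?_
    exact Subgroup.eq_top_of_card_eq _ h
  have hconjM : ∀ t ∈ T, A.map (MulAut.conj t).toMonoidHom ≤ M := by
    rintro t ht _ ⟨a, ha, rfl⟩
    exact ⟨⟨t, ht⟩ * ⟨a, le_sup_left (α := Subgroup H) ha⟩ * ⟨t, ht⟩⁻¹,
      hM0n.conj_mem _ (hAM0 ha) _, rfl⟩
  have hpair : ∀ s ∈ T, ∀ t ∈ T, A.map (MulAut.conj s).toMonoidHom ≤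
      Subgroup.normalizer ((A.map (MulAut.conj t).toMonoidHom : Subgroup H) : Set H) :=
    fun s hs t ht => ih (n - 1) (by have := Nat.card_pos (α := T); omega) _ _
      (le_trans (Subgroup.card_le_of_le (sup_le (hconjM t ht) (hconjM s hs))) (by omega))
      (best_conj t hA) (best_conj s hA)
  obtain ⟨hAne', hAQ, hAmax, hAw⟩ := hA
  have key : ∀ b ∈ B, ∀ a ∈ A, b * a * b⁻¹ ∈ A := by
    intro b hb
    haveI := finite_end (p := p) (V := V)
    have hbT : b ∈ T := Subgroup.mem_sup_right hb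
    set β := ρ b - 1 with hβdef
    have hββ : β * β = 0 := hB.2.1 b hb b hb
    have hb' : ρ b = 1 + β := by rw [hβdef]; abel
    have hbi : ρ b⁻¹ = 1 - β := by
      calc ρ b⁻¹ = ρ b⁻¹ * (ρ b * (1 - β)) := by
            rw [hb', show (1 + β) * (1 - β) = 1 by linear_combination (norm := noncomm_ring) -hββ,
              mul_one]
        _ = 1 - β := by rw [← mul_assoc, rho_inv_mul, one_mul]
    set L := logOf ρ A with hLdef
    set A1 := A.map (MulAut.conj b⁻¹).toMonoidHom with hA1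
    set A2 := A.map (MulAut.conj b).toMonoidHom with hA2
    have hA0 : A.map (MulAut.conj (1 : H)).toMonoidHom = A := by
      ext; simp
    have n01 : A ≤ Subgroup.normalizer (A1 : Set H) := by
      have h := hpair 1 T.one_mem b⁻¹ (T.inv_mem hbT)
      rwa [hA0] at h
    have n10 : A1 ≤ Subgroup.normalizer (A : Set H) := by
      have h := hpair b⁻¹ (T.inv_mem hbT) 1 T.one_mem
      rwa [hA0] at h
    have n02 : A ≤ Subgroup.normalizer (A2 : Set H) := by
      have h := hpair 1 T.one_mem b hbT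
      rwa [hA0] at h
    have n20 : A2 ≤ Subgroup.normalizer (A : Set H) := by
      have h := hpair b hbT 1 T.one_mem
      rwa [hA0] at h
    have n12 := hpair b⁻¹ (T.inv_mem hbT) b hbT
    have n21 := hpair b hbT b⁻¹ (T.inv_mem hbT)
    have hst : QuadLimit.Stable β L := by
      by_contra hns
      set L' := QuadLimit.lim β L with hL'
      set S := L ⊔ logOf ρ A1 ⊔ logOf ρ A2 with hS
      have h2 : (2 : ZMod p) ≠ 0 := by
        intro h
        have : (p : ℕ) ∣ 2 := (CharP.cast_eq_zero_iff (ZMod p) p 2).mp (by exact_mod_cast h)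
        exact hp2 ((Nat.prime_dvd_prime_iff_eq hp.out Nat.prime_two).mp this)
      have hcoef : ∀ x ∈ L, x ∈ S ∧ x * β - β * x ∈ S ∧ β * x * β ∈ S := by
        intro x hx
        have e0 : x ∈ S := AddSubgroup.mem_sup_left (AddSubgroup.mem_sup_left hx)
        have e1 : (1 - β) * x * (1 + β) ∈ S := by
          have := conj_logOf b⁻¹ A hx
          rw [inv_inv, hbi, hb'] at this
          exact AddSubgroup.mem_sup_left (AddSubgroup.mem_sup_right this)
        have e2 : (1 + β) * x * (1 - β) ∈ S := by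
          have := conj_logOf b A hx
          rw [hbi, hb'] at this
          exact AddSubgroup.mem_sup_right this
        refine ⟨e0, ?_, ?_⟩
        · have h3 := smul_mem' S (2 : ZMod p)⁻¹ (S.sub_mem e1 e2)
          convert h3 using 1
          rw [eq_inv_smul_iff₀ h2, two_smul]
          noncomm_ring
        · have h3 := smul_mem' S (2 : ZMod p)⁻¹
            (S.sub_mem (S.add_mem e0 e0) (S.add_mem e1 e2))
          convert h3 using 1
          rw [eq_inv_smul_iff₀ h2, two_smul]
          noncomm_ring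
      have hzero : ∀ v ∈ L', ∀ w ∈ L', v * w = 0 := fun v hv w hw =>
        QuadLimit.lim_mul_eq_zero β hββ (fun x hx y hy => logOf_mul_logOf hAQ hx hy) hv hw
      have hrep : ∀ w ∈ L', ∃ g, ρ g - 1 = w := by
        intro w hw
        have hwS := QuadLimit.lim_le β hcoef hw
        obtain ⟨xy, hxy, z, hz, rfl⟩ := AddSubgroup.mem_sup.mp hwS
        obtain ⟨x, hx, y, hy, rfl⟩ := AddSubgroup.mem_sup.mp hxy
        exact exists_rep hρ hp2 hAQ (quad_conj _ hAQ) (quad_conj _ hAQ) n01 n10 n02 n20 n12 n21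
          hx hy hz (hzero _ hw _ hw)
      let As : Subgroup H :=
        { carrier := {g | ρ g - 1 ∈ L'}
          one_mem' := by simp [L'.zero_mem]
          mul_mem' := fun {g k} hg hk => by
            show ρ (g * k) - 1 ∈ L'
            convert L'.add_mem hg hk using 1
            rw [map_mul]
            linear_combination (norm := noncomm_ring) hzero _ hg _ hk
          inv_mem' := fun {g} hg => by
            show ρ g⁻¹ - 1 ∈ L'
            have h1 : ρ g * (1 - (ρ g - 1)) = 1 := by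
              linear_combination (norm := noncomm_ring) -(hzero _ hg _ hg)
            have h3 : ρ g⁻¹ = 1 - (ρ g - 1) := by
              calc ρ g⁻¹ = ρ g⁻¹ * (ρ g * (1 - (ρ g - 1))) := by rw [h1, mul_one]
                _ = _ := by rw [← mul_assoc, rho_inv_mul, one_mul]
            rw [h3, show (1 : (Module.End (ZMod p) V)) - (ρ g - 1) - 1 = -(ρ g - 1) by abel]
            exact L'.neg_mem hg }
      have hAsQ : Quad ρ As := fun a ha c hc => hzero _ ha _ hc
      have hlog : logOf ρ As = L' := by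
        refine le_antisymm ((AddSubgroup.closure_le _).mpr ?_) fun w hw => ?_
        · rintro _ ⟨g, hg, rfl⟩; exact hg
        · obtain ⟨g, hg⟩ := hrep w hw
          exact hg ▸ AddSubgroup.subset_closure ⟨g, (show ρ g - 1 ∈ L' by rw [hg]; exact hw), rfl⟩
      have hcard : Nat.card A ≤ Nat.card As := by
        rw [← card_logOf hρ hAQ, ← card_logOf hρ hAsQ, hlog]
        exact QuadLimit.card_le_card_lim β hββ L
      have hker : Nat.card (kerSub L) ≤ Nat.card (kerSub L') := card_kerSub_le <|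
        (QuadLimit.card_le_card_lim β hββ (annR L)).trans <| AddSubgroup.card_le_of_le
          fun c hc x hx => QuadLimit.lim_mul_eq_zero β hββ (S := L) (T := annR L) (fun v hv w hw => hw v hv) hx hc
      have hAs1 : As ≠ ⊥ := fun h => by
        rw [h, Subgroup.card_bot] at hcard
        exact hAne' (Subgroup.eq_bot_of_card_le A hcard)
      have hqm : qm ρ As = qm ρ A := le_antisymm (hAmax _ hAs1 hAsQ)
        (by unfold qm; rw [hlog]; exact Nat.mul_le_mul hcard hker)
      have hweight := QuadLimit.weight_lt β hββ (filt ρ) N filt_anti (filt_bot hN)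
        (fun k x hx => filt_left b hx) (fun k x hx => filt_right b hx) (logOf_le_filt_zero A) hns
      have hle := hAw As hAs1 hAsQ hqm
      rw [hlog] at hle
      exact absurd hle (not_le.mpr hweight)
    intro a ha
    have hx : ρ a - 1 ∈ L := (mem_logOf hAQ).mpr ⟨a, ha, rfl⟩
    obtain ⟨hD, hE⟩ := hst _ hx
    have hmem : ρ (b * a * b⁻¹) - 1 ∈ L := by
      convert L.sub_mem (L.sub_mem hx hD) hE using 1
      rw [map_mul, map_mul, hb', hbi]
      linear_combination (norm := noncomm_ring) -hββ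
    obtain ⟨a', ha', h'⟩ := (mem_logOf hAQ).mp hmem
    rw [← hρ (sub_left_injective h')]
    exact ha'
  intro b hb
  refine Subgroup.mem_normalizer_iff.mpr fun a => ⟨key b hb a, fun h => ?_⟩
  simpa [mul_assoc] using key b⁻¹ (B.inv_mem hb) _ h

/-- Thompson replacement: some quadratic subgroup is an offender. -/
theorem exists_quad_offender (hρ : Function.Injective ρ) (hH : IsPGroup p H) {E₀ : Subgroup H}
    (h1 : E₀ ≠ ⊥) (hc : ∀ a ∈ E₀, ∀ b ∈ E₀, a * b = b * a)
    (hoff : Nat.card V ≤ qm ρ E₀) :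
    ∃ A : Subgroup H, A ≠ ⊥ ∧ Quad ρ A ∧ Nat.card V ≤ qm ρ A := by
  classical
  haveI : Nonempty {A : Subgroup H // A ≠ ⊥ ∧ (∀ a ∈ A, ∀ b ∈ A, a * b = b * a) ∧
      Nat.card V ≤ qm ρ A} := ⟨⟨E₀, h1, hc, hoff⟩⟩
  obtain ⟨⟨A, hA⟩, hmin⟩ := Finite.exists_min
    (fun A : {A : Subgroup H // A ≠ ⊥ ∧ (∀ a ∈ A, ∀ b ∈ A, a * b = b * a) ∧
      Nat.card V ≤ qm ρ A} => Nat.card A.1)
  obtain ⟨hA1, hAc, hAoff⟩ := hA
  refine ⟨A, hA1, fun a ha e he => ?_, hAoff⟩
  refine LinearMap.ext fun v => ?_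
  have hcomm : ∀ a ∈ A, ∀ c ∈ A, ∀ w : V, (ρ a - 1) ((ρ c - 1) w) = (ρ c - 1) ((ρ a - 1) w) := by
    intro a ha c hc' w
    show ((ρ a - 1) * (ρ c - 1)) w = ((ρ c - 1) * (ρ a - 1)) w
    refine LinearMap.congr_fun ?_ w
    have h := congrArg ρ (hAc a ha c hc')
    rw [map_mul, map_mul] at h
    linear_combination (norm := noncomm_ring) h
  set K := kerSub (logOf ρ A) with hK
  set X : Submodule (ZMod p) V := Submodule.span _ ((fun d => (ρ d - 1) v) '' (A : Set H)) with hX
  set Y := K ⊔ X with hY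
  let D : Subgroup H :=
    { carrier := {c | c ∈ A ∧ ∀ w ∈ X, ρ c w = w}
      one_mem' := ⟨A.one_mem, fun w _ => by simp⟩
      mul_mem' := fun {c d} hc hd => ⟨A.mul_mem hc.1 hd.1, fun w hw => by
        rw [map_mul, Module.End.mul_apply, hd.2 w hw, hc.2 w hw]⟩
      inv_mem' := fun {c} hc => ⟨A.inv_mem hc.1, fun w hw => by
        conv_lhs => rw [← hc.2 w hw, ← Module.End.mul_apply, rho_inv_mul, Module.End.one_apply]⟩ }
  have hDA : D ≤ A := fun c hc => hc.1
  have hYD : Y ≤ kerSub (logOf ρ D) := sup_le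
    (fun w hw => mem_kerSub_logOf.mpr fun c hc => mem_kerSub_logOf.mp hw c hc.1)
    (fun w hw => mem_kerSub_logOf.mpr fun c hc => hc.2 w hw)
  have hXY : ∀ c ∈ A, (ρ c - 1) v ∈ Y := fun c hc =>
    Submodule.mem_sup_right (Submodule.subset_span ⟨c, hc, rfl⟩)
  let f : A ⧸ D.subgroupOf A → ↥Y ⧸ K.comap Y.subtype := fun q =>
    Submodule.Quotient.mk ⟨(ρ (q.out : H) - 1) v, hXY _ q.out.2⟩
  have hf : Function.Injective f := by
    intro q r h
    rw [← QuotientGroup.out_eq' q, ← QuotientGroup.out_eq' r, QuotientGroup.eq,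
      Subgroup.mem_subgroupOf]
    rw [Submodule.Quotient.eq, Submodule.mem_comap] at h
    simp only [map_sub, Submodule.subtype_apply] at h
    set a1 : H := (q.out : H) with ha1
    set b1 : H := (r.out : H) with hb1
    have ha1' : a1 ∈ A := q.out.2
    have hb1' : b1 ∈ A := r.out.2
    show a1⁻¹ * b1 ∈ D
    have hcA : a1⁻¹ * b1 ∈ A := A.mul_mem (A.inv_mem ha1') hb1'
    have hfix := mem_kerSub_logOf.mp (K.neg_mem h)
    have h' : (ρ (a1⁻¹ * b1) - 1) v ∈ K := by
      have e0 : (ρ (a1⁻¹ * b1) - 1) v = ρ a1⁻¹ (-((ρ a1 - 1) v - (ρ b1 - 1) v)) := by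
        have : ρ (a1⁻¹ * b1) - 1 = ρ a1⁻¹ * -((ρ a1 - 1) - (ρ b1 - 1)) := by
          rw [map_mul]; linear_combination (norm := noncomm_ring) (rho_inv_mul ρ a1)
        rw [this]; rfl
      rw [e0, hfix _ (A.inv_mem ha1')]
      exact K.neg_mem h
    refine ⟨hcA, fun w hw => ?_⟩
    induction hw using Submodule.span_induction with
    | mem w hw =>
      obtain ⟨d, hd, rfl⟩ := hw
      rw [← sub_eq_zero]
      show (ρ (a1⁻¹ * b1) - 1) ((ρ d - 1) v) = 0
      rw [hcomm _ hcA d hd]
      simp only [LinearMap.sub_apply, Module.End.one_apply, sub_eq_zero]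
      exact mem_kerSub_logOf.mp h' d hd
    | zero => simp
    | add x y _ _ hx hy => rw [map_add, hx, hy]
    | smul c x _ hx => rw [map_smul, hx]
  haveI : Finite (↥Y ⧸ K.comap Y.subtype) := Finite.of_surjective _ (Submodule.Quotient.mk_surjective _)
  have hcount : qm ρ A ≤ Nat.card D * Nat.card Y := by
    have i1 := Nat.card_le_card_of_injective f hf
    have i2 : Nat.card A = Nat.card D * Nat.card (A ⧸ D.subgroupOf A) := by
      rw [Subgroup.card_eq_card_quotient_mul_card_subgroup (D.subgroupOf A),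
        Nat.card_congr (Subgroup.subgroupOfEquivOfLe hDA).toEquiv, mul_comm]
    have i3 : Nat.card Y = Nat.card (↥Y ⧸ K.comap Y.subtype) * Nat.card K := by
      rw [Submodule.card_eq_card_quotient_mul_card (K.comap Y.subtype), mul_comm,
        Nat.card_congr (Submodule.comapSubtypeEquivOfLe (le_sup_left : K ≤ Y)).toEquiv, mul_comm]
    unfold qm
    rw [← hK, i2, i3, mul_assoc]
    exact Nat.mul_le_mul_left _ (Nat.mul_le_mul_right _ i1)
  by_cases hD : D = ⊥
  · exfalso
    rw [hD, Subgroup.card_bot, one_mul] at hcount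
    have hYtop : Y = ⊤ := SetLike.coe_injective <| Set.eq_of_subset_of_ncard_le (Set.subset_univ _)
      (by rw [Submodule.top_coe, Set.ncard_univ, ← Nat.card_coe_set_eq]; exact hAoff.trans hcount) (Set.toFinite _)
    obtain ⟨N, hN⟩ := exists_flag_top (ρ := ρ) hH
    have hall : ∀ j ≤ N, ∀ c ∈ A, ∀ w : V, (ρ c - 1) w ∈ flag ρ (N - j) := by
      intro j
      induction j with
      | zero => intro _ c _ w; rw [Nat.sub_zero, hN]; trivial
      | succ j ih =>
        intro hj c hc' w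
        have hw : w ∈ Y := hYtop ▸ Submodule.mem_top
        obtain ⟨k, hk, x, hx, rfl⟩ := Submodule.mem_sup.mp hw
        rw [map_add, show (ρ c - 1) k = 0 by simp [mem_kerSub_logOf.mp hk c hc'], zero_add]
        clear hw
        induction hx using Submodule.span_induction with
        | mem x hx =>
          obtain ⟨d, hd, rfl⟩ := hx
          have := sub_one_lowers c (ih (by omega) d hd v)
          rwa [Nat.sub_sub] at this
        | zero => simp
        | add x y _ _ hx hy => rw [map_add]; exact Submodule.add_mem _ hx hy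
        | smul t x _ hx => rw [map_smul]; exact Submodule.smul_mem _ _ hx
    refine hA1 ((Subgroup.eq_bot_iff_forall _).mpr fun c hc' => hρ ?_)
    rw [map_one, ← sub_eq_zero]
    refine LinearMap.ext fun w => ?_
    have := hall N le_rfl c hc' w
    simpa [flag] using this
  · have hDoff : Nat.card V ≤ qm ρ D :=
      hAoff.trans (hcount.trans (Nat.mul_le_mul_left _
        (Nat.card_mono (Set.toFinite _) hYD)))
    have hmD := hmin ⟨D, hD, fun a ha b hb => hAc a (hDA ha) b (hDA hb), hDoff⟩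
    have hDe : D = A := Subgroup.eq_of_le_of_card_ge hDA hmD
    have : a ∈ D := hDe ▸ ha
    show (ρ a - 1) ((ρ e - 1) v) = 0
    have h := this.2 _ (Submodule.subset_span ⟨e, he, rfl⟩)
    simp only [LinearMap.sub_apply, Module.End.one_apply] at h ⊢
    rw [h, sub_self]

/-- The main theorem. -/
theorem exists_normal_offender (hρ : Function.Injective ρ) (hp2 : p ≠ 2) (hH : IsPGroup p H)
    {E₀ : Subgroup H} (h1 : E₀ ≠ ⊥) (hc : ∀ a ∈ E₀, ∀ b ∈ E₀, a * b = b * a)
    (hoff : Nat.card V ≤ qm ρ E₀) :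
    ∃ A : Subgroup H, A ≠ ⊥ ∧ Quad ρ A ∧ Nat.card V ≤ qm ρ A ∧
      ∀ h : H, A.map (MulAut.conj h).toMonoidHom ≤ Subgroup.normalizer (A : Set H) := by
  classical
  obtain ⟨A₀, hA₀, hQ₀, hoff₀⟩ := exists_quad_offender hρ hH h1 hc hoff
  obtain ⟨N, hN⟩ := exists_flag_top (ρ := ρ) hH
  haveI : Nonempty {A : Subgroup H // A ≠ ⊥ ∧ Quad ρ A} := ⟨⟨A₀, hA₀, hQ₀⟩⟩
  obtain ⟨⟨A₁, hA₁, hQ₁⟩, hmax⟩ := Finite.exists_max
    (fun A : {A : Subgroup H // A ≠ ⊥ ∧ Quad ρ A} => qm ρ A.1)
  haveI : Nonempty {A : Subgroup H // A ≠ ⊥ ∧ Quad ρ A ∧ qm ρ A = qm ρ A₁} := ⟨⟨A₁, hA₁, hQ₁, rfl⟩⟩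
  obtain ⟨⟨A, hA, hQ, heq⟩, hw⟩ := Finite.exists_max
    (fun A : {A : Subgroup H // A ≠ ⊥ ∧ Quad ρ A ∧ qm ρ A = qm ρ A₁} =>
      QuadLimit.weight (filt ρ) N (logOf ρ A.1))
  have hbest : Best ρ N A := ⟨hA, hQ, fun B hB hBQ => heq ▸ hmax ⟨B, hB, hBQ⟩,
    fun B hB hBQ hBeq => hw ⟨B, hB, hBQ, hBeq.trans heq⟩⟩
  refine ⟨A, hA, hQ, heq ▸ hoff₀.trans (hmax ⟨A₀, hA₀, hQ₀⟩), fun h => ?_⟩
  exact best_normalize hρ hp2 hH hN _ A _ le_rfl hbest (best_conj h hbest)

end Cfsg.Agent.TwoFusionB.QuadOffender
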