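import Cfsg.Agent.TwoFusionB.FpfSixShape
import Cfsg.Agent.InvChar.UTFour

/-!
# A non-abelian group of order 64 with an involution outside its centre is a Sylow subgroup
of `PSL(3, 4)`
-/

set_option autoImplicit false

namespace Cfsg.Agent.TwoFusionB

open Subgroup
open Cfsg.Agent.InvChar.SixtyFour (P4 mul4 exists_sylow_of_law)

/-- Order 64, squares in the four-group centre, and a fixed-point-free automorphism of order three. -/
structure Fpf64 (T : Type*) [Group T] (ρ : MulAut T) : Prop where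
  hp : IsPGroup 2 T
  card : Nat.card T = 64
  cube : ∀ x, ρ (ρ (ρ x)) = x
  fpf : ∀ x, ρ x = x → x = 1
  card4 : Nat.card (center T) = 4
  sq : ∀ x : T, x * x ∈ center T
  exp : ∀ z ∈ center T, z * z = 1

namespace Fpf64

variable {T : Type*} [Group T] [Finite T] {ρ : MulAut T} (h : Fpf64 T ρ)
include h

theorem cm_mem (x y : T) : cm x y ∈ center T := by
  have e : cm x y = (x * y * (x * y)) * ((y⁻¹ * (x⁻¹ * x⁻¹) * y) * (y⁻¹ * y⁻¹)) := by
    simp only [cm]; group
  rw [e]
  refine mul_mem (h.sq _) (mul_mem ?_ ?_)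
  · have := inv_mem (h.sq x)
    rw [mul_inv_rev] at this
    rw [mem_center_iff.1 this y⁻¹, inv_mul_cancel_right]
    exact this
  · have := inv_mem (h.sq y)
    rwa [mul_inv_rev] at this

theorem cen {z : T} (hz : z ∈ center T) (g : T) : g * z = z * g := mem_center_iff.1 hz g

theorem cm_sq (x y : T) : cm x y * cm x y = 1 := h.exp _ (h.cm_mem x y)

theorem cm_comm (x y : T) : cm x y = cm y x := by
  rw [← inv_eq_of_mul_eq_one_right (h.cm_sq y x)]
  simp only [cm]; group

theorem cm_mul (x y y' : T) : cm x (y * y') = cm x y * cm x y' := by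
  calc cm x (y * y') = x * y * x⁻¹ * (cm x y' * y⁻¹) := by simp only [cm]; group
    _ = x * y * x⁻¹ * (y⁻¹ * cm x y') := by rw [h.cen (h.cm_mem x y') y⁻¹]
    _ = _ := by simp only [cm]; group

theorem cm_mul_left (x x' y : T) : cm (x * x') y = cm x y * cm x' y := by
  rw [h.cm_comm, h.cm_mul, h.cm_comm y, h.cm_comm y]

omit h [Finite T] in
theorem cm_one_right (x : T) : cm x 1 = 1 := by simp [cm]

omit h [Finite T] in
theorem cm_one_left (x : T) : cm 1 x = 1 := by simp [cm]

theorem cm_inv (x y : T) : cm x y⁻¹ = cm x y := by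
  have := h.cm_mul x y y⁻¹
  rw [mul_inv_cancel, cm_one_right] at this
  rw [← inv_eq_of_mul_eq_one_right this.symm, inv_eq_of_mul_eq_one_right (h.cm_sq x y)]

theorem cm_center (x : T) {z : T} (hz : z ∈ center T) : cm x z = 1 := by
  simp only [cm]; rw [h.cen hz x]; group

omit h [Finite T] in
theorem map_cm (e : MulAut T) (x y : T) : e (cm x y) = cm (e x) (e y) := by simp [cm]

theorem rel (x : T) : x * ρ x * ρ (ρ x) = 1 := FGS76.fpf3_relation ρ h.fpf h.cube x

theorem rho2 (x : T) : ρ (ρ x) = (x * ρ x)⁻¹ := eq_inv_of_mul_eq_one_right (h.rel x)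

theorem rho_center {z : T} (hz : z ∈ center T) : ρ z ∈ center T := by
  rw [mem_center_iff] at hz ⊢
  intro g
  obtain ⟨g, rfl⟩ := ρ.surjective g
  rw [← map_mul, ← map_mul, hz g]

theorem rho2_center {z : T} (hz : z ∈ center T) : ρ (ρ z) = z * ρ z := by
  rw [h.rho2, inv_eq_of_mul_eq_one_right (h.exp _ (mul_mem hz (h.rho_center hz)))]

theorem cm_self_rho (x : T) : cm x (ρ x) = 1 := by
  simp only [cm]; rw [(FGS76.fpf3_commute ρ h.fpf h.cube x).eq]; group

/-- Commutators with `ρ`-translates are determined by the commutator. -/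
theorem cm_rho_right (f y : T) : cm f (ρ y) = ρ (ρ (cm f y)) := by
  have hy2 : ∀ a : T, cm a (ρ (ρ y)) = cm a y * cm a (ρ y) := fun a => by
    rw [h.rho2, h.cm_inv, h.cm_mul]
  have e : ρ (ρ (cm f y)) = cm (ρ (ρ f)) (ρ (ρ y)) := by rw [map_cm, map_cm]
  rw [h.rho2 f, h.cm_comm (f * ρ f)⁻¹, h.cm_inv, h.cm_mul, h.cm_comm _ f, h.cm_comm _ (ρ f),
    hy2 f] at e
  have e2 : cm (ρ f) (ρ (ρ y)) = ρ (cm f (ρ y)) := (map_cm ρ _ _).symm
  rw [e2] at e
  set a := cm f y
  set b := cm f (ρ y)
  have ha : a ∈ center T := h.cm_mem _ _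
  have hb : b ∈ center T := h.cm_mem _ _
  rw [h.rho2_center ha, mul_assoc] at e
  have e3 : b * ρ b = ρ a := (mul_left_cancel e).symm
  rw [← h.rho2_center hb] at e3
  rw [← ρ.injective e3, h.cube]

omit h [Finite T] in
theorem pw2_cases (a : ZMod 2) (x : T) : pw2 x a = 1 ∨ pw2 x a = x := by
  rcases zmod2_cases a with rfl | rfl
  exacts [Or.inl (pw2_zero x), Or.inr (pw2_one x)]

/-- Recognition from an involution outside the centre. -/
theorem recognize {f : T} (hf : f * f = 1) (hfZ : f ∉ center T) :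
    ∃ (F : Type) (_ : Field F) (_ : Fintype F), Fintype.card F = 4 ∧
      ∃ S : Sylow 2 (Matrix.ProjectiveSpecialLinearGroup (Fin 3) F),
        Nonempty (T ≃* ↥(S : Subgroup (Matrix.ProjectiveSpecialLinearGroup (Fin 3) F))) := by
  classical
  obtain ⟨g0, hg0⟩ : ∃ g, cm f g ≠ 1 := by
    by_contra! hall
    refine hfZ (mem_center_iff.2 fun g => ?_)
    have := hall g
    simp only [cm] at this
    calc g * f = (f * g * f⁻¹ * g⁻¹) * g * f := by rw [this, one_mul]
      _ = f * g := by group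
  set c := cm f g0 with hcdef
  have hc : c ∈ center T := h.cm_mem _ _
  have hcρ : ρ c ∈ center T := h.rho_center hc
  have hcρρ : ρ (ρ c) ∈ center T := h.rho_center hcρ
  have hrf : ρ f * ρ f = 1 := by rw [← map_mul, hf, map_one]
  have hfρf : f * ρ f = ρ f * f := (FGS76.fpf3_commute ρ h.fpf h.cube f).eq
  -- the centre
  let w : P4 → T := fun p => pw2 c p.1 * pw2 (ρ (ρ c)) p.2
  have hadd : ∀ a b : T, a * a = 1 → b * b = 1 → a * b = b * a → ∀ p q : P4,
      pw2 a (p + q).1 * pw2 b (p + q).2 = pw2 a p.1 * pw2 b p.2 * (pw2 a q.1 * pw2 b q.2) := by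
    intro a b ha hb hab p q
    rw [Prod.fst_add, Prod.snd_add, pw2_add ha, pw2_add hb]
    have : Commute (pw2 b p.2) (pw2 a q.1) := by
      rcases pw2_cases p.2 b with e | e <;> rcases pw2_cases q.1 a with e' | e' <;>
        rw [e, e'] <;> first | exact Commute.one_left _ | exact Commute.one_right _ |
          exact hab.symm
    exact (this.mul_mul_mul_comm _ _).symm
  have hw : ∀ p q, w (p + q) = w p * w q :=
    hadd _ _ (h.exp _ hc) (h.exp _ hcρρ) (h.cen hcρρ c)
  have hwc : ∀ p, w p ∈ center T := fun p => by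
    rcases pw2_cases p.1 c with e | e <;> rcases pw2_cases p.2 (ρ (ρ c)) with e' | e' <;>
      simp only [w, e, e'] <;>
      first | exact mul_mem (one_mem _) (one_mem _) | exact mul_mem hc (one_mem _) |
        exact mul_mem (one_mem _) hcρρ | exact mul_mem hc hcρρ
  have hz0 : ∀ z ∈ center T, z ≠ 1 → ρ (ρ z) ≠ 1 ∧ z * ρ (ρ z) ≠ 1 := by
    intro z hz hz1
    refine ⟨by simpa using hz1, fun e => hz1 (h.fpf z ?_)⟩
    have e1 : ρ (ρ z) = z := (eq_inv_of_mul_eq_one_right e).trans
      (inv_eq_of_mul_eq_one_right (h.exp z hz))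
    conv_lhs => rw [← e1]
    exact h.cube z
  have hwinj : Function.Injective w := by
    intro p q e
    have e1 : w (p + q) = 1 := by rw [hw, e, h.exp _ (hwc q)]
    obtain ⟨k1, k2⟩ := hz0 c hc hg0
    have hP : ∀ r s : P4, r + s = 0 → r = s := by decide
    apply hP
    generalize p + q = r at e1
    obtain ⟨i, j⟩ := r
    rcases zmod2_cases i with rfl | rfl <;> rcases zmod2_cases j with rfl | rfl <;>
      simp [w, pw2_zero, pw2_one] at e1 ⊢ <;> simp_all
  have hwsurj : ∀ z ∈ center T, ∃ p, w p = z := by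
    intro z hz
    have hi : Function.Injective fun p : P4 => (⟨w p, hwc p⟩ : center T) :=
      fun p q e => hwinj (congrArg Subtype.val e)
    obtain ⟨p, hp⟩ := (hi.bijective_of_nat_card_le
      (by rw [h.card4]; simp [Nat.card_eq_fintype_card])).2 ⟨z, hz⟩
    exact ⟨p, congrArg Subtype.val hp⟩
  -- the second involution
  let u : P4 → T := fun p => pw2 f p.1 * pw2 (ρ f) p.2
  have hu : ∀ p q, u (p + q) = u p * u q := hadd _ _ hf hrf hfρf
  have hu0 : u 0 = 1 := by simp [u, pw2_zero]
  have huu : ∀ p, u p * u p = 1 := fun p => by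
    rw [← hu, show p + p = 0 from (by decide : ∀ r : P4, r + r = 0) p, hu0]
  have hbg : ∀ g : T, cm f g = c → cm (ρ f) g = ρ (ρ c) ∧ cm f (ρ g) = ρ (ρ c) ∧
      cm (ρ f) (ρ g) = ρ c := by
    intro g hg
    have e1 := h.cm_rho_right f g
    rw [hg] at e1
    refine ⟨?_, e1, by rw [← map_cm, hg]⟩
    have e2 := h.cm_rho_right g f
    rwa [h.cm_comm, h.cm_comm g, hg] at e2
  have hug0 : ∀ p, cm (u p) g0 = w p := by
    rintro ⟨i, j⟩
    simp only [u, w, h.cm_mul_left]
    rcases zmod2_cases i with rfl | rfl <;> rcases zmod2_cases j with rfl | rfl <;>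
      simp [pw2_zero, pw2_one, cm_one_left, (hbg g0 rfl).1, ← hcdef]
  obtain ⟨p0, hp0⟩ := hwsurj _ (h.sq g0)
  obtain ⟨g, hg, hfg⟩ : ∃ g, g * g = 1 ∧ cm f g = c := by
    refine ⟨g0 * u p0, ?_, ?_⟩
    · have e : g0 * u p0 * (g0 * u p0) = cm (u p0) g0 * (g0 * g0 * (u p0 * u p0)) :=
        ThreeInvol.mul_sq_of_comm_mem (by simp only [cm]; group) (h.cen (h.cm_mem _ _) g0)
      rw [e, hug0, hp0, huu, mul_one, h.exp _ (h.sq g0)]
    · rw [h.cm_mul, ← hcdef]
      have hff : cm f f = 1 := by simp [cm]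
      have : ∀ p, cm f (u p) = 1 := by
        rintro ⟨i, j⟩
        simp only [u, h.cm_mul]
        rcases pw2_cases i f with e | e <;> rcases pw2_cases j (ρ f) with e' | e' <;>
          simp [e, e', cm_one_right, h.cm_self_rho, hff]
      rw [this, mul_one]
  obtain ⟨hrfg, hfrg, hrfrg⟩ := hbg g hfg
  have hrg : ρ g * ρ g = 1 := by rw [← map_mul, hg, map_one]
  let v : P4 → T := fun p => pw2 g p.1 * pw2 (ρ g) p.2
  have hv : ∀ p q, v (p + q) = v p * v q :=
    hadd _ _ hg hrg (FGS76.fpf3_commute ρ h.fpf h.cube g).eq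
  have hρc : ρ c = c * ρ (ρ c) := by
    rw [h.rho2_center hc, ← mul_assoc, h.exp c hc, one_mul]
  have huv : ∀ p q, cm (u p) (v q) = w (mul4 p q) := by
    rintro ⟨i, j⟩ ⟨k, l⟩
    simp only [u, v, w, h.cm_mul_left, h.cm_mul]
    have hx1 := h.exp c hc
    have hx2 := h.exp _ hcρρ
    have hx3 := h.cen hcρρ c
    generalize ρ (ρ c) = z2 at hrfg hfrg hρc hx2 hx3 ⊢
    rcases zmod2_cases i with rfl | rfl <;> rcases zmod2_cases j with rfl | rfl <;>
      rcases zmod2_cases k with rfl | rfl <;> rcases zmod2_cases l with rfl | rfl <;>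
      simp [mul4, pw2_zero, pw2_one, cm_one_left, cm_one_right, hfg, hrfg, hfrg, hrfrg, hρc,
        show (1 : ZMod 2) + 1 = 0 by decide, hx1, hx2] <;>
      first
        | rfl
        | exact hx3.symm
        | (rw [mul_assoc, ← mul_assoc z2 z2, hx2, one_mul, ← mul_assoc, hx1, one_mul])
        | (rw [← mul_assoc, hx1, one_mul])
        | (rw [← mul_assoc, ← hx3, mul_assoc, hx2, mul_one])
        | (rw [mul_assoc, hx2, mul_one])
        | (rw [← hx3, mul_assoc, hx2, mul_one])
  have hff : ∀ p q, cm (u p) (u q) = 1 := fun p q => by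
    have e : u p * u q = u q * u p := by rw [← hu, ← hu, add_comm]
    simp only [cm]; rw [e]; group
  have hgg : ∀ p q, cm (v p) (v q) = 1 := fun p q => by
    have e : v p * v q = v q * v p := by rw [← hv, ← hv, add_comm]
    simp only [cm]; rw [e]; group
  let Ψ : P4 × P4 × P4 → T := fun p => v p.2.1 * u p.1 * w p.2.2
  have hmul : ∀ p q, Ψ p * Ψ q =
      Ψ (p.1 + q.1, p.2.1 + q.2.1, p.2.2 + q.2.2 + mul4 p.1 q.2.1) := by
    intro p q
    obtain ⟨a, b, e⟩ := p
    obtain ⟨a', b', e'⟩ := q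
    show v b * u a * w e * (v b' * u a' * w e') = v (b + b') * u (a + a') * w (e + e' + mul4 a b')
    rw [hu, hv, hw, hw, ← huv]
    have hz := h.cm_mem (u a) (v b')
    calc v b * u a * w e * (v b' * u a' * w e')
        = v b * u a * (w e * (v b' * u a')) * w e' := by group
      _ = v b * u a * (v b' * u a' * w e) * w e' := by rw [h.cen (hwc e) (v b' * u a')]
      _ = v b * (cm (u a) (v b') * (v b' * u a)) * u a' * w e * w e' := by
          simp only [cm]; group
      _ = v b * ((v b' * u a) * cm (u a) (v b')) * u a' * w e * w e' := by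
          rw [h.cen hz (v b' * u a)]
      _ = v b * v b' * u a * (cm (u a) (v b') * u a') * w e * w e' := by group
      _ = v b * v b' * u a * (u a' * cm (u a) (v b')) * w e * w e' := by rw [h.cen hz (u a')]
      _ = v b * v b' * (u a * u a') * (cm (u a) (v b') * (w e * w e')) := by group
      _ = _ := by rw [h.cen hz (w e * w e')]
  refine exists_sylow_of_law h.card Ψ ?_ hmul
  have hinj : Function.Injective Ψ := by
    rintro ⟨a, b, e⟩ ⟨a', b', e'⟩ heq
    change v b * u a * w e = v b' * u a' * w e' at heq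
    have k1 : ∀ q a b e, cm (u q) (v b * u a * w e) = w (mul4 q b) := fun q a b e => by
      rw [h.cm_mul, h.cm_mul, huv, hff, h.cm_center _ (hwc e), mul_one, mul_one]
    have k2 : ∀ q a b e, cm (v q) (v b * u a * w e) = w (mul4 a q) := fun q a b e => by
      rw [h.cm_mul, h.cm_mul, hgg, h.cm_center _ (hwc e), one_mul, mul_one, h.cm_comm, huv]
    have m1 : ∀ r : P4, mul4 (1, 0) r = r ∧ mul4 r (1, 0) = r := by decide
    have hb : b = b' := by
      have := congrArg (cm (u (1, 0))) heq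
      rw [k1, k1, (m1 b).1, (m1 b').1] at this
      exact hwinj this
    have ha : a = a' := by
      have := congrArg (cm (v (1, 0))) heq
      rw [k2, k2, (m1 a).2, (m1 a').2] at this
      exact hwinj this
    subst ha hb
    rw [hwinj (mul_left_cancel heq)]
  exact hinj.bijective_of_nat_card_le (by rw [h.card]; simp [Nat.card_eq_fintype_card])

end Fpf64

end Cfsg.Agent.TwoFusionB
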