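import Cfsg.Agent.Lib.Symplectic.Card

/-!
# The stabiliser of a vector in `Sp₄`

Coordinates: `e = eI 0`, the plane spanned by the second hyperbolic pair, and `f = fI 0`.
-/

set_option autoImplicit false

namespace Cfsg.Agent.TwoFusionB.Sp4Stab

open Cfsg Cfsg.Agent.Symplectic

variable {F : Type*} [Field F]

/-- The alternating form on the plane. -/
def dt (v w : Fin 2 → F) : F := v 0 * w 1 - v 1 * w 0

theorem dt_mulVec (A : Matrix (Fin 2) (Fin 2) F) (v w : Fin 2 → F) :
    dt (A.mulVec v) (A.mulVec w) = A.det * dt v w := by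
  simp [dt, Matrix.det_fin_two, Matrix.mulVec, dotProduct, Fin.sum_univ_two]
  ring

/-- The middle coordinates of a vector. -/
def mid (x : Vec 2 F) : Fin 2 → F := ![x (Sum.inl 1), x (Sum.inr 1)]

/-- The stabiliser element with parameters `(A, v, z)`. -/
def lin (A : Matrix (Fin 2) (Fin 2) F) (v : Fin 2 → F) (z : F) : Vec 2 F →ₗ[F] Vec 2 F where
  toFun x := Sum.elim
    ![x (Sum.inl 0) + dt v (A.mulVec (mid x)) + z * x (Sum.inr 0),
      (A.mulVec (mid x)) 0 + x (Sum.inr 0) * v 0]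
    ![x (Sum.inr 0), (A.mulVec (mid x)) 1 + x (Sum.inr 0) * v 1]
  map_add' x y := by
    funext k
    rcases k with k | k <;> fin_cases k <;>
      simp [mid, dt, Matrix.mulVec, dotProduct, Fin.sum_univ_two] <;> ring
  map_smul' c x := by
    funext k
    rcases k with k | k <;> fin_cases k <;>
      simp [mid, dt, Matrix.mulVec, dotProduct, Fin.sum_univ_two] <;> ring

theorem lin_form {A : Matrix (Fin 2) (Fin 2) F} (hA : A.det = 1) (v : Fin 2 → F) (z : F)
    (x y : Vec 2 F) : sympForm 2 F (lin A v z x) (lin A v z y) = sympForm 2 F x y := by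
  rw [Matrix.det_fin_two] at hA
  simp [sympForm_eq_sum, lin, mid, dt, Matrix.mulVec, dotProduct, Fin.sum_univ_two]
  linear_combination (x (Sum.inr 1) * y (Sum.inl 1) - x (Sum.inl 1) * y (Sum.inr 1)) * hA

/-- The group element. -/
noncomputable def T (A : Matrix (Fin 2) (Fin 2) F) (hA : A.det = 1) (v : Fin 2 → F) (z : F) :
    Sp 2 F :=
  ⟨LinearMap.toMatrix' (lin A v z), (mem_iff_form _).mpr fun x y => by
    rw [LinearMap.toMatrix'_mulVec, LinearMap.toMatrix'_mulVec]; exact lin_form hA v z x y⟩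

theorem T_smul {A : Matrix (Fin 2) (Fin 2) F} (hA : A.det = 1) (v : Fin 2 → F) (z : F)
    (x : Vec 2 F) : T A hA v z • x = lin A v z x := by
  rw [smul_eq]; exact LinearMap.toMatrix'_mulVec _ _

theorem T_mul {A B : Matrix (Fin 2) (Fin 2) F} (hA : A.det = 1) (hB : B.det = 1)
    (hAB : (A * B).det = 1) (v w : Fin 2 → F) (z z' : F) :
    T A hA v z * T B hB w z' = T (A * B) hAB (v + A.mulVec w) (z + z' + dt v (A.mulVec w)) := by
  rw [Matrix.det_fin_two] at hA
  refine eq_of_smul_eq fun x => ?_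
  rw [mul_smul, T_smul, T_smul, T_smul]
  funext k
  rcases k with k | k <;> fin_cases k <;>
    simp [lin, mid, dt, Matrix.mulVec, dotProduct, Fin.sum_univ_two, Matrix.mul_apply] <;>
    first
      | ring1
      | linear_combination (-(w 0 * (B 1 0 * x (Sum.inl 1) + B 1 1 * x (Sum.inr 1))) + w 1 * (B 0 0 * x (Sum.inl 1) + B 0 1 * x (Sum.inr 1))) * hA
      | linear_combination (w 0 * (B 1 0 * x (Sum.inl 1) + B 1 1 * x (Sum.inr 1)) - w 1 * (B 0 0 * x (Sum.inl 1) + B 0 1 * x (Sum.inr 1))) * hA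

theorem T_fix {A : Matrix (Fin 2) (Fin 2) F} (hA : A.det = 1) (v : Fin 2 → F) (z : F) :
    T A hA v z • (eI 0 : Vec 2 F) = eI 0 := by
  rw [T_smul]
  funext k
  rcases k with k | k <;> fin_cases k <;>
    simp [lin, mid, dt, eI, Matrix.mulVec, dotProduct, Fin.sum_univ_two, Pi.single_apply]

theorem T_inj {A B : Matrix (Fin 2) (Fin 2) F} (hA : A.det = 1) (hB : B.det = 1)
    {v w : Fin 2 → F} {z z' : F} (h : T A hA v z = T B hB w z') : A = B ∧ v = w ∧ z = z' := by
  have key : ∀ (x : Vec 2 F) (k : Fin 2 ⊕ Fin 2), lin A v z x k = lin B w z' x k := fun x k => by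
    rw [← T_smul hA, ← T_smul hB, h]
  have hf0 := key (fI 0) (Sum.inl 0)
  have hf1 := key (fI 0) (Sum.inl 1)
  have hf2 := key (fI 0) (Sum.inr 1)
  have he0 := key (eI 1) (Sum.inl 1)
  have he1 := key (eI 1) (Sum.inr 1)
  have hg0 := key (fI 1) (Sum.inl 1)
  have hg1 := key (fI 1) (Sum.inr 1)
  simp [lin, mid, dt, eI, fI, Matrix.mulVec, dotProduct, Fin.sum_univ_two, Pi.single_apply] at hf0 hf1 hf2 he0 he1 hg0 hg1
  refine ⟨?_, ?_, hf0⟩
  · ext i j
    fin_cases i <;> fin_cases j <;> assumption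
  · funext i
    fin_cases i <;> assumption

end Cfsg.Agent.TwoFusionB.Sp4Stab
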