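import Mathlib
import Cfsg.Prelude.Def_CaseTheorems

/-!
# Half-transitive linear `p`-groups: the two exceptional configurations
-/

set_option autoImplicit false

namespace Cfsg.Agent.TwoFusionB.HalfTrans

open scoped commutatorElement

/-- An odd prime power which is one more than a power of two. -/
theorem pow_sub_one_two_pow {q a b : ℕ} (hq : q.Prime) (hq2 : q ≠ 2) (ha : 1 ≤ a)
    (h : q ^ a = 2 ^ b + 1) : a = 1 ∨ (q = 3 ∧ a = 2) := by
  have h3 : 3 ≤ q := by have := hq.two_le; omega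
  have hodd : Odd q := hq.odd_of_ne_two hq2
  rcases Nat.even_or_odd a with ⟨c, hc⟩ | hc
  · subst hc
    have hc1 : 1 ≤ c := by omega
    set x := q ^ c with hx
    have hx3 : 3 ≤ x := h3.trans (Nat.le_self_pow (by omega) q)
    rw [pow_add, ← hx] at h
    have hprod : (x - 1) * (x + 1) = 2 ^ b := by
      obtain ⟨y, hy⟩ : ∃ y, x = y + 1 := ⟨x - 1, by omega⟩
      rw [hy, Nat.add_sub_cancel]
      rw [hy] at h
      linarith
    obtain ⟨i, -, hi⟩ := (Nat.dvd_prime_pow Nat.prime_two).mp (Dvd.intro _ hprod)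
    obtain ⟨j, -, hj⟩ := (Nat.dvd_prime_pow Nat.prime_two).mp (Dvd.intro_left _ hprod)
    have hi1 : i = 1 := by
      by_contra hi1
      have : 2 ≤ i := by
        rcases Nat.eq_zero_or_pos i with h0 | h0
        · rw [h0] at hi; omega
        · omega
      have d1 : 2 ^ 2 ∣ x - 1 := hi ▸ pow_dvd_pow 2 this
      have hj2 : 2 ≤ j := by
        by_contra hj2
        have := Nat.pow_le_pow_right (show 0 < 2 by norm_num) (show j ≤ 1 by omega)
        omega
      have d2 : 2 ^ 2 ∣ x + 1 := hj ▸ pow_dvd_pow 2 hj2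
      omega
    rw [hi1, pow_one] at hi
    have hxe : q ^ c = 3 := by omega
    have hc' : c = 1 := by
      by_contra hne
      have : q ^ 2 ≤ q ^ c := Nat.pow_le_pow_right (by omega) (by omega)
      nlinarith
    subst hc'
    rw [pow_one] at hxe
    exact Or.inr ⟨hxe, rfl⟩
  · left
    by_contra ha1
    have hgeom : (∑ i ∈ Finset.range a, q ^ i) * (q - 1) = 2 ^ b := by
      have hg := geom_sum_mul_add (q - 1) a
      rw [show q - 1 + 1 = q by omega, h] at hg
      omega
    obtain ⟨i, -, hi⟩ := (Nat.dvd_prime_pow Nat.prime_two).mp (Dvd.intro _ hgeom)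
    have hsodd : Odd (∑ i ∈ Finset.range a, q ^ i) := by
      rw [Finset.odd_sum_iff_odd_card_odd]
      rw [Finset.filter_true_of_mem (fun i _ => hodd.pow), Finset.card_range]
      exact hc
    have hi0 : i = 0 := by
      by_contra hi0
      rw [hi] at hsodd
      exact (Nat.not_even_iff_odd.mpr hsodd) (Nat.even_pow.mpr ⟨even_two, hi0⟩)
    rw [hi0, pow_zero] at hi
    have : ∑ i ∈ Finset.range 2, q ^ i ≤ ∑ i ∈ Finset.range a, q ^ i :=
      Finset.sum_le_sum_of_subset (Finset.range_mono (by omega))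
    simp [Finset.sum_range_succ] at this
    omega

/-- An odd prime power which is one less than a power of two is prime. -/
theorem pow_add_one_two_pow {q a m : ℕ} (hq : q.Prime) (hq2 : q ≠ 2) (ha : 1 ≤ a) (hm : 2 ≤ m)
    (h : q ^ a + 1 = 2 ^ m) : a = 1 := by
  have h3 : 3 ≤ q := by have := hq.two_le; omega
  have hodd : Odd q := hq.odd_of_ne_two hq2
  have h4 : 2 ^ 2 ∣ 2 ^ m := pow_dvd_pow 2 hm
  rcases Nat.even_or_odd a with ⟨c, hc⟩ | hc
  · exfalso
    subst hc
    obtain ⟨y, hy⟩ := hodd.pow (n := c)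
    rw [pow_add, hy] at h
    rw [← h] at h4
    have : (2 * y + 1) * (2 * y + 1) + 1 = 4 * (y * y + y) + 2 := by ring
    rw [this] at h4
    omega
  · by_contra ha1
    have hz : ((q : ℤ) + 1) * (∑ i ∈ Finset.range a, (-(q : ℤ)) ^ i) = (q : ℤ) ^ a + 1 := by
      have := mul_neg_geom_sum (-(q : ℤ)) a
      rw [hc.neg_pow, sub_neg_eq_add, sub_neg_eq_add] at this
      linarith
    have hsodd : Odd (∑ i ∈ Finset.range a, (-(q : ℤ)) ^ i) := by
      have key : ∀ n : ℕ, (Odd (∑ i ∈ Finset.range n, (-(q : ℤ)) ^ i) ↔ Odd n) := by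
        intro n
        induction n with
        | zero => simp
        | succ k ih =>
          have hp : Odd ((-(q : ℤ)) ^ k) := ((Int.odd_coe_nat q).mpr hodd).neg.pow
          rw [Finset.sum_range_succ, Int.odd_add, ih, Nat.odd_add_one]
          simp only [iff_false_intro (Int.not_even_iff_odd.mpr hp), iff_false, Nat.not_odd_iff_even]
      exact (key a).mpr hc
    have hcop : IsCoprime (∑ i ∈ Finset.range a, (-(q : ℤ)) ^ i) ((2 : ℤ) ^ m) :=
      IsCoprime.pow_right (Int.isCoprime_two_right.mpr hsodd)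
    have h' : (q : ℤ) ^ a + 1 = 2 ^ m := by exact_mod_cast h
    rw [h'] at hz
    have hdvd : ∑ i ∈ Finset.range a, (-(q : ℤ)) ^ i ∣ (2 : ℤ) ^ m := Dvd.intro_left _ hz
    have hunit := hcop.isUnit_of_dvd' dvd_rfl hdvd
    have hlt : (q : ℤ) + 1 < (q : ℤ) ^ a + 1 := by
      have : q ^ 1 < q ^ a := Nat.pow_lt_pow_right (by omega) (by omega)
      rw [pow_one] at this
      have : (q : ℤ) < (q : ℤ) ^ a := by exact_mod_cast this
      linarith
    rcases Int.isUnit_iff.mp hunit with hu | hu <;> rw [hu] at hz <;> rw [h'] at hlt <;> nlinarith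

section Action

variable {q : ℕ} [Fact q.Prime] {V : Type*} [AddCommGroup V] [Module (ZMod q) V] [Finite V]
variable {G : Type*} [Group G] [Finite G]
variable (ρ : G →* (V ≃ₗ[ZMod q] V))

/-- The stabiliser of a vector. -/
def stab (v : V) : Subgroup G where
  carrier := {g | ρ g v = v}
  mul_mem' {a b} ha hb := by
    show ρ (a * b) v = v
    rw [map_mul, LinearEquiv.mul_apply, (hb : ρ b v = v), (ha : ρ a v = v)]
  one_mem' := by show ρ 1 v = v; simp
  inv_mem' {a} ha := by
    show ρ a⁻¹ v = v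
    conv_lhs => rw [← (ha : ρ a v = v)]
    rw [← LinearEquiv.mul_apply, ← map_mul, inv_mul_cancel, map_one]
    rfl

theorem mem_stab {v : V} {g : G} : g ∈ stab ρ v ↔ ρ g v = v := Iff.rfl

theorem mul_app (a b : G) (v : V) : ρ (a * b) v = ρ a (ρ b v) := by
  rw [map_mul, LinearEquiv.mul_apply]

theorem one_app (v : V) : ρ 1 v = v := by simp

theorem inv_app {a : G} {v w : V} (h : ρ a v = w) : ρ a⁻¹ w = v := by
  rw [← h, ← mul_app, inv_mul_cancel, one_app]

theorem ext_app (hρ : Function.Injective ρ) {a b : G} (h : ∀ v, ρ a v = ρ b v) : a = b :=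
  hρ (LinearEquiv.ext h)

/-- Orbit times stabiliser. -/
theorem orbit_mul_stab (v : V) :
    Nat.card {u : V | ∃ g : G, ρ g v = u} * Nat.card ↥(stab ρ v) = Nat.card G := by
  letI act : MulAction G V := MulAction.compHom V ρ
  have hs : MulAction.stabilizer G v = stab ρ v := by ext g; exact Iff.rfl
  have ho : MulAction.orbit G v = {u : V | ∃ g : G, ρ g v = u} := by ext u; exact Iff.rfl
  have h := MulAction.index_stabilizer G v
  rw [ho, hs] at h
  rw [Nat.card_coe_set_eq, ← h, Subgroup.index_mul_card]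

/-- Sum over the powers of an element. -/
def avg (p : ℕ) (x : G) (v : V) : V := ∑ j ∈ Finset.range p, ρ (x ^ j) v

theorem app_avg {p : ℕ} {x : G} (hx : x ^ p = 1) (v : V) : ρ x (avg ρ p x v) = avg ρ p x v := by
  unfold avg
  rw [map_sum]
  have e : ∀ j, ρ x (ρ (x ^ j) v) = ρ (x ^ (j + 1)) v := fun j => by
    rw [← mul_app, ← pow_succ']
  simp only [e]
  have h1 := Finset.sum_range_succ' (fun j => ρ (x ^ j) v) p
  have h2 := Finset.sum_range_succ (fun j => ρ (x ^ j) v) p
  rw [h2, hx, pow_zero] at h1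
  exact (add_right_cancel h1).symm

theorem avg_of_fixed {p : ℕ} {x : G} {v : V} (h : ρ x v = v) : avg ρ p x v = p • v := by
  have e : ∀ j, ρ (x ^ j) v = v := fun j => mem_stab ρ |>.mp (pow_mem ((mem_stab ρ).mpr h) j)
  unfold avg
  rw [Finset.sum_congr rfl (fun j _ => e j), Finset.sum_const, Finset.card_range]

theorem smul_eq_zero_prime {p : ℕ} [Fact p.Prime] (hpq : p ≠ q) {v : V} (h : p • v = 0) :
    v = 0 := by
  rw [← Nat.cast_smul_eq_nsmul (ZMod q)] at h
  refine (smul_eq_zero.mp h).resolve_left fun h0 => hpq ?_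
  exact ((Nat.prime_dvd_prime_iff_eq Fact.out Fact.out).mp
    ((ZMod.natCast_eq_zero_iff _ _).mp h0)).symm

variable {p : ℕ} [Fact p.Prime]

theorem fix_of_pow {z : G} (hz : orderOf z = p) {i : ℕ} (hi : ¬ p ∣ i) {v : V}
    (h : ρ (z ^ i) v = v) : ρ z v = v := by
  have hcop : i.Coprime p := ((Fact.out : p.Prime).coprime_iff_not_dvd.mpr hi).symm
  obtain ⟨m, hm⟩ := exists_pow_eq_self_of_coprime (hz.symm ▸ hcop)
  rw [← hm]
  exact (mem_stab ρ).mp (pow_mem ((mem_stab ρ).mpr h) m)

/-- A fixed-point-free element averages to zero, also after a commuting twist. -/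
theorem avg_eq_zero {z x : G} (hz : orderOf z = p) (hfree : ∀ v, ρ z v = v → v = 0)
    (hxz : Commute x z) {i : ℕ} (hi : ¬ p ∣ i) {v : V} (hv : ρ x v = v) :
    avg ρ p (x * z ^ i) v = 0 := by
  have e : avg ρ p (x * z ^ i) v = avg ρ p (z ^ i) v := by
    unfold avg
    refine Finset.sum_congr rfl fun j _ => ?_
    rw [(hxz.pow_right i).mul_pow, ((hxz.pow_right i).pow_pow j j).eq, mul_app,
      (mem_stab ρ).mp (pow_mem ((mem_stab ρ).mpr hv) j)]
  rw [e]
  refine hfree _ (fix_of_pow ρ hz hi ?_)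
  exact app_avg ρ (by rw [← pow_mul, mul_comm, pow_mul, ← hz, pow_orderOf_eq_one, one_pow]) v

variable (hk : ∀ v w : V, v ≠ 0 → w ≠ 0 → Nat.card ↥(stab ρ v) = Nat.card ↥(stab ρ w))

include hk

/-- A vector whose stabiliser lies in two others of the same order equalises them. -/
theorem stab_eq {u v w : V} (hu : u ≠ 0) (hv : v ≠ 0) (hw : w ≠ 0)
    (h1 : stab ρ u ≤ stab ρ v) (h2 : stab ρ u ≤ stab ρ w) : stab ρ v = stab ρ w :=
  (Subgroup.eq_of_le_of_card_ge h1 (hk v u hv hu).le).symm.trans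
    (Subgroup.eq_of_le_of_card_ge h2 (hk w u hw hu).le)

/-- Central elements of order `p` fix no non-zero vector. -/
theorem central_free (hpq : p ≠ q) (hρ : Function.Injective ρ) {z : G}
    (hzc : z ∈ Subgroup.center G) (hz : orderOf z = p) : ∀ v, ρ z v = v → v = 0 := by
  intro u hu
  by_contra hu0
  have hzp : z ^ p = 1 := by rw [← hz, pow_orderOf_eq_one]
  have hz1 : z ≠ 1 := fun h => by
    rw [h, orderOf_one] at hz; exact (Fact.out : p.Prime).ne_one hz.symm
  obtain ⟨v, hv⟩ : ∃ v, ρ z v ≠ v := by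
    by_contra hall
    push_neg at hall
    exact hz1 (ext_app ρ hρ fun x => by rw [hall x, one_app])
  have hlin : ∀ a b : V, avg ρ p z (a + b) = avg ρ p z a + avg ρ p z b := fun a b => by
    simp [avg, Finset.sum_add_distrib]
  set w := p • v - avg ρ p z v with hw
  have hw0 : w ≠ 0 := fun h => by
    refine hv (sub_eq_zero.mp (smul_eq_zero_prime (p := p) hpq ?_))
    rw [smul_sub, ← map_nsmul (ρ z), sub_eq_zero.mp h, app_avg ρ hzp, sub_self]
  have hwavg : avg ρ p z w = 0 := by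
    have h1 : avg ρ p z (p • v) = p • avg ρ p z v := by simp [avg, Finset.smul_sum]
    have h2 := hlin w (avg ρ p z v)
    rw [hw, sub_add_cancel, h1, avg_of_fixed ρ (app_avg ρ hzp v)] at h2
    rw [hw]
    simpa using h2
  have hzw : ρ z w ≠ w := fun h => by
    rw [avg_of_fixed ρ h] at hwavg
    exact hw0 (smul_eq_zero_prime hpq hwavg)
  have huw : u + w ≠ 0 := fun h => by
    have h1 := hlin u w
    rw [h, avg_of_fixed ρ hu, hwavg, add_zero] at h1
    exact hu0 (smul_eq_zero_prime (p := p) hpq (h1.symm.trans (by simp [avg])))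
  have hle : ∀ g ∈ stab ρ (u + w), ρ g u = u := by
    intro g hg
    have hcomm : ∀ j (x : V), ρ (z ^ j) (ρ g x) = ρ g (ρ (z ^ j) x) := fun j x => by
      rw [← mul_app, ← mul_app,
        ((Subgroup.mem_center_iff.mp (pow_mem hzc j)) g).symm]
    have h1 : avg ρ p z (ρ g (u + w)) = ρ g (avg ρ p z (u + w)) := by
      simp only [avg, map_sum]
      exact Finset.sum_congr rfl fun j _ => hcomm j _
    rw [(mem_stab ρ).mp hg, hlin, avg_of_fixed ρ hu, hwavg, add_zero, map_nsmul] at h1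
    exact (sub_eq_zero.mp (smul_eq_zero_prime (p := p) hpq (by rw [smul_sub, ← h1, sub_self]))).symm
  have hle2 : stab ρ (u + w) ≤ stab ρ w := fun g hg => by
    have h := (mem_stab ρ).mp hg
    rw [map_add, hle g hg] at h
    exact (mem_stab ρ).mpr (add_left_cancel h)
  have heq := stab_eq ρ hk huw hu0 hw0 hle hle2
  exact hzw ((mem_stab ρ).mp (heq ▸ (mem_stab ρ).mpr hu))

/-- With a normal subgroup of type `(p, p)`: the fixed space of a non-central element `e` and its
translate, exchanged by the stabilisers of their sums. -/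
theorem pair_case (hpq : p ≠ q) [Nontrivial V] (hρ : Function.Injective ρ) {z e₀ : G}
    (hz : orderOf z = p) (hzc : z ∈ Subgroup.center G) (he₀ : e₀ ^ p = 1)
    (hne : e₀ ∉ Subgroup.zpowers z) (hcomm : ∀ g : G, ⁅g, e₀⁆ ∈ Subgroup.zpowers z) :
    p = 2 ∧ ∃ e : G, e * e = 1 ∧ (∃ u : V, u ≠ 0 ∧ ρ e u = u) ∧
      (∃ w : V, w ≠ 0 ∧ ρ e w = -w) ∧
      (∀ g u, ρ e u = u → ρ g u = u → u ≠ 0 → g * e = e * g) ∧
      (∀ g : G, g * e = e * g ∨ g * e = e * z * g) ∧
      (∀ v, ρ z v = -v) ∧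
      (∀ u w : V, u ≠ 0 → w ≠ 0 → ρ e u = u → ρ e w = -w →
        ∃ h : G, ρ h u = w ∧ ρ h w = u) := by
  have hp : p.Prime := Fact.out
  have hfree := central_free ρ hk hpq hρ hzc hz
  have hzp : z ^ p = 1 := by rw [← hz, pow_orderOf_eq_one]
  have hzcomm : ∀ g : G, Commute g z := fun g => Subgroup.mem_center_iff.mp hzc g
  -- some translate of `e₀` has a fixed vector
  obtain ⟨i, u, hu0, hu⟩ : ∃ i : ℕ, ∃ u : V, u ≠ 0 ∧ ρ (e₀ * z ^ i) u = u := by
    by_contra hall
    push_neg at hall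
    obtain ⟨v, hv⟩ := exists_ne (0 : V)
    refine hv (smul_eq_zero_prime (p := p) hpq ?_)
    have hzero : ∀ i, avg ρ p (e₀ * z ^ i) v = 0 := fun i => by
      by_contra h
      refine hall i _ h (app_avg ρ ?_ v)
      rw [((hzcomm e₀).pow_right i).mul_pow, he₀, one_mul, ← pow_mul, mul_comm, pow_mul, hzp,
        one_pow]
    have hsum : ∑ i ∈ Finset.range p, avg ρ p (e₀ * z ^ i) v = 0 :=
      Finset.sum_eq_zero fun i _ => hzero i
    unfold avg at hsum
    rw [Finset.sum_comm, Finset.sum_eq_single 0] at hsum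
    · simpa [one_app] using hsum
    · intro j hj hj0
      have e : ∀ i, ρ ((e₀ * z ^ i) ^ j) v = ρ ((z ^ j) ^ i) (ρ (e₀ ^ j) v) := fun i => by
        rw [((hzcomm e₀).pow_right i).mul_pow, (((hzcomm e₀).pow_right i).pow_pow j j).eq,
          mul_app, ← pow_mul, mul_comm i j, pow_mul]
      simp only [e]
      refine hfree _ (fix_of_pow ρ hz (fun h => ?_) (app_avg ρ ?_ _))
      · exact absurd (Nat.le_of_dvd (Nat.pos_of_ne_zero hj0) h) (by
          have := Finset.mem_range.mp hj; omega)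
      · rw [← pow_mul, mul_comm, pow_mul, hzp, one_pow]
    · intro h
      exact absurd (Finset.mem_range.mpr hp.pos) h
  set e := e₀ * z ^ i with he
  have hep : e ^ p = 1 := by
    rw [he, ((hzcomm e₀).pow_right i).mul_pow, he₀, one_mul, ← pow_mul, mul_comm, pow_mul, hzp,
      one_pow]
  have hene : e ∉ Subgroup.zpowers z := fun h => hne (by
    have := mul_mem h (inv_mem (pow_mem (Subgroup.mem_zpowers z) i))
    rwa [he, mul_inv_cancel_right] at this)
  have he1 : e ≠ 1 := fun h => hene (h ▸ one_mem _)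
  have hez : Commute e z := hzcomm e
  have hconj : ∀ g : G, ∃ l < p, g * e = e * z ^ l * g := by
    intro g
    obtain ⟨l, hl, hlz⟩ : ∃ l < p, z ^ l = ⁅g, e₀⁆ := by
      obtain ⟨l, hl⟩ := (mem_powers_iff_mem_zpowers.mpr (hcomm g) : ⁅g, e₀⁆ ∈ Submonoid.powers z)
      exact ⟨l % p, Nat.mod_lt _ hp.pos, by rw [← hz, pow_mod_orderOf]; exact hl⟩
    refine ⟨l, hl, ?_⟩
    have h0 : g * e₀ = z ^ l * e₀ * g := by rw [hlz, commutatorElement_def]; group
    rw [he, ← mul_assoc, h0, mul_assoc _ g, ((hzcomm g).pow_right i).eq,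
      ← ((hzcomm e₀).pow_right l).eq]
    simp only [mul_assoc]
    rw [← mul_assoc (z ^ l) (z ^ i), ← pow_add, add_comm, pow_add, mul_assoc]
  have he_noncentral : e ∉ Subgroup.center G := fun h =>
    hu0 (central_free ρ hk hpq hρ h (orderOf_eq_prime hep he1) u hu)
  obtain ⟨g₀, l₀, hl₀, hl₀0, hg₀⟩ : ∃ g l, l < p ∧ l ≠ 0 ∧ g * e = e * z ^ l * g := by
    by_contra hall
    push_neg at hall
    refine he_noncentral (Subgroup.mem_center_iff.mpr fun g => ?_)
    obtain ⟨l, hl, hg⟩ := hconj g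
    rcases Nat.eq_zero_or_pos l with rfl | hl0
    · rwa [pow_zero, mul_one] at hg
    · exact absurd hg (hall g l hl (by omega))
  obtain ⟨g₁, hg₁⟩ : ∃ g, g * e = e * z * g := by
    have hcop : l₀.Coprime p :=
      (hp.coprime_iff_not_dvd.mpr fun h => absurd (Nat.le_of_dvd (by omega) h) (by omega)).symm
    obtain ⟨m, hm⟩ := exists_pow_eq_self_of_coprime (hz.symm ▸ hcop : l₀.Coprime (orderOf z))
    refine ⟨g₀ ^ m, ?_⟩
    have : ∀ k : ℕ, g₀ ^ k * e = e * (z ^ l₀) ^ k * g₀ ^ k := by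
      intro k
      induction k with
      | zero => simp
      | succ k ih =>
        rw [pow_succ' g₀, mul_assoc, ih, ← mul_assoc, ← mul_assoc, hg₀, mul_assoc _ g₀,
          (((hzcomm g₀).pow_right l₀).pow_right k).eq, pow_succ' (z ^ l₀)]
        simp only [mul_assoc]
    rw [this m, hm]
  -- moving fixed vectors
  have hmove : ∀ {g x y : G} {a : V}, g * x = y * g → ρ x a = a → ρ y (ρ g a) = ρ g a := by
    intro g x y a h ha
    rw [← mul_app, ← h, mul_app, ha]
  set w₁ := ρ g₁ u with hw₁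
  have hw₁0 : w₁ ≠ 0 := fun h => hu0 ((ρ g₁).map_eq_zero_iff.mp h)
  have hw₁f : ρ (e * z) w₁ = w₁ := hmove hg₁ hu
  have hlin : ∀ (x : G) (a b : V), avg ρ p x (a + b) = avg ρ p x a + avg ρ p x b := fun x a b => by
    simp [avg, Finset.sum_add_distrib]
  -- `p = 2`
  have hp2 : p = 2 := by
    by_contra hp2
    have h3 : 3 ≤ p := by have := hp.two_le; omega
    have hsum0 : u + w₁ ≠ 0 := fun h => by
      have h1 := hlin e u w₁
      have e1 : e * z * z ^ (p - 1) = e := by
        rw [mul_assoc, ← pow_succ', show p - 1 + 1 = p by omega, hzp, mul_one]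
      have hw' := avg_eq_zero ρ hz hfree (x := e * z) (hez.mul_left (Commute.refl z)) (i := p - 1)
        (fun hd => absurd (Nat.le_of_dvd (by omega) hd) (by omega)) hw₁f
      rw [e1] at hw'
      rw [h, avg_of_fixed ρ hu, hw', add_zero] at h1
      exact hu0 (smul_eq_zero_prime (p := p) hpq (h1.symm.trans (by simp [avg])))
    have hle : ∀ h ∈ stab ρ (u + w₁), ρ h u = u := by
      intro h hh
      obtain ⟨l, hl, hhe⟩ := hconj h
      have hA : ρ (e * z ^ l) (ρ h u) = ρ h u := hmove hhe hu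
      have hB : ρ (e * z ^ (l + 1)) (ρ h w₁) = ρ h w₁ := by
        refine hmove ?_ hw₁f
        rw [← mul_assoc, hhe, mul_assoc _ h, (hzcomm h).eq, pow_succ]
        simp only [mul_assoc]
      have hsum : ρ h u + ρ h w₁ = u + w₁ := by rw [← map_add]; exact (mem_stab ρ).mp hh
      have hcz : ∀ j, Commute (e * z ^ j) z := fun j => hez.mul_left ((Commute.refl z).pow_left j)
      have key : ∀ (j i : ℕ) (a : V), ¬ p ∣ i → ρ (e * z ^ j) a = a →
          avg ρ p (e * z ^ (j + i)) a = 0 := fun j i a hi ha => by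
        rw [pow_add, ← mul_assoc]; exact avg_eq_zero ρ hz hfree (hcz j) hi ha
      have hnd : ∀ j, 1 ≤ j → j < p → ¬ p ∣ j :=
        fun j h1 h2 hd => absurd (Nat.le_of_dvd (by omega) hd) (by omega)
      have hw0 : avg ρ p e w₁ = 0 := by
        have := key 1 (p - 1) w₁ (hnd _ (by omega) (by omega)) (by rwa [pow_one])
        rwa [show 1 + (p - 1) = p by omega, hzp, mul_one] at this
      rcases Nat.lt_or_ge (l + 1) p with hl1 | hl1
      · have hwh : avg ρ p e (ρ h w₁) = 0 := by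
          have := key (l + 1) (p - (l + 1)) _ (hnd _ (by omega) (by omega)) hB
          rwa [show l + 1 + (p - (l + 1)) = p by omega, hzp, mul_one] at this
        have h1 : avg ρ p e (ρ h u) = p • u := by
          have := congrArg (avg ρ p e) hsum
          rwa [hlin, hlin, hwh, hw0, add_zero, add_zero, avg_of_fixed ρ hu] at this
        rcases Nat.eq_zero_or_pos l with rfl | hl0
        · rw [pow_zero, mul_one] at hA
          rw [avg_of_fixed ρ hA] at h1
          exact sub_eq_zero.mp (smul_eq_zero_prime (p := p) hpq (by rw [smul_sub, h1, sub_self]))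
        · have h2 := key l (p - l) _ (hnd _ (by omega) (by omega)) hA
          rw [show l + (p - l) = p by omega, hzp, mul_one, h1] at h2
          exact absurd (smul_eq_zero_prime hpq h2) hu0
      · exfalso
        have hl' : l + 1 = p := by omega
        have hA1 : avg ρ p (e * z) (ρ h u) = 0 := by
          have := key l 2 _ (hnd _ (by omega) (by omega)) hA
          rwa [show l + 2 = p + 1 by omega, pow_succ, hzp, one_mul] at this
        have hB1 : avg ρ p (e * z) (ρ h w₁) = 0 := by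
          rw [hl', hzp, mul_one] at hB
          have := key 0 1 (ρ h w₁) (hnd _ le_rfl (by omega)) (by rw [pow_zero, mul_one]; exact hB)
          rwa [zero_add, pow_one] at this
        have hu1 : avg ρ p (e * z) u = 0 := by
          have := key 0 1 u (hnd _ le_rfl (by omega)) (by rw [pow_zero, mul_one]; exact hu)
          rwa [zero_add, pow_one] at this
        have := congrArg (avg ρ p (e * z)) hsum
        rw [hlin, hlin, hA1, hB1, hu1, zero_add, zero_add, avg_of_fixed ρ hw₁f] at this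
        exact hw₁0 (smul_eq_zero_prime (p := p) hpq this.symm)
    have hle2 : stab ρ (u + w₁) ≤ stab ρ w₁ := fun g hg => by
      have h := (mem_stab ρ).mp hg
      rw [map_add, hle g hg] at h
      exact (mem_stab ρ).mpr (add_left_cancel h)
    have heq := stab_eq ρ hk hsum0 hu0 hw₁0 hle hle2
    have hew : ρ e w₁ = w₁ := (mem_stab ρ).mp (heq ▸ (mem_stab ρ).mpr hu)
    refine hw₁0 (hfree _ ?_)
    rwa [hez.eq, mul_app, hew] at hw₁f
  subst hp2
  have hneg : ∀ v, ρ z v = -v := fun v => by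
    have h := hfree (v + ρ z v) (by
      rw [map_add, ← mul_app, ← pow_two, hzp, one_app, add_comm])
    rw [add_comm] at h
    exact eq_neg_of_add_eq_zero_left h
  have hcases : ∀ g : G, g * e = e * g ∨ g * e = e * z * g := fun g => by
    obtain ⟨l, hl, hg⟩ := hconj g
    obtain rfl | rfl : l = 0 ∨ l = 1 := by omega
    · exact Or.inl (by rwa [pow_zero, mul_one] at hg)
    · exact Or.inr (by rwa [pow_one] at hg)
  have hhalf : ∀ {a : V}, a = -a → a = 0 := fun {a} h =>
    smul_eq_zero_prime (p := 2) hpq (by rw [two_nsmul]; nth_rw 2 [h]; exact add_neg_cancel a)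
  have hswapU : ∀ {g a}, g * e = e * z * g → ρ e a = a → ρ e (ρ g a) = -ρ g a := fun {g a} hg ha => by
    have h := hmove hg ha
    rw [mul_app, hneg, map_neg] at h
    exact neg_eq_iff_eq_neg.mp h
  have hswapW : ∀ {g a}, g * e = e * z * g → ρ e a = -a → ρ e (ρ g a) = ρ g a := fun {g a} hg ha => by
    have h : ρ (e * z) (ρ g a) = -ρ g a := by rw [← mul_app, ← hg, mul_app, ha, map_neg]
    rw [mul_app, hneg, map_neg] at h
    exact neg_injective h
  have hkeep : ∀ {g a}, g * e = e * g → ρ e (ρ g a) = ρ g (ρ e a) := fun {g a} hg => by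
    rw [← mul_app, ← hg, mul_app]
  have hw₁W : ρ e w₁ = -w₁ := hswapU hg₁ hu
  have hfixU : ∀ g u, ρ e u = u → ρ g u = u → u ≠ 0 → g * e = e * g := by
    intro g a ha hga ha0
    refine (hcases g).resolve_right fun hg => ha0 (hhalf ?_)
    have := hswapU hg ha
    rwa [hga, ha] at this
  refine ⟨rfl, e, by rw [← pow_two]; exact hep, ⟨u, hu0, hu⟩, ⟨w₁, hw₁0, hw₁W⟩, hfixU, hcases,
    hneg, fun a b ha0 hb0 ha hb => ?_⟩
  have hsep : ∀ {a b a' b' : V}, ρ e a = a → ρ e b = -b → ρ e a' = a' → ρ e b' = -b' →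
      a + b = a' + b' → a = a' ∧ b = b' := by
    intro a b a' b' ha hb ha' hb' h
    have h2 := congrArg (ρ e) h
    rw [map_add, map_add, ha, hb, ha', hb'] at h2
    have hd : a + a = a' + a' := by
      calc a + a = (a + b) + (a + -b) := by abel
        _ = (a' + b') + (a' + -b') := by rw [h, h2]
        _ = a' + a' := by abel
    have h0 : a - a' = 0 := hhalf (by rw [neg_sub, sub_eq_sub_iff_add_eq_add]; exact hd)
    have haa : a = a' := sub_eq_zero.mp h0
    subst haa
    exact ⟨rfl, add_left_cancel h⟩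
  by_contra hnone
  push_neg at hnone
  have hab : a + b ≠ 0 := fun h =>
    ha0 (hsep (a' := 0) (b' := 0) ha hb (map_zero _) (by simp) (by rw [h, add_zero])).1
  have hle : ∀ g ∈ stab ρ (a + b), ρ g a = a ∧ ρ g b = b := by
    intro g hg
    have hs : ρ g a + ρ g b = a + b := by rw [← map_add]; exact (mem_stab ρ).mp hg
    rcases hcases g with hg' | hg'
    · exact hsep (by rw [hkeep hg', ha]) (by rw [hkeep hg', hb, map_neg]) ha hb hs
    · obtain ⟨h1, h2⟩ := hsep (hswapW hg' hb) (hswapU hg' ha) ha hb ((add_comm _ _).trans hs)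
      exact absurd h1 (hnone g h2)
  have heq := stab_eq ρ hk hab ha0 hb0 (fun g hg => (hle g hg).1) (fun g hg => (hle g hg).2)
  have : ρ e b = b := (mem_stab ρ).mp (heq ▸ (mem_stab ρ).mpr ha)
  exact hb0 (hhalf (this.symm.trans hb))

/-- A cyclic subgroup of index at most two whose only involution is central. -/
theorem involution_case [Nontrivial V] (hq2 : q ≠ 2) (hρ : Function.Injective ρ)
    (R : Subgroup G) {z : G} (hzR : z ∈ R) (hzc : z ∈ Subgroup.center G) (hz : orderOf z = 2)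
    (hR : ∀ x ∈ R, x * x = 1 → x = 1 ∨ x = z) (hG2 : IsPGroup 2 G)
    (hout : ∀ x y : G, x ∉ R → y ∉ R → x * y ∈ R)
    (hne : ∃ t : G, t ∉ R ∧ t * t = 1)
    (hconj : ∀ t : G, t ∉ R → t * t = 1 → ∃ g : G, g * t * g⁻¹ = z * t) :
    ∃ a : ℕ, 1 ≤ a ∧ Nat.card V = q ^ (2 * a) ∧
      Nat.card {t : G // t ∉ R ∧ t * t = 1} = q ^ a + 1 := by
  classical
  have : Fact (Nat.Prime 2) := ⟨Nat.prime_two⟩
  have hpq : (2 : ℕ) ≠ q := fun h => hq2 h.symm
  have hfree := central_free ρ hk hpq hρ hzc hz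
  have hzp : z ^ 2 = 1 := by rw [← hz, pow_orderOf_eq_one]
  have hneg : ∀ v, ρ z v = -v := fun v => by
    have h := hfree (v + ρ z v) (by
      rw [map_add, ← mul_app, ← pow_two, hzp, one_app, add_comm])
    rw [add_comm] at h
    exact eq_neg_of_add_eq_zero_left h
  -- in `R` only the identity fixes a non-zero vector
  have hRfree : ∀ {v}, v ≠ 0 → ∀ x ∈ R, ρ x v = v → x = 1 := by
    intro v hv x hx hxv
    by_contra hx1
    obtain ⟨j, hj⟩ := (IsPGroup.iff_card (p := 2)).mp (hG2.to_subgroup (Subgroup.zpowers x))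
    have hj0 : j ≠ 0 := fun h => hx1 (by
      rw [h, pow_zero, Nat.card_zpowers, orderOf_eq_one_iff] at hj; exact hj)
    obtain ⟨y, hy⟩ := exists_prime_orderOf_dvd_card' (G := ↥(Subgroup.zpowers x)) 2
      (by rw [hj]; exact dvd_pow_self 2 hj0)
    have hy2 : (y : G) * y = 1 := by
      rw [← pow_two, ← hy, ← Subgroup.orderOf_coe, pow_orderOf_eq_one]
    rcases hR _ (Subgroup.zpowers_le.mpr hx y.2) hy2 with h | h
    · rw [← Subgroup.orderOf_coe, h, orderOf_one] at hy; norm_num at hy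
    · exact hv (hfree v (h ▸ (mem_stab ρ).mp
        (Subgroup.zpowers_le.mpr ((mem_stab ρ).mpr hxv) y.2)))
  have hhalf : (2 : ZMod q) ≠ 0 := fun h => by
    have : ((2 : ℕ) : ZMod q) = 0 := by exact_mod_cast h
    rw [ZMod.natCast_eq_zero_iff] at this
    exact hq2 ((Nat.prime_dvd_prime_iff_eq Fact.out Nat.prime_two).mp this)
  let C : G → Submodule (ZMod q) V := fun t => LinearMap.ker ((ρ t).toLinearMap - LinearMap.id)
  have hC : ∀ {t v}, v ∈ C t ↔ ρ t v = v := fun {t v} => by simp [C, sub_eq_zero]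
  -- splitting by an involution
  have hsq : ∀ t : G, t ∉ R → t * t = 1 →
      Nat.card ↥(C t) * Nat.card ↥(C t) = Nat.card V := by
    intro t ht ht2
    obtain ⟨g, hg⟩ := hconj t ht ht2
    have e1 : Nat.card ↥(C t) = Nat.card ↥(C (z * t)) := by
      refine Nat.card_congr ((ρ g).toEquiv.subtypeEquiv fun a => ?_)
      show a ∈ C t ↔ ρ g a ∈ C (z * t)
      rw [hC, hC, ← mul_app, ← hg, mul_assoc, inv_mul_cancel, mul_one, mul_app]
      exact (ρ g).injective.eq_iff.symm
    have hzt : ∀ b, b ∈ C (z * t) ↔ ρ t b = -b := fun b => by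
      rw [hC, mul_app, hneg, neg_eq_iff_eq_neg]
    let f : ↥(C t) × ↥(C (z * t)) → V := fun x => x.1.1 + x.2.1
    have hfb : Function.Bijective f := by
      constructor
      · rintro ⟨⟨a, ha⟩, ⟨b, hb⟩⟩ ⟨⟨a', ha'⟩, ⟨b', hb'⟩⟩ h
        replace h : a + b = a' + b' := h
        have h' := congrArg (ρ t) h
        rw [map_add, map_add, hC.mp ha, (hzt b).mp hb, hC.mp ha', (hzt b').mp hb'] at h'
        have h2 : (2 : ZMod q) • a = (2 : ZMod q) • a' := by
          rw [two_smul, two_smul]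
          calc a + a = (a + b) + (a + -b) := by abel
            _ = (a' + b') + (a' + -b') := by rw [h, h']
            _ = a' + a' := by abel
        have ha_eq : a = a' := smul_right_injective V hhalf h2
        subst ha_eq
        have hb_eq : b = b' := add_left_cancel h
        subst hb_eq
        rfl
      · intro v
        have htt : ρ t (ρ t v) = v := by rw [← mul_app, ht2, one_app]
        refine ⟨(⟨(2 : ZMod q)⁻¹ • (v + ρ t v), hC.mpr ?_⟩,
          ⟨(2 : ZMod q)⁻¹ • (v - ρ t v), (hzt _).mpr ?_⟩), ?_⟩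
        · rw [map_smul, map_add, htt, add_comm]
        · rw [map_smul, map_sub, htt, ← smul_neg, neg_sub]
        · show (2 : ZMod q)⁻¹ • (v + ρ t v) + (2 : ZMod q)⁻¹ • (v - ρ t v) = v
          rw [← smul_add, show v + ρ t v + (v - ρ t v) = (2 : ZMod q) • v by rw [two_smul]; abel,
            smul_smul, inv_mul_cancel₀ hhalf, one_smul]
    rw [← Nat.card_congr (Equiv.ofBijective f hfb), Nat.card_prod, ← e1]
  obtain ⟨t₀, ht₀, ht₀2⟩ := hne
  have hne0 : ∀ t : G, t ∉ R → t * t = 1 → ∃ v ∈ C t, v ≠ 0 := by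
    intro t ht ht2
    by_contra hall
    push_neg at hall
    have hcard : Nat.card ↥(C t) = 1 := Nat.card_eq_one_iff_exists.mpr
      ⟨0, fun a => Subtype.ext (hall a.1 a.2)⟩
    have := hsq t ht ht2
    rw [hcard, mul_one] at this
    exact absurd this.symm (ne_of_gt Finite.one_lt_card)
  obtain ⟨v₀, hv₀C, hv₀⟩ := hne0 t₀ ht₀ ht₀2
  -- each non-zero vector is fixed by exactly one involution outside `R`
  have hex : ∀ v : V, v ≠ 0 → ∃! t : G, (t ∉ R ∧ t * t = 1) ∧ ρ t v = v := by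
    intro v hv
    have hnt : 1 < Nat.card ↥(stab ρ v) := by
      rw [hk v v₀ hv hv₀]
      refine Finite.one_lt_card_iff_nontrivial.mpr ⟨⟨⟨t₀, hC.mp hv₀C⟩, 1, fun h => ?_⟩⟩
      exact ht₀ (by
        have : t₀ = 1 := congrArg Subtype.val h
        rw [this]; exact one_mem R)
    have := Finite.one_lt_card_iff_nontrivial.mp hnt
    obtain ⟨s, hs⟩ := exists_ne (1 : ↥(stab ρ v))
    have hsR : s.1 ∉ R := fun h => hs (Subtype.ext (hRfree hv _ h s.2))
    refine ⟨s.1, ⟨⟨hsR, hRfree hv _ (hout _ _ hsR hsR) (mul_mem s.2 s.2 : _ ∈ stab ρ v)⟩, s.2⟩, ?_⟩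
    rintro t ⟨⟨htR, ht2⟩, htv⟩
    have h1 := hRfree hv _ (hout _ _ htR hsR)
      (mul_mem ((mem_stab ρ).mpr htv) s.2 : _ ∈ stab ρ v)
    rw [eq_inv_of_mul_eq_one_right h1]
    exact eq_inv_of_mul_eq_one_left ht2
  set I := {t : G // t ∉ R ∧ t * t = 1}
  have : Fintype I := Fintype.ofFinite I
  let F : (Σ t : I, {v : ↥(C t.1) // v ≠ 0}) → {v : V // v ≠ 0} := fun x =>
    ⟨x.2.1.1, fun h => x.2.2 (Subtype.ext h)⟩
  have hF : Function.Bijective F := by
    constructor
    · rintro ⟨t, ⟨⟨v, hv⟩, hv0⟩⟩ ⟨t', ⟨⟨v', hv'⟩, hv0'⟩⟩ h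
      have hvv : v = v' := congrArg Subtype.val h
      subst hvv
      have hne : v ≠ 0 := fun h => hv0 (Subtype.ext h)
      have htt : t = t' := Subtype.ext
        ((hex v hne).unique ⟨t.2, hC.mp hv⟩ ⟨t'.2, hC.mp hv'⟩)
      subst htt
      rfl
    · rintro ⟨v, hv⟩
      obtain ⟨t, ⟨ht, htv⟩, -⟩ := hex v hv
      exact ⟨⟨⟨t, ht⟩, ⟨⟨v, hC.mpr htv⟩, fun h => hv (congrArg Subtype.val h)⟩⟩, rfl⟩
  set c := Nat.card ↥(C t₀) with hc
  have hcall : ∀ t : I, Nat.card ↥(C t.1) = c := fun t => by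
    have h1 := hsq t.1 t.2.1 t.2.2
    have h2 := hsq t₀ ht₀ ht₀2
    rw [← h2, ← pow_two, ← pow_two] at h1
    exact Nat.pow_left_injective two_ne_zero h1
  have hminus : ∀ (W : Type _) [Zero W] [Finite W], Nat.card {v : W // v ≠ 0} = Nat.card W - 1 := by
    intro W _ _
    have := Fintype.ofFinite W
    rw [Nat.card_eq_fintype_card, Nat.card_eq_fintype_card, Fintype.card_subtype_compl,
      Fintype.card_subtype_eq]
  have hcount := Nat.card_congr (Equiv.ofBijective F hF)
  rw [Nat.card_sigma, hminus V, Finset.sum_congr rfl (fun t _ => (hminus ↥(C t.1)).trans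
    (by rw [hcall t])), Finset.sum_const, Finset.card_univ, smul_eq_mul] at hcount
  have hca : c = q ^ Module.finrank (ZMod q) ↥(C t₀) := by
    rw [hc, Module.natCard_eq_pow_finrank (K := ZMod q), Nat.card_zmod]
  set a := Module.finrank (ZMod q) ↥(C t₀)
  have hc2 : 2 ≤ c := by
    rw [hc]
    exact Finite.one_lt_card_iff_nontrivial.mpr ⟨⟨⟨v₀, hv₀C⟩, 0, fun h => hv₀ (congrArg Subtype.val h)⟩⟩
  refine ⟨a, Nat.one_le_iff_ne_zero.mpr fun h => ?_, ?_, ?_⟩
  · rw [h, pow_zero] at hca; omega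
  · rw [← hsq t₀ ht₀ ht₀2, ← hc, hca, ← pow_add, two_mul]
  · rw [← hca, Nat.card_eq_fintype_card]
    have hV := hsq t₀ ht₀ ht₀2
    rw [← hV, ← hc] at hcount
    obtain ⟨d, hd⟩ : ∃ d, c = d + 1 := ⟨c - 1, by omega⟩
    rw [hd, Nat.add_sub_cancel, show (d + 1) * (d + 1) - 1 = (d + 2) * d by
      rw [Nat.sub_eq_iff_eq_add (by nlinarith)]; ring] at hcount
    rw [hd]
    exact Nat.eq_of_mul_eq_mul_right (show 0 < d by omega) hcount

end Action

end Cfsg.Agent.TwoFusionB.HalfTrans
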