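import Cfsg.Agent.FG72.SymplecticMain
import Cfsg.Agent.Lib.PGroup.NormalRankTwo
import Cfsg.Agent.S0016

/-!
# A `p`-group of normal rank at least two
-/

set_option autoImplicit false

namespace Cfsg.Agent.TwoFusionB

open Subgroup
open scoped commutatorElement

variable {G : Type*} [Group G] [Finite G] {p : ℕ} [Fact p.Prime]

/-- A central element of order `p` and a second one spanning a normal subgroup of order `p²`. -/
def HasNormalPair (p : ℕ) (G : Type*) [Group G] : Prop :=
  ∃ z e : G, orderOf z = p ∧ z ∈ center G ∧ e ^ p = 1 ∧ e ∉ zpowers z ∧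
    ∀ g : G, ⁅g, e⁆ ∈ zpowers z

/-- A normal subgroup outside `⟨z⟩` meets the second centre relative to `⟨z⟩`. -/
theorem exists_step (hG : IsPGroup p G) {z : G} (hz : z ∈ center G) (N : Subgroup G)
    [hN : N.Normal] (hne : ¬ N ≤ zpowers z) :
    ∃ w ∈ N, w ∉ zpowers z ∧ w ^ p ∈ zpowers z ∧ ∀ g : G, ⁅g, w⁆ ∈ zpowers z := by
  haveI hZn : (zpowers z).Normal := ⟨fun a ha g => by
    obtain ⟨i, rfl⟩ := ha
    have : Commute g (z ^ i) := ((PGroup.commute_of_mem_center hz g).symm).zpow_right i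
    show g * z ^ i * g⁻¹ ∈ _
    rw [this.eq, mul_inv_cancel_right]
    exact zpow_mem (mem_zpowers z) i⟩
  obtain ⟨x, hx, hxA, hxp, hxg, -, -⟩ := PGroup.exists_normal_between hG (A := zpowers z) hne
  exact ⟨x, hx, hxA, hxp, hxg⟩

/-- From a normal subgroup of exponent `p` and order at least `p²`. -/
theorem hasNormalPair_of_normal (hG : IsPGroup p G) (B : Subgroup G) [hBn : B.Normal]
    (hexp : ∀ b ∈ B, b ^ p = 1) (hB : p < Nat.card B) : HasNormalPair p G := by
  haveI : Nontrivial G := by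
    refine Finite.one_lt_card_iff_nontrivial.1 ?_
    exact lt_of_lt_of_le ((Fact.out : p.Prime).one_lt.trans hB) (card_le_card_group B)
  haveI := hG.center_nontrivial
  obtain ⟨z, hz⟩ : ∃ z : center G, orderOf z = p := by
    refine exists_prime_orderOf_dvd_card' p ?_
    obtain ⟨k, hk⟩ := (IsPGroup.iff_card (p := p)).1 (hG.to_subgroup (center G))
    rw [hk]
    refine dvd_pow_self p fun h0 => ?_
    rw [h0, pow_zero] at hk
    exact absurd (Finite.one_lt_card (α := center G)) (by omega)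
  have hzo : orderOf (z : G) = p := by rw [orderOf_coe]; exact hz
  obtain ⟨w, hw, hwz, -, hg⟩ := exists_step hG z.2 B fun hle => by
    have := Subgroup.card_le_of_le hle
    rw [Nat.card_zpowers, hzo] at this
    omega
  exact ⟨z, w, hzo, z.2, hexp w hw, hwz, hg⟩

/-- `P. Hall`: apart from four families, a `p`-group has a normal subgroup of type `(p, p)`. -/
theorem cases_normalPair (hG : IsPGroup p G) :
    IsCyclic G ∨ (∃ n : ℕ, Nonempty (G ≃* QuaternionGroup n)) ∨
      (∃ n : ℕ, Nonempty (G ≃* DihedralGroup n)) ∨ Cfsg.IsQuasiDihedral G ∨ HasNormalPair p G := by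
  classical
  by_cases hp2 : p = 2
  swap
  · by_cases hc : IsCyclic G
    · exact Or.inl hc
    obtain ⟨B, hBn, -, hexp, hB⟩ := PGroup.exists_normal_elementary_sq hG hp2 hc
    haveI := hBn
    exact Or.inr (Or.inr (Or.inr (Or.inr (hasNormalPair_of_normal hG B hexp
      (by rw [hB]; exact lt_self_pow₀ (Fact.out : p.Prime).one_lt (by norm_num))))))
  subst hp2
  by_cases hN : HasNormalPair 2 G
  · exact Or.inr (Or.inr (Or.inr (Or.inr hN)))
  have hsymp : ∀ A : Subgroup G, A.Characteristic → IsMulCommutative A → IsCyclic A := by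
    intro A hA hAc
    by_contra hnc
    obtain ⟨B, -, hBn, -, hexp, hB⟩ := PGroup.exists_normal_elementary_sq_of_abelian hG hAc hnc
    haveI := hBn
    exact hN (hasNormalPair_of_normal hG B hexp (by rw [hB]; norm_num))
  obtain ⟨E, R, hER, hsup, hE, hR⟩ := FG72.SymplecticType.main hG hsymp
  rcases hE with rfl | ⟨⟨hE2, -, hcomm⟩, hZ⟩
  · rw [bot_sup_eq] at hsup
    subst hsup
    let e : (⊤ : Subgroup G) ≃* G := topEquiv
    rcases hR with h | ⟨-, -, ⟨m, ⟨f⟩⟩ | ⟨m, ⟨f⟩⟩ | h⟩
    · exact Or.inl (e.isCyclic.1 h)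
    · exact Or.inr (Or.inr (Or.inl ⟨m, ⟨e.symm.trans f⟩⟩))
    · exact Or.inr (Or.inl ⟨m, ⟨e.symm.trans f⟩⟩)
    · obtain ⟨n, hn, hc, x, y, hx, hy, hxy⟩ := h
      refine Or.inr (Or.inr (Or.inr (Or.inl ⟨n, hn, ?_, e x, e y, ?_, ?_, ?_⟩)))
      · rw [← hc]; exact (Nat.card_congr e.toEquiv).symm
      · rw [MulEquiv.orderOf_eq, hx]
      · rw [MulEquiv.orderOf_eq, hy]
      · rw [← map_inv, ← map_mul, ← map_mul, hxy, map_pow]
  -- the extraspecial case
  obtain ⟨ζ, hζgen⟩ := (isCyclic_of_prime_card (p := 2) hZ).exists_generator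
  have hζo : orderOf ((ζ : E) : G) = 2 := by
    rw [orderOf_coe, orderOf_coe, orderOf_eq_card_of_forall_mem_zpowers hζgen, hZ]
  have hcenE : ∀ x : G, ∀ hx : x ∈ E, (∀ y ∈ E, x * y = y * x) → x ∈ zpowers ((ζ : E) : G) := by
    intro x hx hc
    have : (⟨x, hx⟩ : E) ∈ center E := mem_center_iff.2 fun g => Subtype.ext (hc g g.2).symm
    obtain ⟨k, hk⟩ := hζgen ⟨_, this⟩
    refine ⟨k, ?_⟩
    have := congrArg (fun c : center E => ((c : E) : G)) hk
    simpa using this
  have hgen : ∀ g : G, ∃ e ∈ E, ∃ r ∈ R, g = e * r := by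
    intro g
    have hnorm : R ≤ normalizer (E : Set G) := fun r hr =>
      centralizer_le_normalizer _ (mem_centralizer_iff.2 fun e he => hER e he r hr)
    have : g ∈ ((E ⊔ R : Subgroup G) : Set G) := by rw [hsup]; exact mem_top g
    rw [coe_mul_of_right_le_normalizer_left _ _ hnorm] at this
    obtain ⟨e, he, r, hr, rfl⟩ := Set.mem_mul.1 this
    exact ⟨e, he, r, hr, rfl⟩
  set z : G := ((ζ : E) : G) with hzdef
  have hzE : z ∈ E := (ζ : E).2
  have hzcen : z ∈ center G := by
    rw [mem_center_iff]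
    intro g
    obtain ⟨e, he, r, hr, rfl⟩ := hgen g
    have h1 : e * z = z * e := congrArg Subtype.val (mem_center_iff.1 ζ.2 ⟨e, he⟩)
    rw [mul_assoc, ← hER z hzE r hr, ← mul_assoc, h1, mul_assoc]
  have hcE : ∀ g : G, ∀ x ∈ E, ⁅g, x⁆ ∈ zpowers z := by
    intro g x hx
    obtain ⟨e, he, r, hr, rfl⟩ := hgen g
    have h1 : ⁅e * r, x⁆ = ⁅e, x⁆ := by
      simp only [commutatorElement_def, mul_inv_rev]
      calc e * r * x * (r⁻¹ * e⁻¹) * x⁻¹ = e * (r * x) * r⁻¹ * e⁻¹ * x⁻¹ := by group
        _ = _ := by rw [← hER x hx r hr]; group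
    rw [h1]
    have hce : (⁅(⟨e, he⟩ : E), ⟨x, hx⟩⁆) ∈ center E := by
      rw [← hcomm]; exact commutator_mem_commutator (mem_top _) (mem_top _)
    obtain ⟨k, hk⟩ := hζgen ⟨_, hce⟩
    refine ⟨k, ?_⟩
    have := congrArg (fun c : center E => ((c : E) : G)) hk
    simpa [commutatorElement_def] using this
  have hz2 : z * z = 1 := by rw [← pow_two, ← hζo]; exact pow_orderOf_eq_one z
  have hzp : ∀ x ∈ zpowers z, x = 1 ∨ x = z := by
    rintro _ ⟨k, rfl⟩
    show z ^ k = 1 ∨ z ^ k = z
    rw [← zpow_mod_orderOf, hζo]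
    rcases (show k % (2 : ℕ) = 0 ∨ k % (2 : ℕ) = 1 by omega) with h | h <;> rw [h]
    · exact Or.inl (zpow_zero _)
    · exact Or.inr (zpow_one _)
  -- every non-central element of `E` squares to `z`
  have hsqE : ∀ x ∈ E, x ∉ zpowers z → x * x = z := by
    intro x hx hxz
    have h1 : x * x ∈ zpowers z := by
      refine hcenE _ (mul_mem hx hx) fun y hy => ?_
      have hc := hcE y x hx
      have hce : y * x = ⁅y, x⁆ * (x * y) := by simp only [commutatorElement_def]; group
      have hcc : ⁅y, x⁆ * ⁅y, x⁆ = 1 := by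
        rcases hzp _ hc with e | e <;> rw [e]
        exacts [one_mul 1, hz2]
      have hcx : x * ⁅y, x⁆ = ⁅y, x⁆ * x := by
        rcases hzp _ hc with e | e <;> rw [e]
        · simp
        · exact mem_center_iff.1 hzcen x
      symm
      calc y * (x * x) = (y * x) * x := by group
        _ = ⁅y, x⁆ * x * (y * x) := by rw [hce]; group
        _ = ⁅y, x⁆ * x * (⁅y, x⁆ * (x * y)) := by rw [← hce]
        _ = ⁅y, x⁆ * (x * ⁅y, x⁆) * (x * y) := by group
        _ = ⁅y, x⁆ * ⁅y, x⁆ * (x * x * y) := by rw [hcx]; group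
        _ = x * x * y := by rw [hcc, one_mul]
    rcases hzp _ h1 with e | e
    · exact absurd ⟨z, x, hζo, hzcen, by rw [pow_two, e], hxz, fun g => hcE g x hx⟩ hN
    · exact e
  have hR : R ≤ zpowers z := by
    by_contra hne
    have hRn : R.Normal := by
      rw [← normalizer_eq_top_iff, eq_top_iff]
      intro g _
      obtain ⟨e, he, r, hr, rfl⟩ := hgen g
      refine mul_mem (centralizer_le_normalizer _ (mem_centralizer_iff.2 fun s hs => ?_))
        (le_normalizer hr)
      exact (hER e he s hs).symm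
    obtain ⟨w, hw, hwz, hw2, hwg⟩ := exists_step hG hzcen R hne
    rw [pow_two] at hw2
    rcases hzp _ hw2 with e | e
    · exact hN ⟨z, w, hζo, hzcen, by rw [pow_two, e], hwz, hwg⟩
    obtain ⟨x, hx, hxz⟩ : ∃ x ∈ E, x ∉ zpowers z := by
      by_contra! hall
      have h1 : E ≤ zpowers z := hall
      have hc : IsCyclic E := isCyclic_of_le h1
      have hbot : commutator E = ⊥ := by
        rw [commutator_eq_bot_iff_center_eq_top, eq_top_iff]
        exact fun a _ => mem_center_iff.2 fun b => PGroup.mul_comm_of_cyclic b a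
      rw [hcomm] at hbot
      rw [hbot, card_bot] at hZ
      omega
    refine hN ⟨z, x * w, hζo, hzcen, ?_, fun h => ?_, fun g => ?_⟩
    · rw [pow_two, show x * w * (x * w) = x * (w * x) * w by group, ← hER x hx w hw,
        show x * (x * w) * w = (x * x) * (w * w) by group, hsqE x hx hxz, e, hz2]
    · refine hwz (hcenE w ?_ fun y hy => (hER y hy w hw).symm)
      rcases hzp _ h with e' | e'
      · rw [show w = x⁻¹ by rw [eq_inv_of_mul_eq_one_right e']]; exact inv_mem hx
      · rw [show w = x⁻¹ * z by rw [← e']; group]; exact mul_mem (inv_mem hx) hzE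
    · have e' : ⁅g, x * w⁆ = ⁅g, x⁆ * (x * ⁅g, w⁆ * x⁻¹) := by
        simp only [commutatorElement_def]; group
      rw [e']
      refine mul_mem (hcE g x hx) ?_
      rcases hzp _ (hwg g) with e'' | e'' <;> rw [e'']
      · simp
      · rw [mem_center_iff.1 hzcen x, mul_inv_cancel_right]; exact mem_zpowers z
  have hEtop : E = ⊤ := by
    rw [← hsup, sup_eq_left.2 (hR.trans (zpowers_le.2 hzE))]
  have hinv : ∀ x : G, orderOf x = 2 → x = z := by
    intro x hx
    by_cases hxz : x ∈ zpowers z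
    · rcases hzp x hxz with e | e
      · rw [e, orderOf_one] at hx; omega
      · exact e
    · have := hsqE x (hEtop ▸ mem_top x) hxz
      rw [← pow_two, ← hx, pow_orderOf_eq_one] at this
      rw [← this, orderOf_one] at hζo
      omega
  rcases S0016.result 2 hG (fun H K hH hK => by
      have key : ∀ H : Subgroup G, Nat.card H = 2 → H = zpowers z := by
        intro H hH
        obtain ⟨a, ha⟩ := exists_prime_orderOf_dvd_card' (G := H) 2 (by rw [hH])
        have : (a : G) = z := hinv _ (by rw [orderOf_coe]; exact ha)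
        symm
        refine eq_of_le_of_card_ge (zpowers_le.2 (this ▸ a.2)) ?_
        rw [hH, Nat.card_zpowers, hζo]
      rw [key H hH, key K hK]) with h | ⟨-, n, hn⟩
  · exact Or.inl h
  · exact Or.inr (Or.inl ⟨_, hn⟩)

end Cfsg.Agent.TwoFusionB
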