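import Cfsg.Agent.TwoFusionB.CubicTwins
import Cfsg.Prelude.Def_Solvable

/-!
Twins force the direct product of two copies of `S₃` when the 3-cores are small.
-/

set_option autoImplicit false
set_option linter.all false

namespace Cfsg.Agent.TwoFusionB.Cubic

open Cfsg.Agent.FischerSpace

variable {G : Type*} [Group G] {D : Set G}

set_option synthInstance.maxSize 5000 in
theorem p3_inv : ∀ s x y : Equiv.Perm (Fin 3), s * s = 1 → s ≠ 1 → x * x = 1 → x ≠ 1 →
    y * y = 1 → y ≠ 1 → s * (x * y) * s⁻¹ = (x * y)⁻¹ := by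
  decide +kernel

variable (hL : Loc D) (hT : Twins D)
include hL

/-- A neighbour inverts the rotations. -/
theorem Loc.invert {d s x y : G} (hd : d ∈ D) (hs : s ∈ Nb D d) (hx : x ∈ Nb D d) (hy : y ∈ Nb D d) :
    s * (x * y) * s⁻¹ = (x * y)⁻¹ := by
  obtain ⟨φ⟩ := hL.s3 d hd
  have hi : ∀ y (hy : y ∈ Nb D d), φ ⟨y, Subgroup.subset_closure hy⟩ *
      φ ⟨y, Subgroup.subset_closure hy⟩ = 1 ∧ φ ⟨y, Subgroup.subset_closure hy⟩ ≠ 1 := by
    intro y hy
    constructor
    · rw [← map_mul, show (⟨y, Subgroup.subset_closure hy⟩ : ↥(Subgroup.closure (Nb D d))) *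
        ⟨y, Subgroup.subset_closure hy⟩ = 1 from Subtype.ext (mul_self hL.tts hy.1), map_one]
    · exact fun e => ne_one hL.tts hy.1
        (congrArg Subtype.val (φ.injective (e.trans (map_one φ).symm)))
  have h := p3_inv _ _ _ (hi s hs).1 (hi s hs).2 (hi x hx).1 (hi x hx).2 (hi y hy).1 (hi y hy).2
  rw [← map_mul φ ⟨x, _⟩ ⟨y, _⟩, ← map_inv φ ⟨s, _⟩, ← map_mul, ← map_mul, ← map_inv] at h
  exact congrArg Subtype.val (φ.injective h)

include hT

/-- Only one component. -/
theorem Loc.all_in [Finite G]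
    (hcore : ∀ d ∈ D, Nat.card (Cfsg.pCore 3 ↥(Subgroup.centralizer ({d} : Set G))) = 3)
    {d a : G} (hd : d ∈ D) (ha : a ∈ Nb D d) : D ⊆ Nb D d ∪ Nb D a := by
  classical
  by_contra hsub
  obtain ⟨g, hg, hgn⟩ := Set.not_subset.1 hsub
  have hgd : ¬ Commute g d := by
    intro h
    refine hgn (Or.inl ⟨hg, fun e => hgn (Or.inr ?_), h.symm⟩)
    rw [e]; exact nb_symm hd ha
  have hga : ¬ Commute g a := by
    intro h
    refine hgn (Or.inr ⟨hg, fun e => hgn (Or.inl ?_), h.symm⟩)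
    rw [e]; exact ha
  let V := Subgroup.closure (Rot D)
  obtain ⟨hVc, hV3⟩ := closure_three (S := Rot D) (fun z hz w hw => hL.rot_commute hT hz hw)
    (fun z hz => hL.rot_pow hz)
  let Rd := Subgroup.closure (RotAt D d)
  let Ra := Subgroup.closure (RotAt D a)
  have hsubd : Rd ≤ V := Subgroup.closure_mono fun z ⟨x, hx, y, hy, e⟩ => ⟨d, hd, x, hx, y, hy, e⟩
  have hsuba : Ra ≤ V := Subgroup.closure_mono fun z ⟨x, hx, y, hy, e⟩ => ⟨a, ha.1, x, hx, y, hy, e⟩
  -- fixed points of `d` in `V`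
  let C := Subgroup.centralizer ({d} : Set G)
  have hRdC : Rd ≤ C := by
    refine (Subgroup.closure_le _).2 ?_
    rintro _ ⟨x, hx, y, hy, rfl⟩
    exact Subgroup.mem_centralizer_singleton_iff.2 (hx.2.2.symm.mul_left hy.2.2.symm).eq
  haveI hRn : (Rd.subgroupOf C).Normal := by
    refine ⟨fun n hn g => ?_⟩
    show (g : G) * (n : G) * (g : G)⁻¹ ∈ Rd
    refine invariant_closure_conj hL.inv _ ?_ hn
    rintro _ ⟨x, hx, y, hy, rfl⟩
    have hgc : (g : G) * d * (g : G)⁻¹ = d := by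
      rw [Subgroup.mem_centralizer_singleton_iff.1 g.2, mul_inv_cancel_right]
    refine ⟨_, hgc ▸ conj_nb hL.inv (g : G) hx, _, hgc ▸ conj_nb hL.inv (g : G) hy, by group⟩
  haveI hVn : ((V ⊓ C).subgroupOf C).Normal := by
    refine ⟨fun n hn g => ?_⟩
    refine ⟨?_, (g * n * g⁻¹).2⟩
    exact invariant_closure_conj hL.inv _ (fun y hy => hL.rot_conj _ hy) hn.1
  have hp3 : ∀ K : Subgroup C, (∀ k ∈ K, (k : G) ∈ V) → IsPGroup 3 K := by
    intro K hK k
    exact ⟨1, Subtype.ext (Subtype.ext (by simpa using hV3 _ (hK _ k.2)))⟩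
  have h1 : Rd.subgroupOf C ≤ Cfsg.pCore 3 C :=
    le_sSup ⟨hRn, hp3 _ fun k hk => hsubd hk⟩
  have h2 : (V ⊓ C).subgroupOf C ≤ Cfsg.pCore 3 C :=
    le_sSup ⟨hVn, hp3 _ fun k hk => hk.1⟩
  obtain ⟨x, y, hx, hy, hxy⟩ := hL.three hd
  have hxyR : x * y ∈ Rd := Subgroup.subset_closure ⟨x, hx, y, hy, rfl⟩
  have hord : orderOf (x * y) = 3 :=
    orderOf_mul_eq_three hL.tts hx.1 hy.1 (hL.not_commute hd hx hy hxy)
  have h3 : 3 ≤ Nat.card (Rd.subgroupOf C) := by
    have h := orderOf_le_card (G := ↥(Rd.subgroupOf C))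
      (x := ⟨⟨x * y, hRdC hxyR⟩, hxyR⟩)
    rwa [← Subgroup.orderOf_coe, ← Subgroup.orderOf_coe, hord] at h
  have h4 : Rd.subgroupOf C = Cfsg.pCore 3 C :=
    Subgroup.eq_of_le_of_card_ge h1 (by rw [hcore d hd]; exact h3)
  have hfix : ∀ v ∈ V, Commute v d → v ∈ Rd := by
    intro v hv hc
    have hvC : v ∈ C := Subgroup.mem_centralizer_singleton_iff.2 hc.eq
    have : (⟨v, hvC⟩ : C) ∈ Cfsg.pCore 3 C := h2 ⟨hv, hvC⟩
    rw [← h4] at this
    exact this
  -- elements preserving all neighbourhoods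
  have hpres : ∀ v ∈ V, ∀ e ∈ D, ∀ w ∈ Nb D e, v * w * v⁻¹ ∈ Nb D e := by
    intro v hv
    induction hv using Subgroup.closure_induction with
    | mem z hz =>
      obtain ⟨c, hc, x, hx, y, hy, rfl⟩ := hz
      exact fun e he => hL.rot_preserve hT hc hx hy he
    | one => intro e he w hw; simpa using hw
    | mul p q _ _ ip iq =>
      intro e he w hw
      have := ip e he _ (iq e he w hw)
      have heq : p * q * w * (p * q)⁻¹ = p * (q * w * q⁻¹) * p⁻¹ := by group
      rw [heq]; exact this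
    | inv p _ ip =>
      intro e he w hw
      have hmaps : Set.MapsTo (fun w => p * w * p⁻¹) (Nb D e) (Nb D e) := fun w hw => ip e he w hw
      have hinjp : Function.Injective fun w => p * w * p⁻¹ :=
        fun u v h => mul_left_cancel (mul_right_cancel h)
      have himg : (fun w => p * w * p⁻¹) '' Nb D e = Nb D e :=
        Set.eq_of_subset_of_ncard_le hmaps.image_subset
          (by rw [Set.ncard_image_of_injective _ hinjp]) (Set.toFinite _)
      obtain ⟨u, hu, hue⟩ := himg.symm ▸ hw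
      simp only at hue
      have : p⁻¹ * w * p⁻¹⁻¹ = u := by rw [← hue]; group
      rw [this]; exact hu
  -- `V` is generated by the rotations at `d` and at `a`
  have hdd : d⁻¹ = d := inv_eq hL.tts hd
  have hdV : ∀ v ∈ V, d * v * d ∈ V := fun v hv => by
    have := invariant_closure_conj hL.inv d (fun y hy => hL.rot_conj d hy) hv
    rwa [hdd] at this
  have hd2 : d * d = 1 := mul_self hL.tts hd
  have hsplit : ∀ v ∈ V, v ∈ Rd ⊔ Ra := by
    intro v hv
    set w := d * v * d with hw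
    have hwV : w ∈ V := hdV v hv
    have hvw : Commute v w := hVc v hv w hwV
    have hp : v * w ∈ Rd := by
      refine hfix _ (mul_mem hv hwV) ?_
      show v * w * d = d * (v * w)
      have : d * (v * w) * d = w * v := by
        rw [hw]
        calc d * (v * (d * v * d)) * d = d * v * d * v * (d * d) := by group
          _ = d * v * d * v := by rw [hd2, mul_one]
      calc v * w * d = d * d * (v * w) * d := by rw [hd2, one_mul]
        _ = d * (d * (v * w) * d) := by group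
        _ = d * (v * w) := by rw [this, hvw.eq]
    have hm : v * w⁻¹ ∈ Ra := by
      refine Subgroup.subset_closure ⟨v * d * v⁻¹, hpres v hv a ha.1 d (nb_symm hd ha), d,
        nb_symm hd ha, ?_⟩
      rw [hw, mul_inv_rev, mul_inv_rev, hdd]
      group
    have hv2 : v = (v * w * (v * w⁻¹)) ^ 2 := by
      have h5 : v * w * (v * w⁻¹) = v ^ 2 := by
        rw [mul_assoc, ← mul_assoc w v, ← hvw.eq, mul_assoc v w, mul_inv_cancel, mul_one, pow_two]
      rw [h5, ← pow_mul, show 2 * 2 = 3 + 1 from rfl, pow_succ, hV3 v hv, one_mul]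
    rw [hv2]
    exact pow_mem (mul_mem (le_sup_left (a := Rd) (b := Ra) hp) (le_sup_right (a := Rd) (b := Ra) hm)) 2
  have hinv : ∀ v ∈ V, (d * a) * v * (d * a)⁻¹ = v⁻¹ := by
    have hgen : ∀ z ∈ RotAt D d ∪ RotAt D a, z ∈ V ∧ (d * a) * z * (d * a)⁻¹ = z⁻¹ := by
      rintro z (⟨x, hx, y, hy, rfl⟩ | ⟨x, hx, y, hy, rfl⟩)
      · refine ⟨Subgroup.subset_closure ⟨d, hd, x, hx, y, hy, rfl⟩, ?_⟩
        have hc : Commute d (x * y) := hx.2.2.mul_right hy.2.2
        calc d * a * (x * y) * (d * a)⁻¹ = d * (a * (x * y) * a⁻¹) * d⁻¹ := by group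
          _ = (x * y)⁻¹ := by rw [hL.invert hd ha hx hy, hc.inv_right.eq, mul_inv_cancel_right]
      · refine ⟨Subgroup.subset_closure ⟨a, ha.1, x, hx, y, hy, rfl⟩, ?_⟩
        have hc : Commute a (x * y) := hx.2.2.mul_right hy.2.2
        calc d * a * (x * y) * (d * a)⁻¹ = d * (a * (x * y) * a⁻¹) * d⁻¹ := by group
          _ = (x * y)⁻¹ := by
            rw [hc.eq, mul_inv_cancel_right, hL.invert ha.1 (nb_symm hd ha) hx hy]
    intro v hv
    have hv' : v ∈ Subgroup.closure (RotAt D d ∪ RotAt D a) := by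
      rw [Subgroup.closure_union]; exact hsplit v hv
    clear hv
    have : v ∈ V ∧ (d * a) * v * (d * a)⁻¹ = v⁻¹ := by
      induction hv' using Subgroup.closure_induction with
      | mem z hz => exact hgen z hz
      | one => exact ⟨one_mem _, by simp⟩
      | mul p q _ _ ip iq =>
        refine ⟨mul_mem ip.1 iq.1, ?_⟩
        calc d * a * (p * q) * (d * a)⁻¹
            = d * a * p * (d * a)⁻¹ * (d * a * q * (d * a)⁻¹) := by group
          _ = p⁻¹ * q⁻¹ := by rw [ip.2, iq.2]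
          _ = (p * q)⁻¹ := by rw [(hVc p ip.1 q iq.1).eq, mul_inv_rev]
      | inv p _ ip =>
        refine ⟨inv_mem ip.1, ?_⟩
        calc d * a * p⁻¹ * (d * a)⁻¹ = (d * a * p * (d * a)⁻¹)⁻¹ := by group
          _ = p⁻¹⁻¹ := by rw [ip.2]
    exact this.2
  -- the products `g * d` and `g * a`
  have hgd3 := cube_eq_one hL.tts hg hd hgd
  have hga3 := cube_eq_one hL.tts hg ha.1 hga
  set k := g * d with hk
  have hkV : ∀ v ∈ V, k * v * k⁻¹ ∈ V := fun v hv =>
    invariant_closure_conj hL.inv k (fun y hy => hL.rot_conj k hy) hv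
  have hga' : g * a = k * (d * a) := by
    rw [hk, mul_assoc g d (d * a), ← mul_assoc d d a, hd2, one_mul]

  have hstep : ∀ v ∈ V, (g * a) * v * (g * a)⁻¹ = (k * v * k⁻¹)⁻¹ := by
    intro v hv
    rw [hga']
    calc k * (d * a) * v * (k * (d * a))⁻¹ = k * (d * a * v * (d * a)⁻¹) * k⁻¹ := by group
      _ = k * v⁻¹ * k⁻¹ := by rw [hinv v hv]
      _ = (k * v * k⁻¹)⁻¹ := by group
  set v := x * y with hvdef
  have hvV : v ∈ V := hsubd hxyR
  set v1 := k * v * k⁻¹ with hv1
  set v2 := k * v1 * k⁻¹ with hv2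
  have hw1 : (g * a) * v * (g * a)⁻¹ = v1⁻¹ := hstep v hvV
  have hw2 : (g * a) * v1⁻¹ * (g * a)⁻¹ = v2 := by
    rw [hstep v1⁻¹ (inv_mem (show v1 ∈ V from hkV v hvV)), hv2]; simp only [mul_inv_rev, inv_inv, mul_assoc]
  have hw3 : (g * a) * v2 * (g * a)⁻¹ = (k * v2 * k⁻¹)⁻¹ := hstep _ (hkV _ (hkV _ hvV))
  have hk3 : k * v2 * k⁻¹ = v := by
    have : k * v2 * k⁻¹ = k ^ 3 * v * (k ^ 3)⁻¹ := by
      rw [hv2, hv1]; simp only [pow_succ, pow_zero, one_mul, mul_inv_rev, mul_assoc]
    rw [this, hgd3, one_mul, inv_one, mul_one]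
  have hfin : v = v⁻¹ := by
    rw [hk3, ← hw2, ← hw1] at hw3
    have : (g * a) * ((g * a) * ((g * a) * v * (g * a)⁻¹) * (g * a)⁻¹) * (g * a)⁻¹ =
        (g * a) ^ 3 * v * ((g * a) ^ 3)⁻¹ := by
      simp only [pow_succ, pow_zero, one_mul, mul_inv_rev, mul_assoc]
    rw [this, hga3, one_mul, inv_one, mul_one] at hw3
    exact hw3
  have h2' : v ^ 2 = 1 := by rw [pow_two]; nth_rewrite 2 [hfin]; rw [mul_inv_cancel]
  have := orderOf_dvd_of_pow_eq_one h2'
  rw [hord] at this
  omega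

/-- The direct product. -/
theorem Loc.product [Finite G]
    (hcore : ∀ d ∈ D, Nat.card (Cfsg.pCore 3 ↥(Subgroup.centralizer ({d} : Set G))) = 3)
    {d : G} (hd : d ∈ D) :
    Nonempty (↥(Subgroup.closure D) ≃* Equiv.Perm (Fin 3) × Equiv.Perm (Fin 3)) := by
  classical
  obtain ⟨a, b, ha, -, -⟩ := hL.three hd
  obtain ⟨φ⟩ := hL.s3 d hd
  obtain ⟨ψ⟩ := hL.s3 a ha.1
  have hcross : ∀ x ∈ Nb D d, ∀ y ∈ Nb D a, Commute x y := by
    intro x hx y hy
    rw [hT d hd x hx a ha] at hy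
    exact hy.2.2
  have hcl : ∀ x ∈ Subgroup.closure (Nb D d), ∀ y ∈ Subgroup.closure (Nb D a), Commute x y := by
    intro x hx
    induction hx using Subgroup.closure_induction with
    | mem p hp =>
      intro y hy
      induction hy using Subgroup.closure_induction with
      | mem q hq => exact hcross p hp q hq
      | one => exact Commute.one_right _
      | mul _ _ _ _ i1 i2 => exact i1.mul_right i2
      | inv _ _ i1 => exact i1.inv_right
    | one => exact fun _ _ => Commute.one_left _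
    | mul _ _ _ _ i1 i2 => exact fun y hy => (i1 y hy).mul_left (i2 y hy)
    | inv _ _ i1 => exact fun y hy => (i1 y hy).inv_left
  let f₁ := (Subgroup.closure (Nb D d)).subtype.comp φ.symm.toMonoidHom
  let f₂ := (Subgroup.closure (Nb D a)).subtype.comp ψ.symm.toMonoidHom
  let F := MonoidHom.noncommCoprod f₁ f₂ fun m n => hcl _ (φ.symm m).2 _ (ψ.symm n).2
  have hinj : Function.Injective F := by
    rw [injective_iff_map_eq_one]
    rintro ⟨m, n⟩ h
    have h' : (φ.symm m : G) * (ψ.symm n : G) = 1 := h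
    have hm : (φ.symm m : G) = (ψ.symm n⁻¹ : G) := by
      rw [map_inv, Subgroup.coe_inv]; exact eq_inv_of_mul_eq_one_left h'
    have hcen : ∀ τ : Equiv.Perm (Fin 3), m * τ = τ * m := by
      intro τ
      refine φ.symm.injective (Subtype.ext ?_)
      rw [map_mul, map_mul, Subgroup.coe_mul, Subgroup.coe_mul, hm]
      exact (hcl _ (φ.symm τ).2 _ (ψ.symm n⁻¹).2).symm.eq
    have h3 : ∀ σ : Equiv.Perm (Fin 3), (∀ τ, σ * τ = τ * σ) → σ = 1 := by decide +kernel
    have hm1 : m = 1 := h3 m hcen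
    subst hm1
    rw [map_one, Subgroup.coe_one, one_mul] at h'
    have hn1 : n = 1 := ψ.symm.injective (Subtype.ext (by rw [h', map_one]; rfl))
    rw [hn1]; rfl
  have hrange : Subgroup.closure D = F.range := by
    rw [show F.range = f₁.range ⊔ f₂.range from MonoidHom.noncommCoprod_range _ _ _]
    have e1 : f₁.range = Subgroup.closure (Nb D d) := by
      rw [MonoidHom.range_comp, MonoidHom.range_eq_top.2 φ.symm.surjective,
        ← MonoidHom.range_eq_map, Subgroup.range_subtype]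
    have e2 : f₂.range = Subgroup.closure (Nb D a) := by
      rw [MonoidHom.range_comp, MonoidHom.range_eq_top.2 ψ.symm.surjective,
        ← MonoidHom.range_eq_map, Subgroup.range_subtype]
    rw [e1, e2, ← Subgroup.closure_union]
    exact le_antisymm (Subgroup.closure_mono (hL.all_in hT hcore hd ha))
      (Subgroup.closure_mono (Set.union_subset (fun y h => h.1) fun y h => h.1))
  exact ⟨(MulEquiv.subgroupCongr hrange).trans (MonoidHom.ofInjective hinj).symm⟩

end Cfsg.Agent.TwoFusionB.Cubic
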