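import Cfsg.Agent.TwoFusionB.CubicLocal
import Cfsg.Agent.S2530
import Mathlib.GroupTheory.SpecificGroups.Alternating

/-!
Sets of 3-transpositions with local groups `S₃` and a string of four generate `S₅`.
-/

set_option autoImplicit false
set_option linter.all false

namespace Cfsg.Agent.TwoFusionB.Cubic

open Cfsg.Agent.FischerSpace

/-- The ten transpositions of five points. -/
def sw5 : Fin 10 → Equiv.Perm (Fin 5) :=
  ![Equiv.swap 0 1, Equiv.swap 0 2, Equiv.swap 0 3, Equiv.swap 0 4, Equiv.swap 1 2, Equiv.swap 1 3,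
    Equiv.swap 1 4, Equiv.swap 2 3, Equiv.swap 2 4, Equiv.swap 3 4]

set_option synthInstance.maxSize 5000 in
set_option synthInstance.maxHeartbeats 200000 in
theorem sw5_facts : (∀ i, ∃ σ : Equiv.Perm (Fin 5), σ * Equiv.swap 0 1 * σ⁻¹ = sw5 i) ∧
    (∀ i, ∃ j k l : Fin 10, j ≠ k ∧ j ≠ l ∧ k ≠ l ∧ i ≠ j ∧ i ≠ k ∧ i ≠ l ∧
      sw5 i * sw5 j = sw5 j * sw5 i ∧ sw5 i * sw5 k = sw5 k * sw5 i ∧
      sw5 i * sw5 l = sw5 l * sw5 i) ∧
    (∀ i j, sw5 i = sw5 j → i = j) ∧
    sw5 0 = Equiv.swap 0 1 ∧ sw5 4 = Equiv.swap 1 2 ∧ sw5 7 = Equiv.swap 2 3 ∧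
      sw5 9 = Equiv.swap 3 4 := by
  decide +kernel

set_option synthInstance.maxSize 5000 in
set_option synthInstance.maxHeartbeats 200000 in
theorem invol_cases : ∀ σ : Equiv.Perm (Fin 5), σ * σ = 1 → σ ≠ 1 →
    (∃ i, σ = sw5 i) ∨ ∃ i j, i ≠ j ∧ sw5 i * sw5 j = sw5 j * sw5 i ∧ σ = sw5 i * sw5 j := by
  decide +kernel

/-- The Klein group's double transpositions. -/
def tau : Fin 3 → Equiv.Perm (Fin 5) :=
  ![Equiv.swap 0 1 * Equiv.swap 2 3, Equiv.swap 0 2 * Equiv.swap 1 3,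
    Equiv.swap 0 3 * Equiv.swap 1 2]

/-- Five short words. -/
def wd (x y : Equiv.Perm (Fin 5)) : Fin 5 → Equiv.Perm (Fin 5) := ![1, x, y, x⁻¹, y⁻¹]

/-- Two more double transpositions. -/
def dc : Fin 2 → Equiv.Perm (Fin 5) :=
  ![Equiv.swap 1 4 * Equiv.swap 2 3, Equiv.swap 1 3 * Equiv.swap 2 4]

set_option synthInstance.maxSize 5000 in
set_option synthInstance.maxHeartbeats 200000 in
theorem word_invol : ∀ i j : Fin 3, ∃ p q r : Fin 5,
    wd (tau i * dc 0) (tau j * dc 1) p * wd (tau i * dc 0) (tau j * dc 1) q *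
        wd (tau i * dc 0) (tau j * dc 1) r ≠ 1 ∧
      (wd (tau i * dc 0) (tau j * dc 1) p * wd (tau i * dc 0) (tau j * dc 1) q *
        wd (tau i * dc 0) (tau j * dc 1) r) * (wd (tau i * dc 0) (tau j * dc 1) p *
          wd (tau i * dc 0) (tau j * dc 1) q * wd (tau i * dc 0) (tau j * dc 1) r) = 1 := by
  decide +kernel

set_option synthInstance.maxSize 5000 in
set_option synthInstance.maxHeartbeats 200000 in
theorem tau_facts : (∀ i, tau i * tau i = 1 ∧ tau i ≠ 1) ∧ (∀ i, dc i * dc i = 1 ∧ dc i ≠ 1) ∧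
    (∀ i, ∃ k l, k ≠ l ∧ sw5 k * sw5 l = sw5 l * sw5 k ∧ tau i = sw5 k * sw5 l) ∧
    (∀ i, ∃ k l, k ≠ l ∧ sw5 k * sw5 l = sw5 l * sw5 k ∧ dc i = sw5 k * sw5 l) ∧
    (∀ i j, i ≠ j → (tau i)⁻¹ * tau j ≠ 1 ∧ (tau i)⁻¹ * tau j * ((tau i)⁻¹ * tau j) = 1) := by
  decide +kernel

set_option synthInstance.maxSize 5000 in
set_option synthInstance.maxHeartbeats 200000 in
theorem centre_five : ∀ σ : Equiv.Perm (Fin 5), (∀ i, σ * sw5 i = sw5 i * σ) → σ = 1 := by
  decide +kernel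

variable {G : Type*} [Group G] {D : Set G}

/-- A homomorphism from the relations of the Coxeter diagram. -/
theorem exists_hom_five (hD : Cfsg.IsThreeTranspositionSet D) {a b d g : G} (ha : a ∈ D) (hb : b ∈ D)
    (hd : d ∈ D) (hg : g ∈ D) (hab : ¬ Commute a b) (hbd : ¬ Commute b d) (hdg : ¬ Commute d g)
    (had : Commute a d) (hag : Commute a g) (hbg : Commute b g) :
    ∃ φ : Equiv.Perm (Fin 5) →* G, φ (Equiv.swap 0 1) = a ∧ φ (Equiv.swap 1 2) = b ∧
      φ (Equiv.swap 2 3) = d ∧ φ (Equiv.swap 3 4) = g := by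
  obtain ⟨cs, hcs⟩ := Cfsg.Agent.S2530.result 4
  let f : Fin 4 → G := ![a, b, d, g]
  have c3 : ∀ {x y : G}, x ∈ D → y ∈ D → ¬ Commute x y → (x * y) ^ 3 = 1 ∧ (y * x) ^ 3 = 1 :=
    fun hx hy h => ⟨cube_eq_one hD hx hy h, cube_eq_one hD hy hx fun e => h e.symm⟩
  have c2 : ∀ {x y : G}, x ∈ D → y ∈ D → Commute x y → (x * y) ^ 2 = 1 ∧ (y * x) ^ 2 = 1 :=
    fun hx hy h => ⟨(commute_iff_sq hD hx hy).1 h, (commute_iff_sq hD hy hx).1 h.symm⟩
  have c1 : ∀ {x : G}, x ∈ D → (x * x) ^ 1 = 1 := fun hx => by rw [pow_one, mul_self hD hx]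
  have hf : (CoxeterMatrix.A 4).IsLiftable f := by
    intro i j
    have hM : CoxeterMatrix.A 4 i j =
        if i = j then 1 else if (j : ℕ) + 1 = i ∨ (i : ℕ) + 1 = j then 3 else 2 := rfl
    rw [hM]
    fin_cases i <;> fin_cases j <;> simp [f] <;>
      first
        | exact mul_self hD ha
        | exact mul_self hD hb
        | exact mul_self hD hd
        | exact mul_self hD hg
        | exact (c3 ha hb hab).1
        | exact (c3 ha hb hab).2
        | exact (c3 hb hd hbd).1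
        | exact (c3 hb hd hbd).2
        | exact (c3 hd hg hdg).1
        | exact (c3 hd hg hdg).2
        | exact (c2 ha hd had).1
        | exact (c2 ha hd had).2
        | exact (c2 ha hg hag).1
        | exact (c2 ha hg hag).2
        | exact (c2 hb hg hbg).1
        | exact (c2 hb hg hbg).2
  refine ⟨cs.lift ⟨f, hf⟩, ?_, ?_, ?_, ?_⟩
  · have := cs.lift_apply_simple hf 0
    rwa [hcs 0] at this
  · have := cs.lift_apply_simple hf 1
    rwa [hcs 1] at this
  · have := cs.lift_apply_simple hf 2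
    rwa [hcs 2] at this
  · have := cs.lift_apply_simple hf 3
    rwa [hcs 3] at this

/-- A homomorphism separating two commuting transpositions is injective. -/
theorem five_injective {φ : Equiv.Perm (Fin 5) →* G}
    (h : φ (Equiv.swap 0 1) ≠ φ (Equiv.swap 2 3)) : Function.Injective φ := by
  rw [← MonoidHom.ker_eq_bot_iff]
  haveI := alternatingGroup.isSimpleGroup_five
  rcases (φ.normal_ker.subgroupOf (alternatingGroup (Fin 5))).eq_bot_or_eq_top with hK | hK
  · refine (Subgroup.eq_bot_iff_forall _).2 fun σ hσ => centre_five σ fun i => ?_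
    have h1 : σ * sw5 i * σ⁻¹ * (sw5 i)⁻¹ ∈ alternatingGroup (Fin 5) := by
      rw [Equiv.Perm.mem_alternatingGroup]
      simp only [map_mul, map_inv]
      generalize Equiv.Perm.sign σ = x
      generalize Equiv.Perm.sign (sw5 i) = y
      rw [mul_comm x y, mul_inv_cancel_right, mul_inv_cancel]
    have h2 : σ * sw5 i * σ⁻¹ * (sw5 i)⁻¹ ∈ φ.ker := by
      rw [MonoidHom.mem_ker] at hσ ⊢
      simp [map_mul, hσ]
    have h3 : (⟨_, h1⟩ : ↥(alternatingGroup (Fin 5))) ∈ φ.ker.subgroupOf _ := h2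
    rw [hK, Subgroup.mem_bot] at h3
    have h4 := congrArg Subtype.val h3
    simp only [Subgroup.coe_one] at h4
    have h5 := mul_inv_eq_one.1 h4
    exact mul_inv_eq_iff_eq_mul.1 h5
  · exfalso
    have h1 : Equiv.swap (0 : Fin 5) 1 * Equiv.swap 2 3 ∈ alternatingGroup (Fin 5) := by
      rw [Equiv.Perm.mem_alternatingGroup]
      decide +kernel
    have h2 : Equiv.swap (0 : Fin 5) 1 * Equiv.swap 2 3 ∈ φ.ker := by
      have : (⟨_, h1⟩ : ↥(alternatingGroup (Fin 5))) ∈ φ.ker.subgroupOf _ := by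
        rw [hK]; exact Subgroup.mem_top _
      exact this
    rw [MonoidHom.mem_ker, map_mul, mul_eq_one_iff_eq_inv, ← map_inv, Equiv.swap_inv] at h2
    exact h h2

/-- The string case. -/
theorem five_of_string (hL : Loc D) {a b d g : G} (ha : a ∈ D) (hd : d ∈ Nb D a) (hg : g ∈ Nb D a)
    (hb : b ∈ Nb D g) (hne : d ≠ g) (hab : a ≠ b) (hbd : ¬ Commute b d) :
    Nonempty (↥(Subgroup.closure D) ≃* Equiv.Perm (Fin 5)) := by
  classical
  have hag : a ∈ Nb D g := nb_symm ha hg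
  obtain ⟨φ, e1, e2, e3, e4⟩ := exists_hom_five hL.tts ha hb.1 hd.1 hg.1
    (hL.not_commute hg.1 hag hb hab) hbd (hL.not_commute ha hd hg hne)
    hd.2.2 hg.2.2 hb.2.2.symm
  have hinj : Function.Injective φ := five_injective (by rw [e1, e3]; exact fun e => hd.2.1 e.symm)
  obtain ⟨f1, f2, f3, g0, g4, g7, g9⟩ := sw5_facts
  have hT : ∀ i, φ (sw5 i) ∈ D := by
    intro i
    obtain ⟨σ, hσ⟩ := f1 i
    rw [← hσ, map_mul, map_mul, map_inv, e1]
    exact hL.inv _ _ ha
  have hTne : ∀ i j, i ≠ j → φ (sw5 i) ≠ φ (sw5 j) := fun i j h e => h (f3 i j (hinj e))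
  -- the ten are closed under taking neighbours
  have hTnb : ∀ i, Nb D (φ (sw5 i)) ⊆ Set.range fun j => φ (sw5 j) := by
    intro i
    obtain ⟨j, k, l, hjk, hjl, hkl, hij, hik, hil, cj, ck, cl⟩ := f2 i
    have hm : ∀ m, i ≠ m → sw5 i * sw5 m = sw5 m * sw5 i → φ (sw5 m) ∈ Nb D (φ (sw5 i)) :=
      fun m hm hc => ⟨hT m, fun e => hTne i m hm e.symm, (Commute.map hc φ)⟩
    have hfin : (Nb D (φ (sw5 i))).Finite :=
      Set.finite_of_ncard_ne_zero (by rw [hL.ncard_eq (hT i)]; norm_num)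
    have heq : ({φ (sw5 j), φ (sw5 k), φ (sw5 l)} : Set G) = Nb D (φ (sw5 i)) := by
      refine Set.eq_of_subset_of_ncard_le (Set.insert_subset (hm j hij cj)
        (Set.insert_subset (hm k hik ck) (Set.singleton_subset_iff.2 (hm l hil cl)))) ?_ hfin
      rw [hL.ncard_eq (hT i), Set.ncard_eq_three.2 ⟨_, _, _, hTne j k hjk, hTne j l hjl,
        hTne k l hkl, rfl⟩]
    rw [← heq]
    rintro y (rfl | rfl | rfl) <;> exact ⟨_, rfl⟩
  -- and exhaust the set
  have hall : ∀ x ∈ D, x ∈ Set.range fun j => φ (sw5 j) := by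
    intro x hx
    by_contra hxT
    have hnc : ∀ i, ¬ Commute (φ (sw5 i)) x := fun i h =>
      hxT (hTnb i ⟨hx, fun e => hxT ⟨i, e.symm⟩, h⟩)
    let v : Equiv.Perm (Fin 5) → G := fun τ => φ τ * x * (φ τ)⁻¹
    have hstep : ∀ k l, k ≠ l → sw5 k * sw5 l = sw5 l * sw5 k → v (sw5 k * sw5 l) ∈ Nb D x := by
      intro k l hkl hc
      obtain ⟨ψ, hψ, p1, p2, p3⟩ := exists_sym4 hL.tts (hT k) hx (hT l) (hTne k l hkl)
        (Commute.map hc φ) (hnc k) (fun h => hnc l h.symm)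
      have hv : v (sw5 k * sw5 l) =
          ψ (Equiv.swap 0 1 * Equiv.swap 2 3 * Equiv.swap 1 2 *
            (Equiv.swap 0 1 * Equiv.swap 2 3)⁻¹) := by
        simp only [v, map_mul, map_inv, p1, p2, p3]
      have hmm : (Equiv.swap (0 : Fin 4) 1 * Equiv.swap 2 3 * Equiv.swap 1 2 *
          (Equiv.swap 0 1 * Equiv.swap 2 3)⁻¹) = Equiv.swap 0 3 := by decide +kernel
      refine ⟨hL.inv _ _ hx, ?_, ?_⟩
      · rw [hv, hmm, ← p2]
        exact fun e => (by decide +kernel : Equiv.swap (0 : Fin 4) 3 ≠ Equiv.swap 1 2) (hψ e)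
      · rw [hv, hmm, ← p2]
        exact Commute.map (show Commute (Equiv.swap (1 : Fin 4) 2) (Equiv.swap 0 3) from by
          show _ * _ = _ * _
          decide +kernel) ψ
    let H : Subgroup (Equiv.Perm (Fin 5)) := (Subgroup.centralizer {x}).comap φ
    have hH : ∀ σ ∈ H, σ * σ = 1 → σ = 1 := by
      intro σ hσ h2
      by_contra h1
      have hc : φ σ * x = x * φ σ := Subgroup.mem_centralizer_singleton_iff.1 hσ
      rcases invol_cases σ h2 h1 with ⟨i, rfl⟩ | ⟨i, j, hij, hcij, rfl⟩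
      · exact hnc i hc
      · refine (hstep i j hij hcij).2.1 ?_
        show φ _ * x * (φ _)⁻¹ = x
        rw [hc, mul_inv_cancel_right]
    have hv : ∀ σ τ, v σ = v τ → σ⁻¹ * τ ∈ H := by
      intro σ τ h
      refine Subgroup.mem_centralizer_singleton_iff.2 ?_
      have h' : φ σ * x * (φ σ)⁻¹ = φ τ * x * (φ τ)⁻¹ := h
      rw [map_mul, map_inv]
      calc (φ σ)⁻¹ * φ τ * x = (φ σ)⁻¹ * (φ τ * x * (φ τ)⁻¹) * φ τ := by group
        _ = x * ((φ σ)⁻¹ * φ τ) := by rw [← h']; group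
    obtain ⟨ht, hdc, ht', hdc', htij⟩ := tau_facts
    have hτnb : ∀ i, v (tau i) ∈ Nb D x := by
      intro i
      obtain ⟨k, l, hkl, hc, e⟩ := ht' i
      rw [e]; exact hstep k l hkl hc
    have hτinj : Function.Injective fun i => v (tau i) := by
      intro i j h
      by_contra hne'
      obtain ⟨hn1, hn2⟩ := htij i j hne'
      exact hn1 (hH _ (hv _ _ h) hn2)
    have hfin : (Nb D x).Finite := Set.finite_of_ncard_ne_zero (by rw [hL.ncard_eq hx]; norm_num)
    have hsurj : Set.range (fun i => v (tau i)) = Nb D x := by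
      refine Set.eq_of_subset_of_ncard_le (Set.range_subset_iff.2 hτnb) ?_ hfin
      rw [hL.ncard_eq hx, Set.ncard_range_of_injective hτinj, Nat.card_fin]
    have hdcmem : ∀ i, ∃ j, tau j * dc i ∈ H := by
      intro i
      obtain ⟨k, l, hkl, hc, e⟩ := hdc' i
      have hm : v (dc i) ∈ Nb D x := by rw [e]; exact hstep k l hkl hc
      rw [← hsurj] at hm
      obtain ⟨j, hj⟩ := hm
      refine ⟨j, ?_⟩
      have := hv _ _ hj
      rwa [inv_eq_of_mul_eq_one_left (ht j).1] at this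
    obtain ⟨i, hi⟩ := hdcmem 0
    obtain ⟨j, hj⟩ := hdcmem 1
    obtain ⟨p, q, r, hn1, hn2⟩ := word_invol i j
    have hw : ∀ p, wd (tau i * dc 0) (tau j * dc 1) p ∈ H := by
      intro p
      fin_cases p
      · exact one_mem H
      · exact hi
      · exact hj
      · exact inv_mem hi
      · exact inv_mem hj
    exact hn1 (hH _ (mul_mem (mul_mem (hw p) (hw q)) (hw r)) hn2)
  have hrange : Subgroup.closure D = φ.range := by
    refine le_antisymm ((Subgroup.closure_le _).2 fun x hx => ?_) ?_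
    · obtain ⟨j, rfl⟩ := hall x hx
      exact ⟨_, rfl⟩
    · rw [MonoidHom.range_eq_map, ← Equiv.Perm.closure_isSwap, MonoidHom.map_closure]
      refine Subgroup.closure_mono ?_
      rintro _ ⟨σ, ⟨u, w, huw, rfl⟩, rfl⟩
      obtain ⟨i, hi⟩ : ∃ i, Equiv.swap u w = sw5 i := by
        rcases invol_cases (Equiv.swap u w) (Equiv.swap_mul_self u w)
          (fun e => huw (Equiv.swap_eq_refl_iff.1 e)) with h | ⟨i, j, hij, -, e⟩
        · exact h
        · exfalso
          have h1 : Equiv.Perm.sign (Equiv.swap u w) = -1 := Equiv.Perm.sign_swap huw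
          have h2 : ∀ k, Equiv.Perm.sign (sw5 k) = -1 := by decide +kernel
          rw [e, map_mul, h2, h2] at h1
          exact absurd h1 (by decide)
      rw [hi]; exact hT i
  exact ⟨(MulEquiv.subgroupCongr hrange).trans (MonoidHom.ofInjective hinj).symm⟩

end Cfsg.Agent.TwoFusionB.Cubic
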