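import Cfsg.Agent.TwoFusionB.ExtensionLift
import Cfsg.Agent.KnownSimple58.F2Forms
import Cfsg.Agent.Class49.Extraspecial
import Cfsg.Prelude.Def_KGroupFacts

/-!
# The quadratic form of an extraspecial 2-group and its outer automorphisms
-/

set_option autoImplicit false

namespace Cfsg.Agent.TwoFusionB

open Subgroup
open scoped commutatorElement

variable {E : Type*} [Group E] [Finite E] (hE : Cfsg.IsExtraspecial 2 E)

/-- The indicator of a non-trivial element. -/
noncomputable def ind (x : E) : ZMod 2 := by classical exact if x = 1 then 0 else 1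

omit [Finite E] in
theorem ind_eq_zero {x : E} : ind x = 0 ↔ x = 1 := by
  unfold ind
  split <;> simp [*]

omit [Finite E] in
theorem ind_one : ind (1 : E) = 0 := ind_eq_zero.2 rfl

include hE

theorem cen_eq {a b : E} (ha : a ∈ center E) (hb : b ∈ center E) (ha1 : a ≠ 1) (hb1 : b ≠ 1) :
    a = b := by
  classical
  by_contra hne
  haveI := Fintype.ofFinite (center E)
  have h3 : ({1, ⟨a, ha⟩, ⟨b, hb⟩} : Finset (center E)).card = 3 := by
    rw [Finset.card_insert_of_notMem (by simp [Subtype.ext_iff, Ne.symm ha1, Ne.symm hb1]),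
      Finset.card_insert_of_notMem (by simp [Subtype.ext_iff, hne]), Finset.card_singleton]
  have h2 := Finset.card_le_univ ({1, ⟨a, ha⟩, ⟨b, hb⟩} : Finset (center E))
  rw [h3, ← Nat.card_eq_fintype_card, hE.2] at h2
  omega

theorem cen_sq {a : E} (ha : a ∈ center E) : a * a = 1 := by
  have := pow_card_eq_one' (G := center E) (x := ⟨a, ha⟩)
  rw [hE.2, pow_two] at this
  exact congrArg Subtype.val this

theorem ind_mul {a b : E} (ha : a ∈ center E) (hb : b ∈ center E) :
    ind (a * b) = ind a + ind b := by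
  classical
  by_cases ha1 : a = 1
  · rw [ha1, one_mul, ind_one, zero_add]
  by_cases hb1 : b = 1
  · rw [hb1, mul_one, ind_one, add_zero]
  rw [cen_eq hE ha hb ha1 hb1, cen_sq hE hb, ind_one]
  exact (CharTwo.add_self_eq_zero _).symm

theorem ind_inj {a b : E} (ha : a ∈ center E) (hb : b ∈ center E) (h : ind a = ind b) : a = b := by
  classical
  by_cases ha1 : a = 1
  · rw [ha1, ind_one] at h
    rw [ha1, ind_eq_zero.1 h.symm]
  by_cases hb1 : b = 1
  · rw [hb1, ind_one] at h
    exact absurd (ind_eq_zero.1 h) ha1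
  exact cen_eq hE ha hb ha1 hb1

theorem sq_mem (x : E) : x * x ∈ center E := by
  have := Cfsg.Agent.Class49.exSp_sq_mem_center hE x
  rwa [pow_two] at this

theorem comm_mem (x y : E) : ⁅x, y⁆ ∈ center E := by
  rw [← hE.1.2.2]
  exact commutator_mem_commutator (mem_top _) (mem_top _)

theorem sq_mul (x y : E) : x * y * (x * y) = x * x * (y * y) * ⁅y, x⁆ := by
  have hc := mem_center_iff.1 (comm_mem hE y x)
  have hyy := mem_center_iff.1 (sq_mem hE y)
  calc x * y * (x * y) = x * (⁅y, x⁆ * x * y) * y := by rw [commutatorElement_def]; group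
    _ = x * (x * ⁅y, x⁆) * y * y := by rw [hc x]; group
    _ = x * x * (⁅y, x⁆ * (y * y)) := by group
    _ = _ := by rw [← hc (y * y)]; group

theorem sq_of_quot {x y : E} (h : (x : E ⧸ center E) = (y : E ⧸ center E)) : x * x = y * y := by
  have hc : x⁻¹ * y ∈ center E := QuotientGroup.eq.1 h
  have e : y = x * (x⁻¹ * y) := (mul_inv_cancel_left x y).symm
  rw [e, sq_mul hE, cen_sq hE hc, mul_one,
    commutatorElement_eq_one_iff_mul_comm.2 (mem_center_iff.1 hc x).symm, mul_one]

omit [Finite E] hE in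
/-- Coordinates turning squaring into a quadratic form. -/
structure XCoords {ι : Type} (f : (ι → ZMod 2) → ZMod 2) (c : E → ι → ZMod 2) : Prop where
  add : ∀ x y, c (x * y) = c x + c y
  surj : ∀ v, ∃ x, c x = v
  ker : ∀ x, c x = 0 ↔ x ∈ center E
  sq : ∀ x, f (c x) = ind (x * x)

/-- The quadratic form of `E ⧸ Z(E)`, brought to normal form. -/
theorem exists_coords {n : ℕ} (hn : 1 ≤ n) (hcard : Nat.card E = 2 ^ (2 * n + 1)) :
    (∃ c : E → Fin n ⊕ Fin n → ZMod 2, XCoords (Cfsg.quadFormPlus n (ZMod 2)) c) ∨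
    (∃ c : E → (Fin (n - 1) ⊕ Fin (n - 1)) ⊕ Fin 2 → ZMod 2,
      XCoords (Cfsg.quadFormMinus (n - 1) (ZMod 2) 1 1) c) := by
  classical
  let Z := center E
  have hexp : ∀ a : E ⧸ Z, a * a = 1 := fun a => by
    induction a using QuotientGroup.induction_on with | _ a => ?_
    rw [← QuotientGroup.mk_mul, QuotientGroup.eq_one_iff]
    exact sq_mem hE a
  have hcom : ∀ a b : E ⧸ Z, a * b = b * a := fun a b => by
    have hinv : ∀ v : E ⧸ Z, v⁻¹ = v := fun v => inv_eq_of_mul_eq_one_left (hexp v)
    rw [← hinv (a * b), mul_inv_rev, hinv, hinv]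
  let _ : CommGroup (E ⧸ Z) := { (inferInstance : Group (E ⧸ Z)) with mul_comm := hcom }
  let _ : Module (ZMod 2) (Additive (E ⧸ Z)) := AddCommGroup.zmodModule fun v => by
    apply Additive.toMul.injective
    show (Additive.toMul v) ^ 2 = 1
    rw [pow_two]
    exact hexp _
  let V := Additive (E ⧸ Z)
  let c : E → V := fun x => Additive.ofMul (x : E ⧸ Z)
  have cadd : ∀ x y, c (x * y) = c x + c y := fun x y => rfl
  have csurj : ∀ v : V, ∃ x, c x = v := fun v => by
    obtain ⟨x, hx⟩ := QuotientGroup.mk_surjective (Additive.toMul v)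
    exact ⟨x, congrArg Additive.ofMul hx⟩
  have cker : ∀ x, c x = 0 ↔ x ∈ Z := fun x => QuotientGroup.eq_one_iff x
  let q : V → ZMod 2 := fun v => ind ((Additive.toMul v).out * (Additive.toMul v).out)
  have hq : ∀ x, q (c x) = ind (x * x) := fun x =>
    congrArg ind (sq_of_quot hE (QuotientGroup.out_eq' _))
  have hB : ∀ x y, QuadraticMap.polar q (c x) (c y) = ind ⁅y, x⁆ := by
    intro x y
    rw [QuadraticMap.polar, ← cadd, hq, hq, hq, sq_mul hE,
      ind_mul hE (mul_mem (sq_mem hE x) (sq_mem hE y)) (comm_mem hE y x),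
      ind_mul hE (sq_mem hE x) (sq_mem hE y)]
    abel
  have hBl : ∀ u u' v : V, QuadraticMap.polar q (u + u') v =
      QuadraticMap.polar q u v + QuadraticMap.polar q u' v := by
    intro u u' v
    obtain ⟨x, rfl⟩ := csurj u
    obtain ⟨x', rfl⟩ := csurj u'
    obtain ⟨y, rfl⟩ := csurj v
    rw [← cadd, hB, hB, hB, ← ind_mul hE (comm_mem hE y x) (comm_mem hE y x')]
    congr 1
    have e : ⁅y, x * x'⁆ = ⁅y, x⁆ * (x * ⁅y, x'⁆ * x⁻¹) := by
      simp only [commutatorElement_def]; group
    rw [e, mem_center_iff.1 (comm_mem hE y x') x, mul_inv_cancel_right]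
  have h01 : ∀ a : ZMod 2, a = 0 ∨ a = 1 := by decide
  have hq0 : q 0 = 0 := by
    have := hq 1
    rwa [(cker 1).2 (one_mem _), one_mul, ind_one] at this
  have hB0 : ∀ v, QuadraticMap.polar q 0 v = 0 := fun v => by
    rw [QuadraticMap.polar, zero_add, hq0]; abel
  let Q : QuadraticForm (ZMod 2) V := QuadraticMap.ofPolar q
    (fun a v => by
      rcases h01 a with rfl | rfl
      · rw [zero_smul, hq0, mul_zero, zero_smul]
      · rw [one_smul, one_mul, one_smul])
    hBl
    (fun a u v => by
      rcases h01 a with rfl | rfl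
      · rw [zero_smul, hB0, zero_smul]
      · rw [one_smul, one_smul])
  have hker : ∀ x, (∀ y, ind ⁅y, x⁆ = 0) → c x = 0 := fun x hx => (cker x).2
    (mem_center_iff.2 fun g => commutatorElement_eq_one_iff_mul_comm.1 (ind_eq_zero.1 (hx g)))
  have hnd : (QuadraticMap.polarBilin Q).Nondegenerate := by
    constructor
    · intro u hu
      obtain ⟨x, rfl⟩ := csurj u
      exact hker x fun y => by rw [← hB]; exact hu (c y)
    · intro v hv
      obtain ⟨x, rfl⟩ := csurj v
      exact hker x fun y => by rw [← hB, QuadraticMap.polar_comm]; exact hv (c y)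
  have hVc : Nat.card V = 2 ^ (2 * n) := by
    show Nat.card (E ⧸ Z) = _
    have := Z.card_eq_card_quotient_mul_card_subgroup
    rw [hcard, hE.2, pow_succ] at this
    exact (Nat.eq_of_mul_eq_mul_right (by norm_num) this).symm
  have hfr : Module.finrank (ZMod 2) V = 2 * n := by
    have := Module.natCard_eq_pow_finrank (K := ZMod 2) (V := V)
    rw [hVc, Nat.card_zmod] at this
    exact Nat.pow_right_injective (le_refl 2) this.symm
  rcases KS58.F2.classify Q hnd hfr with ⟨e, he⟩ | ⟨-, e, he⟩
  · refine Or.inl ⟨fun x => e (c x), fun x y => by show e _ = e _ + e _; rw [cadd, map_add],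
      fun v => ?_, fun x => ?_, fun x => (he (c x)).symm.trans (hq x)⟩
    · obtain ⟨x, hx⟩ := csurj (e.symm v)
      exact ⟨x, by show e (c x) = v; rw [hx, e.apply_symm_apply]⟩
    · rw [← cker, LinearEquiv.map_eq_zero_iff]
  · refine Or.inr ⟨fun x => e (c x), fun x y => by show e _ = e _ + e _; rw [cadd, map_add],
      fun v => ?_, fun x => ?_, fun x => (he (c x)).symm.trans (hq x)⟩
    · obtain ⟨x, hx⟩ := csurj (e.symm v)
      exact ⟨x, by show e (c x) = v; rw [hx, e.apply_symm_apply]⟩
    · rw [← cker, LinearEquiv.map_eq_zero_iff]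

variable {ι : Type} [Fintype ι] [DecidableEq ι] {f : (ι → ZMod 2) → ZMod 2} {c : E → ι → ZMod 2}

omit hE [Finite E] [Fintype ι] [DecidableEq ι] in
theorem XCoords.inv (h : XCoords f c) (x : E) : c x⁻¹ = c x := by
  have h1 := h.add x x⁻¹
  rw [mul_inv_cancel, (h.ker 1).2 (one_mem _)] at h1
  funext i
  have h2 := congrFun h1 i
  simp only [Pi.add_apply, Pi.zero_apply] at h2
  exact (CharTwo.add_eq_zero.1 h2.symm).symm

omit hE [Finite E] [Fintype ι] [DecidableEq ι] in
theorem XCoords.eq_iff (h : XCoords f c) {x y : E} : c x = c y ↔ x⁻¹ * y ∈ center E := by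
  rw [← h.ker, h.add, h.inv]
  constructor
  · intro e; rw [e]; funext i; exact CharTwo.add_self_eq_zero _
  · intro e; funext i; exact CharTwo.add_eq_zero.1 (congrFun e i)

/-- The outer automorphism group is the isometry group. -/
theorem out_equiv (h : XCoords f c) :
    Nonempty (Cfsg.Out E ≃* Cfsg.isometryGroup (ZMod 2) f) := by
  classical
  choose s hs using h.surj
  have hzg : ∃ z ∈ center E, z ≠ 1 := by
    by_contra! hall
    have : Subsingleton (center E) := ⟨fun a b => Subtype.ext ((hall a a.2).trans (hall b b.2).symm)⟩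
    have := Finite.card_le_one_iff_subsingleton.2 this
    rw [hE.2] at this
    omega
  obtain ⟨z, hz, hz1⟩ := hzg
  have hφc : ∀ (φ : MulAut E) {x}, x ∈ center E → φ x ∈ center E := fun φ x hx => by
    rw [mem_center_iff] at hx ⊢
    intro g
    obtain ⟨g, rfl⟩ := φ.surjective g
    rw [← map_mul, ← map_mul, hx g]
  have hrep : ∀ (φ : MulAut E) x, c (φ x) = c (φ (s (c x))) := fun φ x => by
    rw [h.eq_iff, ← map_inv, ← map_mul]
    exact hφc φ (h.eq_iff.1 (hs (c x)).symm)
  let g : MulAut E → ((ι → ZMod 2) →ₗ[ZMod 2] (ι → ZMod 2)) := fun φ =>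
    (AddMonoidHom.mk' (fun v => c (φ (s v))) fun u v => by
      rw [← h.add, ← map_mul, hrep φ (s u * s v), h.add, hs, hs]).toZModLinearMap 2
  have hg : ∀ φ x, g φ (c x) = c (φ x) := fun φ x => (hrep φ x).symm
  let M : MulAut E →* Matrix ι ι (ZMod 2) :=
    { toFun := fun φ => LinearMap.toMatrix' (g φ)
      map_one' := by
        rw [show g 1 = LinearMap.id from LinearMap.ext fun v => by
          obtain ⟨x, rfl⟩ := h.surj v; rw [hg]; rfl]
        exact LinearMap.toMatrix'_id
      map_mul' := fun φ ψ => by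
        rw [← LinearMap.toMatrix'_comp]
        congr 1
        refine LinearMap.ext fun v => ?_
        obtain ⟨x, rfl⟩ := h.surj v
        rw [LinearMap.comp_apply, hg, hg, hg]
        rfl }
  have hMv : ∀ φ x, Matrix.mulVec (M φ) (c x) = c (φ x) := fun φ x => by
    show Matrix.mulVec (LinearMap.toMatrix' (g φ)) (c x) = _
    rw [LinearMap.toMatrix'_mulVec, hg]
  have hmem : ∀ φ, M.toHomUnits φ ∈ Cfsg.isometryGroup (ZMod 2) f := fun φ u v => by
    show f (Matrix.mulVec (M φ) u) = f u
    obtain ⟨x, rfl⟩ := h.surj u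
    rw [hMv, h.sq, h.sq, ← map_mul]
    by_cases hx : x * x = 1
    · rw [hx, map_one]
    · congr 1
      exact cen_eq hE (hφc φ (sq_mem hE x)) (sq_mem hE x) (fun e => hx (φ.injective (e.trans (map_one φ).symm))) hx
  let Ψ : MulAut E →* Cfsg.isometryGroup (ZMod 2) f := M.toHomUnits.codRestrict _ hmem
  have hkerΨ : ∀ φ, φ ∈ Ψ.ker ↔ ∀ x, c (φ x) = c x := fun φ => by
    constructor
    · intro hφ x
      have e : M φ = 1 := congrArg (fun u : Cfsg.isometryGroup (ZMod 2) f => (u.1 : Matrix ι ι (ZMod 2))) hφ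
      rw [← hMv, e, Matrix.one_mulVec]
    · intro hφ
      apply Subtype.ext
      apply Units.ext
      show LinearMap.toMatrix' (g φ) = 1
      rw [show g φ = LinearMap.id from LinearMap.ext fun v => by
          obtain ⟨x, rfl⟩ := h.surj v; rw [hg, hφ]; rfl]
      exact LinearMap.toMatrix'_id
  have hInn : Cfsg.Inn E ≤ Ψ.ker := by
    rintro _ ⟨a, rfl⟩
    rw [hkerΨ]
    intro x
    rw [MulAut.conj_apply, h.add, h.add, h.inv, add_comm (c a), add_assoc,
      show c a + c a = 0 from funext fun i => CharTwo.add_self_eq_zero _, add_zero]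
  have hcardInn : Nat.card (Cfsg.Inn E) = Nat.card (ι → ZMod 2) := by
    have hk : (MulAut.conj : E →* MulAut E).ker = center E := by
      ext x
      rw [MonoidHom.mem_ker, mem_center_iff]
      constructor
      · intro e g
        have := congrArg (fun a : MulAut E => a g) e
        simp only [MulAut.conj_apply, MulAut.one_apply] at this
        exact (mul_inv_eq_iff_eq_mul.1 this).symm
      · intro e
        ext g
        rw [MulAut.conj_apply, MulAut.one_apply, ← e g, mul_inv_cancel_right]
    show Nat.card (MulAut.conj : E →* MulAut E).range = _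
    rw [← index_ker, hk, index_eq_card]
    refine Nat.card_eq_of_bijective (fun a : E ⧸ center E => c a.out) ⟨fun a b e => ?_, fun v => ?_⟩
    · rw [← QuotientGroup.out_eq' a, ← QuotientGroup.out_eq' b]
      exact QuotientGroup.eq.2 (h.eq_iff.1 e)
    · refine ⟨(s v : E ⧸ center E), ?_⟩
      show c _ = v
      rw [← hs v]
      refine h.eq_iff.2 (QuotientGroup.eq.1 ?_)
      rw [QuotientGroup.out_eq', hs v]
  have hcardK : Nat.card Ψ.ker ≤ Nat.card (ι → ZMod 2) := by
    let d : Ψ.ker → ι → ZMod 2 := fun φ i =>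
      ind ((s (Pi.single i 1))⁻¹ * (φ : MulAut E) (s (Pi.single i 1)))
    refine Nat.card_le_card_of_injective d fun φ ψ e => Subtype.ext ?_
    let S : Subgroup E := (φ : MulAut E).toMonoidHom.eqLocus (ψ : MulAut E).toMonoidHom
    have hk : ∀ (χ : Ψ.ker) x, x⁻¹ * (χ : MulAut E) x ∈ center E := fun χ x =>
      h.eq_iff.1 ((hkerΨ _).1 χ.2 x).symm
    have hzS : ∀ x ∈ center E, x ∈ S := by
      intro x hx
      show (φ : MulAut E) x = (ψ : MulAut E) x
      by_cases hx1 : x = 1
      · rw [hx1, map_one, map_one]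
      · exact cen_eq hE (hφc _ hx) (hφc _ hx) (by simpa using hx1) (by simpa using hx1)
    have hgen : ∀ i, s (Pi.single i 1) ∈ S := fun i =>
      (mul_left_cancel (ind_inj hE (hk φ _) (hk ψ _) (congrFun e i)) : _)
    let W : AddSubgroup (ι → ZMod 2) :=
      { carrier := {v | s v ∈ S}
        zero_mem' := hzS _ ((h.ker _).1 (hs 0))
        add_mem' := fun {a b} ha hb => by
          have hc : (s a * s b)⁻¹ * s (a + b) ∈ center E := h.eq_iff.1 (by rw [h.add, hs, hs, hs])
          have := mul_mem (mul_mem ha hb) (hzS _ hc)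
          rwa [mul_inv_cancel_left] at this
        neg_mem' := fun {a} ha => by
          have : -a = a := funext fun i => CharTwo.neg_eq _
          show s (-a) ∈ S
          rw [this]
          exact ha }
    have hall : ∀ v, v ∈ W := by
      intro v
      rw [← Finset.univ_sum_single v]
      refine sum_mem fun i _ => ?_
      rcases (by decide : ∀ a : ZMod 2, a = 0 ∨ a = 1) (v i) with e' | e' <;> rw [e']
      · rw [Pi.single_zero]; exact zero_mem _
      · exact hgen i
    ext x
    have := mul_mem (show s (c x) ∈ S from hall (c x)) (hzS _ (h.eq_iff.1 (hs (c x))))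
    rwa [mul_inv_cancel_left] at this
  have hker : Cfsg.Inn E = Ψ.ker := eq_of_le_of_card_ge hInn (hcardInn ▸ hcardK)
  have hsurj : Function.Surjective Ψ := by
    intro γ
    let γv : (ι → ZMod 2) → (ι → ZMod 2) := fun v => Matrix.mulVec (γ.1 : Matrix ι ι (ZMod 2)) v
    have hγ : ∀ v, f (γv v) = f v := fun v => γ.2 v v
    let eP : ZMod 2 → E := fun w => if w = 0 then 1 else z
    have hePadd : ∀ v w, eP (v + w) = eP v * eP w := by
      intro v w
      rcases (by decide : ∀ a : ZMod 2, a = 0 ∨ a = 1) v with rfl | rfl <;>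
        rcases (by decide : ∀ a : ZMod 2, a = 0 ∨ a = 1) w with rfl | rfl <;>
        simp [eP, show (1 : ZMod 2) + 1 = 0 by decide, cen_sq hE hz]
    have hind : ∀ x ∈ center E, eP (ind x) = x := by
      intro x hx
      by_cases hx1 : x = 1
      · simp [eP, hx1, ind_one]
      · simp [eP, ind_eq_zero, hx1, cen_eq hE hz hx hz1 hx1]
    have hePc : ∀ w g, g * eP w = eP w * g := by
      intro w g
      rcases (by decide : ∀ a : ZMod 2, a = 0 ∨ a = 1) w with rfl | rfl <;>
        simp [eP, mem_center_iff.1 hz g]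
    have hkerc : ∀ (a : E), c a = 0 ↔ ∃ w, eP w = a := fun a => by
      rw [h.ker]
      refine ⟨fun ha => ⟨ind a, hind a ha⟩, ?_⟩
      rintro ⟨w, rfl⟩
      rcases (by decide : ∀ a : ZMod 2, a = 0 ∨ a = 1) w with rfl | rfl <;> simp [eP, hz, one_mem]
    have hinjv : Function.Injective γv := Matrix.mulVec_injective_of_isUnit γ.1.isUnit
    have hinje : Function.Injective eP := by
      intro v w e
      rcases (by decide : ∀ a : ZMod 2, a = 0 ∨ a = 1) v with rfl | rfl <;>
        rcases (by decide : ∀ a : ZMod 2, a = 0 ∨ a = 1) w with rfl | rfl <;>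
        simp [eP, hz1, Ne.symm hz1] at e ⊢
    obtain ⟨φ, hφ⟩ := exists_lift_of_same_squares (fun x => γv (c x)) c eP eP
      (fun x y => by show γv _ = _; rw [h.add]; exact Matrix.mulVec_add _ _ _)
      h.add
      (fun v => by
        obtain ⟨u, hu⟩ := (Finite.injective_iff_surjective.1 hinjv) v
        exact ⟨s u, by show γv (c (s u)) = v; rw [hs, hu]⟩)
      h.surj
      (fun x => by
        rw [← hkerc]
        exact ⟨fun e => hinjv (e.trans (Matrix.mulVec_zero _).symm),
          fun e => by show γv (c x) = 0; rw [e]; exact Matrix.mulVec_zero _⟩)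
      hkerc hePadd hePadd hinje hinje hePc hePc f
      (fun x => by
        show x * x = eP (f (γv (c x)))
        rw [hγ, h.sq, hind _ (sq_mem hE x)])
      (fun x => by rw [h.sq, hind _ (sq_mem hE x)])
    refine ⟨φ, Subtype.ext (Units.ext ?_)⟩
    apply Matrix.ext_iff_mulVec.2
    intro v
    obtain ⟨x, rfl⟩ := h.surj v
    exact (hMv φ x).trans (hφ x)
  exact ⟨(QuotientGroup.quotientMulEquivOfEq hker).trans
    (QuotientGroup.quotientKerEquivOfSurjective Ψ hsurj)⟩

end Cfsg.Agent.TwoFusionB
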