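import Cfsg.Agent.Lib.FischerSpace.Sym4

/-!
Sets of 3-transpositions in which the members commuting with a given one generate `S₃`:
the local structure.
-/

set_option autoImplicit false
set_option linter.all false

namespace Cfsg.Agent.TwoFusionB.Cubic

open Cfsg.Agent.FischerSpace

variable {G : Type*} [Group G] {D : Set G}

/-- The other members commuting with `d`. -/
def Nb (D : Set G) (d : G) : Set G := {y | y ∈ D ∧ y ≠ d ∧ Commute d y}

/-- The standing hypotheses. -/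
structure Loc (D : Set G) : Prop where
  tts : Cfsg.IsThreeTranspositionSet D
  inv : Invariant D
  s3 : ∀ d ∈ D, Nonempty (↥(Subgroup.closure (Nb D d)) ≃* Equiv.Perm (Fin 3))

theorem nb_symm {d y : G} (hd : d ∈ D) (h : y ∈ Nb D d) : d ∈ Nb D y :=
  ⟨hd, h.2.1.symm, h.2.2.symm⟩

theorem conj_nb (hc : Invariant D) (z : G) {d y : G} (h : y ∈ Nb D d) :
    z * y * z⁻¹ ∈ Nb D (z * d * z⁻¹) :=
  ⟨hc z y h.1, fun e => h.2.1 (mul_left_cancel (mul_right_cancel e)), (commute_conj_iff z d y).2 h.2.2⟩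

theorem conj_image_nb (hc : Invariant D) (z d : G) :
    (fun y => z * y * z⁻¹) '' Nb D d = Nb D (z * d * z⁻¹) := by
  refine Set.Subset.antisymm ?_ fun y hy => ⟨z⁻¹ * y * z, ?_, by group⟩
  · rintro _ ⟨y, hy, rfl⟩
    exact conj_nb hc z hy
  · have := conj_nb hc z⁻¹ hy
    simpa [mul_assoc] using this

set_option synthInstance.maxSize 5000 in
set_option synthInstance.maxHeartbeats 200000 in
theorem p3_two : ∀ σ τ : Equiv.Perm (Fin 3), σ * σ = 1 → σ ≠ 1 → τ * τ = 1 → τ ≠ 1 →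
    σ ≠ τ → σ * τ ≠ τ * σ ∧ σ * τ * σ ≠ σ ∧ σ * τ * σ ≠ τ ∧
      ∀ ρ : Equiv.Perm (Fin 3), ρ * ρ = 1 → ρ ≠ 1 → ρ = σ ∨ ρ = τ ∨ ρ = σ * τ * σ := by
  decide +kernel

variable (hL : Loc D)
include hL

/-- Three pairwise non-commuting neighbours. -/
theorem Loc.three {d : G} (hd : d ∈ D) : ∃ a b, a ∈ Nb D d ∧ b ∈ Nb D d ∧ a ≠ b := by
  classical
  obtain ⟨φ⟩ := hL.s3 d hd
  by_contra hne
  push Not at hne
  rcases Set.eq_empty_or_nonempty (Nb D d) with h | ⟨a, ha⟩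
  · have h1 : Nat.card ↥(Subgroup.closure (Nb D d)) = 6 := by
      rw [Nat.card_congr φ.toEquiv]; simp [Fintype.card_perm]; rfl
    rw [h, Subgroup.closure_empty, Subgroup.card_bot] at h1
    omega
  · have h1 : Nat.card ↥(Subgroup.closure (Nb D d)) = 6 := by
      rw [Nat.card_congr φ.toEquiv]; simp [Fintype.card_perm]; rfl
    have h2 : Nb D d = {a} := Set.eq_singleton_iff_unique_mem.2 ⟨ha, fun b hb => hne b a hb ha⟩
    rw [h2, ← Subgroup.zpowers_eq_closure, Nat.card_zpowers, hL.tts.1 a ha.1] at h1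
    omega

theorem Loc.nb_facts {d a b : G} (hd : d ∈ D) (ha : a ∈ Nb D d) (hb : b ∈ Nb D d) (hab : a ≠ b) :
    ¬ Commute a b ∧ a * b * a ∈ Nb D d ∧ a * b * a ≠ a ∧ a * b * a ≠ b ∧
      Nb D d = {a, b, a * b * a} := by
  obtain ⟨φ⟩ := hL.s3 d hd
  let ι : ∀ y, y ∈ Nb D d → Equiv.Perm (Fin 3) := fun y hy => φ ⟨y, Subgroup.subset_closure hy⟩
  have hi : ∀ y (hy : y ∈ Nb D d), ι y hy * ι y hy = 1 ∧ ι y hy ≠ 1 := by
    intro y hy
    constructor
    · show φ _ * φ _ = 1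
      rw [← map_mul, show (⟨y, Subgroup.subset_closure hy⟩ : ↥(Subgroup.closure (Nb D d))) *
        ⟨y, Subgroup.subset_closure hy⟩ = 1 from Subtype.ext (mul_self hL.tts hy.1), map_one]
    · intro e
      exact ne_one hL.tts hy.1 (congrArg Subtype.val (φ.injective (e.trans (map_one φ).symm)))
  have hne : ∀ y z (hy : y ∈ Nb D d) (hz : z ∈ Nb D d), ι y hy = ι z hz → y = z :=
    fun y z hy hz e => congrArg Subtype.val (φ.injective e)
  obtain ⟨h1, h2, h3, h4⟩ := p3_two _ _ (hi a ha).1 (hi a ha).2 (hi b hb).1 (hi b hb).2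
    fun e => hab (hne a b ha hb e)
  have hai : a⁻¹ = a := inv_eq hL.tts ha.1
  have hc : a * b * a ∈ Nb D d := by
    have hD' : a * b * a⁻¹ ∈ D := hL.inv a b hb.1
    have hfix : a * d * a⁻¹ = d := by rw [← ha.2.2.eq, mul_inv_cancel_right]
    have := conj_nb hL.inv a hb
    rwa [hfix, hai] at this
  have hιc : ι _ hc = ι a ha * ι b hb * ι a ha := by
    show φ _ = φ _ * φ _ * φ _
    rw [← map_mul, ← map_mul]
    rfl
  refine ⟨fun h => h1 ?_, hc, fun e => h2 ?_, fun e => h3 ?_, ?_⟩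
  · show φ _ * φ _ = φ _ * φ _
    rw [← map_mul, ← map_mul]
    exact congrArg φ (Subtype.ext h.eq)
  · rw [← hιc]; exact congrArg φ (Subtype.ext e)
  · rw [← hιc]; exact congrArg φ (Subtype.ext e)
  · ext y
    simp only [Set.mem_insert_iff, Set.mem_singleton_iff]
    refine ⟨fun hy => ?_, ?_⟩
    · rcases h4 _ (hi y hy).1 (hi y hy).2 with e | e | e
      · exact Or.inl (hne y a hy ha e)
      · exact Or.inr (Or.inl (hne y b hy hb e))
      · exact Or.inr (Or.inr (hne y _ hy hc (e.trans hιc.symm)))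
    · rintro (rfl | rfl | rfl)
      exacts [ha, hb, hc]

theorem Loc.not_commute {d a b : G} (hd : d ∈ D) (ha : a ∈ Nb D d) (hb : b ∈ Nb D d)
    (hab : a ≠ b) : ¬ Commute a b := (hL.nb_facts hd ha hb hab).1

theorem Loc.ncard_eq {d : G} (hd : d ∈ D) : (Nb D d).ncard = 3 := by
  obtain ⟨a, b, ha, hb, hab⟩ := hL.three hd
  obtain ⟨-, -, h1, h2, h⟩ := hL.nb_facts hd ha hb hab
  rw [h]
  exact Set.ncard_eq_three.2 ⟨a, b, _, hab, h1.symm, h2.symm, rfl⟩

theorem Loc.eq_of_two {d g a b : G} (hd : d ∈ D) (hg : g ∈ D) (ha : a ∈ Nb D d) (hb : b ∈ Nb D d)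
    (hab : a ≠ b) (ha' : a ∈ Nb D g) (hb' : b ∈ Nb D g) : Nb D d = Nb D g :=
  (hL.nb_facts hd ha hb hab).2.2.2.2.trans (hL.nb_facts hg ha' hb' hab).2.2.2.2.symm

/-- Either all second neighbours are twins or there is a string of four. -/
theorem Loc.twins_or_string :
    (∀ a ∈ D, ∀ d ∈ Nb D a, ∀ g ∈ Nb D a, Nb D g = Nb D d) ∨
      ∃ a d g b, a ∈ D ∧ d ∈ Nb D a ∧ g ∈ Nb D a ∧ b ∈ Nb D g ∧ d ≠ g ∧ a ≠ b ∧
        ¬ Commute b d := by
  by_cases h : ∃ a d g b, a ∈ D ∧ d ∈ Nb D a ∧ g ∈ Nb D a ∧ b ∈ Nb D g ∧ d ≠ g ∧ a ≠ b ∧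
      ¬ Commute b d
  · exact Or.inr h
  left
  push Not at h
  have key : ∀ a ∈ D, ∀ d ∈ Nb D a, ∀ g ∈ Nb D a, Nb D g ⊆ Nb D d := by
    intro a ha d hd g hg b hb
    by_cases hdg : d = g
    · rw [hdg]; exact hb
    by_cases hab : a = b
    · exact hab ▸ nb_symm ha hd
    refine ⟨hb.1, ?_, (h a d g b ha hd hg hb hdg hab).symm⟩
    rintro rfl
    exact hL.not_commute ha hd hg hdg hb.2.2.symm
  exact fun a ha d hd g hg => Set.Subset.antisymm (key a ha d hd g hg) (key a ha g hg d hd)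

end Cfsg.Agent.TwoFusionB.Cubic
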