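import Cfsg.Agent.TwoFusionB.CubicLocal

/-!
Sets of 3-transpositions with local groups `S₃` in which second neighbours are twins.
-/

set_option autoImplicit false
set_option linter.all false

namespace Cfsg.Agent.TwoFusionB.Cubic

open Cfsg.Agent.FischerSpace

variable {G : Type*} [Group G] {D : Set G}

/-- Second neighbours have equal neighbourhoods. -/
def Twins (D : Set G) : Prop := ∀ a ∈ D, ∀ d ∈ Nb D a, ∀ g ∈ Nb D a, Nb D g = Nb D d

theorem invariant_closure_conj (hc : Invariant D) (z : G) {S : Set G}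
    (h : ∀ y ∈ S, z * y * z⁻¹ ∈ S) {x : G} (hx : x ∈ Subgroup.closure S) :
    z * x * z⁻¹ ∈ Subgroup.closure S := by
  induction hx using Subgroup.closure_induction with
  | mem y hy => exact Subgroup.subset_closure (h y hy)
  | one => simp
  | mul a b _ _ iha ihb =>
    have : z * (a * b) * z⁻¹ = z * a * z⁻¹ * (z * b * z⁻¹) := by group
    rw [this]; exact mul_mem iha ihb
  | inv a _ iha =>
    have : z * a⁻¹ * z⁻¹ = (z * a * z⁻¹)⁻¹ := by group
    rw [this]; exact inv_mem iha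

/-- A subgroup generated by commuting elements of order dividing three. -/
theorem closure_three {S : Set G} (hcomm : ∀ x ∈ S, ∀ y ∈ S, Commute x y)
    (h3 : ∀ x ∈ S, x ^ 3 = 1) :
    (∀ x ∈ Subgroup.closure S, ∀ y ∈ Subgroup.closure S, Commute x y) ∧
      ∀ x ∈ Subgroup.closure S, x ^ 3 = 1 := by
  have hc : ∀ x ∈ Subgroup.closure S, ∀ y ∈ Subgroup.closure S, Commute x y := by
    intro x hx
    induction hx using Subgroup.closure_induction with
    | mem a ha =>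
      intro y hy
      induction hy using Subgroup.closure_induction with
      | mem b hb => exact hcomm a ha b hb
      | one => exact Commute.one_right _
      | mul _ _ _ _ i1 i2 => exact i1.mul_right i2
      | inv _ _ i1 => exact i1.inv_right
    | one => exact fun _ _ => Commute.one_left _
    | mul _ _ _ _ i1 i2 => exact fun y hy => (i1 y hy).mul_left (i2 y hy)
    | inv _ _ i1 => exact fun y hy => (i1 y hy).inv_left
  refine ⟨hc, fun x hx => ?_⟩
  induction hx using Subgroup.closure_induction with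
  | mem a ha => exact h3 a ha
  | one => exact one_pow 3
  | mul a b ha hb i1 i2 => rw [(hc a ha b hb).mul_pow, i1, i2, one_mul]
  | inv a _ i1 => rw [inv_pow, i1, inv_one]

/-- The products of pairs. -/
def Rot (D : Set G) : Set G := {z | ∃ d ∈ D, ∃ x ∈ Nb D d, ∃ y ∈ Nb D d, z = x * y}

/-- The products of pairs at one point. -/
def RotAt (D : Set G) (d : G) : Set G := {z | ∃ x ∈ Nb D d, ∃ y ∈ Nb D d, z = x * y}

variable (hL : Loc D) (hT : Twins D)
include hL

theorem Loc.pow_three {d x y : G} (hd : d ∈ D) (hx : x ∈ Nb D d) (hy : y ∈ Nb D d) :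
    (x * y) ^ 3 = 1 := by
  by_cases e : x = y
  · rw [e, mul_self hL.tts hy.1, one_pow]
  · exact cube_eq_one hL.tts hx.1 hy.1 (hL.not_commute hd hx hy e)

theorem Loc.rot_pow {z : G} (hz : z ∈ Rot D) : z ^ 3 = 1 := by
  obtain ⟨d, hd, x, hx, y, hy, rfl⟩ := hz
  exact hL.pow_three hd hx hy

theorem Loc.rot_conj (g : G) {z : G} (hz : z ∈ Rot D) : g * z * g⁻¹ ∈ Rot D := by
  obtain ⟨d, hd, x, hx, y, hy, rfl⟩ := hz
  exact ⟨_, hL.inv g d hd, _, conj_nb hL.inv g hx, _, conj_nb hL.inv g hy, by group⟩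

omit hL in
theorem perm_three : ∀ π : Equiv.Perm (Fin 3), π ^ 3 = 1 → ∀ i j : Fin 3,
    (![Equiv.swap 0 1, Equiv.swap 0 2, Equiv.swap 1 2] (π i) : Equiv.Perm (Fin 3)) *
        ![Equiv.swap 0 1, Equiv.swap 0 2, Equiv.swap 1 2] (π j) =
      ![Equiv.swap 0 1, Equiv.swap 0 2, Equiv.swap 1 2] i *
        ![Equiv.swap 0 1, Equiv.swap 0 2, Equiv.swap 1 2] j := by
  decide +kernel

omit hL in
set_option synthInstance.maxSize 5000 in
theorem p3_swaps : (∀ σ : Equiv.Perm (Fin 3), σ * σ = 1 → σ ≠ 1 → ∃ i,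
      ![Equiv.swap 0 1, Equiv.swap 0 2, Equiv.swap 1 2] i = σ) ∧
    (∀ i j : Fin 3, (![Equiv.swap 0 1, Equiv.swap 0 2, Equiv.swap 1 2] i : Equiv.Perm (Fin 3)) =
      ![Equiv.swap 0 1, Equiv.swap 0 2, Equiv.swap 1 2] j → i = j) := by
  decide +kernel

/-- An element of order three fixing a neighbourhood fixes its rotations. -/
theorem Loc.fix_rot {e z : G} (he : e ∈ D) (hz : z ^ 3 = 1)
    (hS : ∀ y ∈ Nb D e, z * y * z⁻¹ ∈ Nb D e) {u v : G} (hu : u ∈ Nb D e) (hv : v ∈ Nb D e) :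
    Commute z (u * v) := by
  classical
  obtain ⟨φ⟩ := hL.s3 e he
  let sw : Fin 3 → Equiv.Perm (Fin 3) := ![Equiv.swap 0 1, Equiv.swap 0 2, Equiv.swap 1 2]
  have hex : ∀ y (hy : y ∈ Nb D e), ∃ i, sw i = φ ⟨y, Subgroup.subset_closure hy⟩ := by
    intro y hy
    refine p3_swaps.1 _ ?_ ?_
    · rw [← map_mul, show (⟨y, Subgroup.subset_closure hy⟩ : ↥(Subgroup.closure (Nb D e))) *
        ⟨y, Subgroup.subset_closure hy⟩ = 1 from Subtype.ext (mul_self hL.tts hy.1), map_one]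
    · exact fun h => ne_one hL.tts hy.1
        (congrArg Subtype.val (φ.injective (h.trans (map_one φ).symm)))
  choose ix hix using hex
  let f : Fin 3 → G := fun i => (φ.symm (sw i) : G)
  have hf : ∀ y (hy : y ∈ Nb D e), f (ix y hy) = y := fun y hy => by
    show (φ.symm (sw (ix y hy)) : G) = y
    rw [hix y hy, MulEquiv.symm_apply_apply]
  have hfinj : Function.Injective f := fun i j h =>
    p3_swaps.2 i j (φ.symm.injective (Subtype.ext h))
  have hfmem : ∀ i, f i ∈ Nb D e := by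
    intro i
    have hsub : Nb D e ⊆ Set.range f := fun y hy => ⟨_, hf y hy⟩
    have h := Set.eq_of_subset_of_ncard_le hsub
      (by rw [hL.ncard_eq he, Set.ncard_range_of_injective hfinj, Nat.card_fin]) (Set.finite_range f)
    rw [h]; exact ⟨i, rfl⟩
  let π₀ : Fin 3 → Fin 3 := fun i => ix _ (hS _ (hfmem i))
  have hπ₀ : ∀ i, f (π₀ i) = z * f i * z⁻¹ := fun i => hf _ _
  have hπinj : Function.Injective π₀ := fun i j h => hfinj (by
    have := hπ₀ i
    rw [h, hπ₀ j] at this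
    exact (mul_left_cancel (mul_right_cancel this)).symm)
  let π : Equiv.Perm (Fin 3) := Equiv.ofBijective π₀ (Finite.injective_iff_bijective.1 hπinj)
  have hπ : π ^ 3 = 1 := by
    refine Equiv.ext fun i => hfinj ?_
    show f (π₀ (π₀ (π₀ i))) = f i
    rw [hπ₀, hπ₀, hπ₀]
    have : z * (z * (z * f i * z⁻¹) * z⁻¹) * z⁻¹ = z ^ 3 * f i * (z ^ 3)⁻¹ := by
      simp only [pow_succ, pow_zero, one_mul, mul_inv_rev, mul_assoc]
    rw [this, hz, one_mul, inv_one, mul_one]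
  have hprod : ∀ i j, f i * f j = (φ.symm (sw i * sw j) : G) := fun i j => by
    rw [map_mul]; rfl
  obtain ⟨i, rfl⟩ : ∃ i, f i = u := ⟨_, hf u hu⟩
  obtain ⟨j, rfl⟩ : ∃ j, f j = v := ⟨_, hf v hv⟩
  have h1 : z * (f i * f j) * z⁻¹ = f i * f j := by
    calc z * (f i * f j) * z⁻¹ = z * f i * z⁻¹ * (z * f j * z⁻¹) := by group
      _ = f (π₀ i) * f (π₀ j) := by rw [hπ₀, hπ₀]
      _ = f i * f j := by
        rw [hprod, hprod]
        exact congrArg (fun s => (φ.symm s : G)) (perm_three π hπ i j)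
  exact mul_inv_eq_iff_eq_mul.1 h1

include hT

/-- Neighbourhoods are preserved by every rotation. -/
theorem Loc.rot_preserve {d x y e : G} (hd : d ∈ D) (hx : x ∈ Nb D d) (hy : y ∈ Nb D d)
    (he : e ∈ D) : ∀ w ∈ Nb D e, (x * y) * w * (x * y)⁻¹ ∈ Nb D e := by
  intro w hw
  by_cases h1 : e ∈ Nb D d
  · have hwx : w ∈ Nb D x := (hT d hd e h1 x hx).symm ▸ hw
    have hwy : w ∈ Nb D y := (hT d hd e h1 y hy).symm ▸ hw
    have hc : Commute (x * y) w := hwx.2.2.mul_left hwy.2.2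
    rwa [hc.eq, mul_inv_cancel_right]
  by_cases h2 : Nb D e = Nb D d
  · rw [h2] at hw ⊢
    have hc : Commute (x * y) d := hx.2.2.symm.mul_left hy.2.2.symm
    have := conj_nb hL.inv (x * y) hw
    rwa [hc.eq, mul_inv_cancel_right] at this
  -- `e` commutes with none of `d`, `x`, `y`
  have hout : ∀ x, x ∈ Nb D d → e ≠ x ∧ ¬ Commute e x := by
    intro x hx
    refine ⟨fun h => h1 (h ▸ hx), fun h => h2 ?_⟩
    exact (hT x hx.1 d (nb_symm hd hx) e ⟨he, fun h' => h1 (h' ▸ hx), h.symm⟩)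
  have hed : e ≠ d ∧ ¬ Commute e d := ⟨fun h => h2 (h ▸ rfl), fun h => h1 ⟨he, fun h' => h2 (h' ▸ rfl), h.symm⟩⟩
  have hn : ∀ x, x ∈ Nb D d → (d * x) * e * (d * x)⁻¹ ∈ Nb D e := by
    intro x hx
    obtain ⟨ψ, hψ, p1, p2, p3⟩ := exists_sym4 hL.tts hd he hx.1 hx.2.1.symm hx.2.2
      (fun h => hed.2 h.symm) (hout x hx).2
    have hv : (d * x) * e * (d * x)⁻¹ = ψ (Equiv.swap 0 1 * Equiv.swap 2 3 * Equiv.swap 1 2 *
            (Equiv.swap 0 1 * Equiv.swap 2 3)⁻¹) := by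
      simp only [map_mul, map_inv, p1, p2, p3]
    have hmm : (Equiv.swap (0 : Fin 4) 1 * Equiv.swap 2 3 * Equiv.swap 1 2 *
        (Equiv.swap 0 1 * Equiv.swap 2 3)⁻¹) = Equiv.swap 0 3 := by decide +kernel
    refine ⟨hL.inv _ _ he, ?_, ?_⟩
    · rw [hv, hmm, ← p2]
      exact fun e => (by decide +kernel : Equiv.swap (0 : Fin 4) 3 ≠ Equiv.swap 1 2) (hψ e)
    · rw [hv, hmm, ← p2]
      exact Commute.map (show Commute (Equiv.swap (1 : Fin 4) 2) (Equiv.swap 0 3) from by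
        show _ * _ = _ * _
        decide +kernel) ψ
  set z := x * y with hz
  set n₁ := (d * y) * e * (d * y)⁻¹ with hn₁
  set n₂ := (d * x) * e * (d * x)⁻¹ with hn₂
  have hmap : z * n₁ * z⁻¹ = n₂ := by
    have : z * (d * y) = d * x := by
      rw [hz, mul_assoc, ← mul_assoc y d y, ← hy.2.2.eq, mul_assoc d y y, mul_self hL.tts hy.1,
        mul_one, hx.2.2.eq]
    calc z * n₁ * z⁻¹ = (z * (d * y)) * e * (z * (d * y))⁻¹ := by rw [hn₁]; group
      _ = n₂ := by rw [this]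
  have hE : Nb D n₂ = Nb D n₁ := hT e he n₁ (hn y hy) n₂ (hn x hx)
  have hu : z * e * z⁻¹ ∈ Nb D n₁ := by
    rw [← hE, ← hmap]
    exact conj_nb hL.inv z (nb_symm he (hn y hy))
  have h3 : Nb D (z * e * z⁻¹) = Nb D e :=
    hT n₁ (hn y hy).1 e (nb_symm he (hn y hy)) _ hu
  rw [← h3]
  exact conj_nb hL.inv z hw

theorem Loc.rot_commute {z w : G} (hz : z ∈ Rot D) (hw : w ∈ Rot D) : Commute z w := by
  obtain ⟨d, hd, x, hx, y, hy, rfl⟩ := hz
  obtain ⟨e, he, u, hu, v, hv, rfl⟩ := hw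
  exact hL.fix_rot he (hL.pow_three hd hx hy) (hL.rot_preserve hT hd hx hy he) hu hv

end Cfsg.Agent.TwoFusionB.Cubic
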