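import Cfsg.Agent.Lib.PGroup.Basic

/-!
A 2-group with an involution whose centralizer has order at most four has a cyclic subgroup of
index at most two.
-/

set_option autoImplicit false

namespace Cfsg.Agent.TwoFusionB.Harada

open Subgroup

theorem exists_cyclic : ∀ (n : ℕ) {Q : Type*} [Group Q] [Finite Q], IsPGroup 2 Q → Nat.card Q ≤ n →
    ∀ a : Q, a * a = 1 → a ≠ 1 → Nat.card (centralizer ({a} : Set Q)) ≤ 4 →
    ∃ r : Q, (zpowers r).index ≤ 2 := by
  intro n
  induction n with
  | zero => intro Q _ _ _ h; exact absurd h (by simp [Nat.card_pos.ne'])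
  | succ n ih =>
  intro Q _ _ h2 hn a ha ha1 hC
  classical
  haveI : Fact (Nat.Prime 2) := ⟨Nat.prime_two⟩
  obtain ⟨k, hk⟩ := IsPGroup.iff_card.1 h2
  have ha2 : orderOf a = 2 := orderOf_eq_prime (by rw [sq]; exact ha) ha1
  rcases Nat.lt_or_ge k 4 with hk4 | hk4
  · by_cases hel : ∀ g : Q, g * g = 1
    · refine ⟨a, ?_⟩
      have htop : centralizer ({a} : Set Q) = ⊤ := by
        refine eq_top_iff.2 fun g _ => mem_centralizer_singleton_iff.2 ?_
        have h := hel (g * a)
        calc g * a = (g * a)⁻¹ := eq_inv_of_mul_eq_one_right h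
          _ = a⁻¹ * g⁻¹ := mul_inv_rev _ _
          _ = a * g := by rw [inv_eq_of_mul_eq_one_left ha, inv_eq_of_mul_eq_one_left (hel g)]
      rw [htop, card_top] at hC
      have h := (zpowers a).card_mul_index
      rw [Nat.card_zpowers, ha2] at h
      omega
    · push Not at hel
      obtain ⟨g, hg⟩ := hel
      refine ⟨g, ?_⟩
      obtain ⟨j, -, hj⟩ := (Nat.dvd_prime_pow Nat.prime_two).1 (hk ▸ orderOf_dvd_natCard g)
      have hj2 : 2 ≤ j := by
        by_contra h
        have hd : orderOf g ∣ 2 := by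
          rw [hj]; exact Dvd.intro_left _ (by
            show 2 ^ (1 - j) * 2 ^ j = 2
            rw [← pow_add, Nat.sub_add_cancel (by omega), pow_one])
        exact hg (by rw [← sq]; exact orderOf_dvd_iff_pow_eq_one.1 hd)
      have h := (zpowers g).card_mul_index
      rw [Nat.card_zpowers, hj, hk] at h
      have h4 : 2 ^ 2 ≤ 2 ^ j := Nat.pow_le_pow_right (by norm_num) hj2
      have h8 : 2 ^ k ≤ 2 ^ 3 := Nat.pow_le_pow_right (by norm_num) (by omega)
      have := Nat.mul_le_mul_right (zpowers g).index h4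
      omega
  -- a central involution and the quotient by it
  have h16 : 16 ≤ Nat.card Q := by
    rw [hk]; exact (show 2 ^ 4 ≤ 2 ^ k from Nat.pow_le_pow_right (by norm_num) hk4)
  have hne : (⊤ : Subgroup Q) ⊓ center Q ≠ ⊥ := by
    haveI : (⊤ : Subgroup Q).Normal := inferInstance
    refine PGroup.inf_center_ne_bot h2 fun h => ?_
    have := congrArg (fun U : Subgroup Q => Nat.card U) h
    simp only [card_top, card_bot] at this
    omega
  obtain ⟨z, hz, hz1, hz2⟩ := PGroup.exists_mem_pow_eq_one h2 hne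
  have hzc : ∀ g, g * z = z * g := mem_center_iff.1 hz.2
  have hza : z ≠ a := by
    rintro rfl
    have htop : centralizer ({z} : Set Q) = ⊤ :=
      eq_top_iff.2 fun g _ => mem_centralizer_singleton_iff.2 (hzc g)
    rw [htop, card_top] at hC
    omega
  set Z := zpowers z
  haveI hZn : Z.Normal := ⟨fun w hw g => by
    obtain ⟨i, rfl⟩ := mem_zpowers_iff.1 hw
    rw [((show Commute g z from hzc g).zpow_right i).eq, mul_inv_cancel_right]
    exact zpow_mem (mem_zpowers z) i⟩
  have hzo : orderOf z = 2 := orderOf_eq_prime hz2 hz1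
  have hZmem : ∀ w ∈ Z, w = 1 ∨ w = z := fun w hw => by
    obtain ⟨i, rfl⟩ := mem_zpowers_iff.1 hw
    obtain ⟨j, rfl⟩ | ⟨j, rfl⟩ := Int.even_or_odd i
    · refine .inl ?_
      rw [← two_mul, zpow_mul, show z ^ (2 : ℤ) = z ^ 2 from zpow_natCast z 2, hz2, one_zpow]
    · refine .inr ?_
      rw [zpow_add, zpow_one, zpow_mul, show z ^ (2 : ℤ) = z ^ 2 from zpow_natCast z 2, hz2,
        one_zpow, one_mul]
  let π := QuotientGroup.mk' Z
  have hcard : Nat.card (Q ⧸ Z) * 2 = Nat.card Q := by
    rw [card_eq_card_quotient_mul_card_subgroup Z, Nat.card_zpowers, hzo]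
  have hC' : Nat.card (centralizer ({π a} : Set (Q ⧸ Z))) ≤ 4 := by
    set C' := (centralizer ({π a} : Set (Q ⧸ Z))).comap π
    have hC'mem : ∀ x ∈ C', x * a * x⁻¹ * a⁻¹ ∈ Z := fun x hx => by
      rw [← QuotientGroup.eq_one_iff]
      have h := mem_centralizer_singleton_iff.1 hx
      show π (x * a * x⁻¹ * a⁻¹) = 1
      rw [map_mul, map_mul, map_mul, map_inv, map_inv, h, mul_inv_cancel_right, mul_inv_cancel]
    let f : C' →* Z := MonoidHom.mk' (fun x => ⟨_, hC'mem x x.2⟩) fun x y => Subtype.ext <| by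
      show (x : Q) * y * a * ((x : Q) * y)⁻¹ * a⁻¹ =
        (x * a * (x : Q)⁻¹ * a⁻¹) * (y * a * (y : Q)⁻¹ * a⁻¹)
      set cy := (y : Q) * a * (y : Q)⁻¹ * a⁻¹
      have hcy : ∀ g, g * cy = cy * g := fun g => by
        rcases hZmem _ (hC'mem y y.2) with h | h <;> simp only [cy, h]
        · rw [mul_one, one_mul]
        · exact hzc g
      rw [show (x : Q) * y * a * ((x : Q) * y)⁻¹ * a⁻¹ =
        (x : Q) * cy * (a * (x : Q)⁻¹ * a⁻¹) by simp only [cy]; group, hcy (x : Q),
        hcy ((x : Q) * a * (x : Q)⁻¹ * a⁻¹)]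
      group
    have hker : Nat.card f.ker ≤ 4 := by
      refine le_trans (Nat.card_le_card_of_injective
        (fun x : f.ker => (⟨((x : C') : Q), mem_centralizer_singleton_iff.2 ?_⟩ :
          centralizer ({a} : Set Q))) fun x y h =>
            Subtype.ext (Subtype.ext (congrArg Subtype.val h :))) hC
      have h : ((x : C') : Q) * a * ((x : C') : Q)⁻¹ * a⁻¹ = 1 := congrArg Subtype.val x.2
      exact mul_inv_eq_iff_eq_mul.1 (mul_inv_eq_one.1 h)
    have h1 : Nat.card C' ≤ 8 := by
      rw [← f.ker.card_mul_index, index_ker]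
      have h3 : Nat.card f.range ≤ 2 := by
        refine (Nat.card_le_card_of_injective _ Subtype.val_injective).trans ?_
        rw [Nat.card_zpowers, hzo]
      exact Nat.mul_le_mul hker h3
    have h2' : Nat.card C' = Nat.card (centralizer ({π a} : Set (Q ⧸ Z))) * 2 := by
      have h3 := C'.card_mul_index
      rw [index_comap_of_surjective _ (QuotientGroup.mk'_surjective Z), ← hcard,
        ← (centralizer ({π a} : Set (Q ⧸ Z))).card_mul_index] at h3
      refine Nat.eq_of_mul_eq_mul_right (Nat.pos_of_ne_zero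
        (index_ne_zero_of_finite (H := centralizer ({π a} : Set (Q ⧸ Z))))) ?_
      rw [h3]; ring
    omega
  have hπa : π a ≠ 1 := fun h => by
    rcases hZmem a ((QuotientGroup.eq_one_iff a).1 h) with h' | h'
    exacts [ha1 h', hza h'.symm]
  obtain ⟨r₀, hr₀⟩ := ih (h2.to_quotient Z) (by omega) (π a) (by rw [← map_mul, ha, map_one]) hπa hC'
  obtain ⟨r, rfl⟩ := QuotientGroup.mk'_surjective Z r₀
  set R := (zpowers (π r)).comap π with hR
  have hRi : R.index ≤ 2 := by
    rw [hR, index_comap_of_surjective _ (QuotientGroup.mk'_surjective Z)]; exact hr₀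
  have hRdec : ∀ x ∈ R, ∃ i : ℤ, x = r ^ i ∨ x = r ^ i * z := by
    intro x hx
    obtain ⟨i, hi⟩ := mem_zpowers_iff.1 hx
    refine ⟨i, ?_⟩
    have hmem : (r ^ i)⁻¹ * x ∈ Z := by
      rw [← QuotientGroup.eq_one_iff]
      show π ((r ^ i)⁻¹ * x) = 1
      rw [map_mul, map_inv, map_zpow, hi, inv_mul_cancel]
    rcases hZmem _ hmem with h | h
    · exact .inl (inv_mul_eq_one.1 h).symm
    · exact .inr (inv_mul_eq_iff_eq_mul.1 h)
  by_cases hzr : z ∈ zpowers r
  · refine ⟨r, le_trans (le_of_eq ?_) hRi⟩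
    congr 1
    refine le_antisymm (zpowers_le.2 (mem_zpowers (π r))) fun x hx => ?_
    obtain ⟨i, rfl | rfl⟩ := hRdec x hx
    · exact zpow_mem (mem_zpowers r) i
    · exact mul_mem (zpow_mem (mem_zpowers r) i) hzr
  exfalso
  have hR8 : 8 ≤ Nat.card R := by
    have h := R.card_mul_index
    have := Nat.mul_le_mul_left (Nat.card R) hRi
    omega
  have hcomm : ∀ x ∈ R, ∀ y ∈ R, Commute x y := by
    intro x hx y hy
    obtain ⟨i, hi⟩ := hRdec x hx
    obtain ⟨j, hj⟩ := hRdec y hy
    have hzc' : ∀ g, Commute g z := hzc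
    rcases hi with rfl | rfl <;> rcases hj with rfl | rfl
    · exact Commute.zpow_zpow_self r i j
    · exact (Commute.zpow_zpow_self r i j).mul_right (hzc' _)
    · exact (Commute.zpow_zpow_self r i j).mul_left (hzc' _).symm
    · exact ((Commute.zpow_zpow_self r i j).mul_right (hzc' _)).mul_left (hzc' _).symm
  have haR : a ∉ R := fun haR => by
    have := Nat.card_le_card_of_injective (fun x : R => (⟨(x : Q),
      mem_centralizer_singleton_iff.2 (hcomm x x.2 a haR).eq⟩ : centralizer ({a} : Set Q)))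
      fun x y h => Subtype.ext (by simpa using h)
    omega
  have hzR : z ∈ R := by
    rw [hR, mem_comap]
    rw [show π z = 1 from (QuotientGroup.eq_one_iff z).2 (mem_zpowers z)]
    exact one_mem _
  have hrR : r ∈ R := mem_zpowers (π r)
  -- fixed points of `a` in `R` are the powers of `z`
  have hfix : ∀ x ∈ R, a * x = x * a → x = 1 ∨ x = z := by
    intro x hx hax
    by_contra hcon
    push Not at hcon
    let f : Fin 5 → centralizer ({a} : Set Q) := ![1, ⟨z, mem_centralizer_singleton_iff.2 (hzc a).symm⟩,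
      ⟨x, mem_centralizer_singleton_iff.2 hax.symm⟩, ⟨a, mem_centralizer_singleton_iff.2 rfl⟩,
      ⟨z * a, mem_centralizer_singleton_iff.2 (by rw [mul_assoc, ← mul_assoc a, hzc a, mul_assoc])⟩]
    have hzaR : z * a ∉ R := fun h => haR (by simpa using mul_mem (inv_mem hzR) h)
    have hf : Function.Injective f := by
      intro i j h
      have h' := congrArg Subtype.val h
      fin_cases i <;> fin_cases j <;> simp [f] at h' ⊢ <;>
        first
        | exact hcon.1 h'
        | exact hcon.1 h'.symm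
        | exact hcon.2 h'
        | exact hcon.2 h'.symm
        | exact hz1 h'
        | exact hz1 h'.symm
        | exact ha1 h'
        | exact ha1 h'.symm
        | exact hza h'
        | exact hza h'.symm
        | exact haR (h' ▸ hx)
        | exact haR (h'.symm ▸ hx)
        | exact hzaR (h' ▸ hx)
        | exact hzaR (h'.symm ▸ hx)
        | exact hzaR (h' ▸ one_mem R)
        | exact hzaR (h'.symm ▸ one_mem R)
    have := Nat.card_le_card_of_injective f hf
    simp only [Nat.card_fin] at this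
    omega
  haveI hRn : R.Normal := by
    rcases Nat.lt_or_ge R.index 2 with h | h
    · have h1 : R.index = 1 := by
        have := index_ne_zero_of_finite (H := R)
        omega
      rw [index_eq_one.1 h1]
      infer_instance
    · exact normal_of_index_eq_two (le_antisymm hRi h)
  have har : a * r * a⁻¹ ∈ R := hRn.conj_mem r hrR a
  -- `a` inverts `r` modulo `z`
  obtain ⟨ε, hε, hεeq⟩ : ∃ ε, (ε = 1 ∨ ε = z) ∧ a * r * a⁻¹ = r⁻¹ * ε := by
    refine ⟨r * (a * r * a⁻¹), hfix _ (mul_mem hrR har) ?_, by group⟩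
    have hainv : a⁻¹ = a := inv_eq_of_mul_eq_one_left ha
    calc a * (r * (a * r * a⁻¹)) = (a * r * a⁻¹) * (a * (a * r * a⁻¹) * a⁻¹) * a := by group
      _ = (a * r * a⁻¹) * r * a := by
          rw [show a * (a * r * a⁻¹) * a⁻¹ = (a * a) * r * (a * a)⁻¹ by group, ha]; simp
      _ = r * (a * r * a⁻¹) * a := by rw [(hcomm _ har r hrR).eq]
  obtain ⟨m, -, hm⟩ := (Nat.dvd_prime_pow Nat.prime_two).1 (hk ▸ orderOf_dvd_natCard r)
  have hr4 : 2 ≤ m := by
    by_contra hm2
    have hord : orderOf r ≤ 2 := by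
      rw [hm]
      exact (show 2 ^ m ≤ 2 ^ 1 from Nat.pow_le_pow_right (by norm_num) (by omega))
    have : Nat.card R ≤ 4 := by
      let g : zpowers r × Z → R := fun p => ⟨(p.1 : Q) * p.2,
        mul_mem (zpowers_le.2 hrR p.1.2) (zpowers_le.2 hzR p.2.2)⟩
      have hg : Function.Surjective g := by
        rintro ⟨x, hx⟩
        obtain ⟨i, rfl | rfl⟩ := hRdec x hx
        · exact ⟨(⟨r ^ i, zpow_mem (mem_zpowers r) i⟩, 1), Subtype.ext (by simp [g])⟩
        · exact ⟨(⟨r ^ i, zpow_mem (mem_zpowers r) i⟩, ⟨z, mem_zpowers z⟩), Subtype.ext (by simp [g])⟩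
      have := Nat.card_le_card_of_surjective g hg
      rw [Nat.card_prod, Nat.card_zpowers, Nat.card_zpowers, hzo] at this
      omega
    omega
  set q := 2 ^ (m - 1) with hq
  set v := r ^ q with hv
  have hq2 : q * 2 = orderOf r := by
    rw [hm, hq, ← pow_succ, Nat.sub_add_cancel (by omega)]
  have hv1 : v ≠ 1 := fun h => by
    have h1 := Nat.le_of_dvd (by positivity) (orderOf_dvd_of_pow_eq_one h)
    have : 0 < q := by positivity
    omega
  have hv2 : v * v = 1 := by rw [← sq, hv, ← pow_mul, hq2, pow_orderOf_eq_one]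
  have hεq : ε ^ q = 1 := by
    obtain ⟨j, hj⟩ : 2 ∣ q := dvd_pow_self 2 (by omega)
    rcases hε with rfl | rfl
    · exact one_pow q
    · rw [hj, pow_mul, hz2, one_pow]
  have hva : a * v = v * a := by
    have hcz : Commute r⁻¹ ε := by
      rcases hε with rfl | rfl
      · exact Commute.one_right _
      · exact hzc _
    have h : a * v * a⁻¹ = v := by
      rw [hv, ← conj_pow, hεeq, hcz.mul_pow, hεq, mul_one, inv_pow, ← hv]
      exact inv_eq_of_mul_eq_one_left hv2
    exact mul_inv_eq_iff_eq_mul.1 h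
  rcases hfix v (pow_mem hrR q) hva with h | h
  · exact hv1 h
  · exact hzr (h ▸ pow_mem (mem_zpowers r) q)

end Cfsg.Agent.TwoFusionB.Harada
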