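import Cfsg.Agent.Classification.FourGroup
import Mathlib.GroupTheory.SpecificGroups.Dihedral

/-!
# Klein four-subgroups of dihedral 2-groups and their fusion
-/

set_option autoImplicit false

namespace Cfsg.Agent.TwoFusionB

open DihedralGroup Cfsg.Agent.Classification

variable {k : ℕ}

/-- The half turn of `ZMod (2 ^ (k + 1))`. -/
def half (k : ℕ) : ZMod (2 ^ (k + 1)) := ((2 ^ k : ℕ) : ZMod (2 ^ (k + 1)))

theorem two_mul_eq_zero_iff (x : ZMod (2 ^ (k + 1))) : 2 * x = 0 ↔ x = 0 ∨ x = half k := by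
  constructor
  · intro h
    have hx : x = ((x.val : ℕ) : ZMod (2 ^ (k + 1))) := (ZMod.natCast_zmod_val x).symm
    have h2 : ((2 * x.val : ℕ) : ZMod (2 ^ (k + 1))) = 0 := by push_cast; rw [← hx]; exact h
    rw [ZMod.natCast_eq_zero_iff] at h2
    have hlt : x.val < 2 ^ (k + 1) := ZMod.val_lt x
    have hp : 2 ^ (k + 1) = 2 * 2 ^ k := pow_succ' 2 k
    have h3 : 2 * 2 ^ k ∣ 2 * x.val := hp ▸ h2
    obtain ⟨c, hc⟩ := Nat.dvd_of_mul_dvd_mul_left (by norm_num : 0 < 2) h3
    have hc2 : c < 2 := by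
      by_contra hcon
      have : 2 ^ k * 2 ≤ 2 ^ k * c := Nat.mul_le_mul_left _ (by omega)
      omega
    interval_cases c
    · left; rw [hx, hc]; simp
    · right; rw [hx, hc, mul_one]; rfl
  · rintro (rfl | rfl)
    · simp
    · rw [half, ← Nat.cast_ofNat (R := ZMod (2 ^ (k + 1))) (n := 2), ← Nat.cast_mul,
        ← pow_succ', ZMod.natCast_self]

theorem half_ne_zero : half k ≠ 0 := by
  rw [half, Ne, ZMod.natCast_eq_zero_iff]
  intro h
  have := Nat.le_of_dvd (by positivity) h
  rw [pow_succ'] at this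
  have : 0 < 2 ^ k := by positivity
  omega

theorem add_half_self : half k + half k = 0 := by
  rw [← two_mul, two_mul_eq_zero_iff]; exact Or.inr rfl

/-- The reduction of an index modulo 2. -/
def par (k : ℕ) : ZMod (2 ^ (k + 1)) →+* ZMod 2 :=
  ZMod.castHom (dvd_pow_self 2 (Nat.succ_ne_zero k)) (ZMod 2)

theorem par_half (hk : 1 ≤ k) : par k (half k) = 0 := by
  rw [half, map_natCast, ZMod.natCast_eq_zero_iff]
  exact dvd_pow_self 2 (by omega)

theorem exists_two_mul_of_par {x : ZMod (2 ^ (k + 1))} (h : par k x = 0) : ∃ y, x = 2 * y := by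
  have hx : x = ((x.val : ℕ) : ZMod (2 ^ (k + 1))) := (ZMod.natCast_zmod_val x).symm
  rw [hx, map_natCast, ZMod.natCast_eq_zero_iff] at h
  obtain ⟨c, hc⟩ := h
  exact ⟨(c : ℕ), by rw [hx, hc]; push_cast; rfl⟩

local notation "D" => DihedralGroup (2 ^ (k + 1))

theorem mul_self_eq_one_iff {x : D} :
    x * x = 1 ↔ x = 1 ∨ x = r (half k) ∨ ∃ i, x = sr i := by
  rcases x with a | a
  · rw [r_mul_r, one_def, r.injEq, r.injEq, r.injEq, ← two_mul, two_mul_eq_zero_iff]
    simp
  · simp

theorem commute_sr_iff {i : ZMod (2 ^ (k + 1))} {x : D} :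
    x * sr i = sr i * x ↔
      x = 1 ∨ x = r (half k) ∨ x = sr i ∨ x = sr (i + half k) := by
  rcases x with a | a
  · rw [r_mul_sr, sr_mul_r, sr.injEq, one_def, r.injEq, r.injEq]
    simp only [reduceCtorEq, or_false]
    rw [← two_mul_eq_zero_iff, two_mul]
    constructor <;> intro h <;> linear_combination -h
  · rw [sr_mul_sr, sr_mul_sr, r.injEq, sr.injEq, sr.injEq]
    simp only [one_def, reduceCtorEq, false_or]
    constructor
    · intro h
      rcases (two_mul_eq_zero_iff (a - i)).mp (by linear_combination -h) with h' | h'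
      · exact Or.inl (by linear_combination h')
      · exact Or.inr (by linear_combination h')
    · rintro (rfl | rfl)
      · rfl
      · have := add_half_self (k := k)
        linear_combination -this

theorem fourSet_ncard_le (i : ZMod (2 ^ (k + 1))) :
    Set.ncard ({1, r (half k), sr i, sr (i + half k)} : Set D) ≤ 4 := by
  refine (Set.ncard_insert_le _ _).trans (Nat.succ_le_succ ?_)
  refine (Set.ncard_insert_le _ _).trans (Nat.succ_le_succ ?_)
  refine (Set.ncard_insert_le _ _).trans (Nat.succ_le_succ ?_)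
  simp

theorem exists_sr_of_isKleinFour {V : Subgroup D} (hV : IsKleinFour V) : ∃ i, sr i ∈ V := by
  by_contra hcon
  push Not at hcon
  have hsub : (V : Set D) ⊆ {1, r (half k)} := by
    intro x hx
    have := isKleinFour_sq hV hx
    rw [sq, mul_self_eq_one_iff] at this
    rcases this with h | h | ⟨i, h⟩
    · exact Or.inl h
    · exact Or.inr h
    · exact absurd (h ▸ hx) (hcon i)
  have h1 := Set.ncard_le_ncard hsub (Set.toFinite _)
  have h2 : Set.ncard (V : Set D) = 4 := by rw [← Nat.card_coe_set_eq]; exact hV.card_four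
  have h3 : Set.ncard ({1, r (half k)} : Set D) ≤ 2 :=
    (Set.ncard_insert_le _ _).trans (by simp)
  omega

theorem eq_fourSet_of_isKleinFour {V : Subgroup D} (hV : IsKleinFour V)
    {i : ZMod (2 ^ (k + 1))} (hi : sr i ∈ V) :
    (V : Set D) = {1, r (half k), sr i, sr (i + half k)} := by
  apply Set.eq_of_subset_of_ncard_le ?_ ?_ (Set.toFinite _)
  · intro x hx
    exact commute_sr_iff.mp (isKleinFour_comm hV hx hi)
  · have : Set.ncard (V : Set D) = 4 := by rw [← Nat.card_coe_set_eq]; exact hV.card_four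
    rw [this]; exact fourSet_ncard_le i

theorem r_half_mem_of_isKleinFour {V : Subgroup D} (hV : IsKleinFour V) : r (half k) ∈ V := by
  obtain ⟨i, hi⟩ := exists_sr_of_isKleinFour hV
  rw [← SetLike.mem_coe, eq_fourSet_of_isKleinFour hV hi]
  simp

/-- The Klein four-subgroup through the reflection `sr i`. -/
def fourSub (i : ZMod (2 ^ (k + 1))) : Subgroup D where
  carrier := {x | x * sr i = sr i * x}
  mul_mem' {a b} ha hb := by
    simp only [Set.mem_ofPred_eq] at ha hb ⊢
    rw [mul_assoc, hb, ← mul_assoc, ha, mul_assoc]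
  one_mem' := by simp
  inv_mem' {a} ha := by
    simp only [Set.mem_ofPred_eq] at ha ⊢
    rw [inv_mul_eq_iff_eq_mul, ← mul_assoc, ha, mul_assoc, mul_inv_cancel, mul_one]

theorem mem_fourSub {i : ZMod (2 ^ (k + 1))} {x : D} :
    x ∈ fourSub i ↔ x * sr i = sr i * x := Iff.rfl

theorem isKleinFour_fourSub (i : ZMod (2 ^ (k + 1))) : IsKleinFour (fourSub i) := by
  rw [isKleinFour_iff]
  constructor
  · have : (fourSub i : Set D) = {1, r (half k), sr i, sr (i + half k)} := by
      ext x
      rw [SetLike.mem_coe, mem_fourSub, commute_sr_iff]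
      simp
    rw [show Nat.card (fourSub i) = Set.ncard (fourSub i : Set D) from Nat.card_coe_set_eq _, this]
    have hh := half_ne_zero (k := k)
    rw [Set.ncard_eq_succ]
    refine ⟨1, {r (half k), sr i, sr (i + half k)}, ?_, rfl, ?_⟩
    · simp only [one_def, Set.mem_insert_iff, r.injEq, reduceCtorEq, Set.mem_singleton_iff,
        or_false]
      exact Ne.symm hh
    · rw [Set.ncard_eq_three]
      exact ⟨_, _, _, by simp, by simp, by simpa using hh, rfl⟩
  · intro a ha
    rw [sq, mul_self_eq_one_iff]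
    rcases commute_sr_iff.mp (mem_fourSub.mp ha) with h | h | h | h
    · exact Or.inl h
    · exact Or.inr (Or.inl h)
    · exact Or.inr (Or.inr ⟨_, h⟩)
    · exact Or.inr (Or.inr ⟨_, h⟩)

theorem eq_fourSub_of_isKleinFour {V : Subgroup D} (hV : IsKleinFour V)
    {i : ZMod (2 ^ (k + 1))} (hi : sr i ∈ V) : V = fourSub i := by
  ext x
  rw [← SetLike.mem_coe, eq_fourSet_of_isKleinFour hV hi, mem_fourSub, commute_sr_iff]
  simp

theorem mem_fourSub_self (i : ZMod (2 ^ (k + 1))) : sr i ∈ fourSub i := rfl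

theorem r_half_mem_fourSub (i : ZMod (2 ^ (k + 1))) : r (half k) ∈ fourSub i :=
  r_half_mem_of_isKleinFour (isKleinFour_fourSub i)

theorem fourSub_le {Q : Subgroup D} {i : ZMod (2 ^ (k + 1))} (hi : sr i ∈ Q)
    (hz : r (half k) ∈ Q) : fourSub i ≤ Q := by
  intro x hx
  rcases commute_sr_iff.mp (mem_fourSub.mp hx) with rfl | rfl | rfl | rfl
  · exact one_mem Q
  · exact hz
  · exact hi
  · simpa using mul_mem hi hz

theorem sr_conj_r (a i : ZMod (2 ^ (k + 1))) :
    r a * sr i * (r a)⁻¹ = sr (i - 2 * a) := by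
  rw [inv_r, r_mul_sr, sr_mul_r]
  congr 1
  ring

theorem fourSub_cj_r (a i : ZMod (2 ^ (k + 1))) :
    cj (r a) (fourSub i) = fourSub (i - 2 * a) := by
  apply eq_fourSub_of_isKleinFour (isKleinFour_cj _ (isKleinFour_fourSub i))
  rw [← sr_conj_r]
  exact ⟨sr i, mem_fourSub_self i, rfl⟩

/-- Four-subgroups with reflections of equal parity are conjugate. -/
theorem exists_cj_fourSub {i j : ZMod (2 ^ (k + 1))} (h : par k i = par k j) :
    ∃ d : D, cj d (fourSub i) = fourSub j := by
  obtain ⟨a, ha⟩ := exists_two_mul_of_par (x := i - j) (by rw [map_sub, h, sub_self])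
  exact ⟨r a, by rw [fourSub_cj_r, ← ha, sub_sub_cancel]⟩

theorem eq_top_of_par_ne {Q : Subgroup D} {i j : ZMod (2 ^ (k + 1))} (hi : sr i ∈ Q)
    (hj : sr j ∈ Q) (h : par k i ≠ par k j) : Q = ⊤ := by
  have hr : r (j - i) ∈ Q := by simpa using mul_mem hi hj
  have hu : IsUnit (j - i) := by
    have hx : j - i = (((j - i).val : ℕ) : ZMod (2 ^ (k + 1))) := (ZMod.natCast_zmod_val _).symm
    rw [hx, ZMod.isUnit_iff_coprime]
    apply Nat.Coprime.pow_right
    rw [Nat.coprime_two_right, ← Nat.not_even_iff_odd, even_iff_two_dvd,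
      ← ZMod.natCast_eq_zero_iff, ← map_natCast (par k), ← hx, map_sub, sub_eq_zero]
    exact fun e => h e.symm
  obtain ⟨u, hu⟩ := hu
  have hall : ∀ a : ZMod (2 ^ (k + 1)), r a ∈ Q := by
    intro a
    have h1 := Subgroup.pow_mem Q hr ((↑u⁻¹ * a : ZMod (2 ^ (k + 1)))).val
    rw [r_pow, ZMod.natCast_zmod_val, ← hu, ← mul_assoc, Units.mul_inv, one_mul] at h1
    exact h1
  rw [eq_top_iff]
  rintro (a | a) -
  · exact hall a
  · simpa using mul_mem hi (hall (a - i))

theorem card_eq_two_mul {Q : Subgroup D} {i : ZMod (2 ^ (k + 1))} (hi : sr i ∈ Q) :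
    Nat.card Q = 2 * Nat.card {a : ZMod (2 ^ (k + 1)) // r a ∈ Q} := by
  let f : {a : ZMod (2 ^ (k + 1)) // r a ∈ Q} ⊕ {a : ZMod (2 ^ (k + 1)) // r a ∈ Q} → Q :=
    Sum.elim (fun a => ⟨r a.1, a.2⟩) (fun a => ⟨sr (i + a.1), by simpa using mul_mem hi a.2⟩)
  have hf : Function.Bijective f := by
    constructor
    · rintro (⟨a, ha⟩ | ⟨a, ha⟩) (⟨b, hb⟩ | ⟨b, hb⟩) e <;>
        have e' := congrArg Subtype.val e <;>
        simp [f] at e' <;> simp [e']
    · rintro ⟨a | a, ha⟩
      · exact ⟨Sum.inl ⟨a, ha⟩, rfl⟩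
      · refine ⟨Sum.inr ⟨a - i, by simpa using mul_mem hi ha⟩, ?_⟩
        simp [f]
  rw [← Nat.card_congr (Equiv.ofBijective f hf), Nat.card_sum, two_mul]

theorem card_normalizer_le {Q : Subgroup D} {i : ZMod (2 ^ (k + 1))} (hi : sr i ∈ Q) :
    Nat.card (Subgroup.normalizer (Q : Set D)) ≤ 2 * Nat.card Q := by
  classical
  set N := Subgroup.normalizer (Q : Set D) with hN
  rw [card_eq_two_mul (Q := N) (Subgroup.le_normalizer hi), card_eq_two_mul hi]
  have key : Nat.card {a : ZMod (2 ^ (k + 1)) // r a ∈ N} ≤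
      2 * Nat.card {a : ZMod (2 ^ (k + 1)) // r a ∈ Q} := by
    simp only [Nat.card_eq_fintype_card, Fintype.card_subtype]
    set B := (Finset.univ.filter fun a : ZMod (2 ^ (k + 1)) => r a ∈ N)
    set A := (Finset.univ.filter fun a : ZMod (2 ^ (k + 1)) => r a ∈ Q)
    have h1 : B.image (fun a => 2 * a) ⊆ A := by
      intro b hb
      obtain ⟨a, ha, rfl⟩ := Finset.mem_image.mp hb
      have h2 := (Subgroup.mem_normalizer_iff.mp (Finset.mem_filter.mp ha).2 (sr i)).mp hi
      rw [sr_conj_r] at h2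
      simp only [A, Finset.mem_filter, Finset.mem_univ, true_and]
      simpa using mul_mem h2 hi
    have h3 := Finset.card_le_mul_card_image (f := fun a : ZMod (2 ^ (k + 1)) => 2 * a) B 2
      (fun b _ => by
        by_cases hb : (B.filter fun a => 2 * a = b).Nonempty
        · obtain ⟨c, hc⟩ := hb
          refine (Finset.card_le_card (t := {c, c + half k}) ?_).trans Finset.card_le_two
          intro a ha
          have e1 := (Finset.mem_filter.mp ha).2
          have e2 := (Finset.mem_filter.mp hc).2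
          rcases (two_mul_eq_zero_iff (a - c)).mp (by linear_combination e1 - e2) with h | h
          · simp [sub_eq_zero.mp h]
          · simp [sub_eq_iff_eq_add'.mp h]
        · simp [Finset.not_nonempty_iff_eq_empty.mp hb])
    exact h3.trans (Nat.mul_le_mul_left 2 (Finset.card_le_card h1))
  omega

end Cfsg.Agent.TwoFusionB
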