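import Mathlib

/-!
Two central extensions of an elementary abelian 2-group by an elementary abelian 2-group with the
same squaring map are isomorphic, compatibly with the projections.
-/

set_option autoImplicit false

namespace Cfsg.Agent.TwoFusionB

open scoped commutatorElement

/-- If `cP : P → V` and `cA : A → V` are surjections with central kernels, identified through
`eP, eA : W → P, A`, and all squares have the same parameter, then `P ≅ A`. -/
theorem exists_lift_of_same_squares {P A V W : Type*} [Group P] [Group A] [AddCommGroup V] [AddCommGroup W]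
    [Finite P] [Finite A]
    (cP : P → V) (cA : A → V) (eP : W → P) (eA : W → A)
    (hcP : ∀ x y, cP (x * y) = cP x + cP y) (hcA : ∀ x y, cA (x * y) = cA x + cA y)
    (hP1 : ∀ v, ∃ x, cP x = v) (hA1 : ∀ v, ∃ x, cA x = v)
    (hPker : ∀ x, cP x = 0 ↔ ∃ w, eP w = x) (hAker : ∀ x, cA x = 0 ↔ ∃ w, eA w = x)
    (hePadd : ∀ v w, eP (v + w) = eP v * eP w) (heAadd : ∀ v w, eA (v + w) = eA v * eA w)
    (hePinj : Function.Injective eP) (heAinj : Function.Injective eA)
    (hePc : ∀ w g, g * eP w = eP w * g) (heAc : ∀ w g, g * eA w = eA w * g)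
    (sq : V → W) (hsqP : ∀ x, x * x = eP (sq (cP x))) (hsqA : ∀ x, x * x = eA (sq (cA x))) :
    ∃ φ : P ≃* A, ∀ x, cA (φ x) = cP x := by
  classical
  let D : Subgroup (P × A) :=
    { carrier := {p | cP p.1 = cA p.2}
      one_mem' := by
        have h1 := hcP 1 1
        have h2 := hcA 1 1
        rw [one_mul] at h1 h2
        show cP 1 = cA 1
        rw [left_eq_add.1 h1, left_eq_add.1 h2]
      mul_mem' := fun {p r} hp hr => by
        show cP (p.1 * r.1) = cA (p.2 * r.2)
        rw [hcP, hcA, hp, hr]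
      inv_mem' := fun {p} hp => by
        have h1 := hcP p.1 p.1⁻¹
        have h2 := hcA p.2 p.2⁻¹
        rw [mul_inv_cancel] at h1 h2
        have h3 := hcP 1 1
        have h4 := hcA 1 1
        rw [one_mul] at h3 h4
        rw [left_eq_add.1 h3] at h1
        rw [left_eq_add.1 h4] at h2
        show cP p.1⁻¹ = cA p.2⁻¹
        have e : cP p.1 = cA p.2 := hp
        rw [e] at h1
        exact add_left_cancel (h1.symm.trans h2) }
  have hP0 : eP 0 = 1 := by
    have := hePadd 0 0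
    rw [add_zero] at this
    exact left_eq_mul.1 this
  have hA0 : eA 0 = 1 := by
    have := heAadd 0 0
    rw [add_zero] at this
    exact left_eq_mul.1 this
  have hkP : ∀ w, cP (eP w) = 0 := fun w => (hPker _).2 ⟨w, rfl⟩
  have hkA : ∀ w, cA (eA w) = 0 := fun w => (hAker _).2 ⟨w, rfl⟩
  let δ : Multiplicative W →* D :=
    { toFun := fun w => ⟨(eP w.toAdd, eA w.toAdd), by
        show cP (eP _) = cA (eA _)
        rw [hkP, hkA]⟩
      map_one' := Subtype.ext (Prod.ext hP0 hA0)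
      map_mul' := fun v w => Subtype.ext (Prod.ext (hePadd _ _) (heAadd _ _)) }
  set Δ : Subgroup D := δ.range with hΔ
  have hΔn : Δ.Normal := ⟨by
    rintro _ ⟨w, rfl⟩ g
    refine ⟨w, Subtype.ext (Prod.ext ?_ ?_)⟩
    · show eP w.toAdd = g.1.1 * eP w.toAdd * g.1.1⁻¹
      rw [hePc, mul_inv_cancel_right]
    · show eA w.toAdd = g.1.2 * eA w.toAdd * g.1.2⁻¹
      rw [heAc, mul_inv_cancel_right]⟩
  have hsq : ∀ p : D, p * p ∈ Δ := fun p => ⟨Multiplicative.ofAdd (sq (cP p.1.1)),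
    Subtype.ext (Prod.ext (hsqP p.1.1).symm (by
      show eA (sq (cP p.1.1)) = p.1.2 * p.1.2
      rw [hsqA, show cP p.1.1 = cA p.1.2 from p.2]))⟩
  have hexp : ∀ v : D ⧸ Δ, v * v = 1 := fun v => by
    obtain ⟨p, rfl⟩ := QuotientGroup.mk_surjective v
    rw [← QuotientGroup.mk_mul, QuotientGroup.eq_one_iff]
    exact hsq p
  have hcomm : ∀ a b : D ⧸ Δ, a * b = b * a := fun a b => by
    have hinv : ∀ v : D ⧸ Δ, v⁻¹ = v := fun v => inv_eq_of_mul_eq_one_left (hexp v)
    rw [← hinv (a * b), mul_inv_rev, hinv, hinv]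
  let : CommGroup (D ⧸ Δ) := { (inferInstance : Group (D ⧸ Δ)) with mul_comm := hcomm }
  let : Module (ZMod 2) (Additive (D ⧸ Δ)) := AddCommGroup.zmodModule fun v => by
    apply Additive.toMul.injective
    show (Additive.toMul v) ^ 2 = 1
    rw [pow_two]
    exact hexp _
  let ι : W × W →+ Additive (D ⧸ Δ) :=
    AddMonoidHom.mk' (fun vw => Additive.ofMul
      (((⟨(eP vw.1, eA vw.2), by show cP (eP _) = cA (eA _); rw [hkP, hkA]⟩ : D)) : D ⧸ Δ))
      (fun v w => by
        rw [← ofMul_mul, ← QuotientGroup.mk_mul]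
        congr 2
        exact Subtype.ext (Prod.ext (hePadd _ _) (heAadd _ _)))
  let L : Submodule (ZMod 2) (Additive (D ⧸ Δ)) := AddSubgroup.toZModSubmodule 2 ι.range
  obtain ⟨C, hC⟩ := Submodule.exists_isCompl L
  let Wg : Subgroup D :=
    { carrier := {p | Additive.ofMul ((p : D) : D ⧸ Δ) ∈ C}
      one_mem' := by
        show Additive.ofMul ((1 : D) : D ⧸ Δ) ∈ C
        exact C.zero_mem
      mul_mem' := fun {p r} hp hr => by
        show Additive.ofMul (((p * r : D)) : D ⧸ Δ) ∈ C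
        rw [QuotientGroup.mk_mul, ofMul_mul]
        exact C.add_mem hp hr
      inv_mem' := fun {p} hp => by
        show Additive.ofMul (((p⁻¹ : D)) : D ⧸ Δ) ∈ C
        rw [QuotientGroup.mk_inv, ofMul_inv]
        exact C.neg_mem hp }
  have hΔW : ∀ w : W, δ (Multiplicative.ofAdd w) ∈ Wg := fun w => by
    show Additive.ofMul ((δ (Multiplicative.ofAdd w) : D) : D ⧸ Δ) ∈ C
    rw [(QuotientGroup.eq_one_iff _).2
      (show δ (Multiplicative.ofAdd w) ∈ Δ from ⟨_, rfl⟩)]
    exact C.zero_mem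
  have hsmall : ∀ p ∈ Wg, cP p.1.1 = 0 → ∃ w, p = δ (Multiplicative.ofAdd w) := by
    intro p hp h0
    obtain ⟨v, hv⟩ := (hPker _).1 h0
    obtain ⟨w, hw⟩ := (hAker _).1 ((show cP p.1.1 = cA p.1.2 from p.2).symm.trans h0)
    have hmem : Additive.ofMul ((p : D) : D ⧸ Δ) ∈ L := by
      refine ⟨(v, w), ?_⟩
      show Additive.ofMul (((⟨(eP v, eA w), _⟩ : D)) : D ⧸ Δ) = _
      congr 2
      exact Subtype.ext (Prod.ext hv hw)
    have h1 : Additive.ofMul ((p : D) : D ⧸ Δ) = 0 :=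
      (Submodule.disjoint_def.1 hC.disjoint) _ hmem hp
    obtain ⟨u, hu⟩ := (QuotientGroup.eq_one_iff p).1 h1
    exact ⟨u.toAdd, hu.symm⟩
  have hbij1 : Function.Bijective (fun p : Wg => (p : D).1.1) := by
    constructor
    · intro p r h
      obtain ⟨w, hw⟩ := hsmall ((p : D)⁻¹ * r) (Wg.mul_mem (Wg.inv_mem p.2) r.2) (by
        show cP ((p : D).1.1⁻¹ * (r : D).1.1) = 0
        rw [show (p : D).1.1⁻¹ * (r : D).1.1 = eP 0 by rw [hP0, inv_mul_eq_one]; exact h]
        exact hkP 0)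
      have h1 : eP w = 1 := by
        have := congrArg (fun x : D => x.1.1) hw
        have hh : (p : D).1.1 = (r : D).1.1 := h
        change (p : D).1.1⁻¹ * (r : D).1.1 = eP w at this
        rw [hh, inv_mul_cancel] at this
        exact this.symm
      rw [← hP0] at h1
      rw [hePinj h1] at hw
      have h2 : δ (Multiplicative.ofAdd (0 : W)) = 1 := map_one δ
      rw [h2, inv_mul_eq_one] at hw
      exact Subtype.ext hw
    · intro x
      obtain ⟨g, hg⟩ := hA1 (cP x)
      obtain ⟨l, hl, c, hc, hlc⟩ := Submodule.mem_sup.1 (show Additive.ofMul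
        (((⟨(x, g), hg.symm⟩ : D)) : D ⧸ Δ) ∈ L ⊔ C by rw [hC.sup_eq_top]; trivial)
      obtain ⟨⟨v, w⟩, hvw⟩ := hl
      have hmem : (⟨(eP v, eA w), by show cP (eP _) = cA (eA _); rw [hkP, hkA]⟩ : D)⁻¹ *
          (⟨(x, g), hg.symm⟩ : D) ∈ Wg := by
        show Additive.ofMul _ ∈ C
        rw [QuotientGroup.mk_mul, QuotientGroup.mk_inv, ofMul_mul, ofMul_inv, ← hlc,
          show Additive.ofMul (((⟨(eP v, eA w), _⟩ : D)) : D ⧸ Δ) = l from hvw, neg_add_cancel_left]
        exact hc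
      refine ⟨⟨_, Wg.mul_mem (hΔW v) hmem⟩, ?_⟩
      show eP v * ((eP v)⁻¹ * x) = x
      rw [mul_inv_cancel_left]
  have hbij2 : Function.Bijective (fun p : Wg => (p : D).1.2) := by
    constructor
    · intro p r h
      obtain ⟨w, hw⟩ := hsmall ((p : D)⁻¹ * r) (Wg.mul_mem (Wg.inv_mem p.2) r.2) (by
        rw [show cP ((p : D)⁻¹ * r).1.1 = cA ((p : D)⁻¹ * r).1.2 from ((p : D)⁻¹ * r).2]
        show cA ((p : D).1.2⁻¹ * (r : D).1.2) = 0
        rw [show (p : D).1.2⁻¹ * (r : D).1.2 = eA 0 by rw [hA0, inv_mul_eq_one]; exact h]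
        exact hkA 0)
      have h1 : eA w = 1 := by
        have := congrArg (fun x : D => x.1.2) hw
        have hh : (p : D).1.2 = (r : D).1.2 := h
        change (p : D).1.2⁻¹ * (r : D).1.2 = eA w at this
        rw [hh, inv_mul_cancel] at this
        exact this.symm
      rw [← hA0] at h1
      rw [heAinj h1] at hw
      have h2 : δ (Multiplicative.ofAdd (0 : W)) = 1 := map_one δ
      rw [h2, inv_mul_eq_one] at hw
      exact Subtype.ext hw
    · intro g
      obtain ⟨x, hx⟩ := hP1 (cA g)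
      obtain ⟨l, hl, c, hc, hlc⟩ := Submodule.mem_sup.1 (show Additive.ofMul
        (((⟨(x, g), hx⟩ : D)) : D ⧸ Δ) ∈ L ⊔ C by rw [hC.sup_eq_top]; trivial)
      obtain ⟨⟨v, w⟩, hvw⟩ := hl
      have hmem : (⟨(eP v, eA w), by show cP (eP _) = cA (eA _); rw [hkP, hkA]⟩ : D)⁻¹ *
          (⟨(x, g), hx⟩ : D) ∈ Wg := by
        show Additive.ofMul _ ∈ C
        rw [QuotientGroup.mk_mul, QuotientGroup.mk_inv, ofMul_mul, ofMul_inv, ← hlc,
          show Additive.ofMul (((⟨(eP v, eA w), _⟩ : D)) : D ⧸ Δ) = l from hvw, neg_add_cancel_left]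
        exact hc
      refine ⟨⟨_, Wg.mul_mem (hΔW w) hmem⟩, ?_⟩
      show eA w * ((eA w)⁻¹ * g) = g
      rw [mul_inv_cancel_left]
  let f1 : Wg →* P := (MonoidHom.fst P A).comp (D.subtype.comp Wg.subtype)
  let f2 : Wg →* A := (MonoidHom.snd P A).comp (D.subtype.comp Wg.subtype)
  refine ⟨(MulEquiv.ofBijective f1 hbij1).symm.trans (MulEquiv.ofBijective f2 hbij2), fun x => ?_⟩
  obtain ⟨w, rfl⟩ := hbij1.2 x
  show cA (f2 ((MulEquiv.ofBijective f1 hbij1).symm (MulEquiv.ofBijective f1 hbij1 w))) = _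
  rw [MulEquiv.symm_apply_apply]
  exact (w : D).2.symm

end Cfsg.Agent.TwoFusionB
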