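import Cfsg.Agent.TwoFusionB.ThreeInvol
import Cfsg.Agent.FGS76.Fpf3

/-!
# 2-groups with commuting automorphisms of orders 2 and 3, the involution fixing a central
four-group, the other one fixing nothing
-/

set_option autoImplicit false

namespace Cfsg.Agent.TwoFusionB

open Subgroup

/-- The hypotheses. -/
structure Six (T : Type*) [Group T] (ρ τ : MulAut T) : Prop where
  hp : IsPGroup 2 T
  cube : ∀ x, ρ (ρ (ρ x)) = x
  fpf : ∀ x, ρ x = x → x = 1
  invol : ∀ x, τ (τ x) = x
  comm : ∀ x, τ (ρ x) = ρ (τ x)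
  fixCent : ∀ x, τ x = x → x ∈ center T
  fix4 : Nat.card {x : T // τ x = x} = 4

/-- An involutory automorphism has a fixed point modulo an invariant subgroup. -/
theorem exists_fixed_mod {T : Type*} [Group T] (hp : IsPGroup 2 T) (τ : MulAut T)
    (hτ : ∀ x, τ (τ x) = x) (K N : Subgroup T) (hK : ∀ x ∈ K, τ x ∈ K) {x : T} (hxK : x ∈ K)
    (hxN : x ∉ N) : ∃ w ∈ K, w ∉ N ∧ w⁻¹ * τ w ∈ N := by
  classical
  by_cases hy : x⁻¹ * τ x ∈ N
  · exact ⟨x, hxK, hxN, hy⟩
  set y := x⁻¹ * τ x with hydef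
  have hyK : y ∈ K := mul_mem (inv_mem hxK) (hK x hxK)
  have hτy : τ y = y⁻¹ := by rw [hydef, map_mul, map_inv, hτ]; group
  have hex : ∃ i : ℕ, y ^ 2 ^ i ∈ N := by
    obtain ⟨k, hk⟩ := hp y
    exact ⟨k, by rw [hk]; exact one_mem _⟩
  obtain ⟨i, hi⟩ : ∃ i, Nat.find hex = i + 1 := by
    refine Nat.exists_eq_succ_of_ne_zero fun h0 => hy ?_
    have := Nat.find_spec hex
    rwa [h0, pow_zero, pow_one] at this
  have h1 : y ^ 2 ^ i ∉ N := Nat.find_min hex (by omega)
  have h2 : y ^ 2 ^ (i + 1) ∈ N := hi ▸ Nat.find_spec hex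
  refine ⟨_, pow_mem hyK _, h1, ?_⟩
  rw [map_pow, hτy, inv_pow, ← mul_inv_rev, ← pow_add]
  rw [pow_succ, mul_two] at h2
  exact inv_mem h2

/-- In a finite group a fixed-point-free automorphism of order three moves the points in threes. -/
theorem card_mod_three {α : Type*} [Finite α] (f : α → α) (h3 : ∀ a, f (f (f a)) = a) (a0 : α)
    (h0 : f a0 = a0) (huniq : ∀ a, f a = a → a = a0) : Nat.card α % 3 = 1 := by
  classical
  haveI := Fintype.ofFinite α
  haveI := Fact.mk Nat.prime_three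
  let g : Function.End α := f
  have hf : g ^ 3 ^ 1 = 1 := funext h3
  have := Equiv.Perm.card_fixedPoints_modEq (f := g) (p := 3) (n := 1) hf
  have h1 : Fintype.card (Function.fixedPoints f) = 1 :=
    Fintype.card_eq_one_iff.2 ⟨⟨a0, h0⟩, fun a => Subtype.ext (huniq a.1 a.2)⟩
  rw [Nat.card_eq_fintype_card]
  have e : Fintype.card α % 3 = Fintype.card (Function.fixedPoints g) % 3 := this
  erw [h1] at e
  simpa using e

namespace Six

variable {T : Type*} [Group T] {ρ τ : MulAut T} (h : Six T ρ τ)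
include h

theorem eq_one_of_pow_three {x : T} (hx : x * x * x = 1) : x = 1 := by
  have h3 : orderOf x ∣ 3 := orderOf_dvd_of_pow_eq_one (by rw [pow_succ, pow_two, hx])
  obtain ⟨k, hk⟩ := h.hp x
  have h2 : orderOf x ∣ 2 ^ k := orderOf_dvd_of_pow_eq_one hk
  exact orderOf_eq_one_iff.1 (Nat.eq_one_of_dvd_coprimes
    ((Nat.Coprime.pow k 1 (by norm_num : Nat.Coprime 2 3))) h2 (by simpa using h3))

theorem mem_of_cube_mem {x : T} {N : Subgroup T} (hx : x * x * x ∈ N) : x ∈ N := by
  obtain ⟨k, hk⟩ := h.hp x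
  have hco : Nat.Coprime 3 (2 ^ k) := Nat.Coprime.pow_right k (by norm_num)
  have e1 : x ^ 3 ∈ N := by rwa [pow_succ, pow_two]
  have e : x = (x ^ 3) ^ (Nat.gcdA 3 (2 ^ k)) := by
    have hb : ((Nat.gcd 3 (2 ^ k) : ℕ) : ℤ) =
        3 * Nat.gcdA 3 (2 ^ k) + ((2 ^ k : ℕ) : ℤ) * Nat.gcdB 3 (2 ^ k) := Nat.gcd_eq_gcd_ab _ _
    rw [hco.gcd_eq_one] at hb
    conv_lhs => rw [← zpow_one x, show (1 : ℤ) = _ from hb]
    rw [zpow_add, zpow_mul, zpow_mul, zpow_natCast, hk, one_zpow, mul_one]
    norm_cast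
  rw [e]
  exact zpow_mem e1 _

theorem relation [Finite T] (x : T) : x * ρ x * ρ (ρ x) = 1 :=
  FGS76.fpf3_relation ρ h.fpf h.cube x

theorem map_center (e : MulAut T) {z : T} (hz : z ∈ center T) : e z ∈ center T := by
  rw [mem_center_iff] at hz ⊢
  intro g
  obtain ⟨g, rfl⟩ := e.surjective g
  rw [← map_mul, ← map_mul, hz g]

theorem fix_rho {v : T} (hv : τ v = v) : τ (ρ v) = ρ v := by rw [h.comm, hv]

variable [Finite T]

theorem fix_cases {v u : T} (hv : τ v = v) (hv1 : v ≠ 1) (hu : τ u = u) :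
    u = 1 ∨ u = v ∨ u = ρ v ∨ u = ρ (ρ v) := by
  classical
  haveI := Fintype.ofFinite T
  by_contra hne
  simp only [not_or] at hne
  obtain ⟨h0, h1, h2, h3⟩ := hne
  have a1 : ρ v ≠ v := fun e => hv1 (h.fpf _ e)
  have a2 : ρ (ρ v) ≠ v := fun e => a1 ((congrArg ρ e).symm.trans (h.cube v))
  have a3 : ρ (ρ v) ≠ ρ v := fun e => a1 (ρ.injective e)
  have b1 : ρ v ≠ 1 := by simpa using hv1
  have b2 : ρ (ρ v) ≠ 1 := by simpa using hv1
  have hs : ({1, v, ρ v, ρ (ρ v), u} : Finset T) ⊆ Finset.univ.filter (fun x => τ x = x) := by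
    intro w hw
    simp only [Finset.mem_insert, Finset.mem_singleton] at hw
    simp only [Finset.mem_filter, Finset.mem_univ, true_and]
    rcases hw with rfl | rfl | rfl | rfl | rfl
    exacts [map_one _, hv, h.fix_rho hv, h.fix_rho (h.fix_rho hv), hu]
  have hcard := Finset.card_le_card hs
  rw [← Fintype.card_subtype, ← Nat.card_eq_fintype_card, h.fix4] at hcard
  rw [Finset.card_insert_of_notMem (by simp [hv1.symm, b1.symm, b2.symm, Ne.symm h0]),
    Finset.card_insert_of_notMem (by simp [a1.symm, a2.symm, Ne.symm h1]),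
    Finset.card_insert_of_notMem (by simp [a3.symm, Ne.symm h2]),
    Finset.card_insert_of_notMem (by simp [Ne.symm h3]), Finset.card_singleton] at hcard
  omega

theorem fix_sq {v : T} (hv : τ v = v) : v * v = 1 := by
  by_contra hne
  have hv1 : v ≠ 1 := fun e => hne (by rw [e, mul_one])
  obtain ⟨k, hk⟩ := (Nat.dvd_prime_pow Nat.prime_two).1
    (orderOf_dvd_of_pow_eq_one (h.hp v).choose_spec)
  have hlt : orderOf (v * v) < orderOf v := by
    rw [← pow_two, orderOf_pow, hk.2]
    rcases k with _ | k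
    · exact absurd (orderOf_eq_one_iff.1 hk.2) hv1
    · have hg : Nat.gcd (2 ^ (k + 1)) 2 = 2 :=
        Nat.gcd_eq_right (Dvd.intro_left _ (pow_succ 2 k).symm)
      rw [hg]
      exact Nat.div_lt_self (by positivity) (by norm_num)
  rcases h.fix_cases hv hv1 (by rw [map_mul, hv] : τ (v * v) = v * v) with e | e | e | e
  · exact hne e
  · exact hv1 (mul_eq_left.1 e)
  · rw [e, MulEquiv.orderOf_eq] at hlt; exact lt_irrefl _ hlt
  · rw [e, MulEquiv.orderOf_eq, MulEquiv.orderOf_eq] at hlt; exact lt_irrefl _ hlt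

theorem exists_fix : ∃ v : T, τ v = v ∧ v ≠ 1 := by
  by_contra! hno
  have : Subsingleton {x : T // τ x = x} :=
    ⟨fun a b => Subtype.ext ((hno a.1 a.2).trans (hno b.1 b.2).symm)⟩
  have h1 := Finite.card_le_one_iff_subsingleton.2 this
  rw [h.fix4] at h1
  omega

/-- An invariant subgroup containing one fixed point other than `1` contains all of them. -/
theorem fix_le (S : Subgroup T) (hS : ∀ x ∈ S, ρ x ∈ S) {v : T} (hv : τ v = v) (hv1 : v ≠ 1)
    (hvS : v ∈ S) {u : T} (hu : τ u = u) : u ∈ S := by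
  rcases h.fix_cases hv hv1 hu with rfl | rfl | rfl | rfl
  exacts [one_mem _, hvS, hS _ hvS, hS _ (hS _ hvS)]

/-- The abelian case. -/
theorem comm_cases (hc : ∀ a b : T, a * b = b * a) :
    (Nat.card T = 16 ∧ ∀ x : T, x * x = 1) ∨ ThreeInvol T := by
  classical
  let _ : CommGroup T := { (inferInstance : Group T) with mul_comm := hc }
  let W : Subgroup T := (powMonoidHom 2 : T →* T).ker
  have hW : ∀ x : T, x ∈ W ↔ x * x = 1 := fun x => by
    simp [W, MonoidHom.mem_ker, pow_two]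
  let F : Subgroup T := τ.toMonoidHom.eqLocus (MonoidHom.id T)
  have hF : ∀ x : T, x ∈ F ↔ τ x = x := fun x => Iff.rfl
  have hFc : Nat.card F = 4 := h.fix4
  let d : T →* T :=
    { toFun := fun x => x⁻¹ * τ x
      map_one' := by simp
      map_mul' := fun a b => by rw [map_mul, mul_inv]; exact mul_mul_mul_comm _ _ _ _ }
  have hd : ∀ x : T, x ∈ d.ker ↔ τ x = x := fun x => by
    rw [MonoidHom.mem_ker]
    exact inv_mul_eq_one.trans eq_comm
  have key : ∀ (S : Subgroup T), (∀ x ∈ S, x⁻¹ * τ x ∈ F) → Nat.card S ≤ 16 := by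
    intro S hS
    let d' : S →* F := (d.comp S.subtype).codRestrict F fun x => hS x.1 x.2
    have h1 : Nat.card d'.ker ≤ 4 := by
      rw [← h.fix4]
      refine Nat.card_le_card_of_injective
        (fun x => ⟨x.1.1, (hd _).1 (congrArg Subtype.val x.2)⟩) fun a b e => ?_
      exact Subtype.ext (Subtype.ext (congrArg (Subtype.val (p := fun x => τ x = x)) e : _))
    have h2 : Nat.card d'.range ≤ 4 := by rw [← hFc]; exact card_le_card_group _
    calc Nat.card S = Nat.card d'.ker * Nat.card d'.range := by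
          rw [← index_ker d', card_mul_index]
      _ ≤ 4 * 4 := Nat.mul_le_mul h1 h2
  have hW16 : Nat.card W ≤ 16 := key W fun x hx => by
    rw [hF, map_mul, map_inv, h.invol]
    have e : x⁻¹ = x := inv_eq_of_mul_eq_one_right ((hW x).1 hx)
    rw [e, ← map_inv, e, hc]
  have hW3 : Nat.card W % 3 = 1 := card_mod_three
    (fun w : W => (⟨ρ w, (hW _).2 (by rw [← map_mul, (hW _).1 w.2, map_one])⟩ : W))
    (fun w => Subtype.ext (h.cube _)) 1 (Subtype.ext (map_one ρ))
    (fun w hw => Subtype.ext (h.fpf _ (congrArg Subtype.val hw)))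
  have hW4 : 4 ≤ Nat.card W := by
    rw [← h.fix4]
    refine Nat.card_le_card_of_injective (fun x => (⟨x.1, (hW _).2 (h.fix_sq x.2)⟩ : W))
      fun a b e => Subtype.ext ?_
    exact (congrArg Subtype.val e : _)
  obtain ⟨k, hk⟩ := (IsPGroup.iff_card (p := 2)).1 (h.hp.to_subgroup W)
  have hk' : Nat.card W = 4 ∨ Nat.card W = 16 := by
    have : k ≤ 4 := by
      by_contra hlt
      push Not at hlt
      have : 2 ^ 5 ≤ 2 ^ k := Nat.pow_le_pow_right (by norm_num) hlt
      omega
    interval_cases k <;> omega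
  rcases hk' with hk4 | hk16
  · right
    refine ⟨h.hp, fun x _ => mem_center_iff.2 fun g => hc g x, ?_⟩
    rw [← hk4]
    exact (Nat.card_congr (Equiv.subtypeEquivRight hW)).symm
  left
  let W2 : Subgroup T := (powMonoidHom 4 : T →* T).ker
  have hW2 : ∀ x : T, x ∈ W2 ↔ x * x * (x * x) = 1 := fun x => by
    simp [W2, MonoidHom.mem_ker, pow_succ, mul_assoc]
  have hle : W ≤ W2 := fun x hx => (hW2 x).2 (by rw [(hW x).1 hx, mul_one])
  have hW216 : Nat.card W2 ≤ 16 := key W2 fun x hx => by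
    have h4 := (hW2 x).1 hx
    have hv : τ (x * τ x) = x * τ x := by rw [map_mul, h.invol, hc]
    have hv2 := h.fix_sq hv
    have e2 : x * x * (τ x * τ x) = 1 := by rw [mul_mul_mul_comm, hv2]
    have hxx : τ (x * x) = x * x := by
      rw [map_mul, eq_inv_of_mul_eq_one_right e2, inv_eq_of_mul_eq_one_right h4]
    have : x⁻¹ * τ x = x⁻¹ * x⁻¹ * (x * τ x) := by group
    rw [hF, this, map_mul, hv, ← mul_inv_rev, map_inv, hxx]
  have hWW2 : W = W2 := eq_of_le_of_card_ge hle (by omega)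
  have hall : ∀ (k : ℕ) (x : T), x ^ 2 ^ k = 1 → x * x = 1 := by
    intro k
    induction k with
    | zero => intro x hx; rw [pow_zero, pow_one] at hx; rw [hx, mul_one]
    | succ k ih =>
      intro x hx
      rw [pow_succ', pow_mul] at hx
      have := ih _ hx
      rw [← hW, hWW2, hW2]
      simpa only [← pow_two] using this
  have htop : ∀ x : T, x * x = 1 := fun x => hall _ x (h.hp x).choose_spec
  refine ⟨?_, htop⟩
  rw [← hk16, ← (Subgroup.topEquiv (G := T)).toEquiv |> Nat.card_congr,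
    show W = ⊤ from eq_top_iff.2 fun x _ => (hW x).2 (htop x)]

/-- The restriction of an automorphism to the centre. -/
def centerAut (e : MulAut T) : MulAut (center T) where
  toFun z := ⟨e z, h.map_center e z.2⟩
  invFun z := ⟨e.symm z, h.map_center e.symm z.2⟩
  left_inv z := Subtype.ext (e.symm_apply_apply z.1)
  right_inv z := Subtype.ext (e.apply_symm_apply z.1)
  map_mul' a b := Subtype.ext (map_mul e a.1 b.1)

theorem center_six : Six (center T) (h.centerAut ρ) (h.centerAut τ) where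
  hp := h.hp.to_subgroup _
  cube z := Subtype.ext (h.cube _)
  fpf z hz := Subtype.ext (h.fpf _ (congrArg Subtype.val hz))
  invol z := Subtype.ext (h.invol _)
  comm z := Subtype.ext (h.comm _)
  fixCent z _ := mem_center_iff.2 fun g => Subtype.ext (mem_center_iff.1 z.2 g)
  fix4 := by
    rw [← h.fix4]
    exact Nat.card_congr
      { toFun := fun z => ⟨z.1.1, congrArg Subtype.val z.2⟩
        invFun := fun x => ⟨⟨x.1, h.fixCent _ x.2⟩, Subtype.ext x.2⟩
        left_inv := fun z => rfl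
        right_inv := fun x => rfl }

end Six

end Cfsg.Agent.TwoFusionB
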