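import Cfsg.Agent.TwoFusionB.FpfSix
import Cfsg.Agent.TwoFusionB.ThreeInvolIso

/-!
# The non-abelian case has order 64
-/

set_option autoImplicit false

namespace Cfsg.Agent.TwoFusionB

open Subgroup
open scoped commutatorElement

namespace Six

variable {T : Type*} [Group T] [Finite T] {ρ τ : MulAut T} (h : Six T ρ τ)
include h

/-- The centre has only three involutions, unless the group is abelian. -/
theorem center_three (hna : ¬ ∀ a b : T, a * b = b * a) : ThreeInvol (center T) := by
  classical
  have hs := h.center_six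
  have hcZ : ∀ a b : center T, a * b = b * a := fun a b =>
    Subtype.ext (mem_center_iff.1 b.2 a.1)
  rcases hs.comm_cases hcZ with ⟨h16, hel⟩ | h3
  · exfalso
    apply hna
    by_contra hnab
    obtain ⟨x, hx⟩ : ∃ x : T, x ∉ center T := by
      by_contra! hall
      exact hnab fun a b => mem_center_iff.1 (hall b) a
    obtain ⟨w, -, hw, hc⟩ := exists_fixed_mod h.hp τ h.invol ⊤ (center T)
      (fun _ _ => mem_top _) (mem_top x) hx
    let d : center T →* center T :=
      { toFun := fun z => z⁻¹ * h.centerAut τ z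
        map_one' := by simp
        map_mul' := fun a b => by
          rw [map_mul, mul_inv_rev, hcZ (b⁻¹) (a⁻¹)]
          simp only [mul_assoc]
          congr 1
          rw [← mul_assoc, hcZ (b⁻¹) (h.centerAut τ a), mul_assoc] }
    have hker : Nat.card d.ker = 4 := by
      rw [← hs.fix4]
      exact Nat.card_congr (Equiv.subtypeEquivRight fun z => by
        show z⁻¹ * h.centerAut τ z = 1 ↔ _
        exact inv_mul_eq_one.trans eq_comm)
    have hcc : τ (w⁻¹ * τ w) = w⁻¹ * τ w := by
      have e : (w⁻¹ * τ w)⁻¹ = w⁻¹ * τ w := inv_eq_of_mul_eq_one_right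
        (congrArg Subtype.val (hel ⟨_, hc⟩))
      conv_rhs => rw [← e]
      rw [map_mul, map_inv, h.invol, mul_inv_rev, inv_inv]
    have hrange : Nat.card d.range = 4 := by
      have := (d.ker.card_mul_index).symm
      rw [index_ker, hker, h16] at this
      omega
    have hsub : ∀ z ∈ d.range, h.centerAut τ z = z := by
      rintro _ ⟨z, rfl⟩
      show h.centerAut τ (z⁻¹ * h.centerAut τ z) = z⁻¹ * h.centerAut τ z
      rw [map_mul, map_inv, hs.invol]
      have e : ∀ u : center T, u⁻¹ = u := fun u => inv_eq_of_mul_eq_one_right (hel u)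
      rw [e, e z, hcZ]
    have hsurj : (⟨_, hc⟩ : center T) ∈ d.range := by
      by_contra hno
      haveI := Fintype.ofFinite (center T)
      let f : Option d.range → {z : center T // h.centerAut τ z = z} := fun o =>
        match o with
        | none => ⟨⟨_, hc⟩, Subtype.ext hcc⟩
        | some r => ⟨r.1, hsub _ r.2⟩
      have hf : Function.Injective f := by
        rintro (_ | a) (_ | b) e
        · rfl
        · have e' : (⟨_, hc⟩ : center T) = b.1 := congrArg Subtype.val e
          exact absurd (by rw [e']; exact b.2) hno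
        · have e' : a.1 = (⟨_, hc⟩ : center T) := congrArg Subtype.val e
          exact absurd (by rw [← e']; exact a.2) hno
        · exact congrArg some (Subtype.ext
            (congrArg (fun q : {z : center T // h.centerAut τ z = z} => q.1) e : _))
      have := Nat.card_le_card_of_injective f hf
      rw [hs.fix4, Finite.card_option, hrange] at this
      omega
    obtain ⟨z, hz⟩ := hsurj
    have e : (z : T)⁻¹ * τ z = w⁻¹ * τ w := congrArg Subtype.val hz
    have hfix : τ (w * (z : T)⁻¹) = w * (z : T)⁻¹ := by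
      rw [map_mul, map_inv, show τ w = w * ((z : T)⁻¹ * τ z) by rw [e]; group]
      group
    have := mul_mem (h.fixCent _ hfix) z.2
    rw [inv_mul_cancel_right] at this
    exact hw this
  · exact h3

/-- The image of `z ↦ z⁻¹ * τ z` on the centre has index four. -/
theorem centre_index (h3 : ThreeInvol (center T)) :
    ∃ B : Subgroup (center T), B.index = 4 ∧
      ∀ c : center T, c ∈ B ↔ ∃ z : center T, (z : T)⁻¹ * τ z = c := by
  classical
  have hs := h.center_six
  have hcZ : ∀ a b : center T, a * b = b * a := fun a b =>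
    Subtype.ext (mem_center_iff.1 b.2 a.1)
  let _ : CommGroup (center T) := { (inferInstance : Group (center T)) with mul_comm := hcZ }
  let d : center T →* center T :=
    { toFun := fun z => z⁻¹ * h.centerAut τ z
      map_one' := by simp
      map_mul' := fun a b => by rw [map_mul, mul_inv]; exact mul_mul_mul_comm _ _ _ _ }
  refine ⟨d.range, ?_, fun c => ⟨fun ⟨z, hz⟩ => ⟨z, congrArg Subtype.val hz⟩,
    fun ⟨z, hz⟩ => ⟨z, Subtype.ext hz⟩⟩⟩
  have hker : Nat.card d.ker = 4 := by
    rw [← hs.fix4]
    exact Nat.card_congr (Equiv.subtypeEquivRight fun z => inv_mul_eq_one.trans eq_comm)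
  have h1 := d.range.card_mul_index
  have h2 := d.ker.card_mul_index
  rw [index_ker, hker] at h2
  have : 0 < Nat.card d.range := Nat.card_pos
  rw [← h2, mul_comm 4] at h1
  exact mul_left_cancel₀ this.ne' h1

omit h in
/-- The automorphism induced on the quotient by the centre. -/
noncomputable def quotAut (e : MulAut T) : MulAut (T ⧸ center T) :=
  QuotientGroup.congr (center T) (center T) e
    (characteristic_iff_map_eq.1 inferInstance e)

theorem quot_six (hna : ¬ ∀ a b : T, a * b = b * a) :
    Six (T ⧸ center T) (quotAut ρ) (quotAut τ) ∧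
      ∀ a b : T ⧸ center T, a * b = b * a := by
  classical
  have hq : ∀ (e : MulAut T) (x : T), quotAut e x = (e x : T) := fun e x => rfl
  have h3 := h.center_three hna
  have hcomm : ∀ a b c : T, Commute ⁅a, b⁆ c :=
    FGS76.commutator_mem_center_of_engel (FGS76.fpf3_engel ρ h.fpf h.cube) (by
      obtain ⟨k, hk⟩ := (IsPGroup.iff_card (p := 2)).1 h.hp
      rw [hk]
      intro hd
      exact absurd (Nat.prime_three.dvd_of_dvd_pow hd) (by norm_num))
  have hab : ∀ a b : T ⧸ center T, a * b = b * a := by
    intro a b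
    induction a using QuotientGroup.induction_on with | _ a => ?_
    induction b using QuotientGroup.induction_on with | _ b => ?_
    rw [← QuotientGroup.mk_mul, ← QuotientGroup.mk_mul, QuotientGroup.eq]
    have : ⁅b⁻¹, a⁻¹⁆ ∈ center T := mem_center_iff.2 fun g => (hcomm _ _ g).symm.eq
    simpa [commutatorElement_def, mul_assoc] using this
  have fpfq : ∀ a : T ⧸ center T, quotAut ρ a = a → a = 1 := by
    intro a ha; induction a using QuotientGroup.induction_on with | _ a => ?_
    rw [hq, QuotientGroup.eq] at ha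
    have hc : a⁻¹ * ρ a ∈ center T := by simpa [mul_inv_rev] using inv_mem ha
    rw [QuotientGroup.eq_one_iff]
    apply h.mem_of_cube_mem
    set c := a⁻¹ * ρ a with hcdef
    have hρa : ρ a = a * c := by rw [hcdef]; group
    have hr := h.relation a
    rw [hρa, map_mul, hρa] at hr
    have e1 : a * (a * c) * (a * c * ρ c) = a * a * a * (c * c * ρ c) := by
      have hca : c * a = a * c := (mem_center_iff.1 hc a).symm
      calc a * (a * c) * (a * c * ρ c) = a * a * (c * a) * c * ρ c := by group
        _ = _ := by rw [hca]; group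
    rw [e1] at hr
    rw [eq_inv_of_mul_eq_one_left hr]
    exact inv_mem (mul_mem (mul_mem hc hc) (h.map_center ρ hc))
  refine ⟨⟨h.hp.to_quotient _, ?_, fpfq, ?_, ?_, fun x _ => mem_center_iff.2 fun g => hab g x, ?_⟩,
    hab⟩
  · intro a; induction a using QuotientGroup.induction_on with | _ a => ?_
    rw [hq, hq, hq, h.cube]
  · intro a; induction a using QuotientGroup.induction_on with | _ a => ?_
    rw [hq, hq, h.invol]
  · intro a; induction a using QuotientGroup.induction_on with | _ a => ?_
    rw [hq, hq, hq, hq, h.comm]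
  · obtain ⟨B, hB4, hB⟩ := h.centre_index h3
    let qτ : MulAut (T ⧸ center T) := quotAut τ
    let F : Subgroup (T ⧸ center T) := qτ.toMonoidHom.eqLocus (MonoidHom.id _)
    have hmem : ∀ a : F, (a.1.out)⁻¹ * τ a.1.out ∈ center T := by
      intro a
      have e := a.2
      rw [← QuotientGroup.out_eq' a.1] at e
      have e' : ((τ a.1.out : T) : T ⧸ center T) = (a.1.out : T) := e
      exact QuotientGroup.eq.1 e'.symm
    have hle : Nat.card F ≤ 4 := by
      rw [← hB4]
      refine Nat.card_le_card_of_injective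
        (fun a => (QuotientGroup.mk (⟨_, hmem a⟩ : center T) : center T ⧸ B)) fun a b e => ?_
      obtain ⟨z, hz⟩ := (hB _).1 (QuotientGroup.eq.1 e)
      apply Subtype.ext
      rw [← QuotientGroup.out_eq' a.1, ← QuotientGroup.out_eq' b.1]
      refine (QuotientGroup.eq).2 ?_
      simp only [Subgroup.coe_mul, InvMemClass.coe_inv] at hz
      generalize a.1.out = x at hz ⊢
      generalize b.1.out = y at hz ⊢
      have hc : (z : T)⁻¹ * τ z ∈ center T := mul_mem (inv_mem z.2) (h.map_center τ z.2)
      have hfix : τ (y * (x * (z : T))⁻¹) = y * (x * (z : T))⁻¹ := by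
        have e : τ y = y * (x⁻¹ * τ x) * ((z : T)⁻¹ * τ z) := by rw [hz]; group
        have hc2 : x⁻¹ * τ x * ((z : T)⁻¹ * τ z) = (z : T)⁻¹ * (x⁻¹ * τ x) * τ z := by
          rw [← mul_assoc, ← mem_center_iff.1 (inv_mem z.2) (x⁻¹ * τ x)]
        rw [map_mul, map_inv, map_mul, e, mul_assoc y, hc2]
        group
      have hyx : y * x⁻¹ ∈ center T := by
        have h1 := h.fixCent _ hfix
        have h2 := mul_mem h1 z.2
        have e : y * (x * (z : T))⁻¹ * z = y * x⁻¹ := by
          rw [mul_inv_rev, ← mem_center_iff.1 (inv_mem z.2) x⁻¹, ← mul_assoc, inv_mul_cancel_right]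
        rwa [e] at h2
      have e : x⁻¹ * y = y * x⁻¹ := by
        calc x⁻¹ * y = x⁻¹ * (y * x⁻¹) * x := by group
          _ = y * x⁻¹ * x⁻¹ * x := by rw [mem_center_iff.1 hyx x⁻¹]
          _ = _ := by group
      rw [e]
      exact hyx
    have hne : Nontrivial (T ⧸ center T) := by
      rw [QuotientGroup.nontrivial_iff]
      intro e
      exact hna fun a b => mem_center_iff.1 (e ▸ mem_top b) a
    obtain ⟨a, ha⟩ := exists_ne (1 : T ⧸ center T)
    induction a using QuotientGroup.induction_on with | _ a => ?_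
    obtain ⟨w, -, hw, hc⟩ := exists_fixed_mod h.hp τ h.invol ⊤ (center T)
      (fun _ _ => mem_top _) (mem_top a) fun e => ha ((QuotientGroup.eq_one_iff _).2 e)
    have hwF : (w : T ⧸ center T) ∈ F := (QuotientGroup.eq.2 hc).symm
    have hρF : ∀ x ∈ F, quotAut ρ x ∈ F := by
      intro x hx
      induction x using QuotientGroup.induction_on with | _ x => ?_
      have e : ((τ x : T) : T ⧸ center T) = (x : T) := hx
      show ((τ (ρ x) : T) : T ⧸ center T) = (ρ x : T)
      rw [h.comm]
      exact congrArg (quotAut ρ) e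
    have h3 : Nat.card F % 3 = 1 := card_mod_three
      (fun x : F => (⟨quotAut ρ x, hρF _ x.2⟩ : F))
      (fun x => Subtype.ext (by
        obtain ⟨x, hx⟩ := x
        induction x using QuotientGroup.induction_on with | _ x => ?_
        show quotAut ρ (quotAut ρ (quotAut ρ (x : T ⧸ center T))) = _
        rw [hq, hq, hq, h.cube])) 1 (Subtype.ext (map_one _))
      (fun x hx => Subtype.ext (fpfq _ (congrArg Subtype.val hx)))
    have h1 : 1 < Nat.card F := by
      haveI : Nontrivial F := ⟨⟨⟨_, hwF⟩, 1, fun e => hw ((QuotientGroup.eq_one_iff _).1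
        (congrArg Subtype.val e))⟩⟩
      exact Finite.one_lt_card
    show Nat.card F = 4
    omega

/-- The quotient by the centre is elementary abelian of order sixteen. -/
theorem quot_elem (hna : ¬ ∀ a b : T, a * b = b * a) :
    Nat.card (T ⧸ center T) = 16 ∧ ∀ a : T, a * a ∈ center T := by
  classical
  obtain ⟨hq6, hab⟩ := h.quot_six hna
  rcases hq6.comm_cases hab with ⟨h16, hel⟩ | h3
  · exact ⟨h16, fun a => (QuotientGroup.eq_one_iff _).1 (hel (a : T ⧸ center T))⟩
  exfalso
  let A := T ⧸ center T
  let _ : CommGroup A := { (inferInstance : Group A) with mul_comm := hab }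
  let sq : A →* A := powMonoidHom 2
  have hker : Nat.card sq.ker = 4 := by
    rw [← h3.card4]
    exact Nat.card_congr (Equiv.subtypeEquivRight fun a => by simp [sq, pow_two])
  have hidx : sq.range.index = 4 := by
    have h1 := sq.range.card_mul_index
    have h2 := sq.ker.card_mul_index
    rw [index_ker, hker] at h2
    have : 0 < Nat.card sq.range := Nat.card_pos
    rw [← h2, mul_comm 4] at h1
    exact mul_left_cancel₀ this.ne' h1
  have hS : ∀ a ∈ sq.range, quotAut ρ a ∈ sq.range := by
    rintro _ ⟨b, rfl⟩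
    exact ⟨quotAut ρ b, (map_pow (quotAut ρ) b 2).symm⟩
  have hsqm : ∀ a : A, a * a ∈ sq.range := fun a => ⟨a, by simp [sq, pow_two]⟩
  obtain ⟨a, ha⟩ : ∃ a : A, a ∉ sq.range := by
    by_contra! hall
    rw [show sq.range = ⊤ from eq_top_iff.2 fun a _ => hall a, index_top] at hidx
    omega
  have hrel : ∀ a : A, a * quotAut ρ a * quotAut ρ (quotAut ρ a) = 1 := hq6.relation
  have hfix : ∀ b : A, b⁻¹ * quotAut ρ b ∈ sq.range → b ∈ sq.range := by
    intro b hb
    have hs1 := hS _ hb
    set s := b⁻¹ * quotAut ρ b with hsdef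
    have hρb : quotAut ρ b = b * s := by rw [hsdef]; group
    have hr := hrel b
    rw [hρb, map_mul, hρb] at hr
    have hb3 : b * b * b = (s * s * quotAut ρ s)⁻¹ := by
      refine eq_inv_of_mul_eq_one_left ?_
      rw [← hr]; simp only [mul_assoc, mul_comm, mul_left_comm]
    have hmem : b * b * b ∈ sq.range := hb3 ▸ inv_mem (mul_mem (mul_mem hb hb) hs1)
    have e : b = (b * b)⁻¹ * (b * b * b) := by group
    rw [e]
    exact mul_mem (inv_mem (hsqm b)) hmem
  let M : Subgroup A := closure {a, quotAut ρ a}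
  have haM : a ∈ M := subset_closure (Set.mem_insert _ _)
  have hρM : quotAut ρ a ∈ M := subset_closure (Set.mem_insert_of_mem _ rfl)
  have hρ2M : quotAut ρ (quotAut ρ a) ∈ M := by
    rw [eq_inv_of_mul_eq_one_right (hrel a)]
    exact inv_mem (mul_mem haM hρM)
  have hstep : ∀ b : A, ∃ m ∈ M, ∃ u, b = m * (u * u) := by
    intro b
    let Q := A ⧸ sq.range
    haveI := Fintype.ofFinite Q
    have hne : ∀ c : A, c ∉ sq.range → ((c : Q) ≠ (quotAut ρ c : A)) :=
      fun c hc e => hc (hfix c (QuotientGroup.eq.1 e))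
    have ha1 : quotAut ρ a ∉ sq.range := fun hh => ha (by
      have := hS _ (hS _ hh); rwa [hq6.cube] at this)
    have ha2 : quotAut ρ (quotAut ρ a) ∉ sq.range := fun hh => ha (by
      have := hS _ hh; rwa [hq6.cube] at this)
    have n0 : ∀ c : A, c ∉ sq.range → (1 : Q) ≠ (c : Q) := fun c hc e =>
      hc ((QuotientGroup.eq_one_iff _).1 e.symm)
    have n1 := hne a ha
    have n2 := hne _ ha1
    have n3 : ((quotAut ρ (quotAut ρ a) : A) : Q) ≠ (a : Q) := by
      have := hne _ ha2; rwa [hq6.cube] at this
    have hu : ({1, (a : Q), ((quotAut ρ a : A) : Q), ((quotAut ρ (quotAut ρ a) : A) : Q)} :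
        Finset Q) = Finset.univ := by
      apply Finset.eq_univ_of_card
      rw [Finset.card_insert_of_notMem (by simp [n0 _ ha, n0 _ ha1, n0 _ ha2]),
        Finset.card_insert_of_notMem (by simp [n1, n3.symm]),
        Finset.card_insert_of_notMem (by simp [n2]), Finset.card_singleton,
        ← Nat.card_eq_fintype_card]
      exact hidx.symm
    have hb := Finset.mem_univ (b : Q)
    rw [← hu] at hb
    simp only [Finset.mem_insert, Finset.mem_singleton] at hb
    have key : ∀ m ∈ M, (b : Q) = (m : Q) → ∃ m ∈ M, ∃ u, b = m * (u * u) := by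
      intro m hm e
      obtain ⟨u, hu⟩ := QuotientGroup.eq.1 e.symm
      refine ⟨m, hm, u, ?_⟩
      have hu' : u * u = m⁻¹ * b := by rw [← hu]; simp [sq, pow_two]
      rw [hu', mul_inv_cancel_left]
    rcases hb with e | e | e | e
    exacts [key 1 (one_mem _) e, key a haM e, key _ hρM e, key _ hρ2M e]
  have hMtop : ∀ b : A, b ∈ M := by
    have hind : ∀ (k : ℕ) (b : A), ∃ m ∈ M, ∃ u, b = m * u ^ 2 ^ k := by
      intro k
      induction k with
      | zero => exact fun b => ⟨1, one_mem _, b, by simp⟩
      | succ k ih =>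
        intro b
        obtain ⟨m, hm, u, rfl⟩ := ih b
        obtain ⟨m', hm', u', rfl⟩ := hstep u
        refine ⟨m * m' ^ 2 ^ k, mul_mem hm (pow_mem hm' _), u', ?_⟩
        rw [mul_pow, ← pow_two, ← pow_mul, ← pow_succ', mul_assoc]
    intro b
    obtain ⟨K, hK⟩ := (IsPGroup.iff_card (p := 2)).1 hq6.hp
    obtain ⟨m, hm, u, rfl⟩ := hind K b
    rw [show u ^ 2 ^ K = 1 by rw [← hK]; exact pow_card_eq_one', mul_one]
    exact hm
  induction a using QuotientGroup.induction_on with | _ x => ?_
  have hx : x ∉ center T := fun e => ha (by rw [(QuotientGroup.eq_one_iff x).2 e]; exact one_mem _)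
  apply hx
  rw [mem_center_iff]
  intro g
  have hcx : (closure {x, ρ x} ⊔ center T : Subgroup T) ≤ centralizer {x} := by
    refine sup_le ((closure_le _).2 ?_) (center_le_centralizer _)
    intro y hy
    rw [SetLike.mem_coe, mem_centralizer_singleton_iff]
    rcases hy with rfl | hy
    · rfl
    · rw [Set.mem_singleton_iff.1 hy]
      exact (FGS76.fpf3_commute ρ h.fpf h.cube x).eq.symm
  have htop : (closure {x, ρ x} ⊔ center T : Subgroup T) = ⊤ := by
    refine eq_top_iff.2 fun y _ => ?_
    have hy := hMtop (y : A)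
    have e : M = (closure {x, ρ x}).map (QuotientGroup.mk' (center T)) := by
      rw [MonoidHom.map_closure, Set.image_pair]; rfl
    rw [e] at hy
    obtain ⟨m, hm, hmy⟩ := hy
    have e : y = m * (m⁻¹ * y) := (mul_inv_cancel_left m y).symm
    rw [e]
    exact mul_mem (mem_sup_left hm) (mem_sup_right (QuotientGroup.eq.1 hmy))
  have := hcx (htop ▸ mem_top g)
  exact mem_centralizer_singleton_iff.1 this

/-- A non-abelian group has order 64 and its centre is the four-group of fixed points. -/
theorem shape (hna : ¬ ∀ a b : T, a * b = b * a) :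
    Nat.card T = 64 ∧ Nat.card (center T) = 4 ∧ (∀ a : T, a * a ∈ center T) ∧
      ∀ z ∈ center T, z * z = 1 := by
  classical
  obtain ⟨h16, hsq⟩ := h.quot_elem hna
  have h3 := h.center_three hna
  have hvsq : ∀ z ∈ center T, z * z = 1 := by
    by_contra hcon
    push Not at hcon
    obtain ⟨z0, hz0, hz01⟩ := hcon
    obtain ⟨z1, hz1, hz11, hz14⟩ : ∃ z ∈ center T, z * z ≠ 1 ∧ z * z * (z * z) = 1 := by
      have hex : ∃ i, z0 ^ 2 ^ i = 1 := h.hp z0
      have hs := Nat.find_spec hex
      have h2 : 2 ≤ Nat.find hex := by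
        by_contra hlt
        push Not at hlt
        apply hz01
        interval_cases Nat.find hex <;> simp_all [pow_two]
      obtain ⟨j, hj⟩ : ∃ j, Nat.find hex = j + 2 := ⟨Nat.find hex - 2, by omega⟩
      rw [hj] at hs
      refine ⟨z0 ^ 2 ^ j, pow_mem hz0 _, ?_, ?_⟩
      · rw [← pow_two, ← pow_mul, ← pow_succ]
        exact Nat.find_min hex (by omega)
      · rw [← pow_two, ← pow_two, ← pow_mul, ← pow_mul]
        rw [pow_add, pow_two] at hs
        simpa [mul_assoc] using hs
    have hfix4 : ∀ c ∈ center T, c * c = 1 → τ c = c := by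
      intro c hc hc2
      let fC : {v : T // τ v = v} → {z : center T // z * z = 1} := fun v =>
        ⟨⟨v.1, h.fixCent _ v.2⟩, Subtype.ext (h.fix_sq v.2)⟩
      have hinj : Function.Injective fC := fun a b e =>
        Subtype.ext (congrArg (fun q : {z : center T // z * z = 1} => (q.1 : T)) e : _)
      obtain ⟨v, hv⟩ := (hinj.bijective_of_nat_card_le (by rw [h3.card4, h.fix4])).2
        ⟨⟨c, hc⟩, Subtype.ext hc2⟩
      have e : v.1 = c := congrArg (fun q : {z : center T // z * z = 1} => (q.1 : T)) hv
      rw [← e]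
      exact v.2
    obtain ⟨B, -, hB⟩ := h.centre_index h3
    let Z2 : Subgroup T :=
      { carrier := {c | ∃ z ∈ center T, c = z * z}
        one_mem' := ⟨1, one_mem _, (one_mul 1).symm⟩
        mul_mem' := by
          rintro _ _ ⟨a, ha, rfl⟩ ⟨b, hb, rfl⟩
          refine ⟨a * b, mul_mem ha hb, ?_⟩
          have e : b * a = a * b := mem_center_iff.1 ha b
          calc a * a * (b * b) = a * (a * b) * b := by group
            _ = a * (b * a) * b := by rw [e]
            _ = _ := by group
        inv_mem' := by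
          rintro _ ⟨a, ha, rfl⟩
          exact ⟨a⁻¹, inv_mem ha, mul_inv_rev a a⟩ }
    have hsqall : ∀ c ∈ center T, c * c = 1 → ∃ z ∈ center T, c = z * z := by
      intro c hc hc2
      exact h.fix_le Z2 (fun w ⟨z, hz, e⟩ => ⟨ρ z, h.map_center ρ hz, by rw [e, map_mul]⟩)
        (hfix4 _ (mul_mem hz1 hz1) hz14) hz11 ⟨z1, hz1, rfl⟩ (hfix4 c hc hc2)
    have hBall : ∀ c ∈ center T, c * c = 1 → ∃ z ∈ center T, z⁻¹ * τ z = c := by
      intro c hc hc2
      have hv : τ (z1 * τ z1) = z1 * τ z1 := by
        rw [map_mul, h.invol, mem_center_iff.1 (h.map_center τ hz1) z1]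
      have e : z1⁻¹ * τ z1 = (z1 * z1)⁻¹ * (z1 * τ z1) := by group
      have hd1 : τ (z1⁻¹ * τ z1) = z1⁻¹ * τ z1 := by
        rw [e, map_mul, map_inv, hfix4 _ (mul_mem hz1 hz1) hz14, hv]
      have hd0 : z1⁻¹ * τ z1 ≠ 1 := fun e1 =>
        hz11 (h.fix_sq (inv_mul_eq_one.1 e1).symm)
      have hρB : ∀ w ∈ B.map (center T).subtype, ρ w ∈ B.map (center T).subtype := by
        rintro _ ⟨w, hw, rfl⟩
        obtain ⟨z, hz⟩ := (hB w).1 hw
        refine ⟨⟨ρ w, h.map_center ρ w.2⟩, (hB _).2 ⟨⟨ρ z, h.map_center ρ z.2⟩, ?_⟩, rfl⟩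
        show (ρ (z : T))⁻¹ * τ (ρ z) = ρ w
        rw [h.comm, ← map_inv, ← map_mul, hz]
      have hmem : (z1⁻¹ * τ z1) ∈ B.map (center T).subtype :=
        ⟨⟨_, mul_mem (inv_mem hz1) (h.map_center τ hz1)⟩, (hB _).2 ⟨⟨z1, hz1⟩, rfl⟩, rfl⟩
      obtain ⟨w, hw, e'⟩ := h.fix_le _ hρB hd1 hd0 hmem (hfix4 c hc hc2)
      obtain ⟨z, hz⟩ := (hB w).1 hw
      exact ⟨z, z.2, hz.trans e'⟩
    have hab := (h.quot_six hna).2
    have hcm : ∀ x y : T, x * y * (y * x)⁻¹ ∈ center T ∧
        x * y * (y * x)⁻¹ * (x * y * (y * x)⁻¹) = 1 := by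
      intro x y
      have hc : x * y * (y * x)⁻¹ ∈ center T := by
        rw [← QuotientGroup.eq_one_iff, QuotientGroup.mk_mul, QuotientGroup.mk_inv,
          QuotientGroup.mk_mul, QuotientGroup.mk_mul, hab (y : T ⧸ center T) x, mul_inv_cancel]
      refine ⟨hc, ?_⟩
      set c := x * y * (y * x)⁻¹ with hcdef
      have e : x * y = c * (y * x) := by rw [hcdef]; group
      have hcx : x * c = c * x := mem_center_iff.1 hc x
      have hxx : y * (x * x) = x * x * y := mem_center_iff.1 (hsq x) y
      have : c * c * (y * (x * x)) = y * (x * x) := by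
        calc c * c * (y * (x * x)) = c * (c * (y * x)) * x := by group
          _ = c * (x * y) * x := by rw [← e]
          _ = c * x * (y * x) := by group
          _ = x * c * (y * x) := by rw [hcx]
          _ = x * (x * y) := by rw [mul_assoc, ← e]
          _ = x * x * y := by group
          _ = _ := hxx.symm
      exact mul_eq_right.1 this
    have hnofix : ∀ k : T, k ∉ center T → k * k = 1 → k⁻¹ * τ k ∈ center T → False := by
      intro k hk hk2 hc
      set c := k⁻¹ * τ k with hcdef
      have hτk : τ k = k * c := by rw [hcdef]; group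
      have hkc : k * c = c * k := mem_center_iff.1 hc k
      have hc2 : c * c = 1 := by
        have : τ k * τ k = 1 := by rw [← map_mul, hk2, map_one]
        rw [hτk] at this
        rw [← this, show k * c * (k * c) = k * (c * k) * c by group, ← hkc,
          show k * (k * c) * c = k * k * (c * c) by group, hk2, one_mul]
      obtain ⟨z, hz, hzc⟩ := hBall c hc hc2
      have hτz : τ z = z * c := by rw [← hzc]; group
      have hfix : τ (k * z⁻¹) = k * z⁻¹ := by
        rw [map_mul, map_inv, hτk, hτz]; group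
      have := mul_mem (h.fixCent _ hfix) hz
      rw [inv_mul_cancel_right] at this
      exact hk this
    have hcZ : ∀ a b : center T, a * b = b * a := fun a b =>
      Subtype.ext (mem_center_iff.1 b.2 a.1)
    let _ : CommGroup (center T) :=
      { (inferInstance : Group (center T)) with mul_comm := hcZ }
    let sq : center T →* center T := powMonoidHom 2
    have hidx : sq.range.index = 4 := by
      have hker : Nat.card sq.ker = 4 := by
        rw [← h3.card4]
        exact Nat.card_congr (Equiv.subtypeEquivRight fun a => by simp [sq, pow_two])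
      have h1 := sq.range.card_mul_index
      have h2 := sq.ker.card_mul_index
      rw [index_ker, hker] at h2
      have : 0 < Nat.card sq.range := Nat.card_pos
      rw [← h2, mul_comm 4] at h1
      exact mul_left_cancel₀ this.ne' h1
    obtain ⟨a, b, hab', hne⟩ : ∃ a b : T ⧸ center T,
        (QuotientGroup.mk (⟨_, hsq a.out⟩ : center T) : center T ⧸ sq.range) =
          QuotientGroup.mk (⟨_, hsq b.out⟩ : center T) ∧ a ≠ b := by
      by_contra! hinj
      have := Nat.card_le_card_of_injective (fun a : T ⧸ center T =>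
        (QuotientGroup.mk (⟨_, hsq a.out⟩ : center T) : center T ⧸ sq.range)) (fun a b => hinj a b)
      rw [h16, ← index_eq_card, hidx] at this
      omega
    obtain ⟨z, hz⟩ := QuotientGroup.eq.1 hab'
    have hz' : (z : T) * z = (a.out * a.out)⁻¹ * (b.out * b.out) := by
      have := congrArg Subtype.val hz
      simpa [sq, pow_two] using this
    have hxy : a.out⁻¹ * b.out ∉ center T := fun e => hne (by
      rw [← QuotientGroup.out_eq' a, ← QuotientGroup.out_eq' b]
      exact QuotientGroup.eq.2 e)
    generalize a.out = x at hz' hxy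
    generalize b.out = y at hz' hxy
    obtain ⟨hc, hc2⟩ := hcm y x⁻¹
    obtain ⟨u, hu, hcu⟩ := hsqall _ hc hc2
    set c := y * x⁻¹ * (x⁻¹ * y)⁻¹ with hcdef
    obtain ⟨k, hk, hk2⟩ : ∃ k, k ∉ center T ∧ k * k = 1 := by
      refine ⟨x⁻¹ * y * (u * z)⁻¹, fun e => hxy ?_, ?_⟩
      · have := mul_mem e (mul_mem hu z.2)
        rwa [inv_mul_cancel_right] at this
      · have hw : u * z ∈ center T := mul_mem hu z.2
        have hyx : y * x⁻¹ = c * (x⁻¹ * y) := by rw [hcdef]; group
        have e1 : x⁻¹ * y * (x⁻¹ * y) = c * ((x * x)⁻¹ * (y * y)) := by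
          calc x⁻¹ * y * (x⁻¹ * y) = x⁻¹ * (y * x⁻¹) * y := by group
            _ = (x⁻¹ * c) * (x⁻¹ * y) * y := by rw [hyx]; group
            _ = (c * x⁻¹) * (x⁻¹ * y) * y := by rw [mem_center_iff.1 hc x⁻¹]
            _ = _ := by group
        have e2 : u * z * (u * z) = x⁻¹ * y * (x⁻¹ * y) := by
          have e : (z : T) * u = u * z := mem_center_iff.1 hu z
          calc u * z * (u * z) = u * (z * u) * z := by group
            _ = u * u * (z * z) := by rw [e]; group
            _ = _ := by rw [hz', ← hcu, e1]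
        have e3 := mem_center_iff.1 (inv_mem hw) (x⁻¹ * y)
        calc x⁻¹ * y * (u * z)⁻¹ * (x⁻¹ * y * (u * z)⁻¹)
            = x⁻¹ * y * ((u * z)⁻¹ * (x⁻¹ * y)) * (u * z)⁻¹ := by group
          _ = x⁻¹ * y * (x⁻¹ * y) * (u * z * (u * z))⁻¹ := by rw [← e3]; group
          _ = 1 := by rw [e2, mul_inv_cancel]
    by_cases hkc : k⁻¹ * τ k ∈ center T
    · exact hnofix k hk hk2 hkc
    rw [inv_eq_of_mul_eq_one_right hk2] at hkc
    have hk3 : τ k * τ k = 1 := by rw [← map_mul, hk2, map_one]
    obtain ⟨hc', hc'2⟩ := hcm k (τ k)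
    rw [mul_inv_rev, inv_eq_of_mul_eq_one_right hk2, inv_eq_of_mul_eq_one_right hk3] at hc' hc'2
    obtain ⟨v, hv, hvv⟩ := hsqall _ hc' hc'2
    set m := k * τ k with hmdef
    have hτm : τ m = m⁻¹ := by
      rw [hmdef, map_mul, h.invol, mul_inv_rev, inv_eq_of_mul_eq_one_right hk2,
        inv_eq_of_mul_eq_one_right hk3]
    refine hnofix (m * v⁻¹) (fun e => hkc ?_) ?_ ?_
    · have := mul_mem e hv
      rwa [inv_mul_cancel_right] at this
    · calc m * v⁻¹ * (m * v⁻¹) = m * (v⁻¹ * m) * v⁻¹ := by group
        _ = m * m * (v * v)⁻¹ := by rw [← mem_center_iff.1 (inv_mem hv) m]; group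
        _ = 1 := by rw [hvv, mul_inv_cancel]
    · have e : (m * v⁻¹)⁻¹ * τ (m * v⁻¹) = v * (m * m)⁻¹ * (τ v)⁻¹ := by
        rw [map_mul, map_inv, hτm]; group
      rw [e]
      exact mul_mem (mul_mem hv (inv_mem hc')) (inv_mem (h.map_center τ hv))
  have h4 : Nat.card (center T) = 4 := by
    rw [← h3.card4]
    exact (Nat.card_congr (Equiv.subtypeUnivEquiv
      fun z => Subtype.ext (hvsq z.1 z.2))).symm
  refine ⟨?_, h4, hsq, hvsq⟩
  rw [(center T).card_eq_card_quotient_mul_card_subgroup, h16, h4]

end Six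

end Cfsg.Agent.TwoFusionB
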