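import Cfsg.Agent.TwoFusionB.HaradaConfig

/-!
The cases of small centralizer in Harada's rank bound.
-/

set_option autoImplicit false

namespace Cfsg.Agent.TwoFusionB.Harada

open Subgroup

variable {S : Type*} [Group S] [Finite S] {X : Subgroup S} {H N : Subgroup S}

omit [Finite S] in
theorem sq_mem_sup (hsq : ∀ x ∈ H, x * x ∈ N) (U : Subgroup S) (h : H) :
    h * h ∈ U.subgroupOf H ⊔ N.subgroupOf H :=
  mem_sup_right (by rw [mem_subgroupOf]; push_cast; exact hsq _ h.2)

omit [Finite S] in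
theorem commutator_mem_inf (hsq : ∀ x ∈ H, x * x ∈ N) {U : Subgroup S} (hU : U.Normal) {h x : S}
    (hh : h ∈ H) (hxU : x ∈ U) (hx : x ∈ H) : h * x * h⁻¹ * x⁻¹ ∈ U ∧ h * x * h⁻¹ * x⁻¹ ∈ N :=
  ⟨mul_mem (hU.conj_mem x hxU h) (inv_mem hxU), commutator_mem_of_sq_mem hsq hh hx⟩

/-- A normal subgroup of order eight that is its own centralizer. -/
theorem case_self (hX : Eight X) (hT : centralizer (X : Set S) ≤ X)
    (hsq : ∀ x ∈ H, x * x ∈ N) : N.relIndex H ≤ 16 := by
  haveI := hX.normal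
  rw [split_index hsq X]
  set K := X.subgroupOf H
  set q := (N.subgroupOf H).relIndex K
  set p := (K ⊔ N.subgroupOf H).index
  have hp : p ≤ 4 := hX.top_le_four (sq_mem_sup hsq X) fun h hh =>
    mem_sup_left (by rw [mem_subgroupOf]; exact hT hh)
  have hq8 : q ≤ 8 := (second_le X).trans hX.card.le
  obtain ⟨i, hi⟩ := pow_two_of_dvd hX.isTwo (H := H) (d := q)
    ((((N.subgroupOf H).subgroupOf K).index_dvd_card.trans K.card_subgroup_dvd_card) : q ∣ Nat.card H)
  by_cases h8 : q = 8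
  · obtain ⟨hXH, hXN⟩ := second_full (H := H) (N := N) (U := X) (by rw [hX.card]; exact h8.ge)
    have hp1 : p = 1 := by
      refine index_eq_one.2 (eq_top_iff.2 fun h _ => mem_sup_left ?_)
      rw [mem_subgroupOf]
      refine hT (mem_centralizer_iff.2 fun x hx => ?_)
      obtain ⟨h1, h2⟩ := commutator_mem_inf hsq hX.normal h.2 hx (hXH hx)
      exact (mul_inv_eq_iff_eq_mul.1 (mul_inv_eq_one.1 (hXN _ h1 h2))).symm
    rw [h8, hp1]; omega
  · exact Nat.mul_le_mul (le_four_of_pow hi hq8 h8) hp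

variable {a e f₀ t : S}

/-- The centralizer has order sixteen and is elementary. -/
theorem case_elementary (D : Data X a e f₀ t)
    (hT₁ : ∀ v ∈ centralizer (X : Set S), v ∈ X ∨ v * t ∈ X) (hz : t * t = 1)
    (hsq : ∀ x ∈ H, x * x ∈ N) : N.relIndex H ≤ 16 := by
  classical
  haveI : Fact (Nat.Prime 2) := ⟨Nat.prime_two⟩
  haveI := D.cfg.eight.normal
  set T := centralizer (X : Set S) with hTdef
  have hTn : T.Normal := inferInstance
  haveI := hTn
  have htT : t ∈ T := D.top.mem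
  have hct : ∀ v ∈ T, v * t = t * v := by
    intro v hv
    rcases hT₁ v hv with h | h
    · exact (D.cfg.commute_T htT h).eq
    · have := (D.cfg.commute_T htT h).eq
      rw [← mul_assoc] at this
      exact mul_right_cancel this
  have hTc : ∀ u ∈ T, ∀ v ∈ T, Commute u v := by
    intro u hu v hv
    rcases hT₁ v hv with h | h
    · exact (D.cfg.commute_T hu h).symm
    · have h1 := (D.cfg.commute_T hu h).symm
      have h2 : Commute u t⁻¹ := (show Commute u t from hct u hu).inv_right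
      simpa using h1.mul_right h2
  have hT2 : ∀ v ∈ T, v * v = 1 := by
    intro v hv
    rcases hT₁ v hv with h | h
    · exact D.cfg.eight.sq v h
    · have h1 := D.cfg.eight.sq _ h
      rwa [(hTc t htT v hv).mul_mul_mul_comm, hz, mul_one] at h1
  have hT16 : Nat.card T ≤ 16 := by
    let g : X × Bool → S := fun p => if p.2 then (p.1 : S) * t⁻¹ else (p.1 : S)
    have h1 : (T : Set S) ⊆ Set.range g := fun v hv => by
      rcases hT₁ v hv with h | h
      · exact ⟨(⟨v, h⟩, false), rfl⟩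
      · exact ⟨(⟨v * t, h⟩, true), by simp [g]⟩
    have h2 := Set.ncard_le_ncard h1
    rw [← Nat.card_coe_set_eq, ← Nat.card_coe_set_eq] at h2
    refine h2.trans ((Nat.card_le_card_of_surjective _ Set.rangeFactorization_surjective).trans ?_)
    rw [Nat.card_prod, D.cfg.eight.card]
    simp
  rw [split_index hsq T]
  set K := T.subgroupOf H
  set L := K ⊔ N.subgroupOf H
  set q := (N.subgroupOf H).relIndex K with hqdef
  have hp : L.index ≤ 4 := D.cfg.eight.top_le_four (sq_mem_sup hsq T) fun h hh => mem_sup_left hh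
  have hq16 : q ≤ 16 := (second_le T).trans hT16
  obtain ⟨i, hi⟩ := pow_two_of_dvd D.cfg.eight.isTwo (H := H) (d := q)
    ((((N.subgroupOf H).subgroupOf K).index_dvd_card.trans K.card_subgroup_dvd_card) : q ∣ Nat.card H)
  obtain ⟨j, hj⟩ := pow_two_of_dvd D.cfg.eight.isTwo L.index_dvd_card
  have hi4 : i ≤ 4 := by
    by_contra hc
    have := Nat.pow_le_pow_right (show 0 < 2 by norm_num) (show 5 ≤ i by omega)
    omega
  have hj2 : j ≤ 2 := by
    by_contra hc
    have := Nat.pow_le_pow_right (show 0 < 2 by norm_num) (show 3 ≤ j by omega)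
    omega
  by_cases hgood : i + j ≤ 4
  · rw [hi, hj, ← pow_add]
    exact (show 2 ^ (i + j) ≤ 2 ^ 4 from Nat.pow_le_pow_right (by norm_num) hgood)
  by_cases hi4' : i = 4
  · subst hi4'
    obtain ⟨hTH, hTN⟩ := second_full (H := H) (N := N) (U := T) (by
      rw [← hqdef, hi]; exact hT16)
    have hp1 : L.index = 1 := by
      refine index_eq_one.2 (eq_top_iff.2 fun h _ => mem_sup_left ?_)
      rw [mem_subgroupOf]
      refine mem_centralizer_iff.2 fun x hx => ?_
      obtain ⟨h1, h2⟩ := commutator_mem_inf hsq hTn h.2 (D.cfg.X_le hx) (hTH (D.cfg.X_le hx))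
      exact (mul_inv_eq_iff_eq_mul.1 (mul_inv_eq_one.1 (hTN _ h1 h2))).symm
    rw [hi, hp1]; norm_num
  -- second factor eight, first factor four
  exfalso
  have hi3 : i = 3 := by omega
  have hj2' : j = 2 := by omega
  have hq8 : q = 8 := by rw [hi, hi3]; norm_num
  have hp4 : L.index = 4 := by rw [hj, hj2']; norm_num
  have hnot : ¬ H ≤ T := fun hle => by
    have : L.index = 1 := index_eq_one.2 (eq_top_iff.2 fun h _ => mem_sup_left (hle h.2))
    omega
  have hHT : (H ⊔ T).index ≤ 2 := by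
    have h1 : L.index ≤ T.relIndex H :=
      Nat.le_of_dvd (Nat.pos_of_ne_zero index_ne_zero_of_finite) (index_dvd_of_le le_sup_left)
    have h2 : T.relIndex H * (H ⊔ T).index = T.index := by
      rw [← relIndex_sup_right (H := H) (K := T)]
      exact relIndex_mul_index le_sup_right
    have h3 := D.cfg.eight.index_centralizer.1
    change T.index ≤ 8 at h3
    have h4 := Nat.mul_le_mul_right (H ⊔ T).index (hp4 ▸ h1 : 4 ≤ T.relIndex H)
    omega
  haveI : (H ⊔ T).Normal := by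
    rcases Nat.lt_or_ge (H ⊔ T).index 2 with h | h
    · have h1 : (H ⊔ T).index = 1 := by
        have := index_ne_zero_of_finite (H := H ⊔ T)
        omega
      rw [index_eq_one.1 h1]
      infer_instance
    · exact normal_of_index_eq_two (le_antisymm hHT h)
  obtain ⟨c, hc, hcT, -, hcc, -, -⟩ := PGroup.exists_normal_between D.cfg.eight.isTwo (A := T)
    (C := H ⊔ T) fun hle => hnot (le_sup_left.trans hle)
  obtain ⟨h, hh, w, hw, rfl⟩ := mem_sup_of_normal_right.1 hc
  have hhT : h ∉ T := fun h' => hcT (mul_mem h' hw)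
  set y := h * a * h⁻¹ * a⁻¹ with hydef
  have hy : y ∈ T := by
    have h1 : a * (h * w) * a⁻¹ * (h * w)⁻¹ ∈ T := by
      simpa [commutatorElement_def] using hcc a
    have h2 : a * h * a⁻¹ * h⁻¹ ∈ T := by
      rw [show a * h * a⁻¹ * h⁻¹ = (a * (h * w) * a⁻¹ * (h * w)⁻¹) *
        (h * (w * (a * w⁻¹ * a⁻¹)) * h⁻¹) by group]
      exact mul_mem h1 (hTn.conj_mem _ (mul_mem hw (hTn.conj_mem _ (inv_mem hw) a)) h)
    have := inv_mem h2
    simpa [hydef, mul_assoc] using this
  have hy2 : y⁻¹ = y := inv_eq_of_mul_eq_one_left (hT2 y hy)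
  -- commuting with `h` is a condition of index two on `T`
  have hpair : ∀ u ∈ T, ∀ v ∈ T, h * u * h⁻¹ ≠ u → h * v * h⁻¹ ≠ v →
      h * (u * v) * h⁻¹ = u * v := by
    intro u hu v hv hu' hv'
    have hmul := second_mul (H := H) (N := N) T
    have hle : Nat.card ↥(T ⊓ H) ≤ Nat.card T := card_le_of_le inf_le_left
    rw [← hqdef, hq8] at hmul
    by_cases hJ : ∀ x ∈ T, x ∈ H → x ∈ N → x = 1
    · have hTH : ∀ x ∈ T, x ∈ H → h * x * h⁻¹ = x := fun x hxT hxH => by
        obtain ⟨h1, h2⟩ := commutator_mem_inf hsq hTn hh hxT hxH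
        have h1H : h * x * h⁻¹ * x⁻¹ ∈ H :=
          mul_mem (mul_mem (mul_mem hh hxH) (inv_mem hh)) (inv_mem hxH)
        exact mul_inv_eq_one.1 (hJ _ h1 h1H h2)
      have hidx : ((T ⊓ H).subgroupOf T).index ≤ 2 := by
        have h1 := ((T ⊓ H).subgroupOf T).card_mul_index
        rw [Nat.card_congr (subgroupOfEquivOfLe (inf_le_left : T ⊓ H ≤ T)).toEquiv] at h1
        have h2 : 8 ≤ Nat.card ↥(T ⊓ H) := hmul ▸ Nat.le_mul_of_pos_right 8 Nat.card_pos
        have := Nat.mul_le_mul_right ((T ⊓ H).subgroupOf T).index h2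
        omega
      have hu0 : (⟨u, hu⟩ : T) ∉ (T ⊓ H).subgroupOf T := fun h' => hu' (hTH u hu h'.2)
      have hv0 : (⟨v, hv⟩ : T) ∉ (T ⊓ H).subgroupOf T := fun h' => hv' (hTH v hv h'.2)
      have h2 : ((T ⊓ H).subgroupOf T).index = 2 := by
        rcases Nat.lt_or_ge ((T ⊓ H).subgroupOf T).index 2 with h' | h'
        · have h1 : ((T ⊓ H).subgroupOf T).index = 1 := by
            have := index_ne_zero_of_finite (H := (T ⊓ H).subgroupOf T)
            omega
          rw [index_eq_one] at h1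
          exact absurd (h1 ▸ mem_top _) hu0
        · omega
      exact hTH _ (mul_mem hu hv) ((mul_mem_iff_of_index_two h2).2 (iff_of_false hu0 hv0) : _).2
    · push Not at hJ
      obtain ⟨j₀, hj₀T, hj₀H, hj₀N, hj₀⟩ := hJ
      obtain ⟨hTH, hTN⟩ := second_half (H := H) (N := N) (U := T)
        (by rw [← hqdef, hq8]; exact hT16) hj₀T hj₀H hj₀N hj₀
      have hcu : h * u * h⁻¹ * u⁻¹ = j₀ := by
        obtain ⟨h1, h2⟩ := commutator_mem_inf hsq hTn hh hu (hTH hu)
        exact (hTN _ h1 h2).resolve_left fun h' => hu' (mul_inv_eq_one.1 h')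
      have hcv : h * v * h⁻¹ * v⁻¹ = j₀ := by
        obtain ⟨h1, h2⟩ := commutator_mem_inf hsq hTn hh hv (hTH hv)
        exact (hTN _ h1 h2).resolve_left fun h' => hv' (mul_inv_eq_one.1 h')
      calc h * (u * v) * h⁻¹ = (h * u * h⁻¹) * (h * v * h⁻¹) := by group
        _ = (j₀ * u) * (j₀ * v) := by
            rw [← mul_inv_eq_iff_eq_mul.1 hcu, ← mul_inv_eq_iff_eq_mul.1 hcv]
        _ = u * v := by
            rw [(hTc u hu j₀ hj₀T).mul_mul_mul_comm, hT2 j₀ hj₀T, one_mul]
  have hinv : ∀ u ∈ T, h * u * h⁻¹ = u → h * (a * u * a⁻¹) * h⁻¹ = a * u * a⁻¹ := by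
    intro u hu hu'
    have hau : a * u * a⁻¹ ∈ T := hTn.conj_mem u hu a
    calc h * (a * u * a⁻¹) * h⁻¹ = y * (a * (h * u * h⁻¹) * a⁻¹) * y⁻¹ := by
          simp only [hydef]; group
      _ = y * (a * u * a⁻¹) * y⁻¹ := by rw [hu']
      _ = a * u * a⁻¹ := by rw [(hTc y hy _ hau).eq, mul_inv_cancel_right]
  have hsum : ∀ u ∈ T, h * (u * (a * u * a⁻¹)) * h⁻¹ = u * (a * u * a⁻¹) := by
    intro u hu
    by_cases hu' : h * u * h⁻¹ = u
    · rw [show h * (u * (a * u * a⁻¹)) * h⁻¹ = (h * u * h⁻¹) * (h * (a * u * a⁻¹) * h⁻¹) by group,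
        hu', hinv u hu hu']
    · refine hpair u hu _ (hTn.conj_mem u hu a) hu' fun h' => hu' ?_
      have := hinv _ (hTn.conj_mem u hu a) h'
      rwa [D.cfg.a_a] at this
  have hfX : a * t * a⁻¹ * t⁻¹ ∈ X := D.top.comm a
  have heT : e ∈ T := D.cfg.X_le D.he
  have hef : e * (a * e * a⁻¹) = f₀ := by
    rw [D.hae, ← mul_assoc, D.cfg.eight.sq e D.he, one_mul]
  have htf : t * (a * t * a⁻¹) = a * t * a⁻¹ * t⁻¹ := by
    rw [(hTc t htT _ (hTn.conj_mem t htT a)).eq, inv_eq_of_mul_eq_one_left hz]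
  have hfixF : ∀ v ∈ fixX X a, h * v * h⁻¹ = v := by
    intro v hv
    have e1 : h * f₀ * h⁻¹ = f₀ := hef ▸ hsum e heT
    have e2 : h * (a * t * a⁻¹ * t⁻¹) * h⁻¹ = a * t * a⁻¹ * t⁻¹ := htf ▸ hsum t htT
    rcases D.four hv with rfl | rfl | rfl | rfl
    · group
    · exact e1
    · exact e2
    · rw [show h * (f₀ * (a * t * a⁻¹ * t⁻¹)) * h⁻¹ =
        (h * f₀ * h⁻¹) * (h * (a * t * a⁻¹ * t⁻¹) * h⁻¹) by group, e1, e2]
  -- `y` is the commutator of `a` with some element
  have hyF : y ∈ fixX X a := by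
    refine D.cfg.fix y hy ?_
    have h1 : (y * a) * (y * a) = 1 := by
      rw [show (y * a) * (y * a) = h * (a * a) * h⁻¹ by simp only [hydef]; group, D.cfg.a2]
      group
    calc a * y * a⁻¹ = y⁻¹ * ((y * a) * (y * a)) * (a⁻¹ * a⁻¹) := by group
      _ = y := by
        rw [h1, mul_one, D.cfg.inv_a, D.cfg.a2, mul_one, hy2]
  obtain ⟨x, hxT, hxy⟩ : ∃ x ∈ T, x * (a * x * a⁻¹) = y := by
    rcases D.four hyF with h1 | h1 | h1 | h1
    · exact ⟨1, one_mem T, by rw [h1]; group⟩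
    · exact ⟨e, heT, hef.trans h1.symm⟩
    · exact ⟨t, htT, htf.trans h1.symm⟩
    · refine ⟨e * t, mul_mem heT htT, ?_⟩
      rw [D.cfg.conj_hom e t, (hTc t htT _ (hTn.conj_mem e heT a)).mul_mul_mul_comm, hef, htf, h1]
  have hfix' : ∀ v ∈ fixX X a, (x * h) * v * (x * h)⁻¹ = v := fun v hv => by
    rw [show (x * h) * v * (x * h)⁻¹ = x * (h * v * h⁻¹) * x⁻¹ by group, hfixF v hv,
      (hTc x hxT v (D.cfg.X_le (mem_fixX.1 hv).1)).eq, mul_inv_cancel_right]
  have hxa : (x * h) * a * (x * h)⁻¹ = a := by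
    calc (x * h) * a * (x * h)⁻¹ = x * (y * (a * x⁻¹ * a⁻¹)) * a := by simp only [hydef]; group
      _ = (x * (a * x⁻¹ * a⁻¹)) * y * a := by
          rw [(hTc y hy _ (hTn.conj_mem _ (inv_mem hxT) a)).eq]; group
      _ = a := by rw [inv_eq_of_mul_eq_one_left (hT2 x hxT), hxy, hT2 y hy, one_mul]
  rcases D.cfg.self _ hfix' hxa with h1 | h1
  · exact hhT (by simpa using mul_mem (inv_mem hxT) (D.cfg.X_le (mem_fixX.1 h1).1))
  · -- `h` acts as `a`, which fixes no subgroup of order eight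
    have hact : ∀ u ∈ T, h * u * h⁻¹ = a * u * a⁻¹ := by
      intro u hu
      have hw' : x⁻¹ * (x * h * a) ∈ T := mul_mem (inv_mem hxT) (D.cfg.X_le (mem_fixX.1 h1).1)
      rw [show x⁻¹ * (x * h * a) = h * a by group] at hw'
      have h2 : (h * a) * (a * u * a⁻¹) = (a * u * a⁻¹) * (h * a) := hTc _ hw' _ (hTn.conj_mem u hu a)
      calc h * u * h⁻¹ = ((h * a) * (a * u * a⁻¹) * (h * a)⁻¹) := by
            rw [show (h * a) * (a * u * a⁻¹) * (h * a)⁻¹ =
              h * (a * (a * u * a⁻¹) * a⁻¹) * h⁻¹ by group, D.cfg.a_a]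
        _ = a * u * a⁻¹ := by rw [h2, mul_inv_cancel_right]
    have heY : h * e * h⁻¹ ≠ e := fun h' => by
      rw [hact e heT, D.hae] at h'
      exact D.f₀_ne (mul_eq_left.1 h')
    have htY : h * t * h⁻¹ ≠ t := fun h' => by
      rw [hact t htT] at h'
      exact D.f_ne (mul_inv_eq_one.2 h')
    have h3 := hpair e heT t htT heY htY
    rw [hact _ (mul_mem heT htT)] at h3
    have h4 := (mem_fixX.1 (D.cfg.fix _ (mul_mem heT htT) h3)).1
    exact D.top.not_mem (by simpa using mul_mem (inv_mem D.he) h4)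

/-- The centralizer is `X ∪ t X` and the square of `t` is the centre of the transvection. -/
theorem case_central (D : Data X a e f₀ t)
    (hT₁ : ∀ v ∈ centralizer (X : Set S), v ∈ X ∨ v * t ∈ X) (hz : t * t = f₀)
    (hsq : ∀ x ∈ H, x * x ∈ N) : N.relIndex H ≤ 16 := by
  haveI := D.cfg.eight.normal
  set T := centralizer (X : Set S) with hTdef
  have htT : t ∈ T := D.top.mem
  rw [split_index hsq X]
  set K := X.subgroupOf H
  set L := K ⊔ N.subgroupOf H
  set q := (N.subgroupOf H).relIndex K with hqdef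
  have hq8 : q ≤ 8 := (second_le X).trans D.cfg.eight.card.le
  obtain ⟨i, hi⟩ := pow_two_of_dvd D.cfg.eight.isTwo (H := H) (d := q)
    ((((N.subgroupOf H).subgroupOf K).index_dvd_card.trans K.card_subgroup_dvd_card) : q ∣ Nat.card H)
  have hTX : ∀ u ∈ T, ∀ v ∈ T, u ∉ X → v ∉ X → u * v ∈ X := by
    intro u hu v hv hu' hv'
    have h1 := (hT₁ u hu).resolve_left hu'
    have h2 := (hT₁ v hv).resolve_left hv'
    have h3 : u * v = (u * t) * (v * t) * (t * t)⁻¹ := by
      calc u * v = u * ((v * t) * t) * (t * t)⁻¹ := by group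
        _ = u * (t * (v * t)) * (t * t)⁻¹ := by rw [(D.cfg.commute_T htT h2).eq]
        _ = _ := by group
    rw [h3]
    exact mul_mem (mul_mem h1 h2) (inv_mem D.top.sq)
  by_cases h8 : q = 8
  · obtain ⟨hXH, hXN⟩ := second_full (H := H) (N := N) (U := X) (by
      rw [D.cfg.eight.card]; exact h8.ge)
    have hp : L.index ≤ 2 := by
      refine MW.index_le_two_of fun g k hg hk => mem_sup_left ?_
      have hT' : ∀ g : H, (g : S) ∈ T := fun g => mem_centralizer_iff.2 fun x hx => by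
        obtain ⟨h1, h2⟩ := commutator_mem_inf hsq D.cfg.eight.normal g.2 hx (hXH hx)
        exact (mul_inv_eq_iff_eq_mul.1 (mul_inv_eq_one.1 (hXN _ h1 h2))).symm
      rw [mem_subgroupOf]
      push_cast
      exact hTX _ (hT' g) _ (hT' k) (fun h => hg (mem_sup_left h)) fun h => hk (mem_sup_left h)
    rw [h8]; omega
  have hq4 : q ≤ 4 := le_four_of_pow hi hq8 h8
  by_cases hTL : ∀ h : H, (h : S) ∈ T → h ∈ L
  · exact Nat.mul_le_mul hq4 (D.cfg.eight.top_le_four (sq_mem_sup hsq X) hTL)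
  push Not at hTL
  obtain ⟨h₀, hh₀T, hh₀L⟩ := hTL
  have hh₀X : (h₀ : S) ∉ X := fun h => hh₀L (mem_sup_left h)
  have hh₀t := (hT₁ _ hh₀T).resolve_left hh₀X
  have hzN : t * t ∈ N ∧ t * t ∈ H := by
    have hcm : Commute (h₀ : S) t := by
      have h := (D.cfg.commute_T htT hh₀t).eq
      rw [← mul_assoc] at h
      exact mul_right_cancel h
    have h1 : (h₀ : S) * h₀ = t * t := by
      have h2 := D.cfg.eight.sq _ hh₀t
      rw [hcm.symm.mul_mul_mul_comm] at h2
      rw [← inv_eq_of_mul_eq_one_left h2, inv_eq_of_mul_eq_one_left (D.cfg.eight.sq _ D.top.sq)]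
    exact ⟨h1 ▸ hsq _ h₀.2, h1 ▸ mul_mem h₀.2 h₀.2⟩
  set L' := T.subgroupOf H ⊔ N.subgroupOf H
  have hLL' : L ≤ L' := sup_le_sup_right (fun x hx => D.cfg.X_le hx) _
  have hL'4 : L'.index ≤ 4 := D.cfg.eight.top_le_four (sq_mem_sup hsq T) fun h hh => mem_sup_left hh
  haveI := normal_of_sq hsq
  haveI hLn : L.Normal := inferInstance
  have hrel : L.relIndex L' ≤ 2 := by
    have hL'eq : L' = T.subgroupOf H ⊔ L := by
      refine le_antisymm (sup_le le_sup_left (le_trans le_sup_right le_sup_right)) (sup_le le_sup_left hLL')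
    rw [hL'eq, relIndex_sup_right]
    refine MW.index_le_two_of fun g k hg hk => ?_
    rw [mem_subgroupOf] at hg hk ⊢
    push_cast
    refine mem_sup_left ?_
    rw [mem_subgroupOf]
    push_cast
    exact hTX _ g.2 _ k.2 (fun h => hg (mem_sup_left h)) fun h => hk (mem_sup_left h)
  have hmul : L.relIndex L' * L'.index = L.index := relIndex_mul_index hLL'
  have hp8 : L.index ≤ 8 := hmul ▸ Nat.mul_le_mul hrel hL'4
  obtain ⟨j, hj⟩ := pow_two_of_dvd D.cfg.eight.isTwo L.index_dvd_card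
  by_cases hp4 : L.index = 8
  swap
  · exact Nat.mul_le_mul hq4 (le_four_of_pow hj hp8 hp4)
  by_cases hq2 : q ≤ 2
  · rw [hp4]; omega
  exfalso
  have hq : q = 4 := by
    have hi2 : i ≤ 2 := by
      by_contra hc
      have := Nat.pow_le_pow_right (show 0 < 2 by norm_num) (show 3 ≤ i by omega)
      omega
    interval_cases i <;> omega
  obtain ⟨hXH, hXN⟩ := second_half (H := H) (N := N) (U := X)
    (by rw [D.cfg.eight.card, ← hqdef, hq]) D.top.sq hzN.2 hzN.1 (by rw [hz]; exact D.f₀_ne)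
  have hcom : ∀ g ∈ H, ∀ x ∈ X, g * x * g⁻¹ * x⁻¹ = 1 ∨ g * x * g⁻¹ * x⁻¹ = t * t := fun g hg x hx => by
    obtain ⟨h1, h2⟩ := commutator_mem_inf hsq D.cfg.eight.normal hg hx (hXH hx)
    exact hXN _ h1 h2
  set f := a * t * a⁻¹ * t⁻¹ with hfdef
  have hfX : f ∈ X := D.top.comm a
  -- an element acting as `a`
  obtain ⟨g, hg, hge, hgf⟩ : ∃ g ∈ H, g * e * g⁻¹ * e⁻¹ = t * t ∧ g * f * g⁻¹ * f⁻¹ = 1 := by
    by_contra hno
    push Not at hno
    have hfixT : ∀ g : H, (g : S) * e * (g : S)⁻¹ = e → (g : S) * f * (g : S)⁻¹ = f → g ∈ L' := by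
      intro g h1 h2
      refine mem_sup_left (mem_subgroupOf.2 (mem_centralizer_iff.2 fun x hx => ?_))
      have h3 : (g : S) * f₀ * (g : S)⁻¹ = f₀ := hz ▸ D.z_central g
      have hF : ∀ v ∈ fixX X a, (g : S) * v * (g : S)⁻¹ = v := by
        intro v hv
        rcases D.four hv with rfl | rfl | rfl | rfl
        · group
        · exact h3
        · exact h2
        · rw [show (g : S) * (f₀ * f) * (g : S)⁻¹ =
            ((g : S) * f₀ * (g : S)⁻¹) * ((g : S) * f * (g : S)⁻¹) by group, h3, h2]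
      refine (mul_inv_eq_iff_eq_mul.1 ?_).symm
      rcases D.cases_e x hx with h | h
      · exact hF x h
      · have h4 := hF _ h
        rw [show (g : S) * (x * e) * (g : S)⁻¹ = ((g : S) * x * (g : S)⁻¹) * ((g : S) * e * (g : S)⁻¹)
          by group, h1] at h4
        exact mul_right_cancel h4
    have hL'2 : L'.index ≤ 2 := by
      refine MW.index_le_two_of fun g k hg hk => ?_
      by_contra hgk
      have val : ∀ g : H, g ∉ L' → (g : S) * f * (g : S)⁻¹ * f⁻¹ = t * t := by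
        intro g hg
        rcases hcom g g.2 f hfX with h | h
        · exfalso
          refine hno g g.2 ?_ h
          refine (hcom g g.2 e D.he).resolve_left fun h' => hg (hfixT g (mul_inv_eq_one.1 h') ?_)
          exact mul_inv_eq_one.1 h
        · exact h
      have h1 := val g hg
      have h2 := val k hk
      have h3 := val (g * k) hgk
      push_cast at h3
      have hk' : (k : S) * f * (k : S)⁻¹ = t * t * f := by rw [← h2]; group
      have hg' : (g : S) * f * (g : S)⁻¹ = t * t * f := by rw [← h1]; group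
      rw [show (g : S) * k * f * ((g : S) * k)⁻¹ = (g : S) * ((k : S) * f * (k : S)⁻¹) * (g : S)⁻¹
        by group, hk', show (g : S) * (t * t * f) * (g : S)⁻¹ =
          ((g : S) * (t * t) * (g : S)⁻¹) * ((g : S) * f * (g : S)⁻¹) by group, D.z_central, hg',
        ← mul_assoc, D.cfg.eight.sq _ D.top.sq, one_mul, mul_inv_cancel] at h3
      exact D.f₀_ne (hz ▸ h3.symm)
    have := Nat.mul_le_mul hrel hL'2
    omega
  -- `g` induces `a` on `t X`
  have hga : ∀ x ∈ X, g * x * g⁻¹ = a * x * a⁻¹ := by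
    intro x hx
    have hF : ∀ v ∈ fixX X a, g * v * g⁻¹ = v := by
      intro v hv
      have h1 : g * f₀ * g⁻¹ = f₀ := hz ▸ D.z_central g
      rcases D.four hv with rfl | rfl | rfl | rfl
      · group
      · exact h1
      · exact mul_inv_eq_one.1 hgf
      · rw [show g * (f₀ * f) * g⁻¹ = (g * f₀ * g⁻¹) * (g * f * g⁻¹) by group, h1,
          mul_inv_eq_one.1 hgf]
    rcases D.cases_e x hx with h | h
    · rw [hF x h, (mem_fixX.1 h).2]
    · have h1 : g * e * g⁻¹ = a * e * a⁻¹ := by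
        rw [D.hae, ← hz, D.cfg.eight.comm e D.he _ D.top.sq, ← hge]; group
      have h2 : g * (x * e) * g⁻¹ = a * (x * e) * a⁻¹ := by rw [hF _ h, (mem_fixX.1 h).2]
      rw [show g * (x * e) * g⁻¹ = (g * x * g⁻¹) * (g * e * g⁻¹) by group, h1,
        D.cfg.conj_hom x e] at h2
      exact mul_right_cancel h2
  have hw : g * a ∈ T := mem_centralizer_iff.2 fun x hx => by
    have h1 := hga _ (D.cfg.eight.normal.conj_mem x hx a)
    rw [D.cfg.a_a] at h1
    have h2 : (g * a) * x * (g * a)⁻¹ = x := by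
      calc (g * a) * x * (g * a)⁻¹ = g * (a * x * a⁻¹) * g⁻¹ := by group
        _ = x := h1
    exact (mul_inv_eq_iff_eq_mul.1 h2).symm
  have hTc : ∀ v ∈ T, Commute v t := by
    intro v hv
    rcases hT₁ v hv with h | h
    · exact D.cfg.commute_T htT h
    · have h1 := (D.cfg.commute_T htT h).eq
      rw [← mul_assoc] at h1
      exact mul_right_cancel h1
  have hgt : g * t * g⁻¹ = a * t * a⁻¹ := by
    calc g * t * g⁻¹ = (g * a) * (a * t * a⁻¹) * (g * a)⁻¹ := by
          rw [show (g * a) * (a * t * a⁻¹) * (g * a)⁻¹ = g * (a * (a * t * a⁻¹) * a⁻¹) * g⁻¹ by group,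
            D.cfg.a_a]
      _ = a * t * a⁻¹ := by
          rw [D.conj_t, (show Commute (g * a) (f * t) from
            (D.cfg.commute_T hw hfX).symm.mul_right (hTc _ hw)).eq, mul_inv_cancel_right]
  set x₀ := (h₀ : S) * t
  have hn : g * (h₀ : S) * g⁻¹ * (h₀ : S)⁻¹ = (g * x₀ * g⁻¹ * x₀⁻¹) * f := by
    have hh : (h₀ : S) = x₀ * t⁻¹ := by simp only [x₀, mul_inv_cancel_right]
    have hft : g * t⁻¹ * g⁻¹ = t⁻¹ * f := by
      rw [show g * t⁻¹ * g⁻¹ = (g * t * g⁻¹)⁻¹ by group, hgt, D.conj_t, mul_inv_rev,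
        inv_eq_of_mul_eq_one_left (D.cfg.eight.sq f hfX)]
    rw [hh, show g * (x₀ * t⁻¹) * g⁻¹ * (x₀ * t⁻¹)⁻¹ =
      (g * x₀ * g⁻¹) * (g * t⁻¹ * g⁻¹) * t * x₀⁻¹ by group, hft,
      ← (D.cfg.commute_T (inv_mem htT) hfX).eq, ← mul_assoc, inv_mul_cancel_right, mul_assoc,
      D.cfg.eight.comm f hfX _ (inv_mem hh₀t), ← mul_assoc]
  have hmem : g * (h₀ : S) * g⁻¹ * (h₀ : S)⁻¹ ∈ X := by
    rw [hn]
    exact mul_mem (mul_mem (D.cfg.eight.normal.conj_mem _ hh₀t g) (inv_mem hh₀t)) hfX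
  have hmemN := commutator_mem_of_sq_mem hsq hg h₀.2
  rw [hn] at hmem hmemN
  have hval := hXN _ hmem hmemN
  have hfz : f ≠ t * t := fun h => D.f_ne_f₀ (h.trans hz)
  rcases hcom g hg x₀ hh₀t with h | h <;> rw [h] at hval
  · rcases hval with h' | h' <;> rw [one_mul] at h'
    exacts [D.f_ne h', hfz h']
  · rcases hval with h' | h'
    · refine hfz ?_
      rw [← inv_eq_of_mul_eq_one_right h', inv_eq_of_mul_eq_one_left (D.cfg.eight.sq _ D.top.sq)]
    · exact D.f_ne (mul_eq_left.1 h')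

end Cfsg.Agent.TwoFusionB.Harada
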