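import Cfsg.Agent.TwoFusionB.HaradaEight

/-!
An involution acting as a transvection on a normal elementary group of order eight, with no further
fixed points on the centralizer.
-/

set_option autoImplicit false

namespace Cfsg.Agent.TwoFusionB.Harada

open Subgroup

variable {S : Type*} [Group S] [Finite S]

/-- The fixed points of `a` in `X`. -/
def fixX (X : Subgroup S) (a : S) : Subgroup S := X ⊓ centralizer ({a} : Set S)

omit [Finite S] in
theorem mem_fixX {X : Subgroup S} {a y : S} : y ∈ fixX X a ↔ y ∈ X ∧ a * y * a⁻¹ = y := by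
  rw [fixX, mem_inf, mem_centralizer_singleton_iff, mul_inv_eq_iff_eq_mul, eq_comm (a := a * y)]

/-- The configuration. -/
structure Cfg (X : Subgroup S) (a : S) : Prop where
  eight : Eight X
  a2 : a * a = 1
  aT : a ∉ centralizer (X : Set S)
  f4 : Nat.card (fixX X a) = 4
  fix : ∀ v ∈ centralizer (X : Set S), a * v * a⁻¹ = v → v ∈ fixX X a
  self : ∀ c, (∀ v ∈ fixX X a, c * v * c⁻¹ = v) → c * a * c⁻¹ = a →
    c ∈ fixX X a ∨ c * a ∈ fixX X a

variable {X : Subgroup S} {a : S} (hc : Cfg X a)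
include hc

theorem Cfg.X_le : X ≤ centralizer (X : Set S) := fun x hx =>
  mem_centralizer_iff.2 fun y hy => hc.eight.comm y hy x hx

theorem Cfg.inv_a : a⁻¹ = a := inv_eq_of_mul_eq_one_left hc.a2

theorem Cfg.a_a (v : S) : a * (a * v * a⁻¹) * a⁻¹ = v := by
  rw [show a * (a * v * a⁻¹) * a⁻¹ = (a * a) * v * (a * a)⁻¹ by group, hc.a2]
  simp

theorem Cfg.commute_T {v x : S} (hv : v ∈ centralizer (X : Set S)) (hx : x ∈ X) : Commute x v :=
  mem_centralizer_iff.1 hv x hx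

theorem Cfg.commutator_mem {x : S} (hx : x ∈ X) : a * x * a⁻¹ * x⁻¹ ∈ fixX X a := by
  have hy : a * x * a⁻¹ ∈ X := hc.eight.normal.conj_mem x hx a
  refine mem_fixX.2 ⟨mul_mem hy (inv_mem hx), ?_⟩
  calc a * (a * x * a⁻¹ * x⁻¹) * a⁻¹ = (a * (a * x * a⁻¹) * a⁻¹) * (a * x * a⁻¹)⁻¹ := by group
    _ = x * (a * x * a⁻¹) := by
        rw [hc.a_a, inv_eq_of_mul_eq_one_left (hc.eight.sq _ hy)]
    _ = a * x * a⁻¹ * x⁻¹ := by
        rw [hc.eight.comm x hx _ hy, inv_eq_of_mul_eq_one_left (hc.eight.sq x hx)]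

theorem Cfg.conj_hom (x y : S) : a * (x * y) * a⁻¹ = (a * x * a⁻¹) * (a * y * a⁻¹) := by group

/-- The commutators of `a` with `X`. -/
theorem Cfg.exists_center : ∃ e ∈ X, ∃ f₀ ∈ fixX X a, f₀ ≠ 1 ∧ a * e * a⁻¹ = e * f₀ ∧
    ∀ x ∈ X, x ∈ fixX X a ∨ x * e ∈ fixX X a := by
  have hle : fixX X a ≤ X := inf_le_left
  have hne : fixX X a ≠ X := fun h => by
    have := hc.f4
    rw [h, hc.eight.card] at this
    omega
  obtain ⟨e, he, heF⟩ := SetLike.exists_of_lt (lt_of_le_of_ne hle hne)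
  have hf : a * e * a⁻¹ * e⁻¹ ≠ 1 := fun h => heF (mem_fixX.2 ⟨he, mul_inv_eq_one.1 h⟩)
  refine ⟨e, he, _, hc.commutator_mem he, hf, ?_, fun x hx => ?_⟩
  · rw [hc.eight.comm e he _ (mem_fixX.1 (hc.commutator_mem he)).1]; group
  · have hidx : ((fixX X a).subgroupOf X).index = 2 := by
      have h := ((fixX X a).subgroupOf X).card_mul_index
      rw [Nat.card_congr (subgroupOfEquivOfLe hle).toEquiv, hc.f4, hc.eight.card] at h
      omega
    by_contra hcon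
    push Not at hcon
    have h := mul_mem_iff_of_index_two hidx (a := ⟨x, hx⟩) (b := ⟨e, he⟩)
    rw [mem_subgroupOf, mem_subgroupOf, mem_subgroupOf] at h
    exact hcon.2 (h.2 (iff_of_false hcon.1 heF))

theorem Cfg.commutator_cases {e f₀ : S} (he : e ∈ X) (hae : a * e * a⁻¹ = e * f₀)
    (hf₀ : f₀ ∈ fixX X a) (hX : ∀ x ∈ X, x ∈ fixX X a ∨ x * e ∈ fixX X a) {x : S} (hx : x ∈ X) :
    a * x * a⁻¹ * x⁻¹ = 1 ∨ a * x * a⁻¹ * x⁻¹ = f₀ := by
  rcases hX x hx with h | h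
  · exact .inl (by rw [(mem_fixX.1 h).2, mul_inv_cancel])
  · refine .inr ?_
    have h1 := (mem_fixX.1 h).2
    rw [hc.conj_hom x e, hae, ← eq_mul_inv_iff_mul_eq, mul_inv_rev] at h1
    rw [h1, inv_eq_of_mul_eq_one_left (hc.eight.sq _ (mem_fixX.1 hf₀).1)]
    have hfX := (mem_fixX.1 hf₀).1
    calc x * e * (f₀ * e⁻¹) * x⁻¹ = x * (e * f₀) * e⁻¹ * x⁻¹ := by group
      _ = x * (f₀ * e) * e⁻¹ * x⁻¹ := by rw [hc.eight.comm e he f₀ hfX]
      _ = f₀ * x * x⁻¹ := by rw [hc.eight.comm f₀ hfX x hx]; group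
      _ = f₀ := by group

/-- An element of order two modulo `X`, central modulo `X`. -/
structure Top (X : Subgroup S) (t : S) : Prop where
  mem : t ∈ centralizer (X : Set S)
  not_mem : t ∉ X
  sq : t * t ∈ X
  comm : ∀ g, g * t * g⁻¹ * t⁻¹ ∈ X

theorem Cfg.exists_top (h : ¬ centralizer (X : Set S) ≤ X) : ∃ t, Top X t := by
  haveI := hc.eight.normal
  haveI : Fact (Nat.Prime 2) := ⟨Nat.prime_two⟩
  obtain ⟨t, ht, htX, ht2, htc, -, -⟩ := PGroup.exists_normal_between hc.eight.isTwo (A := X)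
    (C := centralizer (X : Set S)) h
  exact ⟨t, ht, htX, by rwa [sq] at ht2, fun g => by simpa [commutatorElement_def] using htc g⟩

omit hc in
/-- The facts attached to `e`, `f₀` and `t`. -/
structure Data (X : Subgroup S) (a e f₀ t : S) : Prop where
  cfg : Cfg X a
  he : e ∈ X
  hf₀ : f₀ ∈ fixX X a
  f₀_ne : f₀ ≠ 1
  hae : a * e * a⁻¹ = e * f₀
  cases_e : ∀ x ∈ X, x ∈ fixX X a ∨ x * e ∈ fixX X a
  top : Top X t

theorem Cfg.exists_data {t : S} (ht : Top X t) : ∃ e f₀, Data X a e f₀ t := by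
  obtain ⟨e, he, f₀, hf₀, h1, h2, h3⟩ := hc.exists_center
  exact ⟨e, f₀, hc, he, hf₀, h1, h2, h3, ht⟩

omit hc

variable {e f₀ t : S} (D : Data X a e f₀ t)
include D

theorem Data.f_mem : a * t * a⁻¹ * t⁻¹ ∈ fixX X a := by
  set f := a * t * a⁻¹ * t⁻¹
  have hfX : f ∈ X := D.top.comm a
  refine mem_fixX.2 ⟨hfX, ?_⟩
  calc a * f * a⁻¹ = (a * (a * t * a⁻¹) * a⁻¹) * (a * t * a⁻¹)⁻¹ := by simp only [f]; group
    _ = t * (a * t * a⁻¹)⁻¹ := by rw [D.cfg.a_a]
    _ = f⁻¹ := by simp only [f]; group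
    _ = f := inv_eq_of_mul_eq_one_left (D.cfg.eight.sq f hfX)

theorem Data.conj_t : a * t * a⁻¹ = (a * t * a⁻¹ * t⁻¹) * t := by group

theorem Data.f_ne : a * t * a⁻¹ * t⁻¹ ≠ 1 := fun h =>
  D.top.not_mem (mem_fixX.1 (D.cfg.fix t D.top.mem (mul_inv_eq_one.1 h))).1

theorem Data.f_ne_f₀ : a * t * a⁻¹ * t⁻¹ ≠ f₀ := fun h => by
  have hf₀X := (mem_fixX.1 D.hf₀).1
  have h1 : a * (t * e) * a⁻¹ = t * e := by
    rw [D.cfg.conj_hom t e, D.conj_t, h, D.hae,
      show f₀ * t * (e * f₀) = f₀ * (t * (e * f₀)) by group,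
      ((D.cfg.commute_T D.top.mem (mul_mem D.he hf₀X)).symm.eq), ← mul_assoc, ← mul_assoc,
      D.cfg.eight.comm f₀ hf₀X e D.he, mul_assoc e f₀, D.cfg.eight.sq f₀ hf₀X, mul_one,
      (D.cfg.commute_T D.top.mem D.he).eq]
  exact D.top.not_mem (by
    simpa using mul_mem (mem_fixX.1 (D.cfg.fix _ (mul_mem D.top.mem (D.cfg.X_le D.he)) h1)).1
      (inv_mem D.he))

theorem Data.four {y : S} (hy : y ∈ fixX X a) :
    y = 1 ∨ y = f₀ ∨ y = a * t * a⁻¹ * t⁻¹ ∨ y = f₀ * (a * t * a⁻¹ * t⁻¹) := by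
  refine mem_four D.cfg.f4 D.hf₀ D.f_mem D.f₀_ne D.f_ne (Ne.symm D.f_ne_f₀) (fun h => D.f_ne_f₀ ?_) hy
  rw [← inv_eq_of_mul_eq_one_right h, inv_eq_of_mul_eq_one_left
    (D.cfg.eight.sq _ (mem_fixX.1 D.hf₀).1)]

/-- Only `X` and `t X` are fixed by `a` in the centralizer modulo `X`. -/
theorem Data.uniq {v : S} (hv : v ∈ centralizer (X : Set S)) (h : a * v * a⁻¹ * v⁻¹ ∈ X) :
    v ∈ X ∨ v * t ∈ X := by
  set f := a * t * a⁻¹ * t⁻¹ with hfdef
  have hf₀X := (mem_fixX.1 D.hf₀).1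
  have hfX : f ∈ X := D.top.comm a
  have small : ∀ w ∈ centralizer (X : Set S),
      a * w * a⁻¹ * w⁻¹ = 1 ∨ a * w * a⁻¹ * w⁻¹ = f₀ → w ∈ X := by
    intro w hw hg
    rcases hg with hg | hg
    · exact (mem_fixX.1 (D.cfg.fix w hw (mul_inv_eq_one.1 hg))).1
    · have h1 : a * (w * e) * a⁻¹ = w * e := by
        have hw' : a * w * a⁻¹ = f₀ * w := by rw [← hg]; group
        rw [D.cfg.conj_hom w e, hw', D.hae, show f₀ * w * (e * f₀) = f₀ * (w * (e * f₀)) by group,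
          ((D.cfg.commute_T hw (mul_mem D.he hf₀X)).symm.eq), ← mul_assoc, ← mul_assoc,
          D.cfg.eight.comm f₀ hf₀X e D.he, mul_assoc e f₀, D.cfg.eight.sq f₀ hf₀X, mul_one,
          (D.cfg.commute_T hw D.he).eq]
      simpa using mul_mem (mem_fixX.1 (D.cfg.fix _ (mul_mem hw (D.cfg.X_le D.he)) h1)).1
        (inv_mem D.he)
  set g := a * v * a⁻¹ * v⁻¹ with hgdef
  have hg : g ∈ fixX X a := by
    refine mem_fixX.2 ⟨h, ?_⟩
    calc a * g * a⁻¹ = (a * (a * v * a⁻¹) * a⁻¹) * (a * v * a⁻¹)⁻¹ := by simp only [hgdef]; group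
      _ = g⁻¹ := by rw [D.cfg.a_a]; simp only [hgdef]; group
      _ = g := inv_eq_of_mul_eq_one_left (D.cfg.eight.sq g h)
  have hsum : a * (v * t) * a⁻¹ * (v * t)⁻¹ = g * f := by
    rw [show a * (v * t) * a⁻¹ * (v * t)⁻¹ = g * (v * f * v⁻¹) by simp only [hgdef, hfdef]; group,
      ← (D.cfg.commute_T hv hfX).eq, mul_inv_cancel_right]
  rcases D.four hg with h1 | h1 | h1 | h1
  · exact .inl (small v hv (.inl h1))
  · exact .inl (small v hv (.inr h1))
  · exact .inr (small _ (mul_mem hv D.top.mem) (.inl (by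
      rw [hsum, h1]; exact D.cfg.eight.sq f hfX)))
  · exact .inr (small _ (mul_mem hv D.top.mem) (.inr (by
      rw [hsum, h1, mul_assoc, D.cfg.eight.sq f hfX, mul_one])))

theorem Data.z_fix : a * (t * t) * a⁻¹ = t * t := by
  rw [D.cfg.conj_hom t t, D.conj_t]
  set f := a * t * a⁻¹ * t⁻¹
  have hfX : f ∈ X := D.top.comm a
  rw [(D.cfg.commute_T D.top.mem hfX).symm.mul_mul_mul_comm, D.cfg.eight.sq f hfX, one_mul]

theorem Data.z_mem : t * t ∈ fixX X a := mem_fixX.2 ⟨D.top.sq, D.z_fix⟩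

theorem Data.z_central (g : S) : g * (t * t) * g⁻¹ = t * t := by
  have hx := D.top.comm g
  calc g * (t * t) * g⁻¹ = ((g * t * g⁻¹ * t⁻¹) * t) * ((g * t * g⁻¹ * t⁻¹) * t) := by group
    _ = ((g * t * g⁻¹ * t⁻¹) * (g * t * g⁻¹ * t⁻¹)) * (t * t) :=
        (D.cfg.commute_T D.top.mem hx).symm.mul_mul_mul_comm _ _
    _ = t * t := by rw [D.cfg.eight.sq _ hx, one_mul]

/-- The subgroup `X ∪ t X`. -/
theorem Data.exists_T₁ : ∃ T₁ : Subgroup S, T₁.Normal ∧ T₁ ≤ centralizer (X : Set S) ∧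
    ∀ v, v ∈ T₁ ↔ v ∈ X ∨ v * t ∈ X := by
  haveI := D.cfg.eight.normal
  have htT := D.top.mem
  have hsq := D.top.sq
  have hswap : ∀ x ∈ X, t * x = x * t := fun x hx => ((D.cfg.commute_T htT hx).eq).symm
  refine ⟨{ carrier := {v | v ∈ X ∨ v * t ∈ X}
            one_mem' := .inl (one_mem X)
            mul_mem' := ?_
            inv_mem' := ?_ }, ?_, ?_, fun v => Iff.rfl⟩
  · rintro u v (hu | hu) (hv | hv)
    · exact .inl (mul_mem hu hv)
    · exact .inr (by rw [mul_assoc]; exact mul_mem hu hv)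
    · refine .inr ?_
      rw [mul_assoc, ← hswap v hv, ← mul_assoc]
      exact mul_mem hu hv
    · refine .inl ?_
      have huv : u * v = (u * t) * (v * t) * (t * t)⁻¹ := by
        have hvt : t * (v * t) = (v * t) * t := hswap _ hv
        calc u * v = u * ((v * t) * t) * (t * t)⁻¹ := by group
          _ = u * (t * (v * t)) * (t * t)⁻¹ := by rw [hvt]
          _ = _ := by group
      rw [huv]
      exact mul_mem (mul_mem hu hv) (inv_mem hsq)
  · rintro u (hu | hu)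
    · exact .inl (inv_mem hu)
    · refine .inr ?_
      have h : u⁻¹ * t = (u * t)⁻¹ * (t * t) := by
        calc u⁻¹ * t = t * (u * t)⁻¹ * t := by group
          _ = (u * t)⁻¹ * t * t := by rw [hswap _ (inv_mem hu)]
          _ = _ := by group
      rw [h]
      exact mul_mem (inv_mem hu) hsq
  · refine ⟨fun v hv g => ?_⟩
    rcases hv with hv | hv
    · exact .inl (Subgroup.Normal.conj_mem inferInstance v hv g)
    · refine .inr ?_
      rw [show g * v * g⁻¹ * t =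
        g * (v * t) * g⁻¹ * (t⁻¹ * (g * t * g⁻¹ * t⁻¹) * t⁻¹⁻¹)⁻¹ by group]
      exact mul_mem (Subgroup.Normal.conj_mem inferInstance _ hv g)
        (inv_mem (Subgroup.Normal.conj_mem inferInstance _ (D.top.comm g) t⁻¹))
  · rintro v (hv | hv)
    · exact D.cfg.X_le hv
    · have := mul_mem (D.cfg.X_le hv) (inv_mem htT)
      simpa using this

/-- When the centralizer is larger than `X ∪ t X`, the commutator `[a, t]` is known. -/
theorem Data.big (h : ¬ ∀ v ∈ centralizer (X : Set S), v ∈ X ∨ v * t ∈ X) :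
    t * t ≠ 1 ∧ t * t ≠ f₀ := by
  haveI := D.cfg.eight.normal
  haveI : Fact (Nat.Prime 2) := ⟨Nat.prime_two⟩
  obtain ⟨T₁, hT₁n, -, hT₁⟩ := D.exists_T₁
  haveI := hT₁n
  obtain ⟨u, hu, hu', -, huc, -, -⟩ := PGroup.exists_normal_between D.cfg.eight.isTwo (A := T₁)
    (C := centralizer (X : Set S)) fun hle => h fun v hv => (hT₁ v).1 (hle hv)
  have hd : a * u * a⁻¹ * u⁻¹ ∈ T₁ := by simpa [commutatorElement_def] using huc a
  set d := a * u * a⁻¹ * u⁻¹ with hddef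
  rcases (hT₁ d).1 hd with hdX | hdX
  · exact absurd ((hT₁ u).2 (D.uniq hu hdX)) hu'
  set x := d * t
  set f := a * t * a⁻¹ * t⁻¹ with hfdef
  have hfX : f ∈ X := D.top.comm a
  have hkey : (a * x * a⁻¹) * x * f * (t * t)⁻¹ = 1 := by
    have h0 : (a * d * a⁻¹) * d = 1 := by
      calc a * d * a⁻¹ * d = (a * (a * u * a⁻¹) * a⁻¹) * (a * u * a⁻¹)⁻¹ * d := by
            simp only [hddef]; group
        _ = 1 := by rw [D.cfg.a_a]; simp only [hddef]; group
    have h1 : a * d * a⁻¹ = (a * x * a⁻¹) * (t⁻¹ * f⁻¹) := by simp only [x, hfdef]; group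
    have hd' : d = x * t⁻¹ := by simp only [x, mul_inv_cancel_right]
    rw [h1, hd'] at h0
    rw [← h0, inv_eq_of_mul_eq_one_left (D.cfg.eight.sq f hfX),
      show a * x * a⁻¹ * (t⁻¹ * f) * (x * t⁻¹) = a * x * a⁻¹ * (t⁻¹ * (f * x)) * t⁻¹ by group,
      ((D.cfg.commute_T (inv_mem D.top.mem) (mul_mem hfX hdX)).symm.eq),
      D.cfg.eight.comm f hfX x hdX]
    group
  have hz := D.cfg.eight.sq _ D.top.sq
  have hf : f = ((a * x * a⁻¹) * x) * (t * t) := by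
    have hq : ((a * x * a⁻¹) * x) * f = t * t := by rw [← mul_inv_eq_one, hkey]
    have hqX : (a * x * a⁻¹) * x ∈ X :=
      mul_mem (D.cfg.eight.normal.conj_mem x hdX a) hdX
    calc f = ((a * x * a⁻¹) * x)⁻¹ * (((a * x * a⁻¹) * x) * f) := by group
      _ = _ := by rw [hq, inv_eq_of_mul_eq_one_left (D.cfg.eight.sq _ hqX)]
  have hq : (a * x * a⁻¹) * x = 1 ∨ (a * x * a⁻¹) * x = f₀ := by
    have := D.cfg.commutator_cases D.he D.hae D.hf₀ D.cases_e hdX
    rwa [inv_eq_of_mul_eq_one_left (D.cfg.eight.sq x hdX)] at this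
  refine ⟨fun h1 => ?_, fun h1 => ?_⟩
  · rw [h1, mul_one] at hf
    rcases hq with h2 | h2 <;> rw [h2] at hf
    exacts [D.f_ne hf, D.f_ne_f₀ hf]
  · rw [h1] at hf
    rcases hq with h2 | h2 <;> rw [h2] at hf
    · exact D.f_ne_f₀ (by rw [← hfdef, hf, one_mul])
    · exact D.f_ne (by rw [← hfdef, hf, D.cfg.eight.sq _ (mem_fixX.1 D.hf₀).1])

end Cfsg.Agent.TwoFusionB.Harada
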