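import Cfsg.Agent.TwoFusionB.MacWilliamsRank

/-!
Counting squares over a normal elementary subgroup of order eight.
-/

set_option autoImplicit false

namespace Cfsg.Agent.TwoFusionB.Harada

open Subgroup

variable {S : Type*} [Group S] [Finite S]

/-- Divisors of the order of a subgroup of a 2-group are powers of two. -/
theorem pow_two_of_dvd (h2 : IsPGroup 2 S) {H : Subgroup S} {d : ℕ} (hd : d ∣ Nat.card H) :
    ∃ i, d = 2 ^ i := by
  haveI : Fact (Nat.Prime 2) := ⟨Nat.prime_two⟩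
  obtain ⟨n, hn⟩ := IsPGroup.iff_card.1 (h2.to_subgroup H)
  rw [hn, Nat.dvd_prime_pow Nat.prime_two] at hd
  obtain ⟨i, -, hi⟩ := hd
  exact ⟨i, hi⟩

theorem le_four_of_pow {d i : ℕ} (h : d = 2 ^ i) (h8 : d ≤ 8) (h' : d ≠ 8) : d ≤ 4 := by
  have hi : i ≤ 3 := by
    by_contra hc
    have := Nat.pow_le_pow_right (show 0 < 2 by norm_num) (show 4 ≤ i by omega)
    omega
  interval_cases i <;> omega

/-- The elements of a group of order four with two given independent members. -/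
theorem mem_four {V : Subgroup S} (h4 : Nat.card V = 4) {u v : S} (hu : u ∈ V) (hv : v ∈ V)
    (hu1 : u ≠ 1) (hv1 : v ≠ 1) (huv : u ≠ v) (huv1 : u * v ≠ 1) {y : S} (hy : y ∈ V) :
    y = 1 ∨ y = u ∨ y = v ∨ y = u * v := by
  have hsub : ({1, u, v, u * v} : Set S) ⊆ (V : Set S) := by
    intro w hw
    rcases hw with rfl | rfl | rfl | rfl
    exacts [one_mem V, hu, hv, mul_mem hu hv]
  have hcard : ({1, u, v, u * v} : Set S).ncard = 4 := by
    rw [Set.ncard_insert_of_notMem, Set.ncard_insert_of_notMem, Set.ncard_pair]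
    · exact fun h => hu1 (mul_eq_right.1 h.symm)
    · simp only [Set.mem_insert_iff, Set.mem_singleton_iff]
      exact fun h => h.elim huv fun h => hv1 (mul_eq_left.1 h.symm)
    · simp only [Set.mem_insert_iff, Set.mem_singleton_iff]
      exact fun h => h.elim (fun h => hu1 h.symm) fun h => h.elim (fun h => hv1 h.symm)
        fun h => huv1 h.symm
  have heq := Set.eq_of_subset_of_ncard_le hsub (by
    rw [hcard, ← Nat.card_coe_set_eq]; exact h4.le)
  have : y ∈ ({1, u, v, u * v} : Set S) := heq ▸ hy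
  simpa using this

variable {H N : Subgroup S}

theorem normal_of_sq (hsq : ∀ x ∈ H, x * x ∈ N) : (N.subgroupOf H).Normal :=
  ⟨fun x hx g => by
    rw [mem_subgroupOf] at hx ⊢
    push_cast
    rw [show (g : S) * x * (g : S)⁻¹ =
      ((g : S) * x * ((g : S) * x)) * (x : S)⁻¹ * ((g : S)⁻¹ * (g : S)⁻¹) by group]
    exact mul_mem (mul_mem (hsq _ (mul_mem g.2 x.2)) (inv_mem hx)) (hsq _ (inv_mem g.2))⟩

/-- The two factors of the index of `N` in `H` over a normal subgroup `U`. -/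
theorem split_index (hsq : ∀ x ∈ H, x * x ∈ N) (U : Subgroup S) :
    N.relIndex H = (N.subgroupOf H).relIndex (U.subgroupOf H) *
      (U.subgroupOf H ⊔ N.subgroupOf H).index := by
  haveI := normal_of_sq hsq
  rw [← relIndex_sup_right (H := U.subgroupOf H) (K := N.subgroupOf H)]
  exact (relIndex_mul_index le_sup_right).symm

theorem second_le (U : Subgroup S) :
    (N.subgroupOf H).relIndex (U.subgroupOf H) ≤ Nat.card U :=
  (Nat.le_of_dvd Nat.card_pos ((N.subgroupOf H).subgroupOf (U.subgroupOf H)).index_dvd_card).trans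
    (Nat.card_le_card_of_injective
      (fun x : U.subgroupOf H => (⟨((x : H) : S), mem_subgroupOf.1 x.2⟩ : U))
      fun x y h => Subtype.ext (Subtype.ext (congrArg Subtype.val h :)))

/-- The count `|U ∩ H| = q |U ∩ H ∩ N|`. -/
theorem second_mul (U : Subgroup S) :
    (N.subgroupOf H).relIndex (U.subgroupOf H) * Nat.card ↥(U ⊓ H ⊓ N) = Nat.card ↥(U ⊓ H) := by
  have e1 : Nat.card (U.subgroupOf H) = Nat.card ↥(U ⊓ H) :=
    Nat.card_congr
      ⟨fun x => ⟨((x : H) : S), mem_subgroupOf.1 x.2, (x : H).2⟩, fun x => ⟨⟨x, x.2.2⟩, x.2.1⟩,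
        fun _ => rfl, fun _ => rfl⟩
  have e2 : Nat.card ((N.subgroupOf H).subgroupOf (U.subgroupOf H)) =
      Nat.card ↥(U ⊓ H ⊓ N) :=
    Nat.card_congr
      ⟨fun x => ⟨(((x : U.subgroupOf H) : H) : S),
          ⟨mem_subgroupOf.1 (x : U.subgroupOf H).2, ((x : U.subgroupOf H) : H).2⟩, x.2⟩,
        fun x => ⟨⟨⟨x, x.2.1.2⟩, x.2.1.1⟩, x.2.2⟩, fun _ => rfl, fun _ => rfl⟩
  rw [← e1, ← e2, ← ((N.subgroupOf H).subgroupOf (U.subgroupOf H)).card_mul_index]
  exact mul_comm _ _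

/-- A full second factor: `U` lies in `H` and avoids `N`. -/
theorem second_full {U : Subgroup S}
    (hq : Nat.card U ≤ (N.subgroupOf H).relIndex (U.subgroupOf H)) :
    U ≤ H ∧ ∀ x ∈ U, x ∈ N → x = 1 := by
  have h1 := second_mul (H := H) (N := N) U
  have h2 : Nat.card ↥(U ⊓ H) ≤ Nat.card U := card_le_of_le inf_le_left
  have hpos : 0 < Nat.card ↥(U ⊓ H ⊓ N) := Nat.card_pos
  have h3 := Nat.mul_le_mul_right (Nat.card ↥(U ⊓ H ⊓ N)) hq
  have h4 : Nat.card ↥(U ⊓ H ⊓ N) ≤ 1 :=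
    Nat.le_of_mul_le_mul_left (by rw [mul_one]; exact (h3.trans h1.le).trans h2) Nat.card_pos
  have h5 : Nat.card U ≤ Nat.card ↥(U ⊓ H) := by
    calc Nat.card U ≤ Nat.card U * Nat.card ↥(U ⊓ H ⊓ N) := Nat.le_mul_of_pos_right _ hpos
      _ ≤ _ := h3.trans h1.le
  have hUH : U ≤ H := inf_eq_left.1 (eq_of_le_of_card_ge inf_le_left h5)
  refine ⟨hUH, fun x hx hxN => ?_⟩
  have : U ⊓ H ⊓ N = ⊥ := eq_bot_of_card_le _ h4
  exact mem_bot.1 (this ▸ ⟨⟨hx, hUH hx⟩, hxN⟩)

/-- A second factor of half the possible size, and a nontrivial element of `U ∩ H ∩ N`. -/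
theorem second_half {U : Subgroup S}
    (hq : Nat.card U ≤ (N.subgroupOf H).relIndex (U.subgroupOf H) * 2) {w : S} (hwU : w ∈ U)
    (hwH : w ∈ H) (hwN : w ∈ N) (hw : w ≠ 1) :
    U ≤ H ∧ ∀ x ∈ U, x ∈ N → x = 1 ∨ x = w := by
  have h1 := second_mul (H := H) (N := N) U
  have h2 : Nat.card ↥(U ⊓ H) ≤ Nat.card U := card_le_of_le inf_le_left
  have hw2 : 2 ≤ Nat.card ↥(U ⊓ H ⊓ N) := by
    haveI : Nontrivial ↥(U ⊓ H ⊓ N) :=
      ⟨⟨⟨w, ⟨hwU, hwH⟩, hwN⟩, 1, fun h => hw (congrArg Subtype.val h)⟩⟩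
    exact Finite.one_lt_card
  set q := (N.subgroupOf H).relIndex (U.subgroupOf H)
  have hpos : 0 < q := by
    rcases Nat.eq_zero_or_pos q with h | h
    · have := Nat.card_pos (α := U)
      rw [h, zero_mul] at hq
      omega
    · exact h
  have h3 := Nat.mul_le_mul_left q hw2
  have hUH : U ≤ H := inf_eq_left.1 (eq_of_le_of_card_ge inf_le_left (by omega))
  have h4 : Nat.card ↥(U ⊓ H ⊓ N) ≤ 2 := Nat.le_of_mul_le_mul_left (by omega) hpos
  refine ⟨hUH, fun x hx hxN => ?_⟩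
  by_contra hcon
  push Not at hcon
  have hsub : ({1, w, x} : Set S) ⊆ ((U ⊓ H ⊓ N : Subgroup S) : Set S) := by
    intro y hy
    rcases hy with rfl | rfl | rfl
    exacts [one_mem _, ⟨⟨hwU, hwH⟩, hwN⟩, ⟨⟨hx, hUH hx⟩, hxN⟩]
  have hc := Set.ncard_le_ncard hsub
  rw [Set.ncard_insert_of_notMem (by simp [hw.symm, hcon.1.symm]), Set.ncard_pair hcon.2.symm,
    ← Nat.card_coe_set_eq] at hc
  exact absurd hc (by show ¬ 3 ≤ Nat.card ↥(U ⊓ H ⊓ N); omega)

/-- A normal elementary abelian subgroup of order eight of a 2-group. -/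
structure Eight (X : Subgroup S) : Prop where
  isTwo : IsPGroup 2 S
  normal : X.Normal
  comm : ∀ x ∈ X, ∀ y ∈ X, x * y = y * x
  sq : ∀ x ∈ X, x * x = 1
  card : Nat.card X = 8

theorem Eight.index_centralizer {X : Subgroup S} (hX : Eight X) :
    (centralizer (X : Set S)).index ≤ 8 ∧
    ((centralizer (X : Set S)).index = 8 →
      ∃ d x : S, d * x * d⁻¹ * x⁻¹ ∉ centralizer (X : Set S)) := by
  classical
  haveI : Fact (Nat.Prime 2) := ⟨Nat.prime_two⟩
  haveI := hX.normal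
  obtain ⟨z, hzX, -, -, -, hZn, hZc⟩ := PGroup.exists_normal_between hX.isTwo (A := ⊥) (C := X)
    fun h => by
      have := card_le_of_le h
      rw [hX.card, card_bot] at this; omega
  set Z := (⊥ : Subgroup S) ⊔ zpowers z
  have hZX : Z ≤ X := sup_le bot_le (zpowers_le.2 hzX)
  rw [card_bot] at hZc
  haveI := hZn
  obtain ⟨p, hpX, -, -, -, hPn, hPc⟩ := PGroup.exists_normal_between hX.isTwo (A := Z) (C := X)
    fun h => by
      have := card_le_of_le h
      rw [hX.card, hZc] at this; omega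
  set P₀ := Z ⊔ zpowers p
  have hP4 : Nat.card P₀ = 4 := by rw [hPc, hZc]
  have hPX : P₀ ≤ X := sup_le hZX (zpowers_le.2 hpX)
  have hPX2 : (P₀.subgroupOf X).index = 2 := by
    have h := (P₀.subgroupOf X).card_mul_index
    rw [Nat.card_congr (subgroupOfEquivOfLe hPX).toEquiv, hP4, hX.card] at h
    omega
  have hsame : ∀ u ∈ X, u ∉ P₀ → ∀ v ∈ X, v ∉ P₀ → u * v ∈ P₀ := by
    intro u hu hu' v hv hv'
    have h := mul_mem_iff_of_index_two hPX2 (a := ⟨u, hu⟩) (b := ⟨v, hv⟩)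
    rw [mem_subgroupOf, mem_subgroupOf, mem_subgroupOf] at h
    exact h.2 (iff_of_false hu' hv')
  obtain ⟨e, he, heP⟩ := SetLike.exists_of_lt (lt_of_le_of_ne hPX fun h => by
    rw [h, hX.card] at hP4; omega)
  have hconj : ∀ d, d * e * d⁻¹ * e⁻¹ ∈ P₀ := fun d => by
    have h1 : d * e * d⁻¹ ∉ P₀ := fun h => heP (by
      simpa [mul_assoc] using hPn.conj_mem _ h d⁻¹)
    have h2 := hsame _ (hX.normal.conj_mem e he d) h1 e⁻¹ (inv_mem he) (fun h => heP (inv_mem_iff.1 h))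
    exact h2
  set T := centralizer (X : Set S)
  set D := centralizer (P₀ : Set S)
  have hTD : T ≤ D := fun t ht => mem_centralizer_iff.2 fun y hy =>
    mem_centralizer_iff.1 ht y (hPX hy)
  have hD2 : D.index ≤ 2 := MW.index_le_two_of fun g k hg hk =>
    MW.centralizer_step hX.isTwo hPn hP4.le hg hk
  have hfixP : ∀ d ∈ D, ∀ y ∈ P₀, d * y * d⁻¹ = y := fun d hd y hy => by
    rw [← mem_centralizer_iff.1 hd y hy, mul_inv_cancel_right]
  let ψ : D →* P₀ := MonoidHom.mk' (fun d => ⟨(d : S) * e * (d : S)⁻¹ * e⁻¹, hconj d⟩)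
    fun d d' => Subtype.ext <| by
      show (d : S) * d' * e * ((d : S) * d')⁻¹ * e⁻¹ =
        ((d : S) * e * (d : S)⁻¹ * e⁻¹) * ((d' : S) * e * (d' : S)⁻¹ * e⁻¹)
      rw [hX.comm _ (hPX (hconj d)) _ (hPX (hconj d')),
        show (d : S) * d' * e * ((d : S) * d')⁻¹ * e⁻¹ =
          ((d : S) * ((d' : S) * e * (d' : S)⁻¹ * e⁻¹) * (d : S)⁻¹) *
            ((d : S) * e * (d : S)⁻¹ * e⁻¹) by group, hfixP d d.2 _ (hconj d')]
  have hker : ψ.ker ≤ T.subgroupOf D := fun d hd => by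
    rw [mem_subgroupOf]
    refine mem_centralizer_iff.2 fun y hy => ?_
    have hde : (d : S) * e * (d : S)⁻¹ = e := mul_inv_eq_one.1 (congrArg Subtype.val hd)
    by_cases hyP : y ∈ P₀
    · exact mem_centralizer_iff.1 d.2 y hyP
    · have h1 := hfixP d d.2 _ (hsame y hy hyP e he heP)
      rw [show (d : S) * (y * e) * (d : S)⁻¹ = ((d : S) * y * (d : S)⁻¹) * ((d : S) * e * (d : S)⁻¹)
        by group, hde] at h1
      exact (mul_inv_eq_iff_eq_mul.1 (mul_right_cancel h1)).symm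
  have hrange : Nat.card ψ.range ≤ 4 := hP4 ▸ Nat.card_le_card_of_injective _ Subtype.val_injective
  have hdvd : T.relIndex D ∣ Nat.card ψ.range := index_ker ψ ▸ index_dvd_of_le hker
  have hrel : T.relIndex D ≤ 4 := (Nat.le_of_dvd Nat.card_pos hdvd).trans hrange
  have hmul : T.relIndex D * D.index = T.index := relIndex_mul_index hTD
  refine ⟨hmul ▸ Nat.mul_le_mul hrel hD2, fun h8 => ?_⟩
  have hD : D.index = 2 := by
    rcases Nat.lt_or_ge D.index 2 with h | h
    · interval_cases hDi : D.index <;> omega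
    · omega
  have hrel4 : 4 ≤ T.relIndex D := by rw [hD] at hmul; omega
  have hsur : Function.Surjective ψ := MonoidHom.range_eq_top.1 (eq_top_of_card_eq _ (by
    rw [hP4]; exact le_antisymm hrange ((hrel4).trans (Nat.le_of_dvd Nat.card_pos hdvd))))
  obtain ⟨d, -, hd⟩ := SetLike.exists_of_lt (lt_top_iff_ne_top.2
    (show D ≠ ⊤ from fun h => by rw [h, index_top] at hD; omega))
  obtain ⟨p₀, hp₀, hmove⟩ : ∃ y ∈ P₀, d * y * d⁻¹ ≠ y := by
    by_contra hcon
    push Not at hcon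
    exact hd (mem_centralizer_iff.2 fun y hy => (mul_inv_eq_iff_eq_mul.1 (hcon y hy)).symm)
  obtain ⟨x, hx⟩ := hsur ⟨p₀, hp₀⟩
  have hx' : (x : S) * e * (x : S)⁻¹ * e⁻¹ = p₀ := congrArg Subtype.val hx
  refine ⟨d, x, fun hT => hmove ?_⟩
  set c := d * (x : S) * d⁻¹ * (x : S)⁻¹
  have hce : c * ((x : S) * e * (x : S)⁻¹) * c⁻¹ = (x : S) * e * (x : S)⁻¹ := by
    rw [← mem_centralizer_iff.1 hT _ (hX.normal.conj_mem e he _), mul_inv_cancel_right]
  have hq := hfixP x x.2 _ (hconj d⁻¹)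
  set q := d⁻¹ * e * d⁻¹⁻¹ * e⁻¹
  calc d * p₀ * d⁻¹ = (d * q * d⁻¹)⁻¹ * (d * (q * p₀ * e) * d⁻¹) * (d * e * d⁻¹)⁻¹ := by group
    _ = (d * q * d⁻¹)⁻¹ * (d * ((x : S) * (q * e) * (x : S)⁻¹) * d⁻¹) * (d * e * d⁻¹)⁻¹ := by
        rw [← hx', show (x : S) * (q * e) * (x : S)⁻¹ =
          ((x : S) * q * (x : S)⁻¹) * ((x : S) * e * (x : S)⁻¹) by group, hq]
        group
    _ = (d * q * d⁻¹)⁻¹ * (c * ((x : S) * e * (x : S)⁻¹) * c⁻¹) * (d * e * d⁻¹)⁻¹ := by
        simp only [c, q]; group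
    _ = ((d * e * d⁻¹) * e⁻¹) * ((x : S) * e * (x : S)⁻¹) * (d * e * d⁻¹)⁻¹ := by
        rw [hce]; simp only [q]; group
    _ = p₀ := by
        set w := (x : S) * e * (x : S)⁻¹
        have hw : w ∈ X := hX.normal.conj_mem e he _
        set u := d * e * d⁻¹
        have hu : u ∈ X := hX.normal.conj_mem e he _
        rw [mul_assoc u, hX.comm _ (inv_mem he) _ hw, hx',
          hX.comm u hu _ (hPX hp₀), mul_inv_cancel_right]

/-- If a subgroup `L` containing the squares of `H` contains the part of `H` centralizing `X`, its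
index is at most four. -/
theorem Eight.top_le_four {X : Subgroup S} (hX : Eight X) {L : Subgroup H}
    (hsqL : ∀ h : H, h * h ∈ L) (hHT : ∀ h : H, (h : S) ∈ centralizer (X : Set S) → h ∈ L) :
    L.index ≤ 4 := by
  haveI := hX.normal
  set T := centralizer (X : Set S)
  obtain ⟨h8, hne⟩ := hX.index_centralizer
  change T.index ≤ 8 at h8
  change T.index = 8 → ∃ d x : S, d * x * d⁻¹ * x⁻¹ ∉ T at hne
  have hle : T.subgroupOf H ≤ L := fun h hh => hHT h hh
  have h1 : L.index ≤ T.relIndex H :=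
    Nat.le_of_dvd (Nat.pos_of_ne_zero index_ne_zero_of_finite) (index_dvd_of_le hle)
  have h2 : T.relIndex H * (H ⊔ T).index = T.index := by
    rw [← relIndex_sup_right (H := H) (K := T)]
    exact relIndex_mul_index le_sup_right
  have hpos : 0 < (H ⊔ T).index := Nat.pos_of_ne_zero index_ne_zero_of_finite
  have h3 : T.relIndex H ≤ T.index := h2 ▸ Nat.le_mul_of_pos_right _ hpos
  obtain ⟨i, hi⟩ := pow_two_of_dvd hX.isTwo L.index_dvd_card
  refine le_four_of_pow hi (by omega) fun hL => ?_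
  have hT8 : T.index = 8 := by omega
  have hr8 : T.relIndex H = 8 := by omega
  have htop : H ⊔ T = ⊤ := index_eq_one.1 (by rw [hT8, hr8] at h2; omega)
  have hLT : L = T.subgroupOf H := (eq_of_le_of_card_ge hle (by
    have e1 := L.card_mul_index
    have e2 := (T.subgroupOf H).card_mul_index
    rw [hL] at e1
    change _ * T.relIndex H = _ at e2
    rw [hr8] at e2
    omega)).symm
  obtain ⟨d, x, hdx⟩ := hne hT8
  refine hdx ((QuotientGroup.eq_one_iff _).1 ?_)
  have hdec : ∀ g : S, ∃ h : H, (g : S ⧸ T) = ((h : S) : S ⧸ T) := fun g => by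
    obtain ⟨h, hh, t, ht, rfl⟩ := mem_sup_of_normal_right.1 (show g ∈ H ⊔ T by rw [htop]; trivial)
    refine ⟨⟨h, hh⟩, QuotientGroup.eq.2 ?_⟩
    rw [show (h * t)⁻¹ * h = t⁻¹ by group]
    exact inv_mem ht
  obtain ⟨h, hh⟩ := hdec d
  obtain ⟨k, hk⟩ := hdec x
  have hmem : h * k * h⁻¹ * k⁻¹ ∈ L := by
    have := mul_mem (mul_mem (hsqL (h * k)) (hsqL (k⁻¹ * h⁻¹ * k))) (hsqL k⁻¹)
    convert this using 1
    group
  rw [hLT, mem_subgroupOf] at hmem
  have h1 := (QuotientGroup.eq_one_iff _).2 hmem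
  simp only [Subgroup.coe_mul, Subgroup.coe_inv, QuotientGroup.mk_mul, QuotientGroup.mk_inv] at h1 ⊢
  rw [hh, hk]
  exact h1

end Cfsg.Agent.TwoFusionB.Harada
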