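import Cfsg.Agent.TwoFusionB.HaradaCases
import Cfsg.Agent.TwoFusionB.CyclicHalf

/-!
The main case of Harada's rank bound: the square of `t` is not the centre of the transvection.
-/

set_option autoImplicit false

namespace Cfsg.Agent.TwoFusionB.Harada

open Subgroup

variable {S : Type*} [Group S] [Finite S]

/-- A part which is cyclic modulo `K` contributes at most two. -/
theorem relIndex_le_two_of_cyclic {H : Subgroup S} {R X : Subgroup S} [X.Normal] {r : S}
    (hR : ∀ x ∈ R, ∃ i : ℤ, (r ^ i)⁻¹ * x ∈ X) {L : Subgroup H}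
    (hX : ∀ h : H, (h : S) ∈ X → h ∈ L) (hsq : ∀ h : H, h * h ∈ L) :
    L.relIndex (R.subgroupOf H) ≤ 2 := by
  refine MW.index_le_two_of fun g k hg hk => ?_
  rw [mem_subgroupOf] at hg hk ⊢
  push_cast
  obtain ⟨i, hi⟩ := hR _ g.2
  obtain ⟨j, hj⟩ := hR _ k.2
  let π := QuotientGroup.mk' X
  have hπ : ∀ (x : S) (i : ℤ), (r ^ i)⁻¹ * x ∈ X → π x = (π r) ^ i := fun x i h => by
    rw [← map_zpow]; exact (QuotientGroup.eq.2 h).symm
  have hgπ : π ((g : H) : S) = (π r) ^ i := hπ _ _ hi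
  have hkπ : π ((k : H) : S) = (π r) ^ j := hπ _ _ hj
  set w : H := (g : H) ^ (Int.gcdA i j) * (k : H) ^ (Int.gcdB i j) with hw
  have hwπ : π (w : S) = (π r) ^ (Int.gcd i j : ℤ) := by
    rw [hw]
    push_cast
    rw [map_mul, map_zpow, map_zpow, hgπ, hkπ, ← zpow_mul, ← zpow_mul, ← zpow_add,
      ← Int.gcd_eq_gcd_ab]
  obtain ⟨i', hi'⟩ := Int.gcd_dvd_left i j
  obtain ⟨j', hj'⟩ := Int.gcd_dvd_right i j
  have hpar : ∀ (m : H) (m' : ℤ), π (m : S) = (π (w : S)) ^ m' → (w ^ m')⁻¹ * m ∈ L := by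
    intro m m' h
    refine hX _ ((QuotientGroup.eq_one_iff _).1 ?_)
    show π _ = 1
    push_cast
    rw [map_mul, map_inv, map_zpow, ← h, inv_mul_cancel]
  have hg' := hpar (g : H) i' (by rw [hgπ, hwπ, ← zpow_mul, ← hi'])
  have hk' := hpar (k : H) j' (by rw [hkπ, hwπ, ← zpow_mul, ← hj'])
  have heven : ∀ m : ℤ, Even m → w ^ m ∈ L := by
    rintro m ⟨l, rfl⟩
    rw [zpow_add]
    exact hsq _
  have hio : Odd i' := Int.not_even_iff_odd.1 fun h => hg (by simpa using mul_mem (heven i' h) hg')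
  have hjo : Odd j' := Int.not_even_iff_odd.1 fun h => hk (by simpa using mul_mem (heven j' h) hk')
  haveI : L.Normal := ⟨fun x hx g => by
    rw [show g * x * g⁻¹ = (g * x * (g * x)) * x⁻¹ * (g⁻¹ * g⁻¹) by group]
    exact mul_mem (mul_mem (hsq _) (inv_mem hx)) (hsq _)⟩
  have hgk : (g : H) * k =
      w ^ i' * ((w ^ j') * ((w ^ j')⁻¹ * ((w ^ i')⁻¹ * (g : H)) * (w ^ j')⁻¹⁻¹)) *
        ((w ^ j')⁻¹ * (k : H)) := by group
  rw [hgk, ← mul_assoc (w ^ i'), ← zpow_add]
  exact mul_mem (mul_mem (heven _ (hio.add_odd hjo)) (Subgroup.Normal.conj_mem inferInstance _ hg' _)) hk'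

variable {X : Subgroup S} {a e f₀ t : S}

omit [Finite S] in
theorem mem_centralizer_of_fix {v : S} (hX : ∀ x ∈ X, v * x * v⁻¹ = x) :
    v ∈ centralizer (X : Set S) :=
  mem_centralizer_iff.2 fun x hx => (mul_inv_eq_iff_eq_mul.1 (hX x hx)).symm

/-- The plane of fixed points is normal. -/
theorem Data.plane (D : Data X a e f₀ t) (hz : t * t ≠ 1) (hz₀ : t * t ≠ f₀) :
    (∀ v ∈ fixX X a, v = 1 ∨ v = t * t ∨ v = f₀ ∨ v = t * t * f₀) ∧
    ∀ g, g * f₀ * g⁻¹ = f₀ ∨ g * f₀ * g⁻¹ = t * t * f₀ := by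
  classical
  haveI : Fact (Nat.Prime 2) := ⟨Nat.prime_two⟩
  haveI := D.cfg.eight.normal
  set z := t * t with hzdef
  have hzX : z ∈ X := D.top.sq
  have hz2 := D.cfg.eight.sq z hzX
  have hf₀X := (mem_fixX.1 D.hf₀).1
  have hne : z * f₀ ≠ 1 := fun h => hz₀ (by
    rw [eq_inv_of_mul_eq_one_left h, inv_eq_of_mul_eq_one_left (D.cfg.eight.sq f₀ hf₀X)])
  have hfour : ∀ v ∈ fixX X a, v = 1 ∨ v = z ∨ v = f₀ ∨ v = z * f₀ := fun v hv =>
    mem_four D.cfg.f4 D.z_mem D.hf₀ hz D.f₀_ne hz₀ hne hv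
  refine ⟨hfour, ?_⟩
  let Z : Subgroup S :=
    { carrier := {1, z}
      one_mem' := .inl rfl
      mul_mem' := by
        rintro u v (rfl | rfl) (rfl | rfl)
        · exact .inl (one_mul 1)
        · exact .inr (one_mul z)
        · exact .inr (mul_one z)
        · exact .inl hz2
      inv_mem' := by
        rintro u (rfl | rfl)
        · exact .inl inv_one
        · exact .inr (inv_eq_of_mul_eq_one_left hz2) }
  haveI hZn : Z.Normal := ⟨fun v hv g => by
    rcases hv with rfl | rfl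
    · exact .inl (by group)
    · exact .inr (D.z_central g)⟩
  obtain ⟨p, hp, hpZ, -, hpc, -, -⟩ := PGroup.exists_normal_between D.cfg.eight.isTwo (A := Z)
    (C := X) fun hle => by
      have h1 : (X : Set S).ncard ≤ ({1, z} : Set S).ncard := Set.ncard_le_ncard hle
      rw [Set.ncard_pair (Ne.symm hz), ← Nat.card_coe_set_eq] at h1
      have := D.cfg.eight.card
      change Nat.card X = 8 at this
      change Nat.card X ≤ 2 at h1
      omega
  have hp1 : ∀ g, g * p * g⁻¹ = p ∨ g * p * g⁻¹ = z * p := by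
    intro g
    have h : g * p * g⁻¹ * p⁻¹ ∈ Z := by simpa [commutatorElement_def] using hpc g
    rcases h with h | h
    · exact .inl (mul_inv_eq_one.1 h)
    · exact .inr (mul_inv_eq_iff_eq_mul.1 h)
  have hap : a * p * a⁻¹ = p := by
    rcases hp1 a with h | h
    · exact h
    · exfalso
      have hc := D.cfg.commutator_cases D.he D.hae D.hf₀ D.cases_e hp
      rw [h, mul_inv_cancel_right] at hc
      exact hc.elim hz hz₀
  have hpF : p ∈ fixX X a := mem_fixX.2 ⟨hp, hap⟩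
  intro g
  rcases hfour p hpF with rfl | rfl | rfl | rfl
  · exact absurd (.inl rfl) hpZ
  · exact absurd (.inr rfl) hpZ
  · exact hp1 g
  · have hsplit : g * (z * f₀) * g⁻¹ = z * (g * f₀ * g⁻¹) := by
      rw [show g * (z * f₀) * g⁻¹ = (g * z * g⁻¹) * (g * f₀ * g⁻¹) by group, D.z_central]
    rcases hp1 g with h | h <;> rw [hsplit] at h
    · exact .inl (mul_left_cancel h)
    · exact .inr (mul_left_cancel h)

/-- The centralizer of the plane is cyclic modulo `X` on a subgroup of index two. -/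
theorem Data.exists_R (D : Data X a e f₀ t) :
    ∃ (R : Subgroup S) (r : S), R ≤ centralizer (fixX X a : Set S) ∧ X ≤ R ∧ t ∈ R ∧ r ∈ R ∧
      (∀ x ∈ R, ∃ i : ℤ, (r ^ i)⁻¹ * x ∈ X) ∧
      (∀ g ∈ centralizer (fixX X a : Set S), ∀ k ∈ centralizer (fixX X a : Set S),
        g ∉ R → k ∉ R → g * k ∈ R) ∧
      ∀ v ∈ R, v * v ∈ X → v ∈ X ∨ v * t ∈ X := by
  classical
  haveI : Fact (Nat.Prime 2) := ⟨Nat.prime_two⟩
  haveI := D.cfg.eight.normal
  set M := centralizer (fixX X a : Set S) with hMdef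
  have hXM : X ≤ M := fun x hx => mem_centralizer_iff.2 fun y hy =>
    D.cfg.eight.comm y (mem_fixX.1 hy).1 x hx
  have haM : a ∈ M := mem_centralizer_iff.2 fun y hy =>
    (mul_inv_eq_iff_eq_mul.1 (mem_fixX.1 hy).2).symm
  have htM : t ∈ M := mem_centralizer_iff.2 fun y hy =>
    (D.cfg.commute_T D.top.mem (mem_fixX.1 hy).1).eq
  set XM := X.subgroupOf M
  haveI : XM.Normal := inferInstance
  let π := QuotientGroup.mk' XM
  have hπ1 : ∀ v : M, π v = 1 ↔ (v : S) ∈ X := fun v => by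
    show ((v : M ⧸ XM) = 1) ↔ _
    rw [QuotientGroup.eq_one_iff, mem_subgroupOf]
  have haX : a ∉ X := fun h => D.cfg.aT (D.cfg.X_le h)
  set ā := π ⟨a, haM⟩
  set t' := π ⟨t, htM⟩
  have ha1 : ā ≠ 1 := fun h => haX ((hπ1 _).1 h)
  have ha2 : ā * ā = 1 := by rw [← map_mul]; exact (hπ1 _).2 (by simp [D.cfg.a2])
  have ht1 : t' ≠ 1 := fun h => D.top.not_mem ((hπ1 _).1 h)
  have ht2 : t' * t' = 1 := by rw [← map_mul]; exact (hπ1 _).2 (by simpa using D.top.sq)
  have htc : ∀ g, g * t' = t' * g := by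
    intro g
    obtain ⟨g, rfl⟩ := QuotientGroup.mk'_surjective XM g
    rw [← mul_inv_eq_iff_eq_mul, ← mul_inv_eq_one]
    rw [← map_mul, ← map_inv, ← map_mul, ← map_inv, ← map_mul]
    exact (hπ1 _).2 (by simpa using D.top.comm (g : S))
  have hC4 : Nat.card (centralizer ({ā} : Set (M ⧸ XM))) ≤ 4 := by
    set C' := (centralizer ({ā} : Set (M ⧸ XM))).comap π
    have hy : ∀ s : C', ((s : M) : S) * a * ((s : M) : S)⁻¹ * a⁻¹ ∈ fixX X a := by
      intro s
      have h1 : π ((s : M) * ⟨a, haM⟩ * (s : M)⁻¹ * ⟨a, haM⟩⁻¹) = 1 := by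
        rw [map_mul, map_mul, map_mul, map_inv, map_inv, mem_centralizer_singleton_iff.1 s.2,
          mul_inv_cancel_right]
        exact mul_inv_cancel _
      have h2 := (hπ1 _).1 h1
      push_cast at h2
      set y := ((s : M) : S) * a * ((s : M) : S)⁻¹ * a⁻¹ with hydef
      refine mem_fixX.2 ⟨h2, ?_⟩
      have h3 : (y * a) * (y * a) = 1 := by
        rw [show (y * a) * (y * a) = ((s : M) : S) * (a * a) * ((s : M) : S)⁻¹ by
          simp only [hydef]; group, D.cfg.a2]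
        group
      calc a * y * a⁻¹ = y⁻¹ * ((y * a) * (y * a)) * (a⁻¹ * a⁻¹) := by group
        _ = y⁻¹ := by rw [h3, mul_one, D.cfg.inv_a, D.cfg.a2, mul_one]
        _ = y := inv_eq_of_mul_eq_one_left (D.cfg.eight.sq y h2)
    let yv : C' → fixX X a := fun s => ⟨_, hy s⟩
    let rt : fixX X a → C' := fun y => if h : ∃ s, yv s = y then h.choose else 1
    have hrt : ∀ s, yv (rt (yv s)) = yv s := fun s => by
      have h : ∃ s', yv s' = yv s := ⟨s, rfl⟩
      simp only [rt, dif_pos h]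
      exact h.choose_spec
    have hA : ∀ s : C',
        (((rt (yv s) : C') : M) : S)⁻¹ * ((s : M) : S) ∈ fixX X a ∨
          (((rt (yv s) : C') : M) : S)⁻¹ * ((s : M) : S) * a ∈ fixX X a := by
      intro s
      refine D.cfg.self _ (fun v hv => ?_) ?_
      · rw [← mem_centralizer_iff.1 (mul_mem (inv_mem ((rt (yv s) : C') : M).2) (s : M).2) v hv,
          mul_inv_cancel_right]
      · have h := congrArg Subtype.val (hrt s)
        have h' := mul_right_cancel (h : (((rt (yv s) : C') : M) : S) * a *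
          (((rt (yv s) : C') : M) : S)⁻¹ * a⁻¹ = _)
        set u := (((rt (yv s) : C') : M) : S)
        calc u⁻¹ * ((s : M) : S) * a * (u⁻¹ * ((s : M) : S))⁻¹
            = u⁻¹ * (((s : M) : S) * a * ((s : M) : S)⁻¹) * u := by group
          _ = u⁻¹ * (u * a * u⁻¹) * u := by rw [h']
          _ = a := by group
    let code : C' → fixX X a × (fixX X a × Bool) := fun s =>
      (yv s, if h : (((rt (yv s) : C') : M) : S)⁻¹ * ((s : M) : S) ∈ fixX X a then (⟨_, h⟩, false)
        else (⟨_, (hA s).resolve_left h⟩, true))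
    have hcode : Function.Injective code := by
      intro s s' h
      obtain ⟨h1, h2⟩ := Prod.ext_iff.1 h
      have h1' : yv s = yv s' := h1
      simp only [code] at h2
      refine Subtype.ext (Subtype.ext ?_)
      split_ifs at h2 with i1 i2 i2
      · have h3 := congrArg Subtype.val (Prod.ext_iff.1 h2).1
        simp only [h1'] at h3
        exact mul_left_cancel h3
      · exact absurd (Prod.ext_iff.1 h2).2 (by simp)
      · exact absurd (Prod.ext_iff.1 h2).2 (by simp)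
      · have h3 := congrArg Subtype.val (Prod.ext_iff.1 h2).1
        simp only [h1'] at h3
        exact mul_left_cancel (mul_right_cancel h3)
    have hc := Nat.card_le_card_of_injective code hcode
    rw [Nat.card_prod, Nat.card_prod, D.cfg.f4, Nat.card_eq_fintype_card (α := Bool),
      Fintype.card_bool] at hc
    have h3 := C'.card_mul_index
    rw [index_comap_of_surjective _ (QuotientGroup.mk'_surjective XM),
      card_eq_card_quotient_mul_card_subgroup XM,
      ← (centralizer ({ā} : Set (M ⧸ XM))).card_mul_index,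
      Nat.card_congr (subgroupOfEquivOfLe hXM).toEquiv, D.cfg.eight.card] at h3
    have hpos := Nat.pos_of_ne_zero (index_ne_zero_of_finite (H := centralizer ({ā} : Set (M ⧸ XM))))
    have h4 : Nat.card C' = Nat.card (centralizer ({ā} : Set (M ⧸ XM))) * 8 :=
      Nat.eq_of_mul_eq_mul_right hpos (by rw [h3]; ring)
    omega
  have h2Q : IsPGroup 2 (M ⧸ XM) := (D.cfg.eight.isTwo.to_subgroup M).to_quotient XM
  obtain ⟨q₀, hq₀⟩ := exists_cyclic _ h2Q le_rfl ā ha2 ha1 hC4
  obtain ⟨q, hq, htq⟩ : ∃ q : M ⧸ XM, (zpowers q).index ≤ 2 ∧ t' ∈ zpowers q := by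
    by_cases htq : t' ∈ zpowers q₀
    · exact ⟨q₀, hq₀, htq⟩
    refine ⟨t', ?_, mem_zpowers t'⟩
    have hidx : (zpowers q₀).index = 2 := by
      rcases Nat.lt_or_ge (zpowers q₀).index 2 with h | h
      · have h1 : (zpowers q₀).index = 1 := by
          have := index_ne_zero_of_finite (H := zpowers q₀)
          omega
        rw [index_eq_one.1 h1] at htq
        exact absurd (mem_top _) htq
      · omega
    have hcomm : ∀ g, g * q₀ = q₀ * g := by
      intro g
      by_cases hg : g ∈ zpowers q₀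
      · obtain ⟨i, rfl⟩ := mem_zpowers_iff.1 hg
        exact (Commute.zpow_self q₀ i).eq
      · obtain ⟨i, hi⟩ := mem_zpowers_iff.1 ((mul_mem_iff_of_index_two hidx (a := g) (b := t')).2
          (iff_of_false hg htq))
        have hg' : g = q₀ ^ i * t' := by rw [hi, mul_assoc, ht2, mul_one]
        rw [hg']
        exact ((Commute.zpow_self q₀ i).mul_left (show Commute q₀ t' from htc q₀).symm).eq
    have htop : centralizer ({ā} : Set (M ⧸ XM)) = ⊤ := by
      refine eq_top_iff.2 fun g _ => mem_centralizer_singleton_iff.2 ?_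
      by_cases hg : g ∈ zpowers q₀
      · obtain ⟨i, rfl⟩ := mem_zpowers_iff.1 hg
        exact ((show Commute ā q₀ from hcomm ā).zpow_right i).symm.eq
      · obtain ⟨i, hi⟩ := mem_zpowers_iff.1 ((mul_mem_iff_of_index_two hidx (a := g) (b := t')).2
          (iff_of_false hg htq))
        have hg' : g = q₀ ^ i * t' := by rw [hi, mul_assoc, ht2, mul_one]
        rw [hg']
        exact (((show Commute ā q₀ from hcomm ā).zpow_right i).symm.mul_left
          (show Commute ā t' from htc ā).symm).eq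
    rw [htop, card_top] at hC4
    have h := (zpowers t').card_mul_index
    rw [Nat.card_zpowers, orderOf_eq_prime (by rw [sq]; exact ht2) ht1] at h
    omega
  obtain ⟨r, rfl⟩ := QuotientGroup.mk'_surjective XM q
  set RM := (zpowers (π r)).comap π with hRM
  have hmem : ∀ v : M, (v : S) ∈ RM.map M.subtype ↔ v ∈ RM := fun v =>
    ⟨fun ⟨w, hw, hwv⟩ => Subtype.ext hwv ▸ hw, fun hv => ⟨v, hv, rfl⟩⟩
  refine ⟨RM.map M.subtype, r, map_subtype_le _, fun x hx => ⟨⟨x, hXM hx⟩, ?_, rfl⟩,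
    ⟨⟨t, htM⟩, htq, rfl⟩, ⟨r, mem_zpowers (π r), rfl⟩, ?_, ?_, ?_⟩
  · rw [SetLike.mem_coe, hRM, mem_comap, (hπ1 ⟨x, hXM hx⟩).2 hx]
    exact one_mem _
  · rintro _ ⟨v, hv, rfl⟩
    obtain ⟨i, hi⟩ := mem_zpowers_iff.1 (hv : π v ∈ _)
    refine ⟨i, ?_⟩
    have h1 := (hπ1 ((r ^ i)⁻¹ * v)).1 (by rw [map_mul, map_inv, map_zpow, hi, inv_mul_cancel])
    simpa using h1
  · intro g hg k hk hgR hkR
    refine (hmem (⟨g, hg⟩ * ⟨k, hk⟩)).2 ?_
    have hidx : RM.index ≤ 2 := by
      rw [hRM, index_comap_of_surjective _ (QuotientGroup.mk'_surjective XM)]; exact hq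
    have hg' : (⟨g, hg⟩ : M) ∉ RM := fun h => hgR ((hmem _).2 h)
    have hk' : (⟨k, hk⟩ : M) ∉ RM := fun h => hkR ((hmem _).2 h)
    rcases Nat.lt_or_ge RM.index 2 with h | h
    · have h1 : RM.index = 1 := by
        have := index_ne_zero_of_finite (H := RM)
        omega
      rw [index_eq_one.1 h1] at hg'
      exact absurd (mem_top _) hg'
    · exact (mul_mem_iff_of_index_two (le_antisymm hidx h)).2 (iff_of_false hg' hk')
  · rintro _ ⟨v, hv, rfl⟩ hv2
    by_cases hvX : (v : S) ∈ X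
    · exact .inl hvX
    refine .inr ?_
    set v' := π v with hv'
    have hv1 : v' ≠ 1 := fun h => hvX ((hπ1 _).1 h)
    have hv2' : v' * v' = 1 := by rw [hv', ← map_mul]; exact (hπ1 _).2 (by simpa using hv2)
    have heq : v' = t' := by
      by_contra hne
      let B := zpowers (π r)
      let f : Fin 3 → {w : B // w ^ 2 = 1} := ![⟨1, one_pow 2⟩,
        ⟨⟨v', hv⟩, Subtype.ext (by rw [sq]; exact hv2')⟩,
        ⟨⟨t', htq⟩, Subtype.ext (by rw [sq]; exact ht2)⟩]
      have hf : Function.Injective f := by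
        intro i j h
        have h' := congrArg (fun w : {w : B // w ^ 2 = 1} => ((w : B) : M ⧸ XM)) h
        fin_cases i <;> fin_cases j <;> simp [f] at h' ⊢ <;>
          first
          | exact hv1 h'
          | exact hv1 h'.symm
          | exact ht1 h'
          | exact ht1 h'.symm
          | exact hne h'
          | exact hne h'.symm
      have h1 := Nat.card_le_card_of_injective f hf
      haveI := Fintype.ofFinite B
      rw [Nat.card_fin, Nat.card_eq_fintype_card, Fintype.card_subtype] at h1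
      have h2 := IsCyclic.card_pow_eq_one_le (α := B) (n := 2) two_pos
      omega
    have h1 : π (v * ⟨t, htM⟩) = 1 := by
      rw [map_mul]; show v' * t' = 1; rw [heq, ht2]
    simpa using (hπ1 _).1 h1

/-- The generic case. -/
theorem case_generic (D : Data X a e f₀ t) (hz : t * t ≠ 1) (hz₀ : t * t ≠ f₀)
    {H N : Subgroup S} (hsq : ∀ x ∈ H, x * x ∈ N) : N.relIndex H ≤ 16 := by
  classical
  haveI := D.cfg.eight.normal
  haveI := normal_of_sq hsq
  obtain ⟨hfour, hplane⟩ := D.plane hz hz₀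
  obtain ⟨R, r, hRM, hXR, htR, hrR, hcyc, hRidx, hRinv⟩ := D.exists_R
  set T := centralizer (X : Set S) with hTdef
  set M := centralizer (fixX X a : Set S) with hMdef
  have hfixM : ∀ g ∈ M, ∀ v ∈ fixX X a, g * v * g⁻¹ = v := fun g hg v hv => by
    rw [← mem_centralizer_iff.1 hg v hv, mul_inv_cancel_right]
  have hmemM : ∀ g, g * f₀ * g⁻¹ = f₀ → g ∈ M := by
    intro g hg
    refine mem_centralizer_iff.2 fun v hv => (mul_inv_eq_iff_eq_mul.1 ?_).symm
    rcases hfour v hv with rfl | rfl | rfl | rfl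
    · group
    · exact D.z_central g
    · exact hg
    · rw [show g * (t * t * f₀) * g⁻¹ = (g * (t * t) * g⁻¹) * (g * f₀ * g⁻¹) by group,
        D.z_central, hg]
  have hMpair : ∀ g k, g ∉ M → k ∉ M → g * k ∈ M := by
    intro g k hg hk
    refine hmemM _ ?_
    have hg' := (hplane g).resolve_left fun h => hg (hmemM g h)
    have hk' := (hplane k).resolve_left fun h => hk (hmemM k h)
    rw [show g * k * f₀ * (g * k)⁻¹ = g * (k * f₀ * k⁻¹) * g⁻¹ by group, hk',
      show g * (t * t * f₀) * g⁻¹ = (g * (t * t) * g⁻¹) * (g * f₀ * g⁻¹) by group, D.z_central, hg',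
      ← mul_assoc, D.cfg.eight.sq _ D.top.sq, one_mul]
  rw [split_index hsq X]
  set K := X.subgroupOf H
  set L := K ⊔ N.subgroupOf H
  set q := (N.subgroupOf H).relIndex K with hqdef
  haveI : L.Normal := inferInstance
  have hsqL := sq_mem_sup hsq X
  have hKL : ∀ h : H, (h : S) ∈ X → h ∈ L := fun h hh => mem_sup_left hh
  have hRrel := relIndex_le_two_of_cyclic hcyc hKL hsqL
  set LR := R.subgroupOf H ⊔ L
  have hLLR : L ≤ LR := le_sup_right
  have hLR : L.index = L.relIndex (R.subgroupOf H) * LR.index := by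
    rw [← relIndex_sup_right (H := R.subgroupOf H) (K := L)]
    exact (relIndex_mul_index hLLR).symm
  -- the part centralizing the plane has index four at most
  have hM4 : (M.subgroupOf H).index ≤ 2 := MW.index_le_two_of fun g k hg hk => by
    rw [mem_subgroupOf] at hg hk ⊢
    exact hMpair _ _ hg hk
  have hLR4 : LR.index ≤ 4 := by
    have h1 : LR.index ≤ (R.subgroupOf H).index :=
      Nat.le_of_dvd (Nat.pos_of_ne_zero index_ne_zero_of_finite) (index_dvd_of_le le_sup_left)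
    have h2 : (R.subgroupOf H).relIndex (M.subgroupOf H) * (M.subgroupOf H).index =
        (R.subgroupOf H).index := relIndex_mul_index (fun x hx => hRM hx)
    have h3 : (R.subgroupOf H).relIndex (M.subgroupOf H) ≤ 2 := MW.index_le_two_of fun g k hg hk => by
      rw [mem_subgroupOf, mem_subgroupOf] at hg hk ⊢
      exact hRidx _ g.2 _ k.2 hg hk
    exact h1.trans (h2 ▸ Nat.mul_le_mul h3 hM4)
  have hp8 : L.index ≤ 8 := hLR ▸ Nat.mul_le_mul hRrel hLR4
  have hHM4 : (∀ h : H, (h : S) ∈ M) → L.index ≤ 4 := by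
    intro hHM
    have h2 : LR.index ≤ 2 := MW.index_le_two_of fun g k hg hk => mem_sup_left (by
      rw [mem_subgroupOf]
      exact hRidx _ (hHM g) _ (hHM k) (fun h => hg (mem_sup_left (mem_subgroupOf.2 h)))
        fun h => hk (mem_sup_left (mem_subgroupOf.2 h)))
    exact hLR ▸ Nat.mul_le_mul hRrel h2
  -- an element of `H ∩ R` outside `X` forces the square of `t` into `N`
  have hzN : ∀ v ∈ H, v ∈ R → v ∉ X → t * t ∈ N ∧ t * t ∈ H := by
    intro v hv hvR hvX
    obtain ⟨n, hn⟩ := D.cfg.eight.isTwo v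
    induction n generalizing v with
    | zero => rw [pow_zero, pow_one] at hn; exact absurd (hn ▸ one_mem X) hvX
    | succ n ih =>
      by_cases h2 : v * v ∈ X
      · have h3 := (hRinv v hvR h2).resolve_left hvX
        have hvt : Commute v t := by
          have h4 := (D.cfg.commute_T D.top.mem h3).eq
          rw [← mul_assoc] at h4
          exact mul_right_cancel h4
        have h5 : v * v = t * t := by
          have h4 := D.cfg.eight.sq _ h3
          rw [hvt.symm.mul_mul_mul_comm] at h4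
          rw [eq_inv_of_mul_eq_one_left h4, inv_eq_of_mul_eq_one_left (D.cfg.eight.sq _ D.top.sq)]
        exact ⟨h5 ▸ hsq v hv, h5 ▸ mul_mem hv hv⟩
      · exact ih (v * v) (mul_mem hv hv) (mul_mem hvR hvR) h2 (by
          rw [← sq, ← pow_mul, ← pow_succ']; exact hn)
  have hq8 : q ≤ 8 := (second_le X).trans D.cfg.eight.card.le
  obtain ⟨i, hi⟩ := pow_two_of_dvd D.cfg.eight.isTwo (H := H) (d := q)
    ((((N.subgroupOf H).subgroupOf K).index_dvd_card.trans K.card_subgroup_dvd_card))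
  by_cases h8 : q = 8
  · obtain ⟨hXH, hXN⟩ := second_full (H := H) (N := N) (U := X) (by
      rw [D.cfg.eight.card]; exact h8.ge)
    have hHT : ∀ h : H, (h : S) ∈ T := fun h => mem_centralizer_iff.2 fun x hx => by
      obtain ⟨h1, h2⟩ := commutator_mem_inf hsq D.cfg.eight.normal h.2 hx (hXH hx)
      exact (mul_inv_eq_iff_eq_mul.1 (mul_inv_eq_one.1 (hXN _ h1 h2))).symm
    have hTM : ∀ h : H, (h : S) ∈ M := fun h => mem_centralizer_iff.2 fun v hv =>
      mem_centralizer_iff.1 (hHT h) v (mem_fixX.1 hv).1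
    have hp : L.index ≤ 2 := MW.index_le_two_of fun g k hg hk => by
      by_contra hcon
      have hout : ∀ h : H, h ∉ L → (h : S) ∉ R := fun h hh hhR => by
        obtain ⟨h1, -⟩ := hzN _ h.2 hhR fun hX => hh (hKL h hX)
        exact hz (hXN _ D.top.sq h1)
      exact hout _ hcon (by
        push_cast
        exact hRidx _ (hTM g) _ (hTM k) (hout g hg) (hout k hk))
    rw [h8]; omega
  have hq4 : q ≤ 4 := le_four_of_pow hi hq8 h8
  obtain ⟨j, hj⟩ := pow_two_of_dvd D.cfg.eight.isTwo L.index_dvd_card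
  by_cases hp4 : L.index = 8
  swap
  · exact Nat.mul_le_mul hq4 (le_four_of_pow hj hp8 hp4)
  by_cases hq2 : q ≤ 2
  · rw [hp4]; omega
  exfalso
  have hq : q = 4 := by
    have hi2 : i ≤ 2 := by
      by_contra hc
      have := Nat.pow_le_pow_right (show 0 < 2 by norm_num) (show 3 ≤ i by omega)
      omega
    interval_cases i <;> omega
  obtain ⟨d, hd⟩ : ∃ d : H, (d : S) ∉ M := by
    by_contra hcon
    push Not at hcon
    have := hHM4 hcon
    omega
  obtain ⟨h₀, hh₀T, hh₀L⟩ : ∃ h : H, (h : S) ∈ T ∧ h ∉ L := by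
    by_contra hcon
    push Not at hcon
    have : L.index ≤ 4 := D.cfg.eight.top_le_four hsqL hcon
    omega
  -- the action on `e`
  have hF : ∀ g, ∀ v ∈ fixX X a, g * v * g⁻¹ ∈ fixX X a := by
    intro g v hv
    have hf : g * f₀ * g⁻¹ ∈ fixX X a := by
      rcases hplane g with h | h <;> rw [h]
      exacts [D.hf₀, mul_mem D.z_mem D.hf₀]
    have hz' : g * (t * t) * g⁻¹ ∈ fixX X a := by rw [D.z_central]; exact D.z_mem
    rcases hfour v hv with rfl | rfl | rfl | rfl
    · simp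
    · exact hz'
    · exact hf
    · rw [show g * (t * t * f₀) * g⁻¹ = (g * (t * t) * g⁻¹) * (g * f₀ * g⁻¹) by group]
      exact mul_mem hz' hf
  have heF : e ∉ fixX X a := fun h => D.f₀_ne (by
    have h1 := (mem_fixX.1 h).2
    rw [D.hae] at h1
    exact mul_eq_left.1 h1)
  have hev : ∀ g, g * e * g⁻¹ * e⁻¹ ∈ fixX X a := by
    intro g
    rcases D.cases_e _ (D.cfg.eight.normal.conj_mem e D.he g) with h | h
    · refine absurd ?_ heF
      have := hF g⁻¹ _ h
      simpa [mul_assoc] using this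
    · rwa [inv_eq_of_mul_eq_one_left (D.cfg.eight.sq e D.he)]
  let φ : M →* fixX X a := MonoidHom.mk' (fun g => ⟨(g : S) * e * (g : S)⁻¹ * e⁻¹, hev g⟩)
    fun g g' => Subtype.ext <| by
      show (g : S) * g' * e * ((g : S) * g')⁻¹ * e⁻¹ =
        ((g : S) * e * (g : S)⁻¹ * e⁻¹) * ((g' : S) * e * (g' : S)⁻¹ * e⁻¹)
      rw [D.cfg.eight.comm _ (mem_fixX.1 (hev g)).1 _ (mem_fixX.1 (hev g')).1,
        show (g : S) * g' * e * ((g : S) * g')⁻¹ * e⁻¹ =
          ((g : S) * ((g' : S) * e * (g' : S)⁻¹ * e⁻¹) * (g : S)⁻¹) *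
            ((g : S) * e * (g : S)⁻¹ * e⁻¹) by group, hfixM g g.2 _ (hev g')]
  have hφker : ∀ g : M, φ g = 1 → (g : S) ∈ T := by
    intro g hg
    refine mem_centralizer_of_fix fun x hx => ?_
    have h1 : (g : S) * e * (g : S)⁻¹ = e := mul_inv_eq_one.1 (congrArg Subtype.val hg)
    rcases D.cases_e x hx with h | h
    · exact hfixM g g.2 x h
    · have h2 := hfixM g g.2 _ h
      rw [show (g : S) * (x * e) * (g : S)⁻¹ = ((g : S) * x * (g : S)⁻¹) * ((g : S) * e * (g : S)⁻¹)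
        by group, h1] at h2
      exact mul_right_cancel h2
  have haM : a ∈ M := hmemM a (mem_fixX.1 D.hf₀).2
  set g := (d : S) * a * (d : S)⁻¹ with hgdef
  have hgM : g ∈ M := by
    refine hmemM g ?_
    have h1 := hfixM a haM _ (hF (d : S)⁻¹ _ D.hf₀)
    calc g * f₀ * g⁻¹ = (d : S) * (a * ((d : S)⁻¹ * f₀ * (d : S)⁻¹⁻¹) * a⁻¹) * (d : S)⁻¹ := by
          simp only [hgdef]; group
      _ = f₀ := by rw [h1]; group
  have hca : ((φ ⟨a, haM⟩ : fixX X a) : S) = f₀ := by
    show a * e * a⁻¹ * e⁻¹ = f₀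
    rw [D.hae, D.cfg.eight.comm e D.he f₀ (mem_fixX.1 D.hf₀).1, mul_inv_cancel_right]
  have hcg : ((φ ⟨g, hgM⟩ : fixX X a) : S) = t * t * f₀ := by
    show g * e * g⁻¹ * e⁻¹ = t * t * f₀
    set p := (d : S)⁻¹ * e * (d : S)⁻¹⁻¹ * e⁻¹
    have hp : p ∈ fixX X a := hev _
    have hde : (d : S)⁻¹ * e * (d : S) = p * e := by simp only [p]; group
    have hdf : (d : S) * f₀ * (d : S)⁻¹ = t * t * f₀ :=
      (hplane d).resolve_left fun h => hd (hmemM _ h)
    have hzf : (t * t * f₀) ∈ X := mul_mem D.top.sq (mem_fixX.1 D.hf₀).1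
    calc g * e * g⁻¹ * e⁻¹ = (d : S) * (a * (p * e) * a⁻¹) * (d : S)⁻¹ * e⁻¹ := by
          rw [← hde]; simp only [hgdef]; group
      _ = (d : S) * ((p * e) * f₀) * (d : S)⁻¹ * e⁻¹ := by
          rw [D.cfg.conj_hom p e, (mem_fixX.1 hp).2, D.hae, mul_assoc p e f₀]
      _ = e * ((d : S) * f₀ * (d : S)⁻¹) * e⁻¹ := by rw [← hde]; group
      _ = t * t * f₀ := by rw [hdf, D.cfg.eight.comm e D.he _ hzf, mul_inv_cancel_right]
  have hTM : ∀ v ∈ T, v ∈ M := fun v hv => mem_centralizer_iff.2 fun y hy =>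
    mem_centralizer_iff.1 hv y (mem_fixX.1 hy).1
  have hφT : ∀ (v : S) (hv : v ∈ T), φ ⟨v, hTM v hv⟩ = 1 := fun v hv => Subtype.ext (by
    show v * e * v⁻¹ * e⁻¹ = 1
    rw [← (D.cfg.commute_T hv D.he).eq, mul_inv_cancel_right, mul_inv_cancel])
  have hnotT : ∀ (v : S) (hv : v ∈ M), ((φ ⟨v, hv⟩ : fixX X a) : S) ≠ 1 → v ∉ T :=
    fun v hv hne hvT => hne (congrArg Subtype.val (hφT v hvT))
  have hzf₁ : t * t * f₀ ≠ 1 := fun h => hz₀ (by
    rw [eq_inv_of_mul_eq_one_left h,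
      inv_eq_of_mul_eq_one_left (D.cfg.eight.sq f₀ (mem_fixX.1 D.hf₀).1)])
  have hoff : ∀ (v : S) (hv : v ∈ M), v * v = 1 → ((φ ⟨v, hv⟩ : fixX X a) : S) ≠ 1 → v ∉ R := by
    intro v hv hv2 hne hvR
    refine hnotT v hv hne ?_
    rcases hRinv v hvR (hv2 ▸ one_mem X) with h | h
    · exact D.cfg.X_le h
    · simpa using mul_mem (D.cfg.X_le h) (inv_mem D.top.mem)
  have haR : a ∉ R := hoff a haM D.cfg.a2 (by rw [hca]; exact D.f₀_ne)
  have hgR : g ∉ R := hoff g hgM (by
    rw [hgdef, show (d : S) * a * (d : S)⁻¹ * ((d : S) * a * (d : S)⁻¹) =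
      (d : S) * (a * a) * (d : S)⁻¹ by group, D.cfg.a2]
    group) (by rw [hcg]; exact hzf₁)
  -- the values of `φ` on `R` are powers of the value at `r`
  have hpow : ∀ (v : S) (hv : v ∈ M), v ∈ R →
      ((φ ⟨v, hv⟩ : fixX X a) : S) = 1 ∨ φ ⟨v, hv⟩ = φ ⟨r, hRM hrR⟩ := by
    intro v hv hvR
    obtain ⟨i, hi⟩ := hcyc v hvR
    have h1 : φ ⟨v, hv⟩ = φ ⟨r, hRM hrR⟩ ^ i := by
      have hx : φ ⟨(r ^ i)⁻¹ * v, hTM _ (D.cfg.X_le hi)⟩ = 1 := hφT _ (D.cfg.X_le hi)
      rw [← map_zpow, ← mul_one (φ (_ ^ i)), ← hx, ← map_mul]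
      congr 1
      exact Subtype.ext (by simp)
    set c := φ ⟨r, hRM hrR⟩
    have hc2 : c * c = 1 := Subtype.ext (D.cfg.eight.sq _ (mem_fixX.1 c.2).1)
    obtain ⟨l, rfl⟩ | ⟨l, rfl⟩ := Int.even_or_odd i
    · refine .inl ?_
      rw [h1, zpow_add, ← (Commute.refl c).mul_zpow, hc2, one_zpow]
      rfl
    · refine .inr ?_
      rw [h1, zpow_add, zpow_one, two_mul, zpow_add, ← (Commute.refl c).mul_zpow, hc2, one_zpow,
        one_mul]
  have hTR : ∀ v ∈ T, v ∈ R := by
    intro v hv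
    by_contra hvR
    have h1 := hRidx a haM v (hTM v hv) haR hvR
    have h2 := hRidx g hgM v (hTM v hv) hgR hvR
    have e1 : φ ⟨a * v, mul_mem haM (hTM v hv)⟩ = φ ⟨a, haM⟩ := by
      rw [← mul_one (φ ⟨a, haM⟩), ← hφT v hv, ← map_mul]
      rfl
    have e2 : φ ⟨g * v, mul_mem hgM (hTM v hv)⟩ = φ ⟨g, hgM⟩ := by
      rw [← mul_one (φ ⟨g, hgM⟩), ← hφT v hv, ← map_mul]
      rfl
    have h1' := (hpow _ _ h1).resolve_left (by rw [e1, hca]; exact D.f₀_ne)
    have h2' := (hpow _ _ h2).resolve_left (by rw [e2, hcg]; exact hzf₁)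
    have h3 : f₀ = t * t * f₀ := by rw [← hcg, ← e2, h2', ← h1', e1, hca]
    exact hz (mul_eq_right.1 h3.symm)
  have hag : a * g ∈ R := hRidx a haM g hgM haR hgR
  obtain ⟨hzN1, hzH⟩ := hzN _ h₀.2 (hTR _ hh₀T) fun h => hh₀L (hKL h₀ h)
  obtain ⟨hXH, hXN⟩ := second_half (H := H) (N := N) (U := X)
    (by rw [D.cfg.eight.card, ← hqdef, hq]) D.top.sq hzH hzN1 hz
  have hHR : ∀ h : H, (h : S) ∈ M → (h : S) ∈ R := by
    intro h hh
    obtain ⟨h1, h2⟩ := commutator_mem_inf hsq D.cfg.eight.normal h.2 D.he (hXH D.he)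
    rcases hXN _ h1 h2 with h3 | h3
    · exact hTR _ (hφker ⟨h, hh⟩ (Subtype.ext h3))
    · have hagM : a * g ∈ M := mul_mem haM hgM
      have h4 : φ ⟨a * g, hagM⟩ = φ ⟨(h : S), hh⟩ := by
        refine Subtype.ext ?_
        rw [show (⟨a * g, hagM⟩ : M) = ⟨a, haM⟩ * ⟨g, hgM⟩ from rfl, map_mul, Subgroup.coe_mul,
          hca, hcg, D.cfg.eight.comm _ D.top.sq f₀ (mem_fixX.1 D.hf₀).1, ← mul_assoc,
          D.cfg.eight.sq f₀ (mem_fixX.1 D.hf₀).1, one_mul]
        exact h3.symm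
      have h5 : φ (⟨a * g, hagM⟩⁻¹ * ⟨(h : S), hh⟩) = 1 := by
        rw [map_mul, map_inv, h4, inv_mul_cancel]
      have h6 := hTR _ (hφker _ h5)
      push_cast at h6
      simpa [mul_assoc] using mul_mem hag h6
  have hLR2 : LR.index ≤ 2 := by
    refine le_trans (Nat.le_of_dvd (Nat.pos_of_ne_zero index_ne_zero_of_finite)
      (index_dvd_of_le (?_ : M.subgroupOf H ≤ LR))) hM4
    exact fun h hh => mem_sup_left (mem_subgroupOf.2 (hHR h (mem_subgroupOf.1 hh)))
  have := hLR ▸ Nat.mul_le_mul hRrel hLR2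
  omega

end Cfsg.Agent.TwoFusionB.Harada
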