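import Cfsg.Agent.TwoFusionB.SectionalRank
import Cfsg.Agent.Lib.Coprime.SchurZassenhaus
import Cfsg.Agent.Lib.PGroup.Basic

/-!
# A 2-group with an element whose centralizer is small: sectional rank at most four
-/

set_option autoImplicit false

namespace Cfsg.Agent.TwoFusionB

open Cfsg.Agent.Classification

variable {G : Type*} [Group G]

/-- `T ≤ S`, `B` is a four-group in `T` and `C_S(b) = T` for all `b ∈ B#`. -/
structure HRHyp (S T B : Subgroup G) : Prop where
  hS : IsPGroup 2 S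
  hTS : T ≤ S
  hBT : B ≤ T
  hB4 : Nat.card B = 4
  hBsq : ∀ b ∈ B, b * b = 1
  hcent : ∀ b ∈ B, b ≠ 1 → ∀ s ∈ S, (s * b = b * s ↔ s ∈ T)

/-- The elements of `E` commuting with `g`. -/
abbrev fixIn (E : Subgroup G) (g : G) : Subgroup G := E ⊓ Subgroup.centralizer ({g} : Set G)

theorem card_le_sq_fixIn [Finite G] {E : Subgroup G} {g : G} (hsq : ∀ e ∈ E, e * e = 1)
    (hgE : ∀ e ∈ E, g * e * g⁻¹ ∈ E) (hg2 : ∀ e ∈ E, g * g * e = e * (g * g)) :
    Nat.card E ≤ Nat.card (fixIn E g) * Nat.card (fixIn E g) := by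
  have hinv : ∀ e ∈ E, e⁻¹ = e := fun e he => inv_eq_of_mul_eq_one_right (hsq e he)
  have hcomm : ∀ a ∈ E, ∀ c ∈ E, a * c = c * a := by
    intro a ha c hc
    rw [← hinv _ (mul_mem ha hc), mul_inv_rev, hinv a ha, hinv c hc]
  let χ : E →* E :=
    { toFun := fun e => ⟨g * e * g⁻¹ * (e : G)⁻¹, mul_mem (hgE e e.2) (inv_mem e.2)⟩
      map_one' := Subtype.ext (by simp)
      map_mul' := fun a c => by
        apply Subtype.ext
        push_cast
        rw [mul_inv_rev, hcomm _ (inv_mem c.2) _ (inv_mem a.2)]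
        calc g * ((a : G) * c) * g⁻¹ * ((a : G)⁻¹ * (c : G)⁻¹)
            = g * (a : G) * g⁻¹ * ((g * (c : G) * g⁻¹) * (a : G)⁻¹) * (c : G)⁻¹ := by group
          _ = g * (a : G) * g⁻¹ * ((a : G)⁻¹ * (g * (c : G) * g⁻¹)) * (c : G)⁻¹ := by
              rw [hcomm _ (hgE c c.2) _ (inv_mem a.2)]
          _ = g * (a : G) * g⁻¹ * (a : G)⁻¹ * (g * (c : G) * g⁻¹ * (c : G)⁻¹) := by group }
  have hker : Nat.card χ.ker ≤ Nat.card (fixIn E g) :=
    Nat.card_le_card_of_injective (fun x => ⟨((x : E) : G), (x : E).2, by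
      apply Subgroup.mem_centralizer_singleton_iff.mpr
      have h : g * ((x : E) : G) * g⁻¹ * ((x : E) : G)⁻¹ = 1 :=
        congrArg Subtype.val (show χ (x : E) = 1 from x.2)
      rw [mul_inv_eq_one, mul_inv_eq_iff_eq_mul] at h
      exact h.symm⟩)
      (fun a c e => Subtype.ext (Subtype.ext (congrArg (fun z : fixIn E g => (z : G)) e)))
  have himg : Nat.card χ.range ≤ Nat.card (fixIn E g) :=
    Nat.card_le_card_of_injective (fun x => ⟨((x : E) : G), (x : E).2, by
      apply Subgroup.mem_centralizer_singleton_iff.mpr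
      obtain ⟨e, he⟩ := x.2
      rw [← he]
      show g * e * g⁻¹ * (e : G)⁻¹ * g = g * (g * e * g⁻¹ * (e : G)⁻¹)
      have h1 : g * e * g⁻¹ * (e : G)⁻¹ = (e : G) * (g * e * g⁻¹) := by
        rw [hinv e e.2, hcomm _ (hgE e e.2) _ e.2]
      calc g * e * g⁻¹ * (e : G)⁻¹ * g = (e : G) * (g * e * g⁻¹) * g := by rw [h1]
        _ = (e : G) * (g * g) * (g⁻¹ * (e : G)) := by group
        _ = g * g * e * (g⁻¹ * (e : G)) := by rw [hg2 e e.2]
        _ = g * (g * e * g⁻¹ * (e : G)⁻¹) := by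
            rw [hinv e e.2]
            group⟩)
      (fun a c e => Subtype.ext (Subtype.ext (congrArg (fun z : fixIn E g => (z : G)) e)))
  have h := Subgroup.card_mul_index χ.ker
  rw [Subgroup.index_ker] at h
  calc Nat.card E = Nat.card χ.ker * Nat.card χ.range := h.symm
    _ ≤ _ := Nat.mul_le_mul hker himg

theorem card_mul_card_le [Finite G] {E F B : Subgroup G} (hF : F ≤ E) (hB : B ≤ E)
    (hFB : ∀ x ∈ F, x ∈ B → x = 1) : Nat.card F * Nat.card B ≤ Nat.card E := by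
  rw [← Nat.card_prod]
  apply Nat.card_le_card_of_injective (fun p : F × B => (⟨p.1.1 * p.2.1,
    mul_mem (hF p.1.2) (hB p.2.2)⟩ : E))
  rintro ⟨a, c⟩ ⟨a', c'⟩ e
  have e' : a.1 * c.1 = a'.1 * c'.1 := congrArg Subtype.val e
  have he : a'.1⁻¹ * a.1 = c'.1 * c.1⁻¹ := by
    calc a'.1⁻¹ * a.1 = a'.1⁻¹ * (a.1 * c.1) * c.1⁻¹ := by group
      _ = a'.1⁻¹ * (a'.1 * c'.1) * c.1⁻¹ := by rw [e']
      _ = c'.1 * c.1⁻¹ := by group
  have h1 : a'.1⁻¹ * a.1 = 1 :=
    hFB _ (mul_mem (inv_mem a'.2) a.2) (he ▸ mul_mem c'.2 (inv_mem c.2))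
  obtain rfl : a = a' := Subtype.ext (inv_mul_eq_one.mp h1).symm
  exact Prod.ext rfl (Subtype.ext (mul_left_cancel e'))

/-- A proper subgroup of a 2-group has an element normalizing it and squaring into it. -/
theorem exists_sq_mem_normalizer [Finite G] {S T : Subgroup G} (hS : IsPGroup 2 S) (hTS : T ≤ S)
    (hne : T ≠ S) : ∃ g ∈ S, g ∈ Subgroup.normalizer (T : Set G) ∧ g ∉ T ∧ g * g ∈ T := by
  classical
  have : Group.IsNilpotent S := hS.isNilpotent
  have hlt : T.subgroupOf S < ⊤ := by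
    rw [lt_top_iff_ne_top, Ne, Subgroup.subgroupOf_eq_top]
    exact fun h => hne (le_antisymm hTS h)
  obtain ⟨s, hs, hsn⟩ := SetLike.exists_of_lt (Group.normalizerCondition_of_isNilpotent _ hlt)
  have hsT : (s : G) ∈ Subgroup.normalizer (T : Set G) := by
    rw [Subgroup.mem_normalizer_iff]
    intro x
    constructor
    · intro hx
      exact (Subgroup.mem_normalizer_iff.mp hs ⟨x, hTS hx⟩).mp hx
    · intro hx
      have hxS : x ∈ S := by
        have := mul_mem (mul_mem (inv_mem s.2) (hTS hx)) s.2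
        simpa [mul_assoc] using this
      exact (Subgroup.mem_normalizer_iff.mp hs ⟨x, hxS⟩).mpr hx
  obtain ⟨k, hk⟩ := hS s
  have hex : ∃ i : ℕ, (s : G) ^ 2 ^ i ∈ T := ⟨k, by
    have h1 := congrArg Subtype.val hk
    push_cast at h1
    rw [h1]
    exact one_mem T⟩
  have hpos : Nat.find hex ≠ 0 := by
    intro h0
    have h1 := Nat.find_spec hex
    rw [h0, pow_zero, pow_one] at h1
    exact hsn h1
  obtain ⟨i, hi⟩ := Nat.exists_eq_succ_of_ne_zero hpos
  refine ⟨(s : G) ^ 2 ^ i, pow_mem s.2 _, pow_mem hsT _, Nat.find_min hex (by omega), ?_⟩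
  have h1 := Nat.find_spec hex
  rw [hi, pow_succ, pow_mul, sq] at h1
  exact h1

namespace HRHyp

variable {S T B : Subgroup G} (h : HRHyp S T B)
include h

theorem ne_one_exists [Finite G] : ∃ b ∈ B, b ≠ 1 := by
  by_contra hcon
  push Not at hcon
  have := h.hB4
  rw [(Subgroup.card_eq_one).mpr ((Subgroup.eq_bot_iff_forall B).mpr hcon)] at this
  omega

theorem fixIn_inf {E : Subgroup G} {g : G} (hg : g ∈ S) (hgT : g ∉ T) :
    ∀ x ∈ fixIn E g, x ∈ B → x = 1 := by
  intro x hx hxB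
  by_contra hx1
  exact hgT ((h.hcent x hxB hx1 g hg).mp (Subgroup.mem_centralizer_singleton_iff.mp hx.2).symm)

theorem conj_T [Finite G] {g : G} {b : G} (hb : b ∈ B) (hb1 : b ≠ 1) (hgS : g ∈ S) {p : G}
    (hp : p ∈ S) (hcomm : p * (g * b * g⁻¹) = g * b * g⁻¹ * p) : p ∈ cj g T := by
  rw [mem_cj, ← h.hcent b hb hb1 _ (mul_mem (mul_mem (inv_mem hgS) hp) hgS)]
  calc g⁻¹ * p * g * b = g⁻¹ * (p * (g * b * g⁻¹)) * g := by group
    _ = g⁻¹ * (g * b * g⁻¹ * p) * g := by rw [hcomm]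
    _ = b * (g⁻¹ * p * g) := by group

/-- The large case: the involutions of `Z(T)` form a group of order at most 8. -/
theorem eq_of_small_center [Finite G] {E : Subgroup G}
    (hE : ∀ x, x ∈ E ↔ x ∈ T ∧ x * x = 1 ∧ ∀ t ∈ T, x * t = t * x)
    (hcomm : ∀ b ∈ B, ∀ t ∈ T, b * t = t * b) (hE8 : Nat.card E ≤ 8) : T = S := by
  by_contra hne
  obtain ⟨g, hgS, hgN, hgT, hg2⟩ := exists_sq_mem_normalizer h.hS h.hTS hne
  have hgE : ∀ e ∈ E, g * e * g⁻¹ ∈ E := by
    intro e he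
    obtain ⟨heT, he2, hec⟩ := (hE e).mp he
    refine (hE _).mpr ⟨(Subgroup.mem_normalizer_iff.mp hgN e).mp heT, ?_, fun t ht => ?_⟩
    · rw [show g * e * g⁻¹ * (g * e * g⁻¹) = g * (e * e) * g⁻¹ by group, he2, mul_one,
        mul_inv_cancel]
    · have ht' : g⁻¹ * t * g ∈ T := (Subgroup.mem_normalizer_iff''.mp hgN t).mp ht
      calc g * e * g⁻¹ * t = g * (e * (g⁻¹ * t * g)) * g⁻¹ := by group
        _ = g * ((g⁻¹ * t * g) * e) * g⁻¹ := by rw [hec _ ht']
        _ = t * (g * e * g⁻¹) := by group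
  have hg2' : ∀ e ∈ E, g * g * e = e * (g * g) := fun e he => (((hE e).mp he).2.2 _ hg2).symm
  have h1 := card_le_sq_fixIn (fun e he => ((hE e).mp he).2.1) hgE hg2'
  have hBE : B ≤ E := fun b hb => (hE b).mpr ⟨h.hBT hb, h.hBsq b hb, hcomm b hb⟩
  have h2 := card_mul_card_le (inf_le_left : fixIn E g ≤ E) hBE (h.fixIn_inf hgS hgT)
  have h3 : 4 ≤ Nat.card E := h.hB4 ▸ Subgroup.card_le_of_le hBE
  rw [h.hB4] at h2
  nlinarith

end HRHyp

/-- The additional hypothesis that `T` is elementary abelian of order 16. -/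
structure HR16 (S T B : Subgroup G) : Prop extends HRHyp S T B where
  hT16 : Nat.card T = 16
  hTsq : ∀ t ∈ T, t * t = 1

namespace HR16

variable {S T B : Subgroup G} (h : HR16 S T B)
include h

theorem inv_eq {t : G} (ht : t ∈ T) : t⁻¹ = t := inv_eq_of_mul_eq_one_right (h.hTsq t ht)

theorem comm {a c : G} (ha : a ∈ T) (hc : c ∈ T) : a * c = c * a := by
  rw [← h.inv_eq (mul_mem ha hc), mul_inv_rev, h.inv_eq ha, h.inv_eq hc]

theorem card_fix [Finite G] {g : G} (hgS : g ∈ S) (hgN : g ∈ Subgroup.normalizer (T : Set G))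
    (hgT : g ∉ T) (hg2 : g * g ∈ T) : Nat.card (fixIn T g) = 4 := by
  have h1 := card_le_sq_fixIn h.hTsq (fun e he => (Subgroup.mem_normalizer_iff.mp hgN e).mp he)
    (fun e he => h.comm hg2 he)
  have h2 := card_mul_card_le (inf_le_left : fixIn T g ≤ T) h.hBT (h.fixIn_inf hgS hgT)
  rw [h.hT16] at h1 h2
  rw [h.hB4] at h2
  nlinarith

theorem exists_eq_mul [Finite G] {F : Subgroup G} (hF : F ≤ T) (hF4 : Nat.card F = 4)
    (hFB : ∀ x ∈ F, x ∈ B → x = 1) {a : G} (ha : a ∈ T) : ∃ f ∈ F, ∃ b ∈ B, f * b = a := by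
  let m : F × B → T := fun p => ⟨p.1.1 * p.2.1, mul_mem (hF p.1.2) (h.hBT p.2.2)⟩
  have hm : Function.Injective m := by
    rintro ⟨a, c⟩ ⟨a', c'⟩ e
    have e' : a.1 * c.1 = a'.1 * c'.1 := congrArg Subtype.val e
    have he : a'.1⁻¹ * a.1 = c'.1 * c.1⁻¹ := by
      calc a'.1⁻¹ * a.1 = a'.1⁻¹ * (a.1 * c.1) * c.1⁻¹ := by group
        _ = a'.1⁻¹ * (a'.1 * c'.1) * c.1⁻¹ := by rw [e']
        _ = c'.1 * c.1⁻¹ := by group
    have h1 : a'.1⁻¹ * a.1 = 1 :=
      hFB _ (mul_mem (inv_mem a'.2) a.2) (he ▸ mul_mem c'.2 (inv_mem c.2))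
    obtain rfl : a = a' := Subtype.ext (inv_mul_eq_one.mp h1).symm
    exact Prod.ext rfl (Subtype.ext (mul_left_cancel e'))
  obtain ⟨⟨f, b⟩, hfb⟩ := (hm.bijective_of_nat_card_le
    (by rw [Nat.card_prod, hF4, h.hB4, h.hT16])).2 ⟨a, ha⟩
  exact ⟨f, f.2, b, b.2, congrArg Subtype.val hfb⟩

/-- `|N_S(T) : T| ≤ 4`. -/
theorem relIndex_norm_le [Finite G] :
    T.relIndex (S ⊓ Subgroup.normalizer (T : Set G)) ≤ 4 := by
  set N := S ⊓ Subgroup.normalizer (T : Set G) with hN
  have hTN : T ≤ N := le_inf h.hTS Subgroup.le_normalizer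
  haveI hTn : (T.subgroupOf N).Normal :=
    ⟨fun t ht n => (Subgroup.mem_normalizer_iff.mp n.2.2 t).mp ht⟩
  rcases subsingleton_or_nontrivial (N ⧸ T.subgroupOf N) with hs | hs
  · have : T.relIndex N = 1 := Nat.card_eq_one_iff_unique.mpr ⟨hs, inferInstance⟩
    omega
  have hNp : IsPGroup 2 N := h.hS.to_le inf_le_left
  have hQp := hNp.to_quotient (T.subgroupOf N)
  haveI := hQp.center_nontrivial
  have hd : 2 ∣ Nat.card (Subgroup.center (N ⧸ T.subgroupOf N)) := by
    obtain ⟨n, hn⟩ := (hQp.to_subgroup (Subgroup.center (N ⧸ T.subgroupOf N))).exists_card_eq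
    rw [hn]
    apply dvd_pow_self
    rintro rfl
    exact (Finite.one_lt_card (α := Subgroup.center (N ⧸ T.subgroupOf N))).ne' (by simpa using hn)
  obtain ⟨q, hq⟩ := exists_prime_orderOf_dvd_card' 2 hd
  obtain ⟨z, hz⟩ := QuotientGroup.mk'_surjective (T.subgroupOf N) (q : N ⧸ T.subgroupOf N)
  have hzT : (z : G) ∉ T := by
    intro hzT
    have h1 : (QuotientGroup.mk' (T.subgroupOf N) z) = 1 := (QuotientGroup.eq_one_iff z).mpr hzT
    rw [hz] at h1
    have h2 : orderOf q = 1 := orderOf_eq_one_iff.mpr (Subtype.ext h1)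
    omega
  have hz2 : (z : G) * z ∈ T := by
    have h1 : q * q = 1 := by rw [← sq, ← hq, pow_orderOf_eq_one]
    have h2 : QuotientGroup.mk' (T.subgroupOf N) (z * z) = 1 := by
      rw [map_mul, hz]; exact congrArg Subtype.val h1
    have h3 : z * z ∈ T.subgroupOf N := (QuotientGroup.eq_one_iff _).mp h2
    exact h3
  have hzc : ∀ n : N, (n : G)⁻¹ * z⁻¹ * n * z ∈ T := by
    intro n
    have h1 := (Subgroup.mem_center_iff.mp q.2 (QuotientGroup.mk' (T.subgroupOf N) n)).symm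
    rw [← hz, ← map_mul, ← map_mul] at h1
    have h2 : ((z * n)⁻¹ * (n * z) : N) ∈ T.subgroupOf N := QuotientGroup.eq.mp h1
    rw [Subgroup.mem_subgroupOf] at h2
    push_cast at h2
    rwa [mul_inv_rev, ← mul_assoc] at h2
  have hF4 := h.card_fix z.2.1 z.2.2 hzT hz2
  set F := fixIn T (z : G) with hF
  have hFn : ∀ n : N, ∀ f ∈ F, (n : G) * f * (n : G)⁻¹ ∈ F := by
    intro n f hf
    have hfT : (n : G) * f * (n : G)⁻¹ ∈ T := (Subgroup.mem_normalizer_iff.mp n.2.2 f).mp hf.1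
    refine ⟨hfT, Subgroup.mem_centralizer_singleton_iff.mpr ?_⟩
    have ht := hzc n
    set t := (n : G)⁻¹ * (z : G)⁻¹ * n * z with ht_def
    have hzn : (n : G)⁻¹ * z * n = (z : G) * t⁻¹ := by rw [ht_def]; group
    have hcz : f * ((n : G)⁻¹ * z * n) = ((n : G)⁻¹ * z * n) * f := by
      rw [hzn, ← mul_assoc, Subgroup.mem_centralizer_singleton_iff.mp hf.2, mul_assoc,
        h.comm hf.1 (show t⁻¹ ∈ T from inv_mem ht), mul_assoc]
    calc (n : G) * f * (n : G)⁻¹ * z = n * (f * ((n : G)⁻¹ * z * n)) * (n : G)⁻¹ := by group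
      _ = n * ((n : G)⁻¹ * z * n * f) * (n : G)⁻¹ := by rw [hcz]
      _ = z * (n * f * (n : G)⁻¹) := by group
  haveI hFnorm : (F.subgroupOf N).Normal := ⟨fun f hf n => hFn n f hf⟩
  have himg : (T.subgroupOf N).map (QuotientGroup.mk' (F.subgroupOf N)) ≠ ⊥ := by
    intro e
    rw [Subgroup.map_eq_bot_iff, QuotientGroup.ker_mk'] at e
    have h3 : Nat.card T ≤ Nat.card F := Subgroup.card_le_of_le
      (fun t ht => e (show (⟨t, hTN ht⟩ : N) ∈ T.subgroupOf N from ht))
    rw [h.hT16, hF4] at h3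
    omega
  haveI : ((T.subgroupOf N).map (QuotientGroup.mk' (F.subgroupOf N))).Normal :=
    hTn.map _ (QuotientGroup.mk'_surjective _)
  obtain ⟨x, hx, hx1⟩ := (Subgroup.bot_or_exists_ne_one _).resolve_left
    (PGroup.inf_center_ne_bot (hNp.to_quotient (F.subgroupOf N)) himg)
  obtain ⟨a, haT', hax⟩ := hx.1
  have haT : (a : G) ∈ T := haT'
  obtain ⟨f, hf, b, hb, hfb⟩ :=
    h.exists_eq_mul inf_le_left hF4 (h.fixIn_inf z.2.1 hzT) haT
  have hb1 : b ≠ 1 := by
    rintro rfl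
    apply hx1
    rw [← hax]
    apply (QuotientGroup.eq_one_iff a).mpr
    rw [Subgroup.mem_subgroupOf]
    rw [← hfb, mul_one]
    exact hf
  have hbF : ∀ n : N, (n : G) * b * (n : G)⁻¹ * b⁻¹ ∈ F := by
    intro n
    have h1 := Subgroup.mem_center_iff.mp hx.2 (QuotientGroup.mk' (F.subgroupOf N) n)
    rw [← hax, ← map_mul, ← map_mul] at h1
    have h2 : ((n * a)⁻¹ * (a * n) : N) ∈ F.subgroupOf N := QuotientGroup.eq.mp h1
    rw [Subgroup.mem_subgroupOf] at h2
    push_cast at h2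
    rw [mul_inv_rev, mul_assoc] at h2
    have h3 := hFn n _ h2
    have h4 : (n : G) * a * (n : G)⁻¹ * (a : G)⁻¹ ∈ F := by
      have h5 := inv_mem h3
      have h6 : ((n : G) * ((a : G)⁻¹ * ((n : G)⁻¹ * ((a : G) * n))) * (n : G)⁻¹)⁻¹ =
          (a : G)⁻¹ * ((n : G) * a * (n : G)⁻¹) := by group
      rw [h6] at h5
      rwa [h.comm (inv_mem haT) ((Subgroup.mem_normalizer_iff.mp n.2.2 _).mp haT)] at h5
    have h7 : (n : G) * b * (n : G)⁻¹ * b⁻¹ =
        ((n : G) * f * (n : G)⁻¹)⁻¹ * ((n : G) * a * (n : G)⁻¹ * (a : G)⁻¹) * f := by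
      rw [← hfb]
      have hcb : f⁻¹ * ((n : G) * b * (n : G)⁻¹ * b⁻¹) * f =
          (n : G) * b * (n : G)⁻¹ * b⁻¹ := by
        rw [mul_assoc, h.comm (mul_mem ((Subgroup.mem_normalizer_iff.mp n.2.2 b).mp (h.hBT hb))
          (inv_mem (h.hBT hb))) hf.1, inv_mul_cancel_left]
      calc (n : G) * b * (n : G)⁻¹ * b⁻¹ = (n : G) * b * (n : G)⁻¹ * (b⁻¹ * f⁻¹) * f := by group
        _ = _ := by group
    rw [h7]
    exact mul_mem (mul_mem (inv_mem (hFn n f hf)) h4) hf
  let φ : N ⧸ T.subgroupOf N → F := fun q =>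
    ⟨((q.out : N) : G) * b * ((q.out : N) : G)⁻¹ * b⁻¹, hbF q.out⟩
  have hφ : Function.Injective φ := by
    intro p q e
    have e' := mul_right_cancel (show ((p.out : N) : G) * b * ((p.out : N) : G)⁻¹ * b⁻¹ =
      ((q.out : N) : G) * b * ((q.out : N) : G)⁻¹ * b⁻¹ from congrArg Subtype.val e)
    rw [← p.out_eq, ← q.out_eq]
    apply QuotientGroup.eq.mpr
    show ((p.out⁻¹ * q.out : N) : G) ∈ T
    rw [← h.hcent b hb hb1 _ (p.out⁻¹ * q.out).2.1]
    push_cast
    calc ((p.out : N) : G)⁻¹ * q.out * b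
        = ((p.out : N) : G)⁻¹ * ((q.out : G) * b * (q.out : G)⁻¹) * q.out := by group
      _ = ((p.out : N) : G)⁻¹ * ((p.out : G) * b * (p.out : G)⁻¹) * q.out := by rw [e']
      _ = b * (((p.out : N) : G)⁻¹ * q.out) := by group
  exact (Nat.card_le_card_of_injective φ hφ).trans_eq hF4

theorem card_le_of_relIndex [Finite G] {A P : Subgroup G} {k : ℕ} (hA : Nat.card (A ⊓ P : Subgroup G) ≤ k)
    {r : ℕ} (hr : A.relIndex P ≤ r) : Nat.card P ≤ k * r := by
  have := h
  have h1 := Subgroup.card_mul_index ((A ⊓ P).subgroupOf P)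
  rw [Nat.card_congr (Subgroup.subgroupOfEquivOfLe (inf_le_right : A ⊓ P ≤ P)).toEquiv] at h1
  have h2 : (A ⊓ P).relIndex P = A.relIndex P := Subgroup.inf_relIndex_right A P
  rw [← h1]
  exact Nat.mul_le_mul hA (le_of_eq_of_le h2 hr)

theorem inter_mem [Finite G] {P : Subgroup G} (hP : 4 < Nat.card (T ⊓ P : Subgroup G)) :
    ∃ b ∈ B, b ≠ 1 ∧ b ∈ P := by
  by_contra hcon
  push Not at hcon
  have := card_mul_card_le (inf_le_left : T ⊓ P ≤ T) h.hBT
    (fun x hx hxB => by_contra fun hx1 => hcon x hxB hx1 hx.2)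
  rw [h.hB4, h.hT16] at this
  omega

theorem sqBound_of_inter [Finite G] {P : Subgroup G} (hPS : P ≤ S)
    (hP : 4 < Nat.card (T ⊓ P : Subgroup G)) : SqBound 4 P := by
  obtain ⟨b, hbB, hb1, hbP⟩ := h.inter_mem hP
  refine sqBound_of_mem hbP ?_
  refine (Subgroup.card_le_of_le (fun p hp => ?_)).trans h.hT16.le
  exact (h.hcent b hbB hb1 p (hPS hp.1)).mp (Subgroup.mem_centralizer_singleton_iff.mp hp.2)

theorem sqBound [Finite G] : ∀ P : Subgroup G, P ≤ S → SqBound 4 P := by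
  intro P hPS
  by_cases hbig : 4 < Nat.card (T ⊓ P : Subgroup G)
  · exact h.sqBound_of_inter hPS hbig
  push Not at hbig
  set N := S ⊓ Subgroup.normalizer (T : Set G) with hN
  have hTN : T ≤ N := le_inf h.hTS Subgroup.le_normalizer
  have hi := h.relIndex_norm_le
  by_cases hNS : N = S
  · apply sqBound_of_card_le
    have hr : T.relIndex P ≤ 4 := by
      refine le_trans (Subgroup.relIndex_le_of_le_right hPS ?_) (hNS ▸ hi)
      exact Subgroup.index_ne_zero_of_finite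
    exact h.card_le_of_relIndex hbig hr
  -- `S` has a second elementary abelian subgroup of order 16
  obtain ⟨g, hgS, hgN, hgnN, -⟩ := exists_sq_mem_normalizer h.hS inf_le_left hNS
  set T' := cj g T with hT'
  have hgne : cj g T ≠ T := fun e => hgnN ⟨hgS, mem_normalizer_of_cj_eq e⟩
  have hT'N : T' ≤ N := (cj_mono g hTN).trans (cj_eq_of_mem_normalizer hgN).le
  have hT'16 : Nat.card T' = 16 := (card_cj g T).trans h.hT16
  have hT'sq : ∀ t ∈ T', t * t = 1 := by
    rintro _ ⟨t, ht, rfl⟩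
    rw [← map_mul, h.hTsq t ht, map_one]
  have hT'inv : ∀ t ∈ T', t⁻¹ = t := fun t ht => inv_eq_of_mul_eq_one_right (hT'sq t ht)
  have hT'comm : ∀ a ∈ T', ∀ c ∈ T', a * c = c * a := by
    intro a ha c hc
    rw [← hT'inv _ (mul_mem ha hc), mul_inv_rev, hT'inv a ha, hT'inv c hc]
  set Y := T ⊓ T' with hY
  have hrT' : T.relIndex T' ≤ 4 :=
    le_trans (Subgroup.relIndex_le_of_le_right hT'N Subgroup.index_ne_zero_of_finite) hi
  have hY4 : 4 ≤ Nat.card Y := by
    have h1 := h.card_le_of_relIndex (A := T) (P := T') (le_refl (Nat.card Y)) hrT'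
    omega
  have hfixY : ∀ s ∈ T', s ∉ T → fixIn T s = Y := by
    intro s hs hsT
    have hsN := hT'N hs
    have hle : Y ≤ fixIn T s := fun y hy =>
      ⟨hy.1, Subgroup.mem_centralizer_singleton_iff.mpr (hT'comm y hy.2 s hs)⟩
    refine (Subgroup.eq_of_le_of_card_ge hle ?_).symm
    rw [h.card_fix hsN.1 hsN.2 hsT (by rw [hT'sq s hs]; exact one_mem T)]
    exact hY4
  obtain ⟨s₀, hs₀, hs₀T⟩ : ∃ s ∈ T', s ∉ T := by
    by_contra hcon
    push Not at hcon
    exact hgne (Subgroup.eq_of_le_of_card_ge hcon (by rw [hT'16, h.hT16]))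
  have hYeq : Nat.card Y = 4 := by
    rw [← hfixY s₀ hs₀ hs₀T]
    exact h.card_fix (hT'N hs₀).1 (hT'N hs₀).2 hs₀T (by rw [hT'sq s₀ hs₀]; exact one_mem T)
  have hsup : T ⊔ T' = N := by
    refine Subgroup.eq_of_le_of_card_ge (sup_le hTN hT'N) ?_
    have h1 : Nat.card N ≤ 64 := by
      have := h.card_le_of_relIndex (A := T) (P := N) (k := 16)
        ((Subgroup.card_le_of_le inf_le_left).trans h.hT16.le) hi
      omega
    have h2 := Subgroup.card_mul_index (T.subgroupOf (T ⊔ T'))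
    rw [Nat.card_congr (Subgroup.subgroupOfEquivOfLe (le_sup_left : T ≤ T ⊔ T')).toEquiv,
      h.hT16] at h2
    have h3 : T.relIndex T' ≤ T.relIndex (T ⊔ T') :=
      Subgroup.relIndex_le_of_le_right le_sup_right Subgroup.index_ne_zero_of_finite
    have h4 : 4 ≤ T.relIndex T' := by
      have h5 := Subgroup.card_mul_index ((T ⊓ T').subgroupOf T')
      rw [Nat.card_congr (Subgroup.subgroupOfEquivOfLe (inf_le_right : T ⊓ T' ≤ T')).toEquiv,
        hT'16, ← hY, hYeq] at h5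
      have h6 : (T ⊓ T').relIndex T' = T.relIndex T' := Subgroup.inf_relIndex_right T T'
      have h7 : (Y.subgroupOf T').index = 4 := by omega
      exact h6 ▸ h7.ge
    have h8 : T.relIndex (T ⊔ T') = (T.subgroupOf (T ⊔ T')).index := rfl
    omega
  have hinvN : ∀ i ∈ N, i * i = 1 → i ∈ T ∨ i ∈ T' := by
    intro i hi hi2
    rw [← hsup] at hi
    obtain ⟨t, ht, s, hs, rfl⟩ := Coprime.exists_mul_of_mem_sup
      (N := T) (H := T') (fun x hx => (hT'N hx).2) hi
    by_cases hsT : s ∈ T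
    · exact Or.inl (mul_mem ht hsT)
    right
    refine mul_mem ?_ hs
    have htc : t * s = s * t := by
      have h1 := eq_inv_of_mul_eq_one_left hi2
      rw [mul_inv_rev, h.inv_eq ht, hT'inv s hs] at h1
      exact h1
    have : t ∈ fixIn T s := ⟨ht, Subgroup.mem_centralizer_singleton_iff.mpr htc⟩
    rw [hfixY s hs hsT] at this
    exact this.2
  have helem : ∀ A : Subgroup G, A ≤ N → (∀ a ∈ A, a * a = 1) → A ≤ T ∨ A ≤ T' := by
    intro A hA hA2
    by_contra hcon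
    push Not at hcon
    obtain ⟨a, ha, haT⟩ := SetLike.not_le_iff_exists.mp hcon.1
    obtain ⟨c, hc, hcT⟩ := SetLike.not_le_iff_exists.mp hcon.2
    have ha' : a ∈ T' := (hinvN a (hA ha) (hA2 a ha)).resolve_left haT
    have hc' : c ∈ T := (hinvN c (hA hc) (hA2 c hc)).resolve_right hcT
    rcases hinvN _ (hA (mul_mem ha hc)) (hA2 _ (mul_mem ha hc)) with h1 | h1
    · exact haT ((Subgroup.mul_mem_cancel_right _ hc').mp h1)
    · exact hcT ((Subgroup.mul_mem_cancel_left _ ha').mp h1)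
  set M := S ⊓ Subgroup.normalizer (N : Set G) with hM
  have hNM : N ≤ M := le_inf inf_le_left Subgroup.le_normalizer
  have hMT : ∀ m ∈ M, cj m T = T ∨ cj m T = T' := by
    intro m hm
    have h1 : cj m T ≤ N := (cj_mono m hTN).trans (cj_eq_of_mem_normalizer hm.2).le
    have h2 : ∀ a ∈ cj m T, a * a = 1 := by
      rintro _ ⟨t, ht, rfl⟩
      rw [← map_mul, h.hTsq t ht, map_one]
    rcases helem _ h1 h2 with h3 | h3
    · exact Or.inl (Subgroup.eq_of_le_of_card_ge h3 (by rw [card_cj]))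
    · exact Or.inr (Subgroup.eq_of_le_of_card_ge h3 (le_of_eq ((card_cj g T).trans (card_cj m T).symm)))
  have hMN : N.relIndex M ≤ 2 := by
    classical
    let ψ : M ⧸ N.subgroupOf M → Bool := fun q => decide (cj ((q.out : M) : G) T = T)
    have hψ : Function.Injective ψ := by
      intro p q e
      have key : cj ((p.out : M) : G) T = cj ((q.out : M) : G) T := by
        rcases hMT _ p.out.2 with h1 | h1 <;> rcases hMT _ q.out.2 with h2 | h2 <;>
          simp [ψ, h1, h2, hT', hgne] at e ⊢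
      rw [← p.out_eq, ← q.out_eq]
      apply QuotientGroup.eq.mpr
      show ((p.out⁻¹ * q.out : M) : G) ∈ N
      refine ⟨(p.out⁻¹ * q.out).2.1, mem_normalizer_of_cj_eq ?_⟩
      push_cast
      rw [← cj_mul, ← key, cj_inv_cancel]
    have := Nat.card_le_card_of_injective ψ hψ
    rwa [Nat.card_eq_fintype_card (α := Bool), Fintype.card_bool] at this
  have hMS : M = S := by
    by_contra hMS
    obtain ⟨x, hxS, hxM, hxnM, -⟩ := exists_sq_mem_normalizer h.hS inf_le_left hMS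
    set A := cj x T
    have hAM : A ≤ M := (cj_mono x (hTN.trans hNM)).trans (cj_eq_of_mem_normalizer hxM).le
    have hA2 : ∀ a ∈ A, a * a = 1 := by
      rintro _ ⟨t, ht, rfl⟩
      rw [← map_mul, h.hTsq t ht, map_one]
    have hA16 : Nat.card A = 16 := (card_cj x T).trans h.hT16
    by_cases hAN : A ≤ N
    · rcases helem A hAN hA2 with h1 | h1
      · exact hxnM (hNM ⟨hxS, mem_normalizer_of_cj_eq (H := T)
          (Subgroup.eq_of_le_of_card_ge h1 (by rw [hA16, h.hT16]))⟩)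
      · have h2 : cj x T = cj g T := Subgroup.eq_of_le_of_card_ge h1 (by rw [hA16, hT'16])
        have h3 : g⁻¹ * x ∈ N := Subgroup.mem_inf.mpr ⟨mul_mem (inv_mem hgS) hxS,
          mem_normalizer_of_cj_eq (by rw [← cj_mul, h2, cj_inv_cancel])⟩
        have h4 := mul_mem (show g ∈ M from ⟨hgS, hgN⟩) (hNM h3)
        rw [mul_inv_cancel_left] at h4
        exact hxnM h4
    · obtain ⟨a, haA, haN⟩ := SetLike.not_le_iff_exists.mp hAN
      have haT : cj a T = T' := (hMT a (hAM haA)).resolve_left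
        (fun e => haN ⟨(hAM haA).1, mem_normalizer_of_cj_eq e⟩)
      have haT' : cj a T' = T := by
        have ha2 : a * a = 1 := hA2 a haA
        rw [← haT, cj_mul, ha2, cj_one]
      have hAN8 : 8 ≤ Nat.card (N ⊓ A : Subgroup G) := by
        have h1 := h.card_le_of_relIndex (A := N) (P := A) (le_refl _)
          (le_trans (Subgroup.relIndex_le_of_le_right hAM Subgroup.index_ne_zero_of_finite) hMN)
        omega
      have hfix : ∀ y ∈ N ⊓ A, a * y * a⁻¹ = y := by
        intro y hy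
        have hcomm : a * y = y * a := by
          have ha2 : a⁻¹ = a := inv_eq_of_mul_eq_one_right (hA2 a haA)
          have hy2 : y⁻¹ = y := inv_eq_of_mul_eq_one_right (hA2 y hy.2)
          have h1 := inv_eq_of_mul_eq_one_right (hA2 _ (mul_mem haA hy.2))
          rw [mul_inv_rev, ha2, hy2] at h1
          exact h1.symm
        rw [hcomm, mul_inv_cancel_right]
      have hsub : (N ⊓ A : Subgroup G) ≤ Y := by
        rcases helem _ inf_le_left (fun y hy => hA2 y hy.2) with h1 | h1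
        · intro y hy
          refine ⟨h1 hy, ?_⟩
          rw [← haT]
          exact ⟨y, h1 hy, hfix y hy⟩
        · intro y hy
          refine ⟨?_, h1 hy⟩
          rw [← haT']
          exact ⟨y, h1 hy, hfix y hy⟩
      have := Subgroup.card_le_of_le hsub
      omega
  have hTS : T.relIndex P ≤ 8 := by
    refine le_trans (Subgroup.relIndex_le_of_le_right hPS Subgroup.index_ne_zero_of_finite) ?_
    rw [← hMS, ← Subgroup.relIndex_mul_relIndex T N M hTN hNM]
    calc T.relIndex N * N.relIndex M ≤ 4 * 2 := Nat.mul_le_mul hi hMN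
      _ = 8 := rfl
  have hP32 : Nat.card P ≤ 2 ^ (4 + 1) := h.card_le_of_relIndex hbig hTS
  by_cases hsq : ∀ x ∈ P, x * x = 1
  swap
  · push Not at hsq
    obtain ⟨x, hx, hx2⟩ := hsq
    exact sqBound_of_card_le_succ hP32 hx hx2
  apply sqBound_of_card_le
  by_contra hbigP
  push Not at hbigP
  have hPN : 9 ≤ Nat.card (N ⊓ P : Subgroup G) := by
    have h1 := h.card_le_of_relIndex (A := N) (P := P) (le_refl _)
      (le_trans (Subgroup.relIndex_le_of_le_right hPS Subgroup.index_ne_zero_of_finite)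
        (hMS ▸ hMN))
    omega
  rcases helem (N ⊓ P) inf_le_left (fun y hy => hsq y hy.2) with h1 | h1
  · have := Subgroup.card_le_of_le (le_inf h1 (inf_le_right : N ⊓ P ≤ P))
    omega
  · have hmeet : 4 < Nat.card (T ⊓ (cj g⁻¹ (N ⊓ P)) : Subgroup G) := by
      have h2 : cj g⁻¹ (N ⊓ P) ≤ T := by
        have h3 := cj_mono g⁻¹ h1
        rwa [hT', cj_inv_cancel] at h3
      rw [inf_eq_right.mpr h2, card_cj]
      omega
    obtain ⟨b, hbB, hb1, hbP⟩ := h.inter_mem hmeet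
    rw [mem_cj, inv_inv] at hbP
    have hPT' : P ≤ T' := by
      intro p hp
      refine h.conj_T hbB hb1 hgS (hPS hp) ?_
      have hu := inv_eq_of_mul_eq_one_right (hsq _ (mul_mem hp hbP.2))
      rw [mul_inv_rev, inv_eq_of_mul_eq_one_right (hsq p hp),
        inv_eq_of_mul_eq_one_right (hsq _ hbP.2)] at hu
      exact hu.symm
    have := Subgroup.card_le_of_le hPT'
    omega

end HR16

end Cfsg.Agent.TwoFusionB
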