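import Cfsg.Agent.Classification.FourGroup
import Cfsg.Prelude.Def_CaseTheorems
import Mathlib

/-!
# Bounding sectional 2-rank through square indices in a Sylow 2-subgroup
-/

set_option autoImplicit false

namespace Cfsg.Agent.TwoFusionB

open Cfsg.Agent.Classification

variable {G : Type*} [Group G]

/-- Every subgroup `N` containing the squares of `P` has index at most `2 ^ r` in `P`. -/
def SqBound (r : ℕ) (P : Subgroup G) : Prop :=
  ∀ N : Subgroup G, (∀ x ∈ P, x * x ∈ N) → N.relIndex P ≤ 2 ^ r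

theorem sectionalPRankLE_of_sqBound [Finite G] (S : Sylow 2 G) (r : ℕ)
    (h : ∀ P : Subgroup G, P ≤ (S : Subgroup G) → SqBound r P) :
    Cfsg.SectionalPRankLE 2 r G := by
  intro H N hN A _ hA2
  let K : Subgroup H := A.comap (QuotientGroup.mk' N)
  let f : K →* A := (QuotientGroup.mk' N).subgroupComap A
  have hf : Function.Surjective f :=
    MonoidHom.subgroupComap_surjective_of_surjective _ _ (QuotientGroup.mk'_surjective N)
  obtain ⟨Q⟩ := (inferInstance : Nonempty (Sylow 2 K))
  have hA : IsPGroup 2 (⊤ : Subgroup A) := fun a =>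
    ⟨1, Subtype.ext (Subtype.ext (by simpa using hA2 _ (a : A).2))⟩
  have hQtop : (Q : Subgroup K).map f = ⊤ :=
    ((Q.mapSurjective hf).3 hA le_top).symm
  let j : K →* G := H.subtype.comp K.subtype
  have hj : Function.Injective j :=
    (Subgroup.subtype_injective H).comp (Subgroup.subtype_injective K)
  obtain ⟨g, hg⟩ := exists_le_cj_sylow S (Q.2.map j)
  let k : K →* G := (MulAut.conj g⁻¹).toMonoidHom.comp j
  have hk : Function.Injective k := (MulAut.conj g⁻¹).injective.comp hj
  let P : Subgroup G := (Q : Subgroup K).map k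
  have hPS : P ≤ (S : Subgroup G) := by
    rintro _ ⟨q, hq, rfl⟩
    have := mem_cj.mp (hg ⟨q, hq, rfl⟩)
    simpa [k] using this
  let M : Subgroup G := ((Q : Subgroup K) ⊓ f.ker).map k
  have hsq : ∀ x ∈ P, x * x ∈ M := by
    rintro _ ⟨q, hq, rfl⟩
    refine ⟨q * q, ⟨mul_mem hq hq, ?_⟩, map_mul _ _ _⟩
    show f (q * q) = 1
    rw [map_mul, ← sq]
    exact Subtype.ext (by simpa using hA2 _ (f q).2)
  have h1 : M.relIndex P = Nat.card A := by
    show (Subgroup.map k _).relIndex (Subgroup.map k _) = _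
    rw [Subgroup.relIndex_map_map_of_injective _ _ hk, inf_comm, Subgroup.inf_relIndex_right,
      ← Subgroup.card_top (G := A), ← hQtop]
    exact Subgroup.relIndex_ker _ f
  exact h1 ▸ h P hPS M hsq

/-- Commutators lie in a subgroup containing all squares. -/
theorem commutator_mem_of_sq_mem {P N : Subgroup G} (hsq : ∀ x ∈ P, x * x ∈ N) {x y : G}
    (hx : x ∈ P) (hy : y ∈ P) : x * y * x⁻¹ * y⁻¹ ∈ N := by
  have h1 := mul_mem (mul_mem (hsq _ (mul_mem hx hy))
    (hsq _ (mul_mem (mul_mem (inv_mem hy) (inv_mem hx)) hy))) (hsq _ (inv_mem hy))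
  convert h1 using 1
  group

theorem sqBound_of_mem [Finite G] {r : ℕ} {P : Subgroup G} {b : G} (hb : b ∈ P)
    (hC : Nat.card (P ⊓ Subgroup.centralizer ({b} : Set G) : Subgroup G) ≤ 2 ^ r) :
    SqBound r P := by
  intro N hsq
  refine le_trans ?_ hC
  set C := P ⊓ Subgroup.centralizer ({b} : Set G) with hCdef
  set C' := C.subgroupOf P with hC'
  set N' := N.subgroupOf P with hN'
  let φ : P ⧸ C' → N' := fun q => ⟨q.out * ⟨b, hb⟩ * q.out⁻¹ * ⟨b, hb⟩⁻¹, by
    rw [hN', Subgroup.mem_subgroupOf]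
    exact commutator_mem_of_sq_mem hsq q.out.2 hb⟩
  have hφ : Function.Injective φ := by
    intro a c e
    have e' : (a.out : G) * b * (a.out : G)⁻¹ * b⁻¹ = (c.out : G) * b * (c.out : G)⁻¹ * b⁻¹ := by
      simpa [φ] using congrArg (fun z : N' => ((z : P) : G)) e
    rw [← a.out_eq, ← c.out_eq]
    apply QuotientGroup.eq.mpr
    show ((a.out⁻¹ * c.out : P) : G) ∈ P ⊓ Subgroup.centralizer ({b} : Set G)
    rw [Subgroup.mem_inf, Subgroup.mem_centralizer_singleton_iff]
    refine ⟨(a.out⁻¹ * c.out).2, ?_⟩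
    have e2 := mul_right_cancel e'
    push_cast
    calc (a.out : G)⁻¹ * (c.out : G) * b
        = (a.out : G)⁻¹ * ((c.out : G) * b * (c.out : G)⁻¹) * (c.out : G) := by group
      _ = (a.out : G)⁻¹ * ((a.out : G) * b * (a.out : G)⁻¹) * (c.out : G) := by rw [e2]
      _ = b * ((a.out : G)⁻¹ * (c.out : G)) := by group
  have h1 : C'.index ≤ Nat.card N' := Nat.card_le_card_of_injective φ hφ
  have h2 := Subgroup.card_mul_index C'
  have h3 := Subgroup.card_mul_index N'
  have h4 : Nat.card C' = Nat.card C :=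
    Nat.card_congr (Subgroup.subgroupOfEquivOfLe inf_le_left).toEquiv
  have hpos : 0 < Nat.card N' := Nat.card_pos
  show N'.index ≤ Nat.card C
  rw [← h4]
  refine Nat.le_of_mul_le_mul_left ?_ hpos
  rw [h3, ← h2, mul_comm]
  exact Nat.mul_le_mul_right _ h1

theorem sqBound_of_card_le [Finite G] {r : ℕ} {P : Subgroup G} (h : Nat.card P ≤ 2 ^ r) :
    SqBound r P := fun N _ =>
  (Nat.le_of_dvd Nat.card_pos ((N.subgroupOf P).index_dvd_card)).trans h

/-- A 2-group which is not elementary abelian satisfies `SqBound r` once its order is at most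
`2 ^ (r + 1)`. -/
theorem sqBound_of_card_le_succ [Finite G] {r : ℕ} {P : Subgroup G}
    (h : Nat.card P ≤ 2 ^ (r + 1)) {x : G} (hx : x ∈ P) (hx2 : x * x ≠ 1) : SqBound r P := by
  intro N hsq
  have h1 : 2 ≤ Nat.card (N.subgroupOf P) := by
    haveI : Nontrivial (N.subgroupOf P) :=
      ⟨⟨⟨x * x, mul_mem hx hx⟩, hsq x hx⟩, 1, fun e => hx2 (by
        simpa using congrArg (fun z : N.subgroupOf P => ((z : P) : G)) e)⟩
    exact Finite.one_lt_card
  have h2 := Subgroup.card_mul_index (N.subgroupOf P)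
  show (N.subgroupOf P).index ≤ 2 ^ r
  rw [pow_succ'] at h
  nlinarith

/-- An abelian subgroup with at most `2 ^ r` elements squaring to one. -/
theorem relIndex_le_of_comm [Finite G] {P N : Subgroup G}
    (hcomm : ∀ a ∈ P, ∀ c ∈ P, a * c = c * a) (hsq : ∀ x ∈ P, x * x ∈ N) :
    N.relIndex P ≤ Nat.card {x : G // x ∈ P ∧ x * x = 1} := by
  let s : P →* P :=
    { toFun := fun x => x * x
      map_one' := one_mul 1
      map_mul' := fun a c => by
        apply Subtype.ext
        push_cast
        rw [mul_assoc, ← mul_assoc (c : G), hcomm c c.2 a a.2, mul_assoc (a : G) (c : G),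
          ← mul_assoc] }
  have hle : s.range ≤ N.subgroupOf P := by
    rintro _ ⟨x, rfl⟩
    exact hsq x x.2
  have hker : Nat.card s.ker ≤ Nat.card {x : G // x ∈ P ∧ x * x = 1} :=
    Nat.card_le_card_of_injective (fun x => ⟨((x : P) : G), (x : P).2,
      congrArg Subtype.val (show s (x : P) = 1 from x.2)⟩)
      (fun a c e => Subtype.ext (Subtype.ext
        (congrArg (Subtype.val : {x : G // x ∈ P ∧ x * x = 1} → G) e)))
  refine le_trans ?_ hker
  have h1 := Subgroup.card_mul_index (N.subgroupOf P)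
  have h2 := Subgroup.card_mul_index s.ker
  rw [Subgroup.index_ker] at h2
  have h3 := Subgroup.card_le_of_le hle
  have hpos : 0 < Nat.card (N.subgroupOf P) := Nat.card_pos
  show (N.subgroupOf P).index ≤ _
  refine Nat.le_of_mul_le_mul_left ?_ hpos
  rw [h1, ← h2, mul_comm]
  exact Nat.mul_le_mul_right _ h3

end Cfsg.Agent.TwoFusionB
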