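import Cfsg.Agent.TwoFusionB.MacWilliamsPlane
import Cfsg.Agent.TwoFusionB.SectionalRank
import Cfsg.Agent.Lib.PGroup.NormalAbelian

/-!
The four generator theorem: a 2-group without normal elementary abelian subgroups of order eight
has sectional rank at most four.
-/

set_option autoImplicit false

namespace Cfsg.Agent.TwoFusionB.MW

open Subgroup
open scoped commutatorElement

variable {P : Type*} [Group P] [Finite P]

omit [Finite P] in
theorem four (c : P) : c ^ 4 = (c * c) * (c * c) := by simp [pow_succ, mul_assoc]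

/-- A maximal normal abelian subgroup of exponent four, with what is used about it. -/
structure Setting (A : Subgroup P) : Prop where
  isTwo : IsPGroup 2 P
  normal : A.Normal
  comm : ∀ a ∈ A, ∀ b ∈ A, a * b = b * a
  pow4 : ∀ a ∈ A, a ^ 4 = 1
  small : ∀ X : Subgroup P, X.Normal → (∀ u ∈ X, ∀ v ∈ X, u * v = v * u) →
    (∀ u ∈ X, u * u = 1) → Nat.card X ≤ 4
  top : ∀ x ∈ centralizer (A : Set P), x ^ 4 = 1 → x ∈ A

/-- Alperin: a maximal normal abelian subgroup of exponent four contains the elements of order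
dividing four of its centralizer. -/
theorem exists_setting (h2 : IsPGroup 2 P)
    (hsmall : ∀ X : Subgroup P, X.Normal → (∀ u ∈ X, ∀ v ∈ X, u * v = v * u) →
      (∀ u ∈ X, u * u = 1) → Nat.card X ≤ 4) : ∃ A : Subgroup P, Setting A := by
  classical
  obtain ⟨A, ⟨hAn, hAc, hA4⟩, hmax⟩ :=
    (Set.toFinite {A : Subgroup P | A.Normal ∧ (∀ a ∈ A, ∀ b ∈ A, a * b = b * a) ∧
      ∀ a ∈ A, a ^ 4 = 1}).exists_maximal
      ⟨⊥, inferInstance, fun a ha b hb => by rw [mem_bot.1 ha, mem_bot.1 hb],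
        fun a ha => by rw [mem_bot.1 ha, one_pow]⟩
  haveI := hAn
  refine ⟨A, h2, hAn, hAc, hA4, hsmall, fun x hx hx4 => ?_⟩
  by_contra hxA
  set C := centralizer (A : Set P)
  have hcC : ∀ c ∈ C, ∀ a ∈ A, a * c = c * a := fun c hc a ha => mem_centralizer_iff.1 hc a ha
  have hAC : A ≤ C := fun a ha => mem_centralizer_iff.2 fun b hb => hAc b hb a ha
  -- the candidates that are central modulo `A` in a subgroup between `A` and `C`
  let good : Subgroup P → P → Prop := fun M y =>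
    y ∈ M ∧ y ^ 4 = 1 ∧ y * y ∈ A ∧ ∀ g ∈ M, ⁅g, y⁆ ∈ A
  have hY : ∀ M : Subgroup P, A ≤ M → M ≤ C → ∃ Y : Subgroup P, ∀ y, y ∈ Y ↔ good M y := by
    intro M hAM hMC
    refine ⟨{ carrier := {y | good M y}, one_mem' := ?_, mul_mem' := ?_, inv_mem' := ?_ },
      fun y => Iff.rfl⟩
    · intro y z ⟨hy, hy4, hy2, hyc⟩ ⟨hz, hz4, hz2, hzc⟩
      have hw : ⁅z, y⁆ ∈ A := hyc z hz
      have hwc : ∀ g ∈ M, g * ⁅z, y⁆ = ⁅z, y⁆ * g := fun g hg => (hcC g (hMC hg) _ hw).symm
      have hw2 : ⁅z, y⁆ * ⁅z, y⁆ = 1 := by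
        have h1 : ⁅z * z, y⁆ = ⁅z, y⁆ * ⁅z, y⁆ := by
          have h0 : ⁅z * z, y⁆ = (z * ⁅z, y⁆ * z⁻¹) * ⁅z, y⁆ := by
            simp only [commutatorElement_def]; group
          rw [h0, hwc z hz, mul_inv_cancel_right]
        rw [← h1, commutatorElement_eq_one_iff_mul_comm]
        exact hcC y (hMC hy) _ hz2
      have hsq : (y * z) * (y * z) = (y * y) * (z * z) * ⁅z, y⁆ := by
        calc (y * z) * (y * z) = y * (z * y) * z := by group
          _ = y * (⁅z, y⁆ * (y * z)) * z := by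
              rw [show z * y = ⁅z, y⁆ * (y * z) by simp only [commutatorElement_def]; group]
          _ = (y * ⁅z, y⁆) * y * (z * z) := by group
          _ = ⁅z, y⁆ * ((y * y) * (z * z)) := by rw [hwc y hy]; group
          _ = (y * y) * (z * z) * ⁅z, y⁆ :=
              hAc _ hw _ (mul_mem hy2 hz2)
      refine ⟨mul_mem hy hz, ?_, hsq ▸ mul_mem (mul_mem hy2 hz2) hw, fun g hg => ?_⟩
      · have hy22 : (y * y) * (y * y) = 1 := by rw [← four, hy4]
        have hz22 : (z * z) * (z * z) = 1 := by rw [← four, hz4]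
        rw [four, hsq]
        have c1 : ∀ a ∈ A, ∀ b ∈ A, Commute a b := fun a ha b hb => hAc a ha b hb
        calc (y * y) * (z * z) * ⁅z, y⁆ * ((y * y) * (z * z) * ⁅z, y⁆)
            = ((y * y) * (z * z) * ((y * y) * (z * z))) * (⁅z, y⁆ * ⁅z, y⁆) :=
              (c1 _ hw _ (mul_mem hy2 hz2)).mul_mul_mul_comm _ _
          _ = ((y * y) * (y * y)) * ((z * z) * (z * z)) * (⁅z, y⁆ * ⁅z, y⁆) := by
              rw [(c1 _ hz2 _ hy2).mul_mul_mul_comm]
          _ = 1 := by rw [hy22, hz22, hw2]; group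
      · rw [show ⁅g, y * z⁆ = ⁅g, y⁆ * (y * ⁅g, z⁆ * y⁻¹) by simp only [commutatorElement_def]; group]
        exact mul_mem (hyc g hg) (hAn.conj_mem _ (hzc g hg) y)
    · exact ⟨one_mem M, one_pow 4, by rw [one_mul]; exact one_mem A, fun g _ => by
        simp [commutatorElement_def]⟩
    · intro y ⟨hy, hy4, hy2, hyc⟩
      refine ⟨inv_mem hy, by rw [inv_pow, hy4, inv_one], ?_, fun g hg => ?_⟩
      · rw [← mul_inv_rev]; exact inv_mem hy2
      · rw [show ⁅g, y⁻¹⁆ = y⁻¹ * ⁅g, y⁆⁻¹ * (y⁻¹)⁻¹ by simp only [commutatorElement_def]; group]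
        exact hAn.conj_mem _ (inv_mem (hyc g hg)) y⁻¹
  have key : ∀ n (M : Subgroup P), Nat.card M ≤ n → A ≤ M → M ≤ C →
      (∃ x ∈ M, x ∉ A ∧ x ^ 4 = 1 ∧ x * x ∈ A) → ∃ y, y ∉ A ∧ good M y := by
    intro n
    induction n with
    | zero => intro M h; exact absurd h (by simp [Nat.card_pos.ne'])
    | succ n ih =>
      intro M hn hAM hMC ⟨x, hxM, hxA, hx4, hx2⟩
      by_cases htop : A ⊔ zpowers x = M
      · refine ⟨x, hxA, hxM, hx4, hx2, fun g hg => ?_⟩
        have hgc : g ∈ centralizer ({x} : Set P) := by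
          have hle : A ⊔ zpowers x ≤ centralizer ({x} : Set P) := sup_le
            (fun a ha => mem_centralizer_singleton_iff.2 (hcC x (hMC hxM) a ha))
            (zpowers_le.2 (mem_centralizer_singleton_iff.2 rfl))
          exact hle (htop ▸ hg)
        rw [commutatorElement_eq_one_iff_mul_comm.2 (mem_centralizer_singleton_iff.1 hgc)]
        exact one_mem A
      · have hle : A ⊔ zpowers x ≤ M := sup_le hAM (zpowers_le.2 hxM)
        set U := (A ⊔ zpowers x).subgroupOf M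
        have hUt : U ≠ ⊤ := fun h => htop (le_antisymm hle (subgroupOf_eq_top.1 h))
        haveI : Fact (Nat.Prime 2) := ⟨Nat.prime_two⟩
        obtain ⟨M₀, hM₀, hUM₀⟩ := (eq_top_or_exists_le_coatom U).resolve_left hUt
        have hM₀n : M₀.Normal := PGroup.normal_of_isCoatom (h2.to_subgroup M) hM₀
        let M₁ := M₀.map M.subtype
        have hM₁ : A ⊔ zpowers x ≤ M₁ := by
          rw [← map_subgroupOf_eq_of_le hle]; exact map_mono hUM₀
        have hlt : Nat.card M₁ ≤ n := by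
          have h1 : Nat.card M₁ < Nat.card M := by
            rw [← Nat.card_congr (equivMapOfInjective _ _ M.subtype_injective).toEquiv]
            obtain ⟨w, -, hw⟩ := SetLike.exists_of_lt (lt_top_iff_ne_top.2 hM₀.1)
            exact Finite.card_subtype_lt (p := fun w : M => w ∈ M₀) hw
          omega
        obtain ⟨y, hyA, hy⟩ := ih M₁ hlt (le_sup_left.trans hM₁) ((map_subtype_le _).trans hMC)
          ⟨x, hM₁ (mem_sup_right (mem_zpowers x)), hxA, hx4, hx2⟩
        obtain ⟨Y, hYm⟩ := hY M₁ (le_sup_left.trans hM₁) ((map_subtype_le _).trans hMC)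
        -- descend to an element central modulo `A` in `M`
        have hM₁conj : ∀ g ∈ M, ∀ w ∈ M₁, g * w * g⁻¹ ∈ M₁ := by
          rintro g hg _ ⟨w, hw, rfl⟩
          exact ⟨⟨g, hg⟩ * w * ⟨g, hg⟩⁻¹, hM₀n.conj_mem w hw _, rfl⟩
        have hYn : (Y.subgroupOf M).Normal := ⟨fun w hw g => by
          rw [mem_subgroupOf, hYm] at hw ⊢
          obtain ⟨h1, h4, h22, hc⟩ := hw
          refine ⟨hM₁conj g g.2 _ h1, ?_, ?_, fun t ht => ?_⟩
          · show ((g : P) * w * (g : P)⁻¹) ^ 4 = 1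
            rw [conj_pow, h4, mul_one, mul_inv_cancel]
          · show ((g : P) * w * (g : P)⁻¹) * ((g : P) * w * (g : P)⁻¹) ∈ A
            rw [show ((g : P) * w * (g : P)⁻¹) * ((g : P) * w * (g : P)⁻¹) =
              (g : P) * ((w : P) * w) * (g : P)⁻¹ by group]
            exact hAn.conj_mem _ h22 _
          · have h5 := hc ((g : P)⁻¹ * t * ((g : P)⁻¹)⁻¹) (hM₁conj _ (inv_mem g.2) t ht)
            have h6 := hAn.conj_mem _ h5 (g : P)
            rwa [show (g : P) * ⁅(g : P)⁻¹ * t * ((g : P)⁻¹)⁻¹, (w : P)⁆ * (g : P)⁻¹ =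
              ⁅t, ((g * w * g⁻¹ : M) : P)⁆ by
                simp only [commutatorElement_def, Subgroup.coe_mul, Subgroup.coe_inv]; group] at h6⟩
        have hYM : Y ≤ M := fun w hw => (map_subtype_le _) ((hYm w).1 hw).1
        obtain ⟨y', hy'Y, hy'A, -, hy'c, -, -⟩ := PGroup.exists_normal_between (h2.to_subgroup M)
          (A := A.subgroupOf M) (C := Y.subgroupOf M)
          (fun h => hyA (h (x := ⟨y, hYM ((hYm y).2 hy)⟩) ((hYm y).2 hy)))
        obtain ⟨h1, h4, h22, -⟩ := (hYm _).1 hy'Y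
        exact ⟨y', hy'A, y'.2, h4, h22, fun g hg => hy'c ⟨g, hg⟩⟩
  obtain ⟨x', hx'C, hx'A, hx'4, hx'2⟩ : ∃ x ∈ C, x ∉ A ∧ x ^ 4 = 1 ∧ x * x ∈ A := by
    by_cases h : x * x ∈ A
    · exact ⟨x, hx, hxA, hx4, h⟩
    · refine ⟨x * x, mul_mem hx hx, h, ?_, ?_⟩
      · rw [← sq, ← pow_mul, show 2 * 4 = 4 * 2 from rfl, pow_mul, hx4, one_pow]
      · rw [← four, hx4]; exact one_mem A
  obtain ⟨y, hyA, hy⟩ := key _ C le_rfl hAC le_rfl ⟨x', hx'C, hx'A, hx'4, hx'2⟩
  obtain ⟨Y, hYm⟩ := hY C hAC le_rfl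
  haveI : C.Normal := inferInstance
  haveI : Fact (Nat.Prime 2) := ⟨Nat.prime_two⟩
  haveI : Y.Normal := ⟨fun w hw g => by
    rw [hYm] at hw ⊢
    obtain ⟨h1, h4, h22, hc⟩ := hw
    refine ⟨(inferInstance : C.Normal).conj_mem w h1 g, by rw [conj_pow, h4, mul_one, mul_inv_cancel],
      ?_, fun t ht => ?_⟩
    · rw [show (g * w * g⁻¹) * (g * w * g⁻¹) = g * (w * w) * g⁻¹ by group]
      exact hAn.conj_mem _ h22 _
    · have h6 := hAn.conj_mem _ (hc (g⁻¹ * t * (g⁻¹)⁻¹)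
        ((inferInstance : C.Normal).conj_mem t ht g⁻¹)) g
      rwa [show g * ⁅g⁻¹ * t * (g⁻¹)⁻¹, w⁆ * g⁻¹ = ⁅t, g * w * g⁻¹⁆ by
        simp only [commutatorElement_def]; group] at h6⟩
  obtain ⟨y', hy'Y, hy'A, -, -, hBn, -⟩ := PGroup.exists_normal_between h2 (A := A) (C := Y)
    (fun h => hyA (h ((hYm y).2 hy)))
  obtain ⟨h1, h4, -, -⟩ := (hYm _).1 hy'Y
  have hdec : ∀ a ∈ A ⊔ zpowers y', ∃ u ∈ A, ∃ i : ℤ, a = u * y' ^ i := fun a ha => by
    obtain ⟨u, hu, v, hv, rfl⟩ := mem_sup_of_normal_left.1 ha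
    obtain ⟨i, rfl⟩ := mem_zpowers_iff.1 hv
    exact ⟨u, hu, i, rfl⟩
  have hBc : ∀ a ∈ A ⊔ zpowers y', ∀ b ∈ A ⊔ zpowers y', a * b = b * a := fun a ha b hb => by
    obtain ⟨u, hu, i, rfl⟩ := hdec a ha
    obtain ⟨v, hv, j, rfl⟩ := hdec b hb
    exact (Commute.mul_right (Commute.mul_left (hAc u hu v hv)
      ((show Commute v y' from hcC y' h1 v hv).zpow_right i).symm)
      (Commute.mul_left ((show Commute u y' from hcC y' h1 u hu).zpow_right j)
        (Commute.zpow_zpow_self y' i j))).eq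
  have hB4 : ∀ a ∈ A ⊔ zpowers y', a ^ 4 = 1 := fun a ha => by
    obtain ⟨u, hu, i, rfl⟩ := hdec a ha
    rw [((show Commute u y' from hcC y' h1 u hu).zpow_right i).mul_pow, hA4 u hu, one_mul,
      ← zpow_natCast, ← zpow_mul, mul_comm, zpow_mul, zpow_natCast, h4, one_zpow]
  exact hy'A (hmax (⟨hBn, hBc, hB4⟩ : _ ∧ _ ∧ _) le_sup_left (mem_sup_right (mem_zpowers y')))

variable {A : Subgroup P} (hS : Setting A)
include hS

/-- An element inverted or fixed by an automorphism without nontrivial such points on `A` is an involution. -/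
theorem Setting.free_inv {t : P} (ht : ∀ a ∈ A, t * a * t⁻¹ = a⁻¹ → a * a = 1) {c : P}
    (hc : c ∈ centralizer (A : Set P)) (hi : t * c * t⁻¹ = c⁻¹) : c * c = 1 := by
  obtain ⟨n, hn⟩ := hS.isTwo c
  induction n generalizing c with
  | zero => rw [pow_zero, pow_one] at hn; rw [hn, one_mul]
  | succ n ih =>
    have h2 : (c * c) * (c * c) = 1 := by
      refine ih (mul_mem hc hc) ?_ ?_
      · rw [show t * (c * c) * t⁻¹ = (t * c * t⁻¹) * (t * c * t⁻¹) by group, hi, ← mul_inv_rev]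
      · rw [← sq, ← pow_mul, ← pow_succ']; exact hn
    exact ht c (hS.top c hc (by rw [four, h2])) hi

theorem Setting.free_fix {t : P} (ht : ∀ a ∈ A, t * a * t⁻¹ = a → a * a = 1) {c : P}
    (hc : c ∈ centralizer (A : Set P)) (hi : t * c * t⁻¹ = c) : c * c = 1 := by
  obtain ⟨n, hn⟩ := hS.isTwo c
  induction n generalizing c with
  | zero => rw [pow_zero, pow_one] at hn; rw [hn, one_mul]
  | succ n ih =>
    have h2 : (c * c) * (c * c) = 1 := by
      refine ih (mul_mem hc hc) ?_ ?_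
      · rw [show t * (c * c) * t⁻¹ = (t * c * t⁻¹) * (t * c * t⁻¹) by group, hi]
      · rw [← sq, ← pow_mul, ← pow_succ']; exact hn
    exact ht c (hS.top c hc (by rw [four, h2])) hi

/-- In the centralizer of `A`, elements with the same square differ by an involution. -/
theorem Setting.sq_inj {x y : P} (hx : x ∈ centralizer (A : Set P)) (hy : y ∈ centralizer (A : Set P))
    (h : x * x = y * y) : (x⁻¹ * y) * (x⁻¹ * y) = 1 := by
  refine hS.free_inv (t := x) (fun a ha hi => ?_) (mul_mem (inv_mem hx) hy) ?_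
  · rw [← mem_centralizer_iff.1 hx a ha, mul_inv_cancel_right] at hi
    exact inv_eq_iff_mul_eq_one.1 hi.symm
  · calc x * (x⁻¹ * y) * x⁻¹ = y⁻¹ * (y * y) * x⁻¹ := by group
      _ = y⁻¹ * (x * x) * x⁻¹ := by rw [h]
      _ = (x⁻¹ * y)⁻¹ := by group

theorem Setting.exists_E : ∃ E : Subgroup P, E.Normal ∧ Nat.card E ≤ 4 ∧
    ∀ a, a ∈ E ↔ a ∈ A ∧ a * a = 1 := by
  refine ⟨{ carrier := {a | a ∈ A ∧ a * a = 1}, one_mem' := ⟨one_mem A, one_mul 1⟩,
            mul_mem' := ?_, inv_mem' := ?_ }, ?_, ?_, fun a => Iff.rfl⟩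
  · intro a b ⟨ha, ha2⟩ ⟨hb, hb2⟩
    exact ⟨mul_mem ha hb, by
      rw [(show Commute b a from hS.comm b hb a ha).mul_mul_mul_comm, ha2, hb2, one_mul]⟩
  · intro a ⟨ha, ha2⟩
    exact ⟨inv_mem ha, by rw [← mul_inv_rev, ha2, inv_one]⟩
  · exact ⟨fun a ⟨ha, ha2⟩ g => ⟨hS.normal.conj_mem a ha g, by
      rw [show g * a * g⁻¹ * (g * a * g⁻¹) = g * (a * a) * g⁻¹ by group, ha2, mul_one,
        mul_inv_cancel]⟩⟩
  · refine hS.small _ ?_ (fun u hu v hv => hS.comm u hu.1 v hv.1) fun u hu => hu.2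
    exact ⟨fun a ⟨ha, ha2⟩ g => ⟨hS.normal.conj_mem a ha g, by
      rw [show g * a * g⁻¹ * (g * a * g⁻¹) = g * (a * a) * g⁻¹ by group, ha2, mul_one,
        mul_inv_cancel]⟩⟩

end Cfsg.Agent.TwoFusionB.MW
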