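import Cfsg.Agent.TwoFusionB.MacWilliams

/-!
The action on a homocyclic group of type (4,4) of the centralizer of its involutions, in
coordinates.
-/

set_option autoImplicit false

namespace Cfsg.Agent.TwoFusionB.MW

open Subgroup

variable {P : Type*} [Group P] [Finite P]

/-- Coordinates on a normal abelian group of type (4,4). -/
structure Frame (A : Subgroup P) where
  ι : W → P
  α : W → P
  ι_add : ∀ v w, ι (v + w) = ι v * ι w
  ι_inj : Function.Injective ι
  ι_mem : ∀ w, ι w ∈ A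
  ι_sur : ∀ a ∈ A, a * a = 1 → ∃ w, ι w = a
  α_mem : ∀ w, α w ∈ A
  α_sq : ∀ w, α w * α w = ι w
  central : ∀ g, g * ι (1, 0) * g⁻¹ = ι (1, 0)

theorem end_add_self : ∀ m : End2, m + m = 0 := by decide +kernel

theorem end_neg : ∀ m : End2, -m = m := by decide +kernel

theorem app_zero_right : ∀ m : End2, app m 0 = 0 := by decide +kernel

theorem end_ext : ∀ m n : End2, app m (1, 0) = app n (1, 0) → app m (0, 1) = app n (0, 1) →
    m = n := by decide +kernel

theorem app_add_right : ∀ (m : End2) (v w : W), app m (v + w) = app m v + app m w := by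
  decide +kernel

theorem w_cases : ∀ w : W, w = 0 ∨ w = (1, 0) ∨ w = (0, 1) ∨ w = (1, 0) + (0, 1) := by
  decide +kernel

theorem commutant_of_fix : ∀ m : End2, comp shear (comp m shear) = m →
    comp shear m = comp m shear := by decide +kernel

theorem fix_of_commutant : ∀ m : End2, comp shear m = comp m shear →
    comp shear (comp m shear) = m := by decide +kernel

variable {A : Subgroup P} (hS : Setting A) (F : Frame A)

/-- `x` acts on `A` as `m`. -/
def Frame.Lift (x : P) (m : End2) : Prop :=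
  ∀ a ∈ A, ∀ w, a * a = F.ι w → x * a * x⁻¹ = a * F.ι (app m w)

/-- The centralizer of the involutions. -/
def Frame.D : Subgroup P := centralizer (Set.range F.ι)

omit [Finite P] in
theorem Frame.mem_D {x : P} : x ∈ F.D ↔ ∀ w, x * F.ι w * x⁻¹ = F.ι w := by
  simp only [Frame.D, mem_centralizer_iff, Set.forall_mem_range, mul_inv_eq_iff_eq_mul]
  exact forall_congr' fun w => eq_comm

omit [Finite P] in
theorem Frame.ι_zero : F.ι 0 = 1 := by
  simpa using F.ι_add 0 0

omit [Finite P] in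
theorem Frame.ι_sq (w : W) : F.ι w * F.ι w = 1 := by
  rw [← F.ι_add, w_add_self, F.ι_zero]

omit [Finite P] in
theorem Frame.ι_inv (w : W) : (F.ι w)⁻¹ = F.ι w := inv_eq_of_mul_eq_one_left (F.ι_sq w)

omit [Finite P] in
theorem Frame.mem_D_of_lift {x : P} {m : End2} (h : F.Lift x m) : x ∈ F.D :=
  F.mem_D.2 fun w => by
    have := h _ (F.ι_mem w) 0 (by rw [F.ι_sq, F.ι_zero])
    rwa [app_zero_right, F.ι_zero, mul_one] at this

omit [Finite P] in
theorem Frame.lift_unique {x : P} {m n : End2} (hm : F.Lift x m) (hn : F.Lift x n) : m = n := by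
  have key : ∀ w, app m w = app n w := fun w =>
    F.ι_inj (mul_left_cancel ((hm _ (F.α_mem w) w (F.α_sq w)).symm.trans
      (hn _ (F.α_mem w) w (F.α_sq w))))
  exact end_ext _ _ (key _) (key _)

omit [Finite P] in
theorem Frame.lift_mul {x y : P} {m n : End2} (hx : F.Lift x m) (hy : F.Lift y n) :
    F.Lift (x * y) (m + n) := by
  intro a ha w hw
  calc x * y * a * (x * y)⁻¹ = x * (y * a * y⁻¹) * x⁻¹ := by group
    _ = (x * a * x⁻¹) * (x * F.ι (app n w) * x⁻¹) := by rw [hy a ha w hw]; group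
    _ = a * F.ι (app m w) * F.ι (app n w) := by
        rw [hx a ha w hw, F.mem_D.1 (F.mem_D_of_lift hx)]
    _ = a * F.ι (app (m + n) w) := by rw [mul_assoc, ← F.ι_add, add_app]

include hS

omit [Finite P] in
theorem Frame.exists_w {a : P} (ha : a ∈ A) : ∃ w, a * a = F.ι w := by
  obtain ⟨w, hw⟩ := F.ι_sur _ (mul_mem ha ha) (by rw [← four]; exact hS.pow4 a ha)
  exact ⟨w, hw.symm⟩

omit [Finite P] in
theorem Frame.lift_zero_iff {x : P} : F.Lift x 0 ↔ x ∈ centralizer (A : Set P) := by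
  refine ⟨fun h => mem_centralizer_iff.2 fun a ha => ?_, fun h a ha w _ => ?_⟩
  · obtain ⟨w, hw⟩ := F.exists_w hS ha
    have := h a ha w hw
    rw [app_zero, F.ι_zero, mul_one, mul_inv_eq_iff_eq_mul] at this
    exact this.symm
  · rw [app_zero, F.ι_zero, mul_one, mul_inv_eq_iff_eq_mul]
    exact (mem_centralizer_iff.1 h a ha).symm

omit [Finite P] in
theorem Frame.lift_mem {a : P} (ha : a ∈ A) : F.Lift a 0 :=
  (F.lift_zero_iff hS).2 (mem_centralizer_iff.2 fun b hb => hS.comm b hb a ha)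

omit [Finite P] in
theorem Frame.exists_lift {x : P} (hx : x ∈ F.D) : ∃ m, F.Lift x m := by
  have key : ∀ b ∈ A, ∀ w, b * b = F.ι w → ∃ u, x * b * x⁻¹ = b * F.ι u := by
    intro b hb w hw
    obtain ⟨u, hu⟩ := F.ι_sur (b⁻¹ * (x * b * x⁻¹))
      (mul_mem (inv_mem hb) (hS.normal.conj_mem b hb x)) (by
        rw [(show Commute (x * b * x⁻¹) b⁻¹ from hS.comm _ (hS.normal.conj_mem b hb x) _
          (inv_mem hb)).mul_mul_mul_comm, ← mul_inv_rev, hw,
          show x * b * x⁻¹ * (x * b * x⁻¹) = x * (b * b) * x⁻¹ by group, hw, F.mem_D.1 hx,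
          inv_mul_cancel])
    exact ⟨u, by rw [hu, mul_inv_cancel_left]⟩
  obtain ⟨u, hu⟩ := key _ (F.α_mem (1, 0)) _ (F.α_sq _)
  obtain ⟨v, hv⟩ := key _ (F.α_mem (0, 1)) _ (F.α_sq _)
  refine ⟨(u, v), ?_⟩
  have hcong : ∀ a ∈ A, ∀ b ∈ A, a * a = b * b → ∀ c : W, x * b * x⁻¹ = b * F.ι c →
      x * a * x⁻¹ = a * F.ι c := by
    intro a ha b hb hab c hc
    obtain ⟨s, hs⟩ := F.ι_sur (b⁻¹ * a) (mul_mem (inv_mem hb) ha) (by
      rw [(show Commute a b⁻¹ from hS.comm _ ha _ (inv_mem hb)).mul_mul_mul_comm, ← mul_inv_rev,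
        hab, inv_mul_cancel])
    have ha' : a = b * F.ι s := by rw [hs, mul_inv_cancel_left]
    calc x * a * x⁻¹ = (x * b * x⁻¹) * (x * F.ι s * x⁻¹) := by rw [ha']; group
      _ = b * (F.ι c * F.ι s) := by rw [hc, F.mem_D.1 hx, mul_assoc]
      _ = b * (F.ι s * F.ι c) := by rw [← F.ι_add, ← F.ι_add, add_comm]
      _ = a * F.ι c := by rw [ha', mul_assoc]
  intro a ha w hw
  have hb1 : app (u, v) (1, 0) = u := (app_basis (u, v)).1
  have hb2 : app (u, v) (0, 1) = v := (app_basis (u, v)).2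
  rcases w_cases w with rfl | rfl | rfl | rfl
  · rw [app_zero_right]
    exact hcong a ha 1 (one_mem A) (by rw [hw, F.ι_zero, mul_one]) 0 (by rw [F.ι_zero]; group)
  · rw [hb1]; exact hcong a ha _ (F.α_mem _) (by rw [hw, F.α_sq]) u hu
  · rw [hb2]; exact hcong a ha _ (F.α_mem _) (by rw [hw, F.α_sq]) v hv
  · rw [app_add_right, hb1, hb2]
    have hcomm : ∀ p ∈ A, ∀ q ∈ A, Commute p q := fun p hp q hq => hS.comm p hp q hq
    refine hcong a ha (F.α (1, 0) * F.α (0, 1)) (mul_mem (F.α_mem _) (F.α_mem _)) ?_ _ ?_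
    · rw [hw, (hcomm _ (F.α_mem _) _ (F.α_mem _)).mul_mul_mul_comm, F.α_sq, F.α_sq, F.ι_add]
    · calc x * (F.α (1, 0) * F.α (0, 1)) * x⁻¹
          = (x * F.α (1, 0) * x⁻¹) * (x * F.α (0, 1) * x⁻¹) := by group
        _ = (F.α (1, 0) * F.α (0, 1)) * (F.ι u * F.ι v) := by
            rw [hu, hv, (hcomm _ (F.ι_mem u) _ (F.α_mem _)).mul_mul_mul_comm]
        _ = _ := by rw [F.ι_add]

omit [Finite P] in
theorem Frame.conj_ι {g : P} (hg : g ∉ F.D) (w : W) : g * F.ι w * g⁻¹ = F.ι (app shear w) := by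
  have hmul : ∀ v w : W, g * F.ι (v + w) * g⁻¹ = (g * F.ι v * g⁻¹) * (g * F.ι w * g⁻¹) := fun v w => by
    rw [F.ι_add]; group
  have h0 : g * F.ι 0 * g⁻¹ = F.ι 0 := by rw [F.ι_zero]; group
  obtain ⟨c, hc⟩ := F.ι_sur (g * F.ι (0, 1) * g⁻¹) (hS.normal.conj_mem _ (F.ι_mem _) g) (by
    rw [show g * F.ι (0, 1) * g⁻¹ * (g * F.ι (0, 1) * g⁻¹) =
      g * (F.ι (0, 1) * F.ι (0, 1)) * g⁻¹ by group, F.ι_sq]; group)
  have hinj : ∀ v w, g * F.ι v * g⁻¹ = g * F.ι w * g⁻¹ → v = w := fun v w h =>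
    F.ι_inj ((MulAut.conj g).injective h)
  have hc' : c = (1, 1) := by
    rcases w_cases c with rfl | rfl | rfl | rfl
    · exact absurd (hinj (0, 1) 0 (by rw [h0, hc])) (by decide)
    · exact absurd (hinj (0, 1) (1, 0) (by rw [F.central, hc])) (by decide)
    · refine absurd (F.mem_D.2 fun v => ?_) hg
      rcases w_cases v with rfl | rfl | rfl | rfl
      · exact h0
      · exact F.central g
      · exact hc.symm
      · rw [hmul, F.central, ← hc, F.ι_add]
    · decide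
  subst hc'
  rcases w_cases w with rfl | rfl | rfl | rfl
  · rw [app_zero_right, h0]
  · rw [F.central, show app shear (1, 0) = (1, 0) by decide]
  · rw [← hc, show app shear (0, 1) = (1, 1) by decide]
  · rw [hmul, F.central, ← hc, ← F.ι_add,
      show app shear ((1, 0) + (0, 1)) = (1, 0) + ((1, 1) : W) by decide]

omit [Finite P] in
theorem Frame.mul_mem_D {g k : P} (hg : g ∉ F.D) (hk : k ∉ F.D) : g * k ∈ F.D :=
  F.mem_D.2 fun w => by
    rw [show g * k * F.ι w * (g * k)⁻¹ = g * (k * F.ι w * k⁻¹) * g⁻¹ by group, F.conj_ι hS hk,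
      F.conj_ι hS hg, ← app_comp, show comp shear shear = one by decide, app_one]

omit [Finite P] in
theorem Frame.lift_conj {x : P} {m : End2} (hx : F.Lift x m) {g : P} (hg : g ∉ F.D) :
    F.Lift (g * x * g⁻¹) (comp shear (comp m shear)) := by
  intro a ha w hw
  have ha' : g⁻¹ * a * g ∈ A := by simpa using hS.normal.conj_mem a ha g⁻¹
  have hg' : g⁻¹ ∉ F.D := fun h => hg (inv_mem_iff.1 h)
  have hsq : (g⁻¹ * a * g) * (g⁻¹ * a * g) = F.ι (app shear w) := by
    rw [show (g⁻¹ * a * g) * (g⁻¹ * a * g) = g⁻¹ * (a * a) * g by group, hw]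
    simpa using F.conj_ι hS hg' w
  calc g * x * g⁻¹ * a * (g * x * g⁻¹)⁻¹ = g * (x * (g⁻¹ * a * g) * x⁻¹) * g⁻¹ := by group
    _ = a * (g * F.ι (app m (app shear w)) * g⁻¹) := by rw [hx _ ha' _ hsq]; group
    _ = a * F.ι (app (comp shear (comp m shear)) w) := by rw [F.conj_ι hS hg, app_comp, app_comp]

omit [Finite P] in
theorem Frame.lift_conj_D {x : P} {m : End2} (hx : F.Lift x m) {g : P} (hg : g ∈ F.D) :
    F.Lift (g * x * g⁻¹) m := by
  intro a ha w hw
  have ha' : g⁻¹ * a * g ∈ A := by simpa using hS.normal.conj_mem a ha g⁻¹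
  have hsq : (g⁻¹ * a * g) * (g⁻¹ * a * g) = F.ι w := by
    rw [show (g⁻¹ * a * g) * (g⁻¹ * a * g) = g⁻¹ * (a * a) * g by group, hw]
    simpa using F.mem_D.1 (inv_mem hg) w
  calc g * x * g⁻¹ * a * (g * x * g⁻¹)⁻¹ = g * (x * (g⁻¹ * a * g) * x⁻¹) * g⁻¹ := by group
    _ = a * (g * F.ι (app m w) * g⁻¹) := by rw [hx _ ha' _ hsq]; group
    _ = _ := by rw [F.mem_D.1 hg]

omit [Finite P] in
theorem Frame.lift_inv {x : P} {m : End2} (hx : F.Lift x m) : F.Lift x⁻¹ m := by
  obtain ⟨n, hn⟩ := F.exists_lift hS (inv_mem (F.mem_D_of_lift hx))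
  have h1 := F.lift_mul hx hn
  rw [mul_inv_cancel] at h1
  have h0 := F.lift_unique h1 (F.lift_mem hS (one_mem A))
  rw [← end_add_self m] at h0
  rwa [add_left_cancel h0] at hn

omit [Finite P] in
theorem Frame.mem_of_sq {k : P} (hk : k ∈ centralizer (A : Set P)) (h : k * k = 1) :
    ∃ s, k = F.ι s := by
  obtain ⟨s, hs⟩ := F.ι_sur k (hS.top k hk (by rw [four, h, one_mul])) h
  exact ⟨s, hs.symm⟩

omit [Finite P] in
theorem Frame.sq_lift_zero {x : P} {m : End2} (hx : F.Lift x m) :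
    x * x ∈ centralizer (A : Set P) := by
  have := F.lift_mul hx hx
  rw [end_add_self] at this
  exact (F.lift_zero_iff hS).1 this

/-- A lift without fixed points whose square is an involution can be changed into an involution. -/
theorem Frame.adjust {x : P} {m : End2} (hx : F.Lift x m) (hm : Good m) {u : W}
    (hu : x * x = F.ι u) : ∃ t, F.Lift t m ∧ t * t = 1 := by
  obtain ⟨w, hw⟩ : ∃ w, w + app m w = u := by
    refine Finite.injective_iff_surjective.1 (fun v v' h => ?_) u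
    have h1 : app m (v + v') = v + v' := by
      have h2 : ∀ a b c d : W, a + b = c + d → b + d = a + c := by decide +kernel
      rw [app_add_right]; exact h2 _ _ _ _ h
    have h3 := hm _ h1
    have h4 : ∀ a b : W, a + b = 0 → a = b := by decide +kernel
    exact h4 _ _ h3
  refine ⟨x * F.α w, by simpa using F.lift_mul hx (F.lift_mem hS (F.α_mem w)), ?_⟩
  calc x * F.α w * (x * F.α w) = (x * F.α w * x⁻¹) * (x * x) * F.α w := by group
    _ = F.α w * (F.ι (app m w) * F.ι u) * F.α w := by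
        rw [hx _ (F.α_mem w) w (F.α_sq w), hu]; group
    _ = F.α w * F.α w * (F.ι (app m w) * F.ι u) := by
        rw [mul_assoc, hS.comm _ (mul_mem (F.ι_mem _) (F.ι_mem _)) _ (F.α_mem w), ← mul_assoc]
    _ = 1 := by
        rw [F.α_sq, ← F.ι_add, ← F.ι_add, ← add_assoc, hw, w_add_self, F.ι_zero]

theorem Frame.inv_hyp {t : P} {m : End2} (ht : F.Lift t m) (hm : Good m) :
    ∀ a ∈ A, t * a * t⁻¹ = a⁻¹ → a * a = 1 := by
  intro a ha hi
  obtain ⟨w, hw⟩ := F.exists_w hS ha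
  rw [ht a ha w hw] at hi
  have h1 : F.ι (app m w) = F.ι w := by
    calc F.ι (app m w) = a⁻¹ * a⁻¹ := eq_inv_mul_of_mul_eq hi
      _ = (a * a)⁻¹ := (mul_inv_rev _ _).symm
      _ = F.ι w := by rw [hw, F.ι_inv]
  rw [hw, hm w (F.ι_inj h1), F.ι_zero]

theorem Frame.fix_hyp {t : P} {m : End2} (ht : F.Lift t m) (hm : Inj m) :
    ∀ a ∈ A, t * a * t⁻¹ = a → a * a = 1 := by
  intro a ha hi
  obtain ⟨w, hw⟩ := F.exists_w hS ha
  rw [ht a ha w hw, mul_eq_left, ← F.ι_zero] at hi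
  rw [hw, hm w (F.ι_inj hi), F.ι_zero]

theorem Frame.sq_of_inj {x : P} {m : End2} (hx : F.Lift x m) (hm : Inj m) :
    ∃ u, x * x = F.ι u :=
  F.mem_of_sq hS (F.sq_lift_zero hS hx)
    (hS.free_fix (F.fix_hyp hS hx hm) (F.sq_lift_zero hS hx) (by group))

/-- There is no normal elementary group of order eight to be had: no lift of a fixed endomorphism
without fixed points has its square among the involutions. -/
theorem Frame.no_lift {x : P} {m : End2} (hm0 : m ≠ 0) (hm : Good m)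
    (hfix : ∀ g, g ∉ F.D → comp shear (comp m shear) = m) (hx : F.Lift x m) {u : W}
    (hu : x * x = F.ι u) : False := by
  obtain ⟨t, ht, ht2⟩ := F.adjust hS hx hm hu
  have htD := F.mem_D.1 (F.mem_D_of_lift ht)
  have hti : t⁻¹ = t := inv_eq_of_mul_eq_one_left ht2
  have hts : ∀ s, F.ι s * t = t * F.ι s := fun s => (mul_inv_eq_iff_eq_mul.1 (htD s)).symm
  have hconj : ∀ g, ∃ s, g * t * g⁻¹ = t * F.ι s := by
    intro g
    have hl : F.Lift (g * t * g⁻¹) m := by
      by_cases hg : g ∈ F.D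
      · exact F.lift_conj_D hS ht hg
      · exact hfix g hg ▸ F.lift_conj hS ht hg
    have hk := F.lift_mul ht hl
    rw [end_add_self] at hk
    have hkC := (F.lift_zero_iff hS).1 hk
    have h2 : (g * t * g⁻¹) * (g * t * g⁻¹) = 1 := by
      rw [show (g * t * g⁻¹) * (g * t * g⁻¹) = g * (t * t) * g⁻¹ by group, ht2]; group
    obtain ⟨s, hs⟩ := F.mem_of_sq hS hkC (hS.free_inv (F.inv_hyp hS ht hm) hkC (by
      rw [mul_inv_rev t (g * t * g⁻¹), inv_eq_of_mul_eq_one_left h2, hti, ← mul_assoc, ht2,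
        one_mul]))
    exact ⟨s, by rw [← hs, ← mul_assoc, ht2, one_mul]⟩
  let X : Subgroup P :=
    { carrier := {y | ∃ s, y = F.ι s ∨ y = t * F.ι s}
      one_mem' := ⟨0, .inl F.ι_zero.symm⟩
      mul_mem' := by
        rintro a b ⟨r, rfl | rfl⟩ ⟨s, rfl | rfl⟩ <;> refine ⟨r + s, ?_⟩ <;> rw [F.ι_add]
        · exact .inl rfl
        · exact .inr (by rw [← mul_assoc, hts, mul_assoc])
        · exact .inr (by rw [mul_assoc])
        · exact .inl (by
            rw [mul_assoc t, ← mul_assoc (F.ι r), hts, mul_assoc t, ← mul_assoc, ht2, one_mul])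
      inv_mem' := by
        rintro a ⟨r, rfl | rfl⟩ <;> refine ⟨r, ?_⟩
        · exact .inl (F.ι_inv r)
        · exact .inr (by rw [mul_inv_rev, hti, F.ι_inv, hts]) }
  have hXc : ∀ a ∈ X, ∀ b ∈ X, a * b = b * a := by
    have hι : ∀ r s, Commute (F.ι r) (F.ι s) := fun r s => hS.comm _ (F.ι_mem r) _ (F.ι_mem s)
    have htc : ∀ s, Commute t (F.ι s) := fun s => (hts s).symm
    rintro a ⟨r, rfl | rfl⟩ b ⟨s, rfl | rfl⟩
    · exact hι r s
    · exact (htc r).symm.mul_right (hι r s)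
    · exact (htc s).mul_left (hι r s)
    · exact ((Commute.refl t).mul_right (htc s)).mul_left ((htc r).symm.mul_right (hι r s))
  have hX2 : ∀ a ∈ X, a * a = 1 := by
    rintro a ⟨r, rfl | rfl⟩
    · exact F.ι_sq r
    · rw [(show Commute (F.ι r) t from hts r).mul_mul_mul_comm, ht2, F.ι_sq, one_mul]
  have hXn : X.Normal := ⟨by
    have hE : ∀ g r, ∃ s, g * F.ι r * g⁻¹ = F.ι s := fun g r => by
      by_cases hg : g ∈ F.D
      · exact ⟨r, F.mem_D.1 hg r⟩
      · exact ⟨_, F.conj_ι hS hg r⟩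
    rintro a ⟨r, rfl | rfl⟩ g
    · obtain ⟨s, hs⟩ := hE g r
      exact ⟨s, .inl hs⟩
    · obtain ⟨s, hs⟩ := hE g r
      obtain ⟨s', hs'⟩ := hconj g
      refine ⟨s' + s, .inr ?_⟩
      rw [show g * (t * F.ι r) * g⁻¹ = (g * t * g⁻¹) * (g * F.ι r * g⁻¹) by group, hs, hs',
        F.ι_add, mul_assoc]⟩
  have h5 : 8 ≤ Nat.card X := by
    let f : Bool × W → X := fun p => ⟨if p.1 then t * F.ι p.2 else F.ι p.2, p.2, by
      rcases p with ⟨_ | _, s⟩
      · exact .inl rfl
      · exact .inr rfl⟩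
    have hne : ∀ r s, t * F.ι r ≠ F.ι s := fun r s h => hm0 (F.lift_unique ht (F.lift_mem hS (by
      rw [eq_mul_inv_of_mul_eq h]; exact mul_mem (F.ι_mem s) (inv_mem (F.ι_mem r)))))
    have hf : Function.Injective f := by
      rintro ⟨b, r⟩ ⟨b', s⟩ h
      have h' : (if b then t * F.ι r else F.ι r) = if b' then t * F.ι s else F.ι s :=
        congrArg Subtype.val h
      cases b <;> cases b' <;> simp only [if_true, if_false, Bool.false_eq_true] at h'
      · rw [F.ι_inj h']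
      · exact absurd h'.symm (hne _ _)
      · exact absurd h' (hne _ _)
      · rw [F.ι_inj (mul_left_cancel h')]
    have := Nat.card_le_card_of_injective f hf
    simpa [W, Nat.card_prod, Nat.card_zmod] using this
  have := hS.small X hXn hXc hX2
  omega

/-- Not every endomorphism is induced. -/
theorem Frame.not_full : ∃ m, ∀ x, ¬ F.Lift x m := by
  by_contra hcon
  push Not at hcon
  obtain ⟨x, hx⟩ := hcon omega
  obtain ⟨hw0, hwg, hwi⟩ := omega_facts
  obtain ⟨u, hu⟩ := F.sq_of_inj hS hx hwi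
  by_cases hD : ∀ g, g ∈ F.D
  · exact F.no_lift hS hw0 hwg (fun g hg => absurd (hD g) hg) hx hu
  obtain ⟨t, ht, ht2⟩ := F.adjust hS hx hwg hu
  have hti : t⁻¹ = t := inv_eq_of_mul_eq_one_left ht2
  obtain ⟨y, hy⟩ := hcon nil
  have hk := F.lift_mul (F.lift_conj_D hS hy (F.mem_D_of_lift ht))
    (F.lift_inv hS hy)
  rw [end_add_self] at hk
  have hkC := (F.lift_zero_iff hS).1 hk
  obtain ⟨s, hs⟩ := F.mem_of_sq hS hkC (hS.free_inv (F.inv_hyp hS ht hwg) hkC (by
    calc t * (t * y * t⁻¹ * y⁻¹) * t⁻¹ = (t * t) * y * t⁻¹ * y⁻¹ * t⁻¹ := by group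
      _ = y * t * y⁻¹ * t⁻¹ := by rw [ht2, hti]; group
      _ = (t * y * t⁻¹ * y⁻¹)⁻¹ := by group))
  have hty : t * y * t⁻¹ = F.ι s * y := by rw [← hs, inv_mul_cancel_right]
  have hys : y * F.ι s = F.ι s * y := mul_inv_eq_iff_eq_mul.1 (F.mem_D.1 (F.mem_D_of_lift hy) s)
  have hy2 : t * (y * y) * t⁻¹ = y * y := by
    calc t * (y * y) * t⁻¹ = (t * y * t⁻¹) * (t * y * t⁻¹) := by group
      _ = F.ι s * (y * F.ι s) * y := by rw [hty]; group
      _ = (F.ι s * F.ι s) * (y * y) := by rw [hys]; group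
      _ = y * y := by rw [F.ι_sq, one_mul]
  obtain ⟨v, hv⟩ := F.mem_of_sq hS (F.sq_lift_zero hS hy)
    (hS.free_fix (F.fix_hyp hS ht hwi) (F.sq_lift_zero hS hy) hy2)
  obtain ⟨hn0, hng, hnc⟩ := nil_facts
  exact F.no_lift hS hn0 hng (fun _ _ => fix_of_commutant _ hnc) hy hv

end Cfsg.Agent.TwoFusionB.MW
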