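import Mathlib.Data.ZMod.Basic
import Mathlib.GroupTheory.Index
import Mathlib.Algebra.Group.Subgroup.Finite

/-!
Endomorphisms of a four-group, in coordinates.
-/

set_option autoImplicit false

namespace Cfsg.Agent.TwoFusionB.MW

/-- The coordinate plane. -/
abbrev W : Type := ZMod 2 × ZMod 2

/-- Endomorphisms, given by the images of the basis. -/
abbrev End2 : Type := W × W

/-- Application. -/
def app (m : End2) (v : W) : W :=
  (v.1 * m.1.1 + v.2 * m.2.1, v.1 * m.1.2 + v.2 * m.2.2)

/-- Composition. -/
def comp (m n : End2) : End2 := (app m n.1, app m n.2)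

/-- The identity. -/
def one : End2 := ((1, 0), (0, 1))

/-- The transvection fixing the first basis vector. -/
def shear : End2 := ((1, 0), (1, 1))

/-- No nonzero fixed vector. -/
def Good (m : End2) : Prop := ∀ w, app m w = w → w = 0

/-- Injectivity. -/
def Inj (m : End2) : Prop := ∀ w, app m w = 0 → w = 0

theorem app_comp : ∀ (m n : End2) (v : W), app (comp m n) v = app m (app n v) := by decide +kernel

theorem add_app : ∀ (m n : End2) (v : W), app (m + n) v = app m v + app n v := by decide +kernel

theorem app_one : ∀ v, app one v = v := by decide +kernel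

theorem app_zero : ∀ v, app (0 : End2) v = 0 := by decide +kernel

theorem app_basis : ∀ m : End2, app m (1, 0) = m.1 ∧ app m (0, 1) = m.2 := by decide +kernel

theorem w_add_self : ∀ v : W, v + v = 0 := by decide +kernel

/-- The fixed nilpotent element. -/
def nil : End2 := ((0, 0), (1, 0))

theorem nil_facts : nil ≠ 0 ∧ Good nil ∧ comp shear nil = comp nil shear := by
  unfold Good; decide +kernel

/-- An element of order three. -/
def omega : End2 := ((0, 1), (1, 1))

theorem omega_facts : omega ≠ 0 ∧ Good omega ∧ Inj omega := by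
  unfold Good Inj; decide +kernel

theorem five_good : Good nil ∧ Good ((0, 1), (0, 0)) ∧ Good ((1, 1), (1, 1)) ∧
    Good omega ∧ Good ((1, 1), (1, 0)) := by
  unfold Good; decide +kernel

theorem commutant_card :
    (Finset.univ.filter fun m : End2 => comp shear m = comp m shear).card ≤ 4 := by decide +kernel

theorem conj_sum : (((1, 0), (0, 0)) : End2) + comp shear (comp ((1, 0), (0, 0)) shear) = nil := by
  decide +kernel

theorem index_le_two {U : AddSubgroup End2} (h : 8 ≤ Nat.card U) {a b : End2} (ha : a ∉ U)
    (hb : b ∉ U) : a + b ∈ U := by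
  have h1 := U.card_mul_index
  have h2 : Nat.card End2 = 16 := by simp [End2, W, Nat.card_prod, Nat.card_zmod]
  rw [h2] at h1
  have h3 : U.index ≤ 2 := by
    by_contra h3
    have := Nat.mul_le_mul h (Nat.lt_of_not_le h3 : 3 ≤ U.index)
    omega
  have h4 : U.index = 2 := by
    have h5 : U.index ≠ 0 := AddSubgroup.FiniteIndex.index_ne_zero
    have h6 : U.index ≠ 1 := fun h6 => ha (by rw [AddSubgroup.index_eq_one.1 h6]; trivial)
    omega
  exact (AddSubgroup.add_mem_iff_of_index_two h4).2 (iff_of_false ha hb)

theorem exists_good {U : AddSubgroup End2} (h : 8 ≤ Nat.card U) :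
    ∃ m ∈ U, m ≠ 0 ∧ Good m := by
  obtain ⟨g1, g2, g3, g4, g5⟩ := five_good
  by_contra hcon
  push Not at hcon
  have n1 : nil ∉ U := fun hm => hcon _ hm (by decide) g1
  have n2 : (((0, 1), (0, 0)) : End2) ∉ U := fun hm => hcon _ hm (by decide) g2
  have n3 : (((1, 1), (1, 1)) : End2) ∉ U := fun hm => hcon _ hm (by decide) g3
  have n4 : omega ∉ U := fun hm => hcon _ hm (by decide) g4
  have n5 : (((1, 1), (1, 0)) : End2) ∉ U := fun hm => hcon _ hm (by decide) g5
  have h12 : nil + (((0, 1), (0, 0)) : End2) ∈ U := index_le_two h n1 n2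
  have h45 : one ∈ U := by
    have := index_le_two h n4 n5
    rwa [show omega + (((1, 1), (1, 0)) : End2) = one by decide] at this
  exact n3 (by
    have := U.add_mem h45 h12
    rwa [show one + (nil + (((0, 1), (0, 0)) : End2)) = ((1, 1), (1, 1)) by decide] at this)

theorem nil_mem_of_invariant {U : AddSubgroup End2} (h : 8 ≤ Nat.card U)
    (hinv : ∀ m ∈ U, comp shear (comp m shear) ∈ U) : nil ∈ U := by
  rw [← conj_sum]
  by_cases hm : (((1, 0), (0, 0)) : End2) ∈ U
  · exact U.add_mem hm (hinv _ hm)
  · refine index_le_two h hm fun h' => hm ?_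
    have := hinv _ h'
    rwa [show comp shear (comp (comp shear (comp ((1, 0), (0, 0)) shear)) shear) =
      (((1, 0), (0, 0)) : End2) by decide +kernel] at this

end Cfsg.Agent.TwoFusionB.MW
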