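import Mathlib

/-!
# 2-groups with exactly three involutions, all central, and an automorphism moving all three
-/

set_option autoImplicit false

namespace Cfsg.Agent.TwoFusionB

open Subgroup

/-- All elements of square one are central and there are four of them. -/
structure ThreeInvol (T : Type*) [Group T] : Prop where
  hp : IsPGroup 2 T
  cent : ∀ x : T, x * x = 1 → x ∈ center T
  card4 : Nat.card {x : T // x * x = 1} = 4

namespace ThreeInvol

variable {T : Type*} [Group T] [Finite T] (h : ThreeInvol T)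
include h

omit [Finite T] in
theorem invol_mul {x y : T} (hx : x * x = 1) (hy : y * y = 1) : x * y * (x * y) = 1 := by
  have hc : y * x = x * y := mem_center_iff.1 (h.cent x hx) y
  calc x * y * (x * y) = x * (y * x) * y := by group
    _ = x * x * (y * y) := by rw [hc]; group
    _ = 1 := by rw [hx, hy, one_mul]

omit [Finite T] h in
theorem inv_of_invol {x : T} (hx : x * x = 1) : x⁻¹ = x := inv_eq_of_mul_eq_one_right hx

omit [Finite T] in
theorem invol_inv_mul {x y : T} (hx : x * x = 1) (hy : y * y = 1) :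
    x⁻¹ * y * (x⁻¹ * y) = 1 := by rw [inv_of_invol hx]; exact h.invol_mul hx hy

theorem eq_or {a b c : T} (ha : a * a = 1) (hb : b * b = 1) (hc : c * c = 1) (ha1 : a ≠ 1)
    (hb1 : b ≠ 1) (hab : a ≠ b) : c = 1 ∨ c = a ∨ c = b ∨ c = a * b := by
  classical
  haveI := Fintype.ofFinite T
  by_contra hne
  simp only [not_or] at hne
  obtain ⟨h0, h1, h2, h3⟩ := hne
  have hs : ({1, a, b, a * b, c} : Finset T) ⊆ Finset.univ.filter (fun x => x * x = 1) := by
    intro w hw
    simp only [Finset.mem_insert, Finset.mem_singleton] at hw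
    simp only [Finset.mem_filter, Finset.mem_univ, true_and]
    rcases hw with rfl | rfl | rfl | rfl | rfl
    exacts [one_mul _, ha, hb, h.invol_mul ha hb, hc]
  have hcard := Finset.card_le_card hs
  rw [← Fintype.card_subtype, ← Nat.card_eq_fintype_card, h.card4] at hcard
  have hab1 : a * b ≠ 1 := fun e => hab (by
    rw [← inv_of_invol hb]; exact eq_inv_of_mul_eq_one_left e)
  rw [Finset.card_insert_of_notMem
      (by simp [Ne.symm ha1, Ne.symm hb1, Ne.symm hab1, Ne.symm h0]),
    Finset.card_insert_of_notMem (by simp [hab, Ne.symm h1, hb1]),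
    Finset.card_insert_of_notMem (by simp [ha1, Ne.symm h2]),
    Finset.card_insert_of_notMem (by simp [Ne.symm h3]), Finset.card_singleton] at hcard
  omega

theorem exists_invol (ψ : MulAut T) (hfix : ∀ x, x * x = 1 → ψ x = x → x = 1) :
    ∃ z : T, z * z = 1 ∧ z ≠ 1 ∧ ψ z * ψ z = 1 ∧ ψ z ≠ 1 ∧ z ≠ ψ z ∧
      ψ (ψ z) = z * ψ z := by
  obtain ⟨z, hz, hz1⟩ : ∃ z : T, z * z = 1 ∧ z ≠ 1 := by
    by_contra! hno
    have : Subsingleton {x : T // x * x = 1} :=
      ⟨fun a b => Subtype.ext ((hno a.1 a.2).trans (hno b.1 b.2).symm)⟩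
    have := Finite.card_le_one_iff_subsingleton.2 this |>.trans_lt (by norm_num : 1 < 4)
    rw [h.card4] at this
    exact absurd this (lt_irrefl 4)
  have hψ : ψ z * ψ z = 1 := by rw [← map_mul, hz, map_one]
  have hψ1 : ψ z ≠ 1 := by rwa [Ne, EmbeddingLike.map_eq_one_iff]
  have hne : z ≠ ψ z := fun e => hz1 (hfix z hz e.symm)
  refine ⟨z, hz, hz1, hψ, hψ1, hne, ?_⟩
  have hψψ : ψ (ψ z) * ψ (ψ z) = 1 := by rw [← map_mul, hψ, map_one]
  rcases h.eq_or hz hψ hψψ hz1 hψ1 hne with e | e | e | e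
  · exact absurd (EmbeddingLike.map_eq_one_iff.1 e) hψ1
  · exfalso
    have hp : z * ψ z ≠ 1 := fun e' =>
      hne ((eq_inv_of_mul_eq_one_left e').trans (inv_of_invol hψ))
    refine hp (hfix _ (h.invol_mul hz hψ) ?_)
    rw [map_mul, e]
    exact mem_center_iff.1 (h.cent z hz) (ψ z)
  · exact absurd (hfix _ hψ e) hψ1
  · exact e

theorem cube_fix (ψ : MulAut T) (hfix : ∀ x, x * x = 1 → ψ x = x → x = 1) {x : T}
    (hx : x * x = 1) : ψ (ψ (ψ x)) = x := by
  obtain ⟨z, hz, hz1, hψz, hψ1, hne, h2⟩ := h.exists_invol ψ hfix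
  have e3 : ψ (ψ (ψ z)) = z := by
    rw [h2, map_mul, h2]
    calc ψ z * (z * ψ z) = z * (ψ z * ψ z) := by
          rw [← mul_assoc, ← mul_assoc, mem_center_iff.1 (h.cent z hz) (ψ z)]
      _ = z := by rw [hψz, mul_one]
  rcases h.eq_or hz hψz hx hz1 hψ1 hne with rfl | rfl | rfl | rfl
  · simp
  · exact e3
  · rw [e3]
  · rw [map_mul, map_mul, map_mul, e3]

/-- The subgroup of elements of square one. -/
def omega : Subgroup T where
  carrier := {x | x * x = 1}
  one_mem' := one_mul 1
  mul_mem' := fun hx hy => h.invol_mul hx hy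
  inv_mem' := fun {x} hx => by
    show x⁻¹ * x⁻¹ = 1
    rw [← mul_inv_rev, show x * x = 1 from hx, inv_one]

theorem card_omega : Nat.card h.omega = 4 := h.card4

omit h [Finite T] in
theorem mul_sq_of_comm_mem {a b k : T} (hk : b * a = k * (a * b)) (hka : a * k = k * a) :
    a * b * (a * b) = k * (a * a * (b * b)) := by
  calc a * b * (a * b) = a * (b * a) * b := by group
    _ = (a * k) * (a * b) * b := by rw [hk]; group
    _ = _ := by rw [hka]; group

/-- A class two group of exponent four with three involutions has order below 256. -/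
theorem card_lt (S : Subgroup T) (hV : ∀ x : T, x * x = 1 → x ∈ S)
    (hsq : ∀ x ∈ S, x * x * (x * x) = 1)
    (hcomm : ∀ x ∈ S, ∀ y ∈ S, x * y * x⁻¹ * y⁻¹ * (x * y * x⁻¹ * y⁻¹) = 1) :
    Nat.card S < 256 := by
  classical
  haveI := Fintype.ofFinite T
  by_contra hlt
  rw [not_lt] at hlt
  let B : T → T → T := fun x y => x * y * x⁻¹ * y⁻¹
  have hBc : ∀ x ∈ S, ∀ y ∈ S, B x y ∈ center T := fun x hx y hy => h.cent _ (hcomm x hx y hy)
  have hBmul : ∀ x ∈ S, ∀ y ∈ S, ∀ y' ∈ S, B x (y * y') = B x y * B x y' := by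
    intro x hx y hy y' hy'
    calc B x (y * y') = x * y * x⁻¹ * (B x y' * y⁻¹) := by simp only [B]; group
      _ = x * y * x⁻¹ * (y⁻¹ * B x y') := by rw [mem_center_iff.1 (hBc x hx y' hy') y⁻¹]
      _ = _ := by simp only [B]; group
  have hmsq : ∀ x ∈ S, ∀ y ∈ S, x * y * (x * y) = B y x * (x * x * (y * y)) := fun x hx y hy =>
    mul_sq_of_comm_mem (by simp only [B]; group) (mem_center_iff.1 (hBc y hy x hx) x)
  have hBinv : ∀ x ∈ S, ∀ y ∈ S, B y x = B x y := fun x hx y hy => by
    show y * x * y⁻¹ * x⁻¹ = x * y * x⁻¹ * y⁻¹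
    conv_rhs => rw [← inv_of_invol (hcomm x hx y hy)]
    group
  let Ω := h.omega
  let f : ∀ u ∈ S, S →* Ω := fun u hu => MonoidHom.mk' (fun x => ⟨B u x, hcomm u hu x x.2⟩)
    fun a b => Subtype.ext (hBmul u hu a a.2 b b.2)
  have hfilter : ∀ s : Finset T, s.card < Nat.card S → ∃ t ∈ S, t ∉ s := by
    intro s hs
    by_contra! hall
    have hle : (Finset.univ.filter (· ∈ S)).card ≤ s.card :=
      Finset.card_le_card fun z hz => hall z (Finset.mem_filter.mp hz).2
    rw [← Fintype.card_subtype, ← Nat.card_eq_fintype_card] at hle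
    omega
  set V := Finset.univ.filter (fun x : T => x * x = 1) with hVdef
  have hV4 : V.card = 4 := by
    rw [hVdef, ← Fintype.card_subtype, ← Nat.card_eq_fintype_card, h.card4]
  obtain ⟨u, huS, huV⟩ := hfilter V (by omega)
  simp only [hVdef, Finset.mem_filter, Finset.mem_univ, true_and] at huV
  -- an element commuting with `u`
  have hk1 := (f u huS).ker.card_mul_index
  rw [Subgroup.index_ker] at hk1
  have hr1 : Nat.card (f u huS).range ≤ 4 :=
    h.card_omega ▸ Subgroup.card_le_card_group (f u huS).range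
  have hker1 : 64 ≤ Nat.card ((f u huS).ker.map S.subtype) := by
    rw [Subgroup.card_map_of_injective S.subtype_injective]
    by_contra hlt'
    nlinarith [Nat.card_pos (α := (f u huS).range)]
  obtain ⟨w, hwK, hwV, hwu⟩ : ∃ w, w ∈ (f u huS).ker.map S.subtype ∧ w * w ≠ 1 ∧
      u⁻¹ * w * (u⁻¹ * w) ≠ 1 := by
    by_contra! hall
    have hle : (Finset.univ.filter (· ∈ (f u huS).ker.map S.subtype)).card ≤
        (V ∪ V.image (u * ·)).card := by
      refine Finset.card_le_card fun w hw => ?_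
      simp only [Finset.mem_filter, Finset.mem_univ, true_and] at hw
      by_cases hw2 : w * w = 1
      · exact Finset.mem_union_left _ (by simpa [hVdef] using hw2)
      · exact Finset.mem_union_right _ (Finset.mem_image.2
          ⟨u⁻¹ * w, by simpa [hVdef] using hall w hw hw2, by group⟩)
    rw [← Fintype.card_subtype, ← Nat.card_eq_fintype_card] at hle
    have h5 := (Finset.card_union_le V (V.image (u * ·)))
    have h6 := Finset.card_image_le (s := V) (f := (u * ·))
    omega
  obtain ⟨⟨w', hwS⟩, hwk, hww⟩ := hwK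
  change w' = w at hww
  subst hww
  rename' w' => w
  have hBuw : B u w = 1 := congrArg Subtype.val (MonoidHom.mem_ker.1 hwk)
  set a := u * u with ha
  set b := w * w with hb
  have ha2 : a * a = 1 := hsq u huS
  have hb2 : b * b = 1 := hsq w hwS
  have huw : u * w * (u * w) = a * b := by
    rw [hmsq u huS w hwS, hBinv u huS w hwS, hBuw, one_mul]
  have hab : a ≠ b := by
    intro e
    have h5 : u⁻¹ * w = (u * u)⁻¹ * (u * w) := by group
    refine hwu ?_
    rw [h5, ← ha]
    exact h.invol_inv_mul ha2 (by rw [huw, e, hb2])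
  -- the common centralizer
  let g : S →* Ω × Ω := (f u huS).prod (f w hwS)
  have hN : ∀ v : S, g v = 1 → ∃ r ∈ ({1, u, w, u * w} : Finset T),
      r⁻¹ * (v : T) * (r⁻¹ * (v : T)) = 1 := by
    intro v hv
    have h1 : B u v = 1 := congrArg (fun p : Ω × Ω => (p.1 : T)) hv
    have h2 : B w v = 1 := congrArg (fun p : Ω × Ω => (p.2 : T)) hv
    have key : ∀ r ∈ S, B r v = 1 → r * r = (v : T) * v → r⁻¹ * (v : T) * (r⁻¹ * (v : T)) = 1 := by
      intro r hr hrv he
      have h5 : r⁻¹ * (v : T) = (r * r)⁻¹ * (r * v) := by group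
      rw [h5]
      refine h.invol_inv_mul (hsq r hr) ?_
      rw [hmsq r hr v v.2, hBinv r hr v v.2, hrv, one_mul, ← he]
      exact hsq r hr
    rcases h.eq_or ha2 hb2 (hsq v v.2) huV hwV hab with e | e | e | e
    · exact ⟨1, by simp, by simpa using e⟩
    · exact ⟨u, by simp, key u huS h1 e.symm⟩
    · exact ⟨w, by simp, key w hwS h2 e.symm⟩
    · refine ⟨u * w, by simp, key _ (mul_mem huS hwS) ?_ (huw.trans e.symm)⟩
      rw [← hBinv _ (mul_mem huS hwS) v v.2, hBmul v v.2 u huS w hwS, hBinv u huS v v.2,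
        hBinv w hwS v v.2, h1, h2, one_mul]
  have hker2 : Nat.card (g.ker.map S.subtype) ≤ 16 := by
    have hle : (Finset.univ.filter (· ∈ g.ker.map S.subtype)).card ≤
        ((({1, u, w, u * w} : Finset T) ×ˢ V).image fun p => p.1 * p.2).card := by
      refine Finset.card_le_card fun v hv => ?_
      obtain ⟨v', hv', rfl⟩ := (Finset.mem_filter.1 hv).2
      obtain ⟨r, hr, hr'⟩ := hN v' hv'
      refine Finset.mem_image.2 ⟨(r, r⁻¹ * (v' : T)), Finset.mem_product.2 ⟨hr, ?_⟩, by simp⟩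
      simpa [hVdef] using hr'
    rw [← Fintype.card_subtype, ← Nat.card_eq_fintype_card] at hle
    refine hle.trans (Finset.card_image_le.trans ?_)
    rw [Finset.card_product, hV4]
    have h5 : ({1, u, w, u * w} : Finset T).card ≤ 4 := Finset.card_le_four
    omega
  have hg : Function.Surjective g := by
    have h1 := g.ker.card_mul_index
    rw [Subgroup.index_ker] at h1
    rw [Subgroup.card_map_of_injective S.subtype_injective] at hker2
    have h2 : Nat.card (Ω × Ω) = 16 := by rw [Nat.card_prod, h.card_omega]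
    rw [← MonoidHom.range_eq_top]
    refine Subgroup.eq_top_of_le_card _ ?_
    rw [h2]
    by_contra hlt'
    nlinarith [Nat.card_pos (α := g.ker)]
  -- a coset on which squaring takes all four values
  have hab2 : a * b * (a * b) = 1 := h.invol_mul ha2 hb2
  obtain ⟨x, hx⟩ := hg (⟨a * b, hab2⟩, ⟨a * b, hab2⟩)
  have hx1 : B u x = a * b := congrArg (fun p : Ω × Ω => (p.1 : T)) hx
  have hx2 : B w x = a * b := congrArg (fun p : Ω × Ω => (p.2 : T)) hx
  have hne1 : a * b ≠ 1 := fun e => hab (by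
    rw [← inv_of_invol hb2]; exact eq_inv_of_mul_eq_one_left e)
  have hcx : (x : T) * x * ((x : T) * x) = 1 := hsq x x.2
  have hBu : ∀ r ∈ S, r⁻¹ * (x : T) * (r⁻¹ * x) = 1 → B u r = 1 → False := by
    intro r hr hrx hBr
    apply hne1
    rw [← hx1, show (x : T) = r * (r⁻¹ * x) by group,
      hBmul u huS r hr _ (mul_mem (inv_mem hr) x.2), hBr, one_mul]
    simp only [B, mem_center_iff.1 (h.cent _ hrx) u]
    group
  have hBself : B u u = 1 := by simp [B]
  have hval : ∀ r ∈ S, r * (x : T) * (r * x) = 1 → r⁻¹ * (x : T) * (r⁻¹ * x) = 1 := by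
    intro r hr he
    rw [show r⁻¹ * (x : T) = (r * r)⁻¹ * (r * x) by group]
    exact h.invol_inv_mul (hsq r hr) he
  have hca : ∀ t, a * t = t * a := fun t => (mem_center_iff.1 (h.cent a ha2) t).symm
  have hcb : ∀ t, b * t = t * b := fun t => (mem_center_iff.1 (h.cent b hb2) t).symm
  rcases h.eq_or ha2 hb2 hcx huV hwV hab with e | e | e | e
  · exact hBu 1 (one_mem S) (by simpa using e) (by simp [B])
  · refine hBu w hwS (hval w hwS ?_) hBuw
    rw [hmsq w hwS x x.2, hBinv w hwS x x.2, hx2, e, ← hb, ← mul_assoc, mul_assoc a b b, hb2,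
      mul_one, ha2]
  · refine hBu u huS (hval u huS ?_) hBself
    rw [hmsq u huS x x.2, hBinv u huS x x.2, hx1, e, ← ha, hab2]
  · refine hBu (u * w) (mul_mem huS hwS) (hval _ (mul_mem huS hwS) ?_) ?_
    · rw [hmsq _ (mul_mem huS hwS) x x.2, hBmul x x.2 u huS w hwS, hBinv u huS x x.2,
        hBinv w hwS x x.2, hx1, hx2, hab2, one_mul, huw, e, hab2]
    · rw [hBmul u huS u huS w hwS, hBself, hBuw, one_mul]

/-- An automorphism of 3-power order moving all involutions has order dividing three. -/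
theorem pow_three_eq_one (ψ : MulAut T) {k : ℕ} (hk : ψ ^ 3 ^ k = 1)
    (hfix : ∀ x, x * x = 1 → ψ x = x → x = 1) : ψ ^ 3 = 1 := by
  classical
  haveI := Fintype.ofFinite T
  obtain ⟨j, -, hj⟩ := (Nat.dvd_prime_pow Nat.prime_three).1 (orderOf_dvd_of_pow_eq_one hk)
  by_contra hne
  have hj2 : 2 ≤ j := by
    by_contra hj2
    refine hne (orderOf_dvd_iff_pow_eq_one.1 ?_)
    rw [hj]
    interval_cases j <;> norm_num
  set θ := ψ ^ 3 ^ (j - 1) with hθ
  have hθ3 : ∀ x, θ (θ (θ x)) = x := fun x => by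
    have h1 : θ * θ * θ = 1 := by
      rw [hθ, ← pow_add, ← pow_add,
        show 3 ^ (j - 1) + 3 ^ (j - 1) + 3 ^ (j - 1) = 3 ^ j by
          conv_rhs => rw [show j = j - 1 + 1 by omega, pow_succ]
          ring, ← hj, pow_orderOf_eq_one]
    exact DFunLike.congr_fun h1 x
  have hψθ : ∀ x, θ (ψ x) = ψ (θ x) := fun x =>
    DFunLike.congr_fun (Commute.pow_self ψ (3 ^ (j - 1))).eq x
  have hψpow : ∀ (m : ℕ) (x : T), (ψ ^ 3) x = x → (ψ ^ (3 * m)) x = x := by
    intro m x hx
    induction m with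
    | zero => simp
    | succ m ih => rw [mul_add, pow_add, MulAut.mul_apply, mul_one, hx, ih]
  have hθV : ∀ x, x * x = 1 → θ x = x := fun x hx => by
    rw [hθ, show 3 ^ (j - 1) = 3 * 3 ^ (j - 2) by rw [← pow_succ']; congr 1; omega]
    exact hψpow _ _ (h.cube_fix ψ hfix hx)
  suffices hall : ∀ S : Subgroup T, (∀ x ∈ S, ψ x ∈ S) → ∀ x ∈ S, θ x = x by
    have h1 : θ = 1 := MulEquiv.ext fun x => hall ⊤ (fun _ _ => mem_top _) x (mem_top x)
    have h5 := orderOf_dvd_of_pow_eq_one h1
    rw [hj, Nat.pow_dvd_pow_iff_le_right (by norm_num : 1 < 3)] at h5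
    omega
  intro S
  induction S using WellFoundedLT.induction with
  | _ S ih =>
  intro hinv
  have hψn : ∀ (n : ℕ), ∀ x ∈ S, (ψ ^ n) x ∈ S := by
    intro n
    induction n with
    | zero => exact fun x hx => by simpa using hx
    | succ n ihn => exact fun x hx => by rw [pow_succ', MulAut.mul_apply]; exact hinv _ (ihn x hx)
  have hθS : ∀ x ∈ S, θ x ∈ S := hψn _
  let D := closure {y : T | ∃ x ∈ S, x⁻¹ * θ x = y}
  have hDS : D ≤ S := (closure_le S).2 (by
    rintro _ ⟨x, hx, rfl⟩; exact mul_mem (inv_mem hx) (hθS x hx))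
  have hDinv : ∀ x ∈ D, ψ x ∈ D := by
    intro x hx
    have hle : D.map ψ.toMonoidHom ≤ D := by
      rw [MonoidHom.map_closure, closure_le]
      rintro _ ⟨_, ⟨y, hy, rfl⟩, rfl⟩
      exact subset_closure ⟨ψ y, hinv y hy, by simp [hψθ]⟩
    exact hle ⟨x, hx, rfl⟩
  by_cases hD : D = S
  swap
  · intro x hx
    have hc := ih D (lt_of_le_of_ne hDS hD) hDinv (x⁻¹ * θ x) (subset_closure ⟨x, hx, rfl⟩)
    set c := x⁻¹ * θ x with hcdef
    have h1 : θ x = x * c := by rw [hcdef]; group
    have h3 := hθ3 x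
    rw [h1, map_mul, hc, h1, map_mul, map_mul, hc, h1] at h3
    have hc3 : c ^ 3 = 1 := by
      have h4 : x * (c * c * c) = x := by simpa [mul_assoc] using h3
      simpa [pow_succ, mul_assoc] using mul_eq_left.1 h4
    obtain ⟨n, hn⟩ := h.hp c
    have hc1 : c = 1 := orderOf_eq_one_iff.1 (Nat.eq_one_of_dvd_coprimes
      (Nat.Coprime.pow_right n (by norm_num : Nat.Coprime 3 2))
      (orderOf_dvd_of_pow_eq_one hc3) (orderOf_dvd_of_pow_eq_one hn))
    rw [h1, hc1, mul_one]
  by_cases hbot : S = ⊥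
  · intro x hx
    rw [hbot, mem_bot] at hx
    rw [hx, map_one]
  -- squares generate a proper invariant subgroup
  let Q := closure {y : T | ∃ x ∈ S, x * x = y}
  have hQS : Q ≤ S := (closure_le S).2 (by rintro _ ⟨x, hx, rfl⟩; exact mul_mem hx hx)
  have hQinv : ∀ x ∈ Q, ψ x ∈ Q := by
    intro x hx
    have hle : Q.map ψ.toMonoidHom ≤ Q := by
      rw [MonoidHom.map_closure, closure_le]
      rintro _ ⟨_, ⟨y, hy, rfl⟩, rfl⟩
      exact subset_closure ⟨ψ y, hinv y hy, by simp⟩
    exact hle ⟨x, hx, rfl⟩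
  have hQlt : Q < S := by
    refine lt_of_le_of_ne hQS fun e => ?_
    haveI : Nontrivial S := (Subgroup.nontrivial_iff_ne_bot S).2 hbot
    haveI : Fact (Nat.Prime 2) := ⟨Nat.prime_two⟩
    haveI : Group.IsNilpotent S := (h.hp.to_subgroup S).isNilpotent
    obtain ⟨M, hM, -⟩ := (eq_top_or_exists_le_coatom (⊥ : Subgroup S)).resolve_left bot_ne_top
    have hMn : M.Normal := NormalizerCondition.normal_of_coatom M Group.normalizerCondition_of_isNilpotent hM
    have hidx : M.index = 2 := by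
      haveI := hMn
      obtain ⟨n, hn⟩ := ((h.hp.to_subgroup S).to_quotient M).exists_card_eq
      rw [← Subgroup.index_eq_card] at hn
      rcases n with _ | n
      · exact absurd (Subgroup.index_eq_one.1 (by simpa using hn)) hM.1
      obtain ⟨q, hq⟩ := exists_prime_orderOf_dvd_card' (G := S ⧸ M) 2
        (by rw [← Subgroup.index_eq_card, hn]; exact dvd_pow_self 2 n.succ_ne_zero)
      have hlt : M < (zpowers q).comap (QuotientGroup.mk' M) := by
        refine lt_of_le_of_ne (fun m hm => ?_) fun e' => ?_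
        · rw [mem_comap, QuotientGroup.mk'_apply, (QuotientGroup.eq_one_iff m).2 hm]
          exact one_mem _
        · obtain ⟨r, rfl⟩ := QuotientGroup.mk'_surjective M q
          have hr : r ∈ (zpowers (QuotientGroup.mk' M r)).comap (QuotientGroup.mk' M) :=
            mem_comap.2 (mem_zpowers _)
          rw [← e'] at hr
          rw [QuotientGroup.mk'_apply, (QuotientGroup.eq_one_iff r).2 hr, orderOf_one] at hq
          omega
      have h1 := Subgroup.index_comap_of_surjective (zpowers q) (QuotientGroup.mk'_surjective M)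
      rw [hM.2 _ hlt, Subgroup.index_top] at h1
      have h2 := (zpowers q).card_mul_index
      rw [← h1, mul_one, Nat.card_zpowers, hq, ← Subgroup.index_eq_card] at h2
      exact h2.symm
    have hle : Q ≤ M.map S.subtype := (closure_le _).2 (by
      rintro _ ⟨x, hx, rfl⟩
      exact ⟨⟨x, hx⟩ * ⟨x, hx⟩, Subgroup.mul_self_mem_of_index_two hidx _, rfl⟩)
    refine hM.1 (eq_top_iff.2 fun m _ => ?_)
    obtain ⟨m', hm', he⟩ := hle (show (m : T) ∈ Q by rw [e]; exact m.2)
    exact Subtype.ext he ▸ hm'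
  have hQfix : ∀ y ∈ Q, θ y = y := ih Q hQlt hQinv
  have hsqfix : ∀ x ∈ S, θ (x * x) = x * x := fun x hx => hQfix _ (subset_closure ⟨x, hx, rfl⟩)
  have hcommQ : ∀ x ∈ S, ∀ y ∈ S, x * y * x⁻¹ * y⁻¹ ∈ Q := by
    intro x hx y hy
    have e : x * y * x⁻¹ * y⁻¹ = x * y * (x * y) * ((y⁻¹ * x⁻¹ * y) * (y⁻¹ * x⁻¹ * y)) *
        (y⁻¹ * y⁻¹) := by group
    rw [e]
    exact mul_mem (mul_mem (subset_closure ⟨_, mul_mem hx hy, rfl⟩)
      (subset_closure ⟨_, mul_mem (mul_mem (inv_mem hy) (inv_mem hx)) hy, rfl⟩))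
      (subset_closure ⟨_, inv_mem hy, rfl⟩)
  -- fixed elements are central in `S`
  have hcen : ∀ c ∈ S, θ c = c → ∀ x ∈ S, c * x = x * c := by
    intro c hc hθc
    have hgen : ∀ y ∈ {y : T | ∃ x ∈ S, x⁻¹ * θ x = y}, c * y = y * c := by
      rintro _ ⟨x, hx, rfl⟩
      have h1 : θ (x * c * x⁻¹) = x * c * x⁻¹ := by
        rw [show x * c * x⁻¹ = x * c * x⁻¹ * c⁻¹ * c by group, map_mul,
          hQfix _ (hcommQ x hx c hc), hθc]
      rw [map_mul, map_mul, map_inv, hθc] at h1
      calc c * (x⁻¹ * θ x) = x⁻¹ * (x * c * x⁻¹) * θ x := by group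
        _ = x⁻¹ * θ x * c := by rw [← h1]; group
    intro x hx
    have hx' : x ∈ D := by rw [hD]; exact hx
    have hle : D ≤ centralizer ({c} : Set T) := (closure_le _).2 fun y hy =>
      mem_centralizer_singleton_iff.2 (hgen y hy).symm
    exact (mem_centralizer_singleton_iff.1 (hle hx')).symm
  have hk2 : ∀ x ∈ S, ∀ y ∈ S, x * y * x⁻¹ * y⁻¹ * (x * y * x⁻¹ * y⁻¹) = 1 := by
    intro x hx y hy
    set k := x * y * x⁻¹ * y⁻¹ with hkdef
    have hkc : ∀ s ∈ S, k * s = s * k := hcen k (hQS (hcommQ x hx y hy))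
      (hQfix _ (hcommQ x hx y hy))
    calc k * k = (x * k * x⁻¹) * k := by rw [← hkc x hx]; group
      _ = x * x * y * (x * x)⁻¹ * y⁻¹ := by rw [hkdef]; group
      _ = 1 := by rw [hcen _ (mul_mem hx hx) (hsqfix x hx) y hy]; group
  have hfour : ∀ x ∈ S, x * x * (x * x) = 1 := by
    have hle : ∀ x ∈ D, x ∈ S ∧ x * x * (x * x) = 1 := by
      intro x hx
      induction hx using closure_induction with
      | mem y hy =>
        obtain ⟨s, hs, rfl⟩ := hy
        refine ⟨mul_mem (inv_mem hs) (hθS s hs), ?_⟩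
        have hsi : s⁻¹ ∈ S := inv_mem hs
        have hk := hk2 (θ s) (hθS s hs) s⁻¹ hsi
        set k := θ s * s⁻¹ * (θ s)⁻¹ * s⁻¹⁻¹ with hkdef
        have hkQ : k ∈ Q := hcommQ _ (hθS s hs) _ hsi
        have hkc : ∀ t ∈ S, k * t = t * k := hcen k (hQS hkQ) (hQfix _ hkQ)
        have e : s⁻¹ * θ s * (s⁻¹ * θ s) = k * (s⁻¹ * s⁻¹ * (θ s * θ s)) :=
          mul_sq_of_comm_mem (by rw [hkdef]; group) (hkc _ hsi).symm
        have e2 : θ s * θ s = s * s := by rw [← map_mul]; exact hsqfix s hs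
        rw [e, e2, show k * (s⁻¹ * s⁻¹ * (s * s)) = k by group]
        exact hk
      | one => exact ⟨one_mem S, by simp⟩
      | mul a b _ _ ha hb =>
        obtain ⟨haS, ha4⟩ := ha
        obtain ⟨hbS, hb4⟩ := hb
        refine ⟨mul_mem haS hbS, ?_⟩
        set k := b * a * b⁻¹ * a⁻¹ with hkdef
        have hkQ : k ∈ Q := hcommQ b hbS a haS
        have hkc : ∀ t ∈ S, k * t = t * k := hcen k (hQS hkQ) (hQfix _ hkQ)
        rw [mul_sq_of_comm_mem (k := k) (by rw [hkdef]; group) (hkc a haS).symm]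
        have hca : ∀ t ∈ S, a * a * t = t * (a * a) :=
          hcen _ (mul_mem haS haS) (hsqfix a haS)
        have hk' := hk2 b hbS a haS
        rw [← hkdef] at hk'
        calc k * (a * a * (b * b)) * (k * (a * a * (b * b)))
            = k * ((a * a * (b * b)) * k) * (a * a * (b * b)) := by group
          _ = (k * k) * ((a * a * (b * b)) * (a * a * (b * b))) := by
              rw [← hkc _ (mul_mem (mul_mem haS haS) (mul_mem hbS hbS))]; group
          _ = (a * a) * ((b * b) * (a * a)) * (b * b) := by rw [hk', one_mul]; group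
          _ = (a * a) * ((a * a) * (b * b)) * (b * b) := by rw [hca _ (mul_mem hbS hbS)]
          _ = (a * a * (a * a)) * (b * b * (b * b)) := by group
          _ = 1 := by rw [ha4, hb4, one_mul]
      | inv a _ ha =>
        refine ⟨inv_mem ha.1, ?_⟩
        rw [← mul_inv_rev, ← mul_inv_rev, ha.2, inv_one]
    intro x hx
    exact (hle x (by rw [hD]; exact hx)).2
  -- `S` contains all involutions
  have hVS : ∀ x : T, x * x = 1 → x ∈ S := by
    haveI : Fact (Nat.Prime 2) := ⟨Nat.prime_two⟩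
    haveI : Nontrivial S := (Subgroup.nontrivial_iff_ne_bot S).2 hbot
    obtain ⟨n, hn⟩ := (h.hp.to_subgroup S).exists_card_eq
    obtain ⟨z, hz⟩ := exists_prime_orderOf_dvd_card' (G := S) 2 (by
      rw [hn]
      refine dvd_pow_self 2 fun h0 => ?_
      have := Finite.one_lt_card (α := S)
      rw [hn, h0] at this
      simp at this)
    have hz2 : (z : T) * z = 1 := by
      rw [← sq, ← SubgroupClass.coe_pow, ← hz, pow_orderOf_eq_one, OneMemClass.coe_one]
    have hz1 : (z : T) ≠ 1 := fun e => by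
      rw [OneMemClass.coe_eq_one] at e
      rw [e, orderOf_one] at hz
      omega
    have hψz2 : ψ z * ψ z = 1 := by rw [← map_mul, hz2, map_one]
    intro x hx
    rcases h.eq_or hz2 hψz2 hx hz1 (by rwa [Ne, EmbeddingLike.map_eq_one_iff])
      (fun e => hz1 (hfix _ hz2 e.symm)) with rfl | rfl | rfl | rfl
    exacts [one_mem S, z.2, hinv _ z.2, mul_mem z.2 (hinv _ z.2)]
  -- count the moved elements
  let C : Subgroup S :=
    { carrier := {x | θ (x : T) = x}
      one_mem' := by simp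
      mul_mem' := fun {a b} ha hb => by
        show θ ((a : T) * b) = (a : T) * b
        rw [map_mul, show θ (a : T) = a from ha, show θ (b : T) = b from hb]
      inv_mem' := fun {a} ha => by
        show θ ((a : T)⁻¹) = (a : T)⁻¹
        rw [map_inv, show θ (a : T) = a from ha] }
  let X := {x : S // x ∉ C}
  have hψC : ∀ x : S, x ∉ C → (⟨ψ x, hinv x x.2⟩ : S) ∉ C := by
    intro x hx hc
    have h1 : θ (ψ (x : T)) = ψ x := hc
    rw [hψθ] at h1
    exact hx (ψ.injective h1)
  let G' := zpowers ψ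
  have hGinv : ∀ g : G', ∀ x : S, (g : MulAut T) x ∈ S := by
    rintro ⟨g, hg⟩ x
    obtain ⟨n, rfl⟩ := (isOfFinOrder_of_finite ψ).mem_powers_iff_mem_zpowers.2 hg
    exact hψn n x x.2
  have hGC : ∀ g : G', ∀ x : S, x ∉ C → (⟨(g : MulAut T) x, hGinv g x⟩ : S) ∉ C := by
    rintro ⟨g, hg⟩ x hx hc
    have hcm : Commute θ g := by
      obtain ⟨n, rfl⟩ := mem_zpowers_iff.1 hg
      exact (Commute.pow_self ψ _).zpow_right n
    have h1 : θ (g (x : T)) = g x := hc
    rw [show θ (g (x : T)) = g (θ (x : T)) from DFunLike.congr_fun hcm.eq (x : T)] at h1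
    exact hx (g.injective h1)
  letI : MulAction G' X :=
    { smul := fun g x => ⟨⟨(g : MulAut T) ((x.1 : S) : T), hGinv g x.1⟩, hGC g x.1 x.2⟩
      one_smul := fun _ => rfl
      mul_smul := fun _ _ _ => rfl }
  have hiter : ∀ m : ℕ, (ψ : T → T)^[m] = ⇑(ψ ^ m) := fun m => by
    induction m with
    | zero => rfl
    | succ m ihn => rw [Function.iterate_succ', ihn, pow_succ']; rfl
  have hfree : ∀ x : X, MulAction.stabilizer G' x = ⊥ := by
    intro x
    by_contra hne'
    obtain ⟨⟨⟨g, hg⟩, hgs⟩, hg1⟩ := Subgroup.ne_bot_iff_exists_ne_one.1 hne'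
    apply x.2
    -- the powers of `g` reach `θ`
    obtain ⟨n, rfl⟩ := (isOfFinOrder_of_finite ψ).mem_powers_iff_mem_zpowers.2 hg
    have hn : (ψ ^ n) ((x.1 : S) : T) = x.1 :=
      congrArg (fun y : X => ((y.1 : S) : T)) (MulAction.mem_stabilizer_iff.1 hgs)
    have hper : Function.IsPeriodicPt (ψ : T → T) n ((x.1 : S) : T) := by
      show (ψ : T → T)^[n] _ = _
      rw [hiter]; exact hn
    have hper2 : Function.IsPeriodicPt (ψ : T → T) (3 ^ j) ((x.1 : S) : T) := by
      show (ψ : T → T)^[3 ^ j] _ = _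
      rw [hiter, ← hj, pow_orderOf_eq_one]; rfl
    obtain ⟨i, hi, hd⟩ := (Nat.dvd_prime_pow Nat.prime_three).1 hper2.minimalPeriod_dvd
    rcases hi.eq_or_lt with rfl | hi'
    · exfalso
      refine hg1 (Subtype.ext (Subtype.ext ?_))
      show ψ ^ n = 1
      rw [← orderOf_dvd_iff_pow_eq_one, hj, ← hd]
      exact hper.minimalPeriod_dvd
    · have h5 : Function.IsPeriodicPt (ψ : T → T) (3 ^ (j - 1)) (x.1 : T) :=
        (Function.isPeriodicPt_minimalPeriod _ _).trans_dvd
          (hd ▸ pow_dvd_pow 3 (by omega : i ≤ j - 1))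
      show θ ((x.1 : S) : T) = x.1
      have h6 : (ψ : T → T)^[3 ^ (j - 1)] ((x.1 : S) : T) = x.1 := h5
      rwa [hiter] at h6
  have hdiv : 9 ∣ Nat.card X := by
    rw [Nat.card_congr (MulAction.selfEquivOrbitsQuotientProd hfree), Nat.card_prod,
      Nat.card_zpowers, hj]
    exact Dvd.dvd.mul_left (pow_dvd_pow 3 hj2) _
  have hX : Nat.card X = Nat.card C * (C.index - 1) := by
    rw [Nat.mul_sub, mul_one, C.card_mul_index]
    have : Fintype.card X = Fintype.card S - Fintype.card C := by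
      simp only [X]
      rw [Fintype.card_subtype_compl]
    simpa [Nat.card_eq_fintype_card] using this
  have hC4 : 4 ≤ Nat.card C := by
    rw [← h.card4]
    refine Nat.card_le_card_of_injective
      (fun x => (⟨⟨x.1, hVS x.1 x.2⟩, hθV x.1 x.2⟩ : C)) fun a b hab => Subtype.ext ?_
    exact congrArg (fun c : C => ((c : S) : T)) hab
  have hbound := h.card_lt S hVS hfour hk2
  haveI : Fact (Nat.Prime 2) := ⟨Nat.prime_two⟩
  obtain ⟨n, hn⟩ := ((h.hp.to_subgroup S).to_subgroup C).exists_card_eq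
  rw [hX, hn] at hdiv
  have h9 : 9 ∣ C.index - 1 :=
    (Nat.Coprime.pow_right n (by norm_num : Nat.Coprime 9 2)).dvd_of_dvd_mul_left hdiv
  have hcm := C.card_mul_index
  have hCS : C.index ≤ 63 := by
    by_contra hlt
    nlinarith
  obtain ⟨d, hd⟩ : ∃ d, C.index = 2 ^ d := by
    obtain ⟨m, hm⟩ := (h.hp.to_subgroup S).exists_card_eq
    obtain ⟨d, -, hd⟩ := (Nat.dvd_prime_pow Nat.prime_two).1 (hm ▸ C.index_dvd_card)
    exact ⟨d, hd⟩
  have hd5 : d ≤ 5 := by
    by_contra hlt
    have := Nat.pow_le_pow_right (by norm_num : 1 ≤ 2) (show 6 ≤ d by omega)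
    omega
  have htop : C = ⊤ := by
    rw [← Subgroup.index_eq_one, hd]
    rw [hd] at h9
    interval_cases d <;> revert h9 <;> norm_num
  intro x hx
  have : (⟨x, hx⟩ : S) ∈ C := htop ▸ Subgroup.mem_top _
  exact this

end ThreeInvol

end Cfsg.Agent.TwoFusionB
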